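import Cfsg.Agent.Lib.Helper29.SylowSub

set_option autoImplicit false
open Cfsg

namespace Cfsg.Agent.Lib.Helper29

variable {G : Type*} [Group G]

/-- the conjugate subgroup `g P g⁻¹` -/
abbrev cj (g : G) (P : Subgroup G) : Subgroup G := P.map (MulAut.conj g).toMonoidHom

theorem mem_cj {g : G} {P : Subgroup G} {x : G} : x ∈ cj g P ↔ g⁻¹ * x * g ∈ P := by
  constructor
  · rintro ⟨y, hy, rfl⟩
    show g⁻¹ * (g * y * g⁻¹) * g ∈ P
    have : g⁻¹ * (g * y * g⁻¹) * g = y := by group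
    rw [this]; exact hy
  · intro h
    refine ⟨_, h, ?_⟩
    show g * (g⁻¹ * x * g) * g⁻¹ = x
    group

theorem conj_mem_cj {g : G} {P : Subgroup G} {x : G} (hx : x ∈ P) : g * x * g⁻¹ ∈ cj g P :=
  ⟨x, hx, rfl⟩

theorem card_cj [Finite G] (g : G) (P : Subgroup G) : Nat.card (cj g P) = Nat.card P :=
  Subgroup.card_map_of_injective (MulAut.conj g).injective

theorem cj_mono {g : G} {P Q : Subgroup G} (h : P ≤ Q) : cj g P ≤ cj g Q := Subgroup.map_mono h

theorem cj_cj (g h : G) (P : Subgroup G) : cj g (cj h P) = cj (g * h) P := by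
  ext x
  simp only [mem_cj]
  have : h⁻¹ * (g⁻¹ * x * g) * h = (g * h)⁻¹ * x * (g * h) := by group
  rw [this]

theorem cj_one (P : Subgroup G) : cj 1 P = P := by
  ext x
  simp

theorem cj_inv_cj (g : G) (P : Subgroup G) : cj g⁻¹ (cj g P) = P := by
  rw [cj_cj, inv_mul_cancel, cj_one]

theorem cj_cj_inv (g : G) (P : Subgroup G) : cj g (cj g⁻¹ P) = P := by
  rw [cj_cj, mul_inv_cancel, cj_one]

theorem cj_centralizer (g : G) (P : Subgroup G) :
    cj g (Subgroup.centralizer (P : Set G)) = Subgroup.centralizer ((cj g P : Subgroup G) : Set G) := by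
  ext x
  rw [mem_cj, Subgroup.mem_centralizer_iff, Subgroup.mem_centralizer_iff]
  constructor
  · rintro h _ ⟨y, hy, rfl⟩
    have := h y hy
    show g * y * g⁻¹ * x = x * (g * y * g⁻¹)
    calc g * y * g⁻¹ * x = g * (y * (g⁻¹ * x * g)) * g⁻¹ := by group
      _ = g * ((g⁻¹ * x * g) * y) * g⁻¹ := by rw [this]
      _ = x * (g * y * g⁻¹) := by group
  · intro h y hy
    have := h (g * y * g⁻¹) (conj_mem_cj hy)
    calc y * (g⁻¹ * x * g) = g⁻¹ * (g * y * g⁻¹ * x) * g := by group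
      _ = g⁻¹ * (x * (g * y * g⁻¹)) * g := by rw [this]
      _ = g⁻¹ * x * g * y := by group

theorem cj_normalizer (g : G) (P : Subgroup G) :
    cj g (Subgroup.normalizer (P : Set G)) = Subgroup.normalizer ((cj g P : Subgroup G) : Set G) := by
  ext x
  rw [mem_cj, Subgroup.mem_normalizer_iff, Subgroup.mem_normalizer_iff]
  constructor
  · intro h y
    rw [mem_cj, mem_cj, h (g⁻¹ * y * g)]
    have : g⁻¹ * x * g * (g⁻¹ * y * g) * (g⁻¹ * x * g)⁻¹ = g⁻¹ * (x * y * x⁻¹) * g := by group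
    rw [this]
  · intro h y
    have := h (g * y * g⁻¹)
    rw [mem_cj, mem_cj] at this
    have e1 : g⁻¹ * (g * y * g⁻¹) * g = y := by group
    have e2 : g⁻¹ * (x * (g * y * g⁻¹) * x⁻¹) * g = g⁻¹ * x * g * y * (g⁻¹ * x * g)⁻¹ := by group
    rw [e1, e2] at this
    exact this

theorem cj_inf (g : G) (P Q : Subgroup G) : cj g (P ⊓ Q) = cj g P ⊓ cj g Q := by
  ext x
  simp only [mem_cj, Subgroup.mem_inf]

theorem cj_sup (g : G) (P Q : Subgroup G) : cj g (P ⊔ Q) = cj g P ⊔ cj g Q :=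
  Subgroup.map_sup P Q _

theorem cj_le_iff {g : G} {P Q : Subgroup G} : cj g P ≤ Q ↔ P ≤ cj g⁻¹ Q := by
  constructor
  · intro h
    have := cj_mono (g := g⁻¹) h
    rwa [cj_inv_cj] at this
  · intro h
    have := cj_mono (g := g) h
    rwa [cj_cj_inv] at this

theorem isPGroup_cj {p : ℕ} {g : G} {P : Subgroup G} (h : IsPGroup p P) : IsPGroup p (cj g P) :=
  h.map _

/-- A `p`-subgroup of a finite group is conjugate into any given Sylow `p`-subgroup. -/
theorem exists_cj_le_sylow [Finite G] {p : ℕ} [Fact p.Prime] (S : Sylow p G) {H : Subgroup G}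
    (hH : IsPGroup p H) : ∃ g : G, cj g H ≤ S := by
  obtain ⟨Q, hQ⟩ := hH.exists_le_sylow
  obtain ⟨g, hg⟩ := MulAction.exists_smul_eq G Q S
  refine ⟨g, ?_⟩
  intro x hx
  rw [mem_cj] at hx
  have h1 := hQ hx
  rw [← hg, Sylow.coe_subgroup_smul, Subgroup.mem_pointwise_smul_iff_inv_smul_mem]
  simpa [MulAut.smul_def] using h1

/-- Conjugacy in the fusion system of a group. -/
theorem groupFusionSystem_isConj_iff {S : Subgroup G} {P Q : Subgroup G} :
    (groupFusionSystem S).IsConj P Q ↔ P ≤ S ∧ Q ≤ S ∧ ∃ g : G, cj g P = Q := by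
  constructor
  · rintro ⟨φ, ⟨hP, hφS, g, hg⟩, rfl⟩
    refine ⟨hP, ?_, g, ?_⟩
    · rintro _ ⟨x, rfl⟩
      exact hφS x
    · ext y
      constructor
      · rintro ⟨x, hx, rfl⟩
        exact ⟨⟨x, hx⟩, hg _⟩
      · rintro ⟨x, rfl⟩
        exact ⟨x.1, x.2, (hg x).symm⟩
  · rintro ⟨hP, hQ, g, rfl⟩
    refine ⟨conjHom P g, ⟨hP, fun x => hQ (conj_mem_cj x.2), g, fun x => rfl⟩, ?_⟩
    ext y
    constructor
    · rintro ⟨x, rfl⟩
      exact ⟨x.1, x.2, rfl⟩
    · rintro ⟨x, hx, rfl⟩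
      exact ⟨⟨x, hx⟩, rfl⟩

theorem centralizerIn_le_left (S P : Subgroup G) : FusionSystem.centralizerIn S P ≤ S := inf_le_left
theorem centralizerIn_le_right (S P : Subgroup G) :
    FusionSystem.centralizerIn S P ≤ Subgroup.centralizer (P : Set G) := inf_le_right
theorem normalizerIn_le_left (S P : Subgroup G) : FusionSystem.normalizerIn S P ≤ S := inf_le_left
theorem normalizerIn_le_right (S P : Subgroup G) :
    FusionSystem.normalizerIn S P ≤ Subgroup.normalizer (P : Set G) := inf_le_right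

end Cfsg.Agent.Lib.Helper29

namespace Cfsg.Agent.Lib.Helper29

variable {G : Type*} [Group G]

theorem IsSylowSub.isPGroup [Finite G] {p : ℕ} [Fact p.Prime] {T K : Subgroup G} (hTK : T ≤ K)
    (h : IsSylowSub p T K) : IsPGroup p T := ((isSylowSub_iff hTK).1 h).1

/-- A Sylow subgroup of `K` contained in the intermediate subgroup `M` is a Sylow subgroup of `M`. -/
theorem IsSylowSub.of_le [Finite G] {p : ℕ} [Fact p.Prime] {T M K : Subgroup G} (hTM : T ≤ M) (hMK : M ≤ K)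
    (h : IsSylowSub p T K) : IsSylowSub p T M := by
  obtain ⟨hp, hc⟩ := (isSylowSub_iff (hTM.trans hMK)).1 h
  rw [isSylowSub_iff hTM]
  refine ⟨hp, le_antisymm (IsPGroup_card_le hTM hp) ?_⟩
  rw [hc]
  apply Nat.pow_le_pow_right (Fact.out : p.Prime).pos
  have hdvd : Nat.card M ∣ Nat.card K := Subgroup.card_dvd_of_le hMK
  exact (Nat.factorization_le_iff_dvd Nat.card_pos.ne' Nat.card_pos.ne').2 hdvd p

/-- Sylow's theorem inside a subgroup `M`: a `p`-subgroup of `M` is `M`-conjugate into a given Sylow subgroup of `M`. -/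
theorem exists_cj_le_of_isSylowSub [Finite G] {p : ℕ} [Fact p.Prime] {T M H : Subgroup G}
    (h : IsSylowSub p T M) (hHM : H ≤ M) (hH : IsPGroup p H) : ∃ m ∈ M, cj m H ≤ T := by
  obtain ⟨R, hR⟩ := h
  have hH' : IsPGroup p (H.subgroupOf M) := (isPGroup_subgroupOf_iff_of_le hHM).2 hH
  obtain ⟨m, hm⟩ := exists_cj_le_sylow R hH'
  refine ⟨m.1, m.2, ?_⟩
  intro x hx
  rw [mem_cj] at hx
  have hxM : x ∈ M := by
    have h1 := M.mul_mem (M.mul_mem m.2 (hHM hx)) (M.inv_mem m.2)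
    have : (m : G) * ((m : G)⁻¹ * x * m) * (m : G)⁻¹ = x := by group
    rwa [this] at h1
  have h2 : (⟨x, hxM⟩ : M) ∈ cj m (H.subgroupOf M) := by
    rw [mem_cj]
    show ((m⁻¹ * ⟨x, hxM⟩ * m : M) : G) ∈ H
    exact hx
  have h3 := hm h2
  rw [hR] at h3
  exact h3

end Cfsg.Agent.Lib.Helper29
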