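import Cfsg.Agent.Lib.Helper29.FusionNormalizer
import Mathlib.GroupTheory.Nilpotent

set_option autoImplicit false
open Cfsg

namespace Cfsg.Agent.Lib.Helper29

variable {Ω : Type*} [Group Ω] {S : Subgroup Ω}

theorem fusionSystem_ext {F E : FusionSystem S} (h : ∀ P, F.Hom P = E.Hom P) : F = E := by
  cases F
  cases E
  congr
  funext P
  exact h P

theorem isConj_symm (F : FusionSystem S) {P Q : Subgroup Ω} (h : F.IsConj P Q) : F.IsConj Q P := by
  obtain ⟨φ, hφ, hr⟩ := h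
  obtain ⟨ψ, hψ, hinv⟩ := exists_inv_iso F hφ hr
  refine ⟨ψ, hψ, ?_⟩
  ext y
  constructor
  · rintro ⟨z, rfl⟩
    have hz : (z : Ω) ∈ φ.range := hr ▸ z.2
    obtain ⟨x, hx⟩ := hz
    have : z = ⟨φ x, hx ▸ z.2⟩ := Subtype.ext hx.symm
    rw [this, hinv]
    exact x.2
  · intro hy
    exact ⟨⟨φ ⟨y, hy⟩, hr ▸ ⟨_, rfl⟩⟩, hinv ⟨y, hy⟩ _⟩

theorem isConj_trans (F : FusionSystem S) {P Q R : Subgroup Ω} (h : F.IsConj P Q) (h' : F.IsConj Q R) :
    F.IsConj P R := by
  obtain ⟨φ, hφ, hr⟩ := h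
  obtain ⟨ψ, hψ, hr'⟩ := h'
  have h1 : ∀ x : P, φ x ∈ Q := fun x => hr ▸ ⟨x, rfl⟩
  refine ⟨ψ.comp (φ.codRestrict Q h1), F.comp_mem hφ hψ h1, ?_⟩
  ext y
  constructor
  · rintro ⟨x, rfl⟩
    exact hr' ▸ ⟨_, rfl⟩
  · intro hy
    rw [← hr'] at hy
    obtain ⟨z, rfl⟩ := hy
    have hz : (z : Ω) ∈ φ.range := hr ▸ z.2
    obtain ⟨x, hx⟩ := hz
    refine ⟨x, ?_⟩
    show ψ ⟨φ x, _⟩ = ψ z
    congr 1
    exact Subtype.ext hx

theorem card_eq_of_isConj [Finite S] (F : FusionSystem S) {P Q : Subgroup Ω} (h : F.IsConj P Q) :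
    Nat.card P = Nat.card Q := by
  obtain ⟨φ, hφ, hr⟩ := h
  exact Nat.card_congr (isoOfHom F hφ hr).toEquiv

/-- an injective endomorphism in the system of a finite subgroup is an `F`-automorphism -/
theorem exists_aut_of_hom (F : FusionSystem S) {R : Subgroup Ω} [Finite R] {φ : R →* Ω} (hφ : φ ∈ F.Hom R)
    (h : ∀ x, φ x ∈ R) : ∃ α ∈ F.autGroup R, ∀ x : R, ((α x : R) : Ω) = φ x := by
  have hinj : Function.Injective (φ.codRestrict R h) := by
    intro a b hab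
    apply F.injective_of_mem hφ
    exact congrArg Subtype.val hab
  have hbij : Function.Bijective (φ.codRestrict R h) := ⟨hinj, Finite.surjective_of_injective hinj⟩
  refine ⟨MulEquiv.ofBijective (φ.codRestrict R h) hbij, ?_, fun x => rfl⟩
  apply Subgroup.subset_closure
  have : R.subtype.comp (MulEquiv.ofBijective (φ.codRestrict R h) hbij).toMonoidHom = φ := by
    ext x
    rfl
  show R.subtype.comp (MulEquiv.ofBijective (φ.codRestrict R h) hbij).toMonoidHom ∈ F.Hom R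
  rw [this]
  exact hφ

/-- if `R` is fully automized and `Aut_F(R)` is a `p`-group, every `F`-automorphism of `R` is
conjugation by an element of `S`. -/
theorem aut_eq_conj_of_isPGroup [Finite S] {p : ℕ} [Fact p.Prime] (F : FusionSystem S) {R : Subgroup Ω}
    (hfa : F.IsFullyAutomized p R) (hp : IsPGroup p (F.autGroup R)) {α : MulAut R}
    (hα : α ∈ F.autGroup R) : ∃ h ∈ S, ∀ x : R, ((α x : R) : Ω) = h * x * h⁻¹ := by
  obtain ⟨hRS, R', hR'⟩ := hfa
  have htop : (⊤ : Subgroup (F.autGroup R)) = R' :=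
    R'.is_maximal' (hp.to_subgroup ⊤) le_top
  have h1 : (⟨α, hα⟩ : F.autGroup R) ∈ (R' : Subgroup (F.autGroup R)) := by
    rw [← htop]; trivial
  rw [hR', Subgroup.mem_subgroupOf, autInducedBy_eq_map] at h1
  obtain ⟨n, hn, hn'⟩ := h1
  refine ⟨n.1, hn, fun x => ?_⟩
  have : α = R.normalizerMonoidHom n := hn'.symm
  rw [this]
  rfl

theorem normalizerIn_ne_self [Finite S] {p : ℕ} [Fact p.Prime] (hS : IsPGroup p S) {Q : Subgroup Ω}
    (hQS : Q ≤ S) (hne : Q ≠ S) : FusionSystem.normalizerIn S Q ≠ Q := by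
  intro h
  apply hne
  haveI := hS.isNilpotent
  have hnc := (normalizerCondition_iff_only_full_group_self_normalizing (G := S)).1
    Group.normalizerCondition_of_isNilpotent
  have h1 : Subgroup.normalizer ((Q.subgroupOf S : Subgroup S) : Set S) = Q.subgroupOf S := by
    ext s
    rw [Subgroup.mem_normalizer_iff, Subgroup.mem_subgroupOf]
    constructor
    · intro hs
      have : (s : Ω) ∈ FusionSystem.normalizerIn S Q := by
        refine ⟨s.2, ?_⟩
        show (s : Ω) ∈ Subgroup.normalizer (Q : Set Ω)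
        rw [Subgroup.mem_normalizer_iff]
        intro y
        constructor
        · intro hy
          exact (hs ⟨y, hQS hy⟩).1 hy
        · intro hy
          have hyS : y ∈ S := by
            have h2 := S.mul_mem (S.mul_mem (S.inv_mem s.2) (hQS hy)) s.2
            have e : (s : Ω)⁻¹ * ((s : Ω) * y * (s : Ω)⁻¹) * (s : Ω) = y := by group
            rwa [e] at h2
          exact (hs ⟨y, hyS⟩).2 hy
      rw [h] at this
      exact this
    · intro hs y
      have hsN : (s : Ω) ∈ Subgroup.normalizer (Q : Set Ω) := Subgroup.le_normalizer hs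
      rw [Subgroup.mem_subgroupOf, Subgroup.mem_subgroupOf]
      exact Subgroup.mem_normalizer_iff.1 hsN y
  have h2 := hnc _ h1
  apply le_antisymm hQS
  intro x hx
  have : (⟨x, hx⟩ : S) ∈ Q.subgroupOf S := by rw [h2]; trivial
  exact this

/-- **AKO I.3.?**: a saturated fusion system all of whose automorphism groups are `p`-groups is the
inner fusion system. -/
theorem hom_eq_conj_of_isPGroup_aut [Finite S] (p : ℕ) [Fact p.Prime] (hS : IsPGroup p S)
    (F : FusionSystem S) (hF : F.IsSaturated p) (hp : ∀ P : Subgroup Ω, P ≤ S → IsPGroup p (F.autGroup P))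
    (k : ℕ) : ∀ P : Subgroup Ω, P ≤ S → Nat.card S - Nat.card P = k → ∀ φ ∈ F.Hom P,
      ∃ g ∈ S, ∀ x : P, φ x = g * x * g⁻¹ := by
  induction k using Nat.strong_induction_on with
  | _ k ih =>
    intro P hPS hk φ hφ
    obtain ⟨R, hPR, hRfa, hRrec⟩ := hF P hPS
    have hRS : R ≤ S := hRfa.1
    haveI : Finite R := finite_of_le hRS
    have hPP' : F.IsConj P φ.range := ⟨φ, hφ, rfl⟩
    have hP'R : F.IsConj φ.range R := isConj_trans F (isConj_symm F hPP') hPR
    have conjP : ∀ Q : Subgroup Ω, F.IsConj Q R → Nat.card Q = Nat.card P →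
        ∃ g ∈ S, ∀ y : Ω, y ∈ R ↔ ∃ x ∈ Q, y = g * x * g⁻¹ := by
      intro Q hQR hcard
      have hQS : Q ≤ S := by
        obtain ⟨θ, hθ, _⟩ := hQR
        exact le_of_hom_mem F hθ
      by_cases hQ : Q = S
      · subst hQ
        have hRQ : R = Q := by
          apply Subgroup.eq_of_le_of_card_ge hRS
          rw [card_eq_of_isConj F hQR]
        refine ⟨1, Subgroup.one_mem _, fun y => ?_⟩
        rw [hRQ]
        constructor
        · intro hy
          exact ⟨y, hy, by simp⟩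
        · rintro ⟨x, hx, rfl⟩
          simpa using hx
      · obtain ⟨θ, hθ, _, _, hmap⟩ := exists_hom_normalizer p hS F R Q hRfa hRrec hQR
        have hNS : FusionSystem.normalizerIn S Q ≤ S := inf_le_left
        have hQN : Q ≤ FusionSystem.normalizerIn S Q := le_normalizerIn hQS
        haveI : Finite (FusionSystem.normalizerIn S Q) := finite_of_le hNS
        have hlt : Nat.card Q < Nat.card (FusionSystem.normalizerIn S Q) := by
          rcases (Subgroup.card_le_of_le hQN).lt_or_eq with h | h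
          · exact h
          · exfalso
            exact normalizerIn_ne_self hS hQS hQ (Subgroup.eq_of_le_of_card_ge hQN h.ge).symm
        have hle : Nat.card (FusionSystem.normalizerIn S Q) ≤ Nat.card S := Subgroup.card_le_of_le hNS
        obtain ⟨g, hg, hgθ⟩ := ih (Nat.card S - Nat.card (FusionSystem.normalizerIn S Q)) (by omega)
          (FusionSystem.normalizerIn S Q) hNS rfl θ hθ
        refine ⟨g, hg, fun y => ?_⟩
        rw [← hmap]
        constructor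
        · rintro ⟨x, hx, rfl⟩
          rw [SetLike.mem_coe, Subgroup.mem_subgroupOf] at hx
          exact ⟨x, hx, hgθ x⟩
        · rintro ⟨x, hx, rfl⟩
          refine ⟨⟨x, hQN hx⟩, ?_, hgθ _⟩
          rw [SetLike.mem_coe, Subgroup.mem_subgroupOf]
          exact hx
    obtain ⟨g₁, hg₁, h₁⟩ := conjP P hPR rfl
    obtain ⟨g₂, hg₂, h₂⟩ := conjP φ.range hP'R (card_eq_of_isConj F hPP').symm
    -- ψ : R → R, y ↦ g₂ φ(g₁⁻¹ y g₁) g₂⁻¹
    have hc1 : conjHom R g₁⁻¹ ∈ F.Hom R := F.conj_mem hRS (S.inv_mem hg₁)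
    have hc1P : ∀ y : R, conjHom R g₁⁻¹ y ∈ P := by
      intro y
      obtain ⟨x, hx, hy⟩ := (h₁ y).1 y.2
      show g₁⁻¹ * (y : Ω) * g₁⁻¹⁻¹ ∈ P
      rw [hy]
      have e : g₁⁻¹ * (g₁ * x * g₁⁻¹) * g₁⁻¹⁻¹ = x := by group
      rw [e]; exact hx
    have hP'S : φ.range ≤ S := range_le_of_hom_mem F hφ
    have hc2 : conjHom φ.range g₂ ∈ F.Hom φ.range := F.conj_mem hP'S hg₂
    have s1 := F.comp_mem hc1 hφ hc1P
    have hs1 : ∀ y : R, (φ.comp ((conjHom R g₁⁻¹).codRestrict P hc1P)) y ∈ φ.range := fun y => ⟨_, rfl⟩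
    have s2 := F.comp_mem s1 hc2 hs1
    set ψ := (conjHom φ.range g₂).comp ((φ.comp ((conjHom R g₁⁻¹).codRestrict P hc1P)).codRestrict
      φ.range hs1) with hψ
    have hψv : ∀ y : R, ψ y = g₂ * φ ⟨g₁⁻¹ * y * g₁⁻¹⁻¹, hc1P y⟩ * g₂⁻¹ := fun y => rfl
    have hψR : ∀ y : R, ψ y ∈ R := by
      intro y
      rw [hψv, h₂]
      exact ⟨_, ⟨_, rfl⟩, rfl⟩
    obtain ⟨α, hα, hαv⟩ := exists_aut_of_hom F s2 hψR
    obtain ⟨h, hh, hhv⟩ := aut_eq_conj_of_isPGroup F hRfa (hp R hRS) hα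
    refine ⟨g₂⁻¹ * h * g₁, S.mul_mem (S.mul_mem (S.inv_mem hg₂) hh) hg₁, fun x => ?_⟩
    have hyR : g₁ * (x : Ω) * g₁⁻¹ ∈ R := (h₁ _).2 ⟨x, x.2, rfl⟩
    have e1 := hαv ⟨g₁ * x * g₁⁻¹, hyR⟩
    rw [hhv, hψv] at e1
    have e2 : (⟨g₁⁻¹ * ((⟨g₁ * x * g₁⁻¹, hyR⟩ : R) : Ω) * g₁⁻¹⁻¹, hc1P ⟨_, hyR⟩⟩ : P) = x := by
      apply Subtype.ext
      show g₁⁻¹ * (g₁ * (x : Ω) * g₁⁻¹) * g₁⁻¹⁻¹ = x
      group
    rw [e2] at e1
    -- e1 : h * (g₁ x g₁⁻¹) * h⁻¹ = g₂ * φ x * g₂⁻¹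
    have e3 : φ x = g₂⁻¹ * (g₂ * φ x * g₂⁻¹) * g₂ := by group
    rw [e3, ← e1]
    show g₂⁻¹ * (h * (g₁ * (x : Ω) * g₁⁻¹) * h⁻¹) * g₂ = _
    group

end Cfsg.Agent.Lib.Helper29
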