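import Cfsg.Agent.Lib.Helper29.FusionInner
import Cfsg.Agent.S5078

set_option autoImplicit false
set_option linter.unusedVariables false
open Cfsg

namespace Cfsg.Agent.Lib.Helper29

variable {Ω : Type*} [Group Ω] {S : Subgroup Ω}

theorem isConj_refl (F : FusionSystem S) {P : Subgroup Ω} (hP : P ≤ S) : F.IsConj P P :=
  ⟨P.subtype, subtype_mem F hP, Subgroup.range_subtype P⟩

theorem isConj_le_left (F : FusionSystem S) {P Q : Subgroup Ω} (h : F.IsConj P Q) : P ≤ S := by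
  obtain ⟨φ, hφ, _⟩ := h
  exact le_of_hom_mem F hφ

theorem isConj_le_right (F : FusionSystem S) {P Q : Subgroup Ω} (h : F.IsConj P Q) : Q ≤ S := by
  obtain ⟨φ, hφ, rfl⟩ := h
  exact range_le_of_hom_mem F hφ

/-- every subgroup of `S` has a fully normalized `F`-conjugate -/
theorem exists_fullyNormalized_conj [Finite S] (F : FusionSystem S) {P : Subgroup Ω} (hP : P ≤ S) :
    ∃ Q, F.IsConj P Q ∧ F.IsFullyNormalized Q := by
  let s : Set ℕ := {k | ∃ Q, F.IsConj P Q ∧ Nat.card (FusionSystem.normalizerIn S Q) = k}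
  have hne : s.Nonempty := ⟨_, P, isConj_refl F hP, rfl⟩
  have hbdd : BddAbove s := ⟨Nat.card S, by
    rintro k ⟨Q, _, rfl⟩
    exact Subgroup.card_le_of_le inf_le_left⟩
  obtain ⟨Q, hPQ, hQ⟩ := Nat.sSup_mem hne hbdd
  refine ⟨Q, hPQ, isConj_le_right F hPQ, fun Q' hQQ' => ?_⟩
  rw [hQ]
  exact le_csSup hbdd ⟨Q', isConj_trans F hPQ hQQ', rfl⟩

theorem centralizerIn_le_normalizerIn (S Q : Subgroup Ω) :
    FusionSystem.centralizerIn S Q ≤ FusionSystem.normalizerIn S Q :=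
  fun _ hx => ⟨hx.1, Subgroup.centralizer_le_normalizer _ hx.2⟩

/-- the source of a map lies in its extender -/
theorem le_extender (F : FusionSystem S) {P : Subgroup Ω} {φ : P →* Ω} (hφ : φ ∈ F.Hom P) :
    P ≤ FusionSystem.extender S P φ := by
  intro q hq
  apply Subgroup.subset_closure
  refine ⟨le_of_hom_mem F hφ hq, Subgroup.le_normalizer hq, φ ⟨q, hq⟩, (F.le_of_mem hφ).2 _, ?_⟩
  intro x hx
  rw [← map_inv, ← map_mul, ← map_mul]
  rfl

theorem finite_centralizerIn [Finite S] (Q : Subgroup Ω) : Finite (FusionSystem.centralizerIn S Q) :=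
  finite_of_le inf_le_left

theorem finite_normalizerIn [Finite S] (Q : Subgroup Ω) : Finite (FusionSystem.normalizerIn S Q) :=
  finite_of_le inf_le_left

/-- transport of an `F`-automorphism backwards along an `F`-isomorphism -/
theorem congr_symm_mem_autGroup (F : FusionSystem S) {Q P : Subgroup Ω} {φ : Q →* Ω} (hφ : φ ∈ F.Hom Q)
    (hr : φ.range = P) {α : MulAut P} (hα : α ∈ F.autGroup P) :
    MulAut.congr (isoOfHom F hφ hr).symm α ∈ F.autGroup Q := by
  have hQ : Q ≤ S := le_of_hom_mem F hφ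
  have hP : P ≤ S := hr ▸ range_le_of_hom_mem F hφ
  rw [mem_autGroup_iff F hQ]
  rw [mem_autGroup_iff F hP] at hα
  obtain ⟨ψ, hψ, hinv⟩ := exists_inv_iso F hφ hr
  set e := isoOfHom F hφ hr with he
  have hψe : ∀ y : P, ψ y = (e.symm y : Q) := by
    intro y
    obtain ⟨x, rfl⟩ := e.surjective y
    have := hinv x (e x).2
    rw [MulEquiv.symm_apply_apply]
    exact this
  have h1 : ∀ x : Q, φ x ∈ P := fun x => hr ▸ ⟨x, rfl⟩
  have s1 : (P.subtype.comp (α.toMonoidHom.comp e.toMonoidHom)) ∈ F.Hom Q := by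
    apply comp_mem' F hφ hα h1
    intro x
    rfl
  have h2 : ∀ x : Q, (P.subtype.comp (α.toMonoidHom.comp e.toMonoidHom)) x ∈ P := fun x => (α (e x)).2
  apply comp_mem' F s1 hψ h2
  intro x
  show ((e.symm (α (e x)) : Q) : Ω) = ψ ⟨(α (e x) : P), _⟩
  rw [← hψe]


section theta

variable (F : FusionSystem S) {Q R : Subgroup Ω} (hQS : Q ≤ S)
  {θ : ↥(FusionSystem.normalizerIn S Q) →* Ω} (hθ : θ ∈ F.Hom (FusionSystem.normalizerIn S Q))
  (hmap : (Q.subgroupOf (FusionSystem.normalizerIn S Q)).map θ = R)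

include hmap in
theorem theta_mem (x : Ω) (hx : x ∈ Q) (hx' : x ∈ FusionSystem.normalizerIn S Q) : θ ⟨x, hx'⟩ ∈ R := by
  rw [← hmap]
  exact ⟨⟨x, hx'⟩, hx, rfl⟩

include hmap in
theorem theta_surj {y : Ω} (hy : y ∈ R) :
    ∃ (x : Ω) (hx : x ∈ Q) (hx' : x ∈ FusionSystem.normalizerIn S Q), θ ⟨x, hx'⟩ = y := by
  rw [← hmap] at hy
  obtain ⟨x, hx, rfl⟩ := hy
  exact ⟨x.1, hx, x.2, rfl⟩

include hθ hmap in
theorem theta_centralizer (c : Ω) (hc : c ∈ FusionSystem.centralizerIn S Q) :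
    θ ⟨c, centralizerIn_le_normalizerIn S Q hc⟩ ∈ FusionSystem.centralizerIn S R := by
  refine ⟨(F.le_of_mem hθ).2 _, ?_⟩
  show θ ⟨c, _⟩ ∈ Subgroup.centralizer (R : Set Ω)
  rw [Subgroup.mem_centralizer_iff]
  intro y hy
  obtain ⟨x, hx, hx', rfl⟩ := theta_surj hmap hy
  rw [← map_mul, ← map_mul]
  congr 1
  apply Subtype.ext
  have hc2 : c ∈ Subgroup.centralizer (Q : Set Ω) := hc.2
  exact Subgroup.mem_centralizer_iff.1 hc2 x hx

include hQS hθ hmap in
/-- (II): a fully centralized subgroup with such a `θ` to a receptive subgroup is receptive -/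
theorem receptive_of_theta [Finite S] (hRrec : F.IsReceptive R)
    (hcard : Nat.card (FusionSystem.centralizerIn S R) ≤ Nat.card (FusionSystem.centralizerIn S Q)) :
    F.IsReceptive Q := by
  refine ⟨hQS, fun P' φ hφ hφr => ?_⟩
  have hφQ : ∀ x : P', φ x ∈ Q := fun x => hφr ▸ ⟨x, rfl⟩
  have hQN := le_normalizerIn hQS
  have hφN : ∀ x : P', φ x ∈ FusionSystem.normalizerIn S Q := fun x => hQN (hφQ x)
  have hθS := (F.le_of_mem hθ).2
  have hθinj := F.injective_of_mem hθ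
  set φ₀ : P' →* Ω := θ.comp (φ.codRestrict (FusionSystem.normalizerIn S Q) hφN) with hφ₀def
  have hφ₀ : φ₀ ∈ F.Hom P' := F.comp_mem hφ hθ hφN
  have hφ₀v : ∀ x : P', φ₀ x = θ ⟨φ x, hφN x⟩ := fun x => rfl
  have hφ₀r : φ₀.range = R := by
    ext y
    constructor
    · rintro ⟨x, rfl⟩
      exact theta_mem hmap _ (hφQ x) _
    · intro hy
      obtain ⟨x, hx, hx', rfl⟩ := theta_surj hmap hy
      rw [← hφr] at hx
      obtain ⟨z, rfl⟩ := hx
      exact ⟨z, rfl⟩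
  obtain ⟨ψ₀, hψ₀, hψ₀e⟩ := hRrec.2 P' φ₀ hφ₀ hφ₀r
  have hψ₀S := (F.le_of_mem hψ₀).2
  have hP'E : P' ≤ FusionSystem.extender S P' φ₀ := le_extender F hφ₀
  -- surjectivity on centralizers
  haveI := finite_centralizerIn (S := S) R
  have hCsurj : ∀ c' ∈ FusionSystem.centralizerIn S R, ∃ (c : Ω) (hc : c ∈ FusionSystem.centralizerIn S Q),
      θ ⟨c, centralizerIn_le_normalizerIn S Q hc⟩ = c' := by
    let f : FusionSystem.centralizerIn S Q → FusionSystem.centralizerIn S R :=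
      fun c => ⟨θ ⟨c.1, centralizerIn_le_normalizerIn S Q c.2⟩, theta_centralizer F hθ hmap c.1 c.2⟩
    have finj : Function.Injective f := by
      intro a b hab
      have h1 : θ ⟨a.1, _⟩ = θ ⟨b.1, _⟩ := congrArg Subtype.val hab
      have h2 := hθinj h1
      exact Subtype.ext (congrArg (fun z : FusionSystem.normalizerIn S Q => (z : Ω)) h2)
    have hbij := finj.bijective_of_nat_card_le hcard
    intro c' hc'
    obtain ⟨c, hc⟩ := hbij.2 ⟨c', hc'⟩
    exact ⟨c.1, c.2, congrArg Subtype.val hc⟩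
  -- the subgroup of good elements
  have hle : FusionSystem.extender S P' φ ≤
      ((θ.range).comap ψ₀).map (FusionSystem.extender S P' φ₀).subtype := by
    refine (Subgroup.closure_le _).2 ?_
    rintro g ⟨hgS, hgN, h, hhS, hh⟩
    have hgN' := Subgroup.mem_normalizer_iff.1 hgN
    have hgiN : g⁻¹ ∈ Subgroup.normalizer (P' : Set Ω) := Subgroup.inv_mem _ hgN
    have hgiN' := Subgroup.mem_normalizer_iff.1 hgiN
    -- h normalizes Q
    have hhN : h ∈ FusionSystem.normalizerIn S Q := by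
      refine ⟨hhS, ?_⟩
      show h ∈ Subgroup.normalizer (Q : Set Ω)
      rw [Subgroup.mem_normalizer_iff]
      intro y
      constructor
      · intro hy
        rw [← hφr] at hy
        obtain ⟨x, rfl⟩ := hy
        have hx : g * (x : Ω) * g⁻¹ ∈ P' := (hgN' x).1 x.2
        rw [← hh x hx]
        exact hφQ _
      · intro hy
        rw [← hφr] at hy
        obtain ⟨x', hx'⟩ := hy
        have hx : g⁻¹ * (x' : Ω) * g⁻¹⁻¹ ∈ P' := (hgiN' x').1 x'.2
        have hx2 : g * ((⟨g⁻¹ * (x' : Ω) * g⁻¹⁻¹, hx⟩ : P') : Ω) * g⁻¹ ∈ P' := by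
          have e : g * (g⁻¹ * (x' : Ω) * g⁻¹⁻¹) * g⁻¹ = x' := by group
          rw [e]; exact x'.2
        have h1 := hh ⟨g⁻¹ * (x' : Ω) * g⁻¹⁻¹, hx⟩ hx2
        have e2 : (⟨g * ((⟨g⁻¹ * (x' : Ω) * g⁻¹⁻¹, hx⟩ : P') : Ω) * g⁻¹, hx2⟩ : P') = x' := by
          apply Subtype.ext
          show g * (g⁻¹ * (x' : Ω) * g⁻¹⁻¹) * g⁻¹ = x'
          group
        rw [e2, hx'] at h1
        have h2 : y = φ ⟨g⁻¹ * (x' : Ω) * g⁻¹⁻¹, hx⟩ := by
          have := mul_left_cancel (mul_right_cancel h1)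
          exact this
        rw [h2]
        exact hφQ _
    -- g is a generator of the extender of φ₀
    have hφ₀g : ∀ (x : P') (hx : g * (x : Ω) * g⁻¹ ∈ P'),
        φ₀ ⟨g * x * g⁻¹, hx⟩ = θ ⟨h, hhN⟩ * φ₀ x * (θ ⟨h, hhN⟩)⁻¹ := by
      intro x hx
      rw [hφ₀v, hφ₀v, ← map_inv, ← map_mul, ← map_mul]
      congr 1
      apply Subtype.ext
      exact hh x hx
    have hgE : g ∈ FusionSystem.extender S P' φ₀ :=
      Subgroup.subset_closure ⟨hgS, hgN, θ ⟨h, hhN⟩, hθS _, hφ₀g⟩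
    refine ⟨⟨g, hgE⟩, ?_, rfl⟩
    rw [SetLike.mem_coe, Subgroup.mem_comap]
    -- u := θ(h)⁻¹ ψ₀(g) centralizes R
    have hu : (θ ⟨h, hhN⟩)⁻¹ * ψ₀ ⟨g, hgE⟩ ∈ FusionSystem.centralizerIn S R := by
      refine ⟨S.mul_mem (S.inv_mem (hθS _)) (hψ₀S _), ?_⟩
      show _ ∈ Subgroup.centralizer (R : Set Ω)
      rw [Subgroup.mem_centralizer_iff]
      intro y hy
      rw [← hφ₀r] at hy
      obtain ⟨x, rfl⟩ := hy
      have hx : g * (x : Ω) * g⁻¹ ∈ P' := (hgN' x).1 x.2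
      have e1 : ψ₀ ⟨g, hgE⟩ * φ₀ x * (ψ₀ ⟨g, hgE⟩)⁻¹ = φ₀ ⟨g * x * g⁻¹, hx⟩ := by
        rw [← hψ₀e x x.2 (hP'E x.2), ← hψ₀e _ hx (hP'E hx), ← map_inv, ← map_mul, ← map_mul]
        rfl
      rw [hφ₀g x hx] at e1
      -- e1 : ψ₀ g * φ₀ x * (ψ₀ g)⁻¹ = θ h * φ₀ x * (θ h)⁻¹
      have e2 : φ₀ x * ((θ ⟨h, hhN⟩)⁻¹ * ψ₀ ⟨g, hgE⟩) =
          (θ ⟨h, hhN⟩)⁻¹ * (θ ⟨h, hhN⟩ * φ₀ x * (θ ⟨h, hhN⟩)⁻¹) * ψ₀ ⟨g, hgE⟩ := by group
      rw [e2, ← e1]
      group
    obtain ⟨c, hc, hcθ⟩ := hCsurj _ hu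
    have e3 : ψ₀ ⟨g, hgE⟩ = θ (⟨h, hhN⟩ * ⟨c, centralizerIn_le_normalizerIn S Q hc⟩) := by
      rw [map_mul, hcθ]; group
    rw [e3]
    exact ⟨_, rfl⟩
  have hleE : FusionSystem.extender S P' φ ≤ FusionSystem.extender S P' φ₀ := by
    intro g hg
    obtain ⟨x, _, rfl⟩ := hle hg
    exact x.2
  have hψ₁ := restrict_mem F hleE hψ₀
  have hψ₁r : ∀ g : FusionSystem.extender S P' φ, (ψ₀.comp (Subgroup.inclusion hleE)) g ∈ θ.range := by
    intro g
    obtain ⟨x, hx, hxg⟩ := hle g.2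
    rw [SetLike.mem_coe, Subgroup.mem_comap] at hx
    have : Subgroup.inclusion hleE g = x := Subtype.ext hxg.symm
    show ψ₀ (Subgroup.inclusion hleE g) ∈ θ.range
    rw [this]; exact hx
  obtain ⟨ψθ, hψθ, hinv⟩ := exists_inv_iso F hθ rfl
  refine ⟨ψθ.comp ((ψ₀.comp (Subgroup.inclusion hleE)).codRestrict θ.range hψ₁r),
    F.comp_mem hψ₁ hψθ hψ₁r, ?_⟩
  intro x hP hN
  show ψθ ⟨ψ₀ ⟨x, hleE hN⟩, _⟩ = φ ⟨x, hP⟩
  have e4 : ψ₀ ⟨x, hleE hN⟩ = θ ⟨φ ⟨x, hP⟩, hφN _⟩ := by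
    rw [hψ₀e x hP (hleE hN)]
    rfl
  have := hinv ⟨φ ⟨x, hP⟩, hφN _⟩ ⟨_, rfl⟩
  refine Eq.trans ?_ this
  congr 1
  exact Subtype.ext e4

include hQS hθ hmap in
/-- if `|N_S(R)| ≤ |N_S(Q)|` then `θ : N_S(Q) → N_S(R)` is onto and `|C_S(R)| ≤ |C_S(Q)|` -/
theorem surj_of_theta [Finite S] (hθN : ∀ x, θ x ∈ FusionSystem.normalizerIn S R)
    (hcardN : Nat.card (FusionSystem.normalizerIn S R) ≤ Nat.card (FusionSystem.normalizerIn S Q)) :
    (∀ m ∈ FusionSystem.normalizerIn S R, ∃ n : FusionSystem.normalizerIn S Q, θ n = m) ∧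
      Nat.card (FusionSystem.centralizerIn S R) ≤ Nat.card (FusionSystem.centralizerIn S Q) := by
  have hθinj := F.injective_of_mem hθ
  have hQN := le_normalizerIn hQS
  haveI := finite_normalizerIn (S := S) R
  haveI := finite_centralizerIn (S := S) Q
  have hsurj : ∀ m ∈ FusionSystem.normalizerIn S R, ∃ n : FusionSystem.normalizerIn S Q, θ n = m := by
    let f : FusionSystem.normalizerIn S Q → FusionSystem.normalizerIn S R := fun n => ⟨θ n, hθN n⟩
    have finj : Function.Injective f := fun a b hab => hθinj (congrArg Subtype.val hab)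
    have hbij := finj.bijective_of_nat_card_le hcardN
    intro m hm
    obtain ⟨n, hn⟩ := hbij.2 ⟨m, hm⟩
    exact ⟨n, congrArg Subtype.val hn⟩
  refine ⟨hsurj, ?_⟩
  have hex : ∀ c' : FusionSystem.centralizerIn S R, ∃ c : FusionSystem.centralizerIn S Q,
      θ ⟨c.1, centralizerIn_le_normalizerIn S Q c.2⟩ = c'.1 := by
    intro c'
    obtain ⟨n, hn⟩ := hsurj c'.1 (centralizerIn_le_normalizerIn S R c'.2)
    have hc' : (c' : Ω) ∈ Subgroup.centralizer (R : Set Ω) := c'.2.2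
    rw [Subgroup.mem_centralizer_iff] at hc'
    have hnC : (n : Ω) ∈ FusionSystem.centralizerIn S Q := by
      refine ⟨n.2.1, ?_⟩
      show (n : Ω) ∈ Subgroup.centralizer (Q : Set Ω)
      rw [Subgroup.mem_centralizer_iff]
      intro x hx
      have h1 : θ (⟨x, hQN hx⟩ * n) = θ (n * ⟨x, hQN hx⟩) := by
        rw [map_mul, map_mul, hn]
        exact hc' _ (theta_mem hmap x hx _)
      have h2 := hθinj h1
      exact congrArg (fun z : FusionSystem.normalizerIn S Q => (z : Ω)) h2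
    exact ⟨⟨n.1, hnC⟩, hn⟩
  choose g hg using hex
  apply Nat.card_le_card_of_injective g
  intro a b hab
  apply Subtype.ext
  rw [← hg a, ← hg b]
  congr 2
  exact congrArg Subtype.val hab

include hQS hθ hmap in
/-- (I), second half: `Q` is fully automized when `θ` is onto and `R` is fully automized -/
theorem fullyAutomized_of_theta [Finite S] {p : ℕ} [Fact p.Prime] (hS : IsPGroup p S)
    (hθN : ∀ x, θ x ∈ FusionSystem.normalizerIn S R)
    (hsurj : ∀ m ∈ FusionSystem.normalizerIn S R, ∃ n : FusionSystem.normalizerIn S Q, θ n = m)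
    (hRfa : F.IsFullyAutomized p R) : F.IsFullyAutomized p Q := by
  have hQN := le_normalizerIn hQS
  have hRS : R ≤ S := hRfa.1
  have hθS := (F.le_of_mem hθ).2
  have hθQ : θ.comp (Subgroup.inclusion hQN) ∈ F.Hom Q := restrict_mem F hQN hθ
  have hrQ : (θ.comp (Subgroup.inclusion hQN)).range = R := by
    ext y
    constructor
    · rintro ⟨x, rfl⟩
      exact theta_mem hmap x x.2 _
    · intro hy
      obtain ⟨x, hx, hx', rfl⟩ := theta_surj hmap hy
      exact ⟨⟨x, hx⟩, rfl⟩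
  set e := isoOfHom F hθQ hrQ with he
  have hev : ∀ x : Q, ((e x : R) : Ω) = θ ⟨x, hQN x.2⟩ := fun x => rfl
  haveI : Finite Q := finite_of_le hQS
  haveI : Finite R := finite_of_le hRS
  -- Aut_F
  have hAutF : (F.autGroup Q).map (MulAut.congr e).toMonoidHom = F.autGroup R := by
    apply le_antisymm
    · rintro _ ⟨α, hα, rfl⟩
      exact congr_mem_autGroup F hθQ hrQ hα
    · intro α hα
      refine ⟨MulAut.congr e.symm α, congr_symm_mem_autGroup F hθQ hrQ hα, ?_⟩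
      ext y
      simp
  -- key computation: conjugation by n goes to conjugation by θ n
  have hkey : ∀ (n : Subgroup.normalizer (Q : Set Ω)) (hn : (n : Ω) ∈ S)
      (m : Subgroup.normalizer (R : Set Ω)), (m : Ω) = θ ⟨n.1, ⟨hn, n.2⟩⟩ →
      MulAut.congr e (Q.normalizerMonoidHom n) = R.normalizerMonoidHom m := by
    intro n hn m hm
    ext y
    rw [normalizerMonoidHom_apply_coe, hm]
    show ((e (Q.normalizerMonoidHom n (e.symm y)) : R) : Ω) = _
    rw [hev]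
    have hy : (y : Ω) = θ ⟨(e.symm y : Q), hQN (e.symm y).2⟩ := by
      rw [← hev, MulEquiv.apply_symm_apply]
    conv_rhs => rw [hy]
    rw [← map_inv, ← map_mul, ← map_mul]
    rfl
  have hAutS : (autInducedBy S Q).map (MulAut.congr e).toMonoidHom = autInducedBy S R := by
    apply le_antisymm
    · rw [autInducedBy_eq_map S Q]
      rintro _ ⟨_, ⟨n, hn, rfl⟩, rfl⟩
      rw [SetLike.mem_coe, Subgroup.mem_subgroupOf] at hn
      have hmN : θ ⟨n.1, ⟨hn, n.2⟩⟩ ∈ Subgroup.normalizer (R : Set Ω) := (hθN _).2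
      have := hkey n hn ⟨_, hmN⟩ rfl
      show MulAut.congr e (Q.normalizerMonoidHom n) ∈ autInducedBy S R
      rw [this]
      exact Subgroup.subset_closure ⟨_, hθS _, fun x => rfl⟩
    · rw [autInducedBy_eq_map S R]
      rintro _ ⟨m, hm, rfl⟩
      rw [SetLike.mem_coe, Subgroup.mem_subgroupOf] at hm
      obtain ⟨n, hn⟩ := hsurj m.1 ⟨hm, m.2⟩
      have := hkey ⟨n.1, n.2.2⟩ n.2.1 m hn.symm
      rw [← this]
      exact ⟨_, Subgroup.subset_closure ⟨n.1, n.2.1, fun x => rfl⟩, rfl⟩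
  have hinj : Function.Injective (MulAut.congr e).toMonoidHom := (MulAut.congr e).injective
  have hleQ : autInducedBy S Q ≤ F.autGroup Q := autInducedBy_le_autGroup F hQS
  have hleR : autInducedBy S R ≤ F.autGroup R := autInducedBy_le_autGroup F hRS
  have hR := (isSylowSub_iff hleR).1 hRfa.2
  refine ⟨hQS, (isSylowSub_iff hleQ).2 ⟨isPGroup_autInducedBy hS Q, ?_⟩⟩
  rw [← Subgroup.card_map_of_injective hinj, hAutS, hR.2, ← hAutF, Subgroup.card_map_of_injective hinj]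

end theta

end Cfsg.Agent.Lib.Helper29
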