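import Cfsg.Agent.Lib.Helper29.EssentialNeeded

/-!
The subgroup of `Aut_F(P)` generated by the automorphisms extending to strictly larger subgroups.
-/
set_option autoImplicit false

namespace Cfsg.Agent.Lib.Helper29
open Cfsg

variable {Ω : Type*} [Group Ω] {S : Subgroup Ω}

/-- the image under a map of the system of an element normalizing `P'` normalizes the image of `P'` -/
theorem hom_mem_normalizerIn (F : FusionSystem S) {Q P' T : Subgroup Ω} {φ : Q →* Ω} (hφ : φ ∈ F.Hom Q)
    (hT : T = (P'.subgroupOf Q).map φ) {n : Q} (hn : (n : Ω) ∈ Subgroup.normalizer (P' : Set Ω)) :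
    φ n ∈ FusionSystem.normalizerIn S T := by
  refine ⟨(F.le_of_mem hφ).2 _, ?_⟩
  have hle : ((Subgroup.normalizer (P' : Set Ω)).subgroupOf Q).map φ ≤ Subgroup.normalizer (T : Set Ω) := by
    apply le_normalizer_of_conj_mem
    rintro _ ⟨m, hm, rfl⟩ y hy
    rw [hT] at hy ⊢
    obtain ⟨z, hz, rfl⟩ := hy
    have hmz : (m : Ω) * z * (m : Ω)⁻¹ ∈ P' := (Subgroup.mem_normalizer_iff.1 hm z).1 hz
    refine ⟨m * z * m⁻¹, hmz, ?_⟩
    rw [map_mul, map_mul, map_inv]
  exact hle ⟨n, hn, rfl⟩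

section ext

variable [Finite S] {p : ℕ} [Fact p.Prime] (F : FusionSystem S) {P : Subgroup Ω}

/-- the set of automorphisms of `P` extending to a strictly larger subgroup -/
def extGen (F : FusionSystem S) (P : Subgroup Ω) : Set (MulAut P) :=
  {α : MulAut P | ∃ (Q : Subgroup Ω) (hPQ : P < Q) (φ : Q →* Ω), φ ∈ F.Hom Q ∧
    ∀ x : P, φ (Subgroup.inclusion hPQ.le x) = α x}

theorem closure_extGen_le (hPS : P ≤ S) : Subgroup.closure (extGen F P) ≤ F.autGroup P := by
  rw [Subgroup.closure_le]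
  rintro α ⟨Q, hPQ, φ, hφ, hv⟩
  apply Subgroup.subset_closure
  show P.subtype.comp α.toMonoidHom ∈ F.Hom P
  have e : P.subtype.comp α.toMonoidHom = φ.comp (Subgroup.inclusion hPQ.le) := by
    ext x
    exact (hv x).symm
  rw [e]
  exact restrict_mem F hPQ.le hφ

theorem inn_le_closure_extGen (hPS : P < S) : Inn P ≤ Subgroup.closure (extGen F P) := by
  rintro _ ⟨a, rfl⟩
  apply Subgroup.subset_closure
  refine ⟨S, hPS, conjHom S a, F.conj_mem le_rfl (hPS.le a.2), fun x => rfl⟩

/-- a receptive `P`: an `F`-automorphism transporting the conjugation by some `g ∈ N_S(P) \ P` to a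
conjugation by an element of `S` extends to a strictly larger subgroup -/
theorem mem_extGen_of_rel (hrec : F.IsReceptive P) {α : MulAut P} (hα : α ∈ F.autGroup P) {g h : Ω}
    (hg : g ∈ FusionSystem.normalizerIn S P) (hgP : g ∉ P) (hh : h ∈ S)
    (hrel : ∀ (x : P) (hx : g * (x : Ω) * g⁻¹ ∈ P), ((α ⟨g * x * g⁻¹, hx⟩ : P) : Ω) = h * (α x : P) * h⁻¹) :
    α ∈ extGen F P := by
  have hPS : P ≤ S := hrec.1
  have hφ : P.subtype.comp α.toMonoidHom ∈ F.Hom P := (mem_autGroup_iff F hPS).1 hα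
  obtain ⟨ψ, hψ, hext⟩ := hrec.2 P _ hφ (range_subtype_comp_aut α)
  have hgE : g ∈ FusionSystem.extender S P (P.subtype.comp α.toMonoidHom) :=
    Subgroup.subset_closure ⟨hg.1, hg.2, h, hh, hrel⟩
  have hle : P ≤ FusionSystem.extender S P (P.subtype.comp α.toMonoidHom) := le_extender F hφ
  have hlt : P < FusionSystem.extender S P (P.subtype.comp α.toMonoidHom) :=
    lt_of_le_of_ne hle (fun h => hgP (h ▸ hgE))
  exact ⟨_, hlt, ψ, hψ, fun x => hext x.1 x.2 _⟩

/-- the key step: an `F`-automorphism conjugating a non-inner element of `Aut_S(P)` into `Aut_S(P)` extends -/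
theorem mem_extGen_of_conj (hrec : F.IsReceptive P) {α b : MulAut P} (hα : α ∈ F.autGroup P)
    (hb : b ∈ autInducedBy S P) (hbI : b ∉ Inn P) (hc : α * b * α⁻¹ ∈ autInducedBy S P) :
    α ∈ extGen F P := by
  rw [autInducedBy_eq_map] at hb hc
  obtain ⟨g, hg, rfl⟩ := hb
  obtain ⟨h, hh, hhe⟩ := hc
  have hgP : (g : Ω) ∉ P := by
    intro hgP
    apply hbI
    refine ⟨⟨g, hgP⟩, ?_⟩
    ext x
    rfl
  refine mem_extGen_of_rel F hrec hα ⟨hg, g.2⟩ hgP hh (fun x hx => ?_)
  have e1 : (α * P.normalizerMonoidHom g * α⁻¹) (α x) = P.normalizerMonoidHom h (α x) := by rw [hhe]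
  rw [MulAut.mul_apply, MulAut.mul_apply, MulAut.inv_apply_self] at e1
  have e2 := congrArg (fun z : P => (z : Ω)) e1
  exact e2

end ext

theorem inn_le_autInducedBy {P : Subgroup Ω} (hPS : P ≤ S) : Inn P ≤ autInducedBy S P := by
  rintro _ ⟨a, rfl⟩
  exact Subgroup.subset_closure ⟨a, hPS a.2, fun x => rfl⟩

theorem exists_mem_normalizerIn_not_mem [Finite S] {p : ℕ} [Fact p.Prime] (hS : IsPGroup p S)
    {P : Subgroup Ω} (hPS : P < S) : ∃ n ∈ FusionSystem.normalizerIn S P, n ∉ P := by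
  have h1 := normalizerIn_ne_self hS hPS.le hPS.ne
  by_contra hcon
  push_neg at hcon
  exact h1 (le_antisymm (fun n hn => hcon n hn) (le_normalizerIn hPS.le))

/-- the dichotomy for the subgroup generated by the extendable automorphisms of a fully normalized proper
subgroup -/
theorem extendable_dichotomy [Finite S] {p : ℕ} [Fact p.Prime] (hS : IsPGroup p S) (F : FusionSystem S)
    (hF : F.IsSaturated p) {P : Subgroup Ω} (hPS : P < S) (hPn : F.IsFullyNormalized P) :
    (¬ F.IsEssential p P ∧ Subgroup.closure (extGen F P) = F.autGroup P) ∨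
    (F.IsEssential p P ∧ ∃ _ : ((Inn P).subgroupOf (F.autGroup P)).Normal,
      IsStronglyPEmbedded p (((Subgroup.closure (extGen F P)).subgroupOf (F.autGroup P)).map
        (QuotientGroup.mk' ((Inn P).subgroupOf (F.autGroup P))))) := by
  have hPS' : P ≤ S := hPS.le
  haveI : Finite P := finite_of_le hPS'
  have hsat := (Cfsg.Agent.S5077.result p hS F).1 hF
  have hfc := (hsat.1 P hPn).1
  have hfa := (hsat.1 P hPn).2
  have hrec := hsat.2 P hfc
  have hHA : Subgroup.closure (extGen F P) ≤ F.autGroup P := closure_extGen_le F hPS'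
  have hIH : Inn P ≤ Subgroup.closure (extGen F P) := inn_le_closure_extGen F hPS
  haveI hnormal : ((Inn P).subgroupOf (F.autGroup P)).Normal := inferInstance
  obtain ⟨_, R, hR⟩ := hfa
  have hsurj : Function.Surjective (QuotientGroup.mk' ((Inn P).subgroupOf (F.autGroup P))) :=
    QuotientGroup.mk'_surjective _
  have hker : ∀ a : F.autGroup P, QuotientGroup.mk' ((Inn P).subgroupOf (F.autGroup P)) a = 1 ↔
      (a : MulAut P) ∈ Inn P := by
    intro a
    rw [← MonoidHom.mem_ker, QuotientGroup.ker_mk', Subgroup.mem_subgroupOf]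
  have hmemR : ∀ a : F.autGroup P, a ∈ (R : Subgroup (F.autGroup P)) ↔ (a : MulAut P) ∈ autInducedBy S P := by
    intro a
    rw [hR, Subgroup.mem_subgroupOf]
  -- if the image of `H` is everything then `H` is everything
  have htop : ((Subgroup.closure (extGen F P)).subgroupOf (F.autGroup P)).map
      (QuotientGroup.mk' ((Inn P).subgroupOf (F.autGroup P))) = ⊤ →
      F.autGroup P ≤ Subgroup.closure (extGen F P) := by
    intro ht α hα
    have h1 : QuotientGroup.mk' ((Inn P).subgroupOf (F.autGroup P)) (⟨α, hα⟩ : F.autGroup P) ∈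
        (⊤ : Subgroup (F.autGroup P ⧸ (Inn P).subgroupOf (F.autGroup P))) := Subgroup.mem_top _
    rw [← ht] at h1
    obtain ⟨h, hh, he⟩ := h1
    have h2 : QuotientGroup.mk' ((Inn P).subgroupOf (F.autGroup P)) (h⁻¹ * ⟨α, hα⟩) = 1 := by
      rw [map_mul, map_inv, he, inv_mul_cancel]
    rw [hker] at h2
    rw [SetLike.mem_coe, Subgroup.mem_subgroupOf] at hh
    have h3 : α = (h : MulAut P) * ((h : MulAut P)⁻¹ * α) := by group
    rw [h3]
    exact Subgroup.mul_mem _ hh (hIH h2)
  -- the 1-generated core lies in the image of `H`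
  have hΓ : kGeneratedCore p 1 ((R.mapSurjective hsurj : Sylow p (F.autGroup P ⧸ (Inn P).subgroupOf (F.autGroup P))) :
      Subgroup (F.autGroup P ⧸ (Inn P).subgroupOf (F.autGroup P))) ≤
      ((Subgroup.closure (extGen F P)).subgroupOf (F.autGroup P)).map
        (QuotientGroup.mk' ((Inn P).subgroupOf (F.autGroup P))) := by
    unfold kGeneratedCore
    apply iSup_le
    rintro ⟨B, hBP, hBr⟩
    have hBne : B ≠ ⊥ := by
      rintro rfl
      apply hBr
      intro A' _ _
      rw [pow_zero]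
      exact Finite.card_le_one_iff_subsingleton.2 inferInstance
    obtain ⟨⟨b', hb'B⟩, hb'1⟩ := (Subgroup.ne_bot_iff_exists_ne_one).1 hBne
    have hb'1' : b' ≠ 1 := fun h => hb'1 (Subtype.ext h)
    intro x' hx'
    have hb'P := hBP hb'B
    rw [Sylow.coe_mapSurjective] at hb'P
    obtain ⟨b₀, hb₀R, rfl⟩ := hb'P
    obtain ⟨x₀, rfl⟩ := hsurj x'
    have hconj := hBP ((Subgroup.mem_normalizer_iff.1 hx' _).1 hb'B)
    rw [Sylow.coe_mapSurjective] at hconj
    obtain ⟨c₀, hc₀R, hc₀⟩ := hconj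
    have h2 : QuotientGroup.mk' ((Inn P).subgroupOf (F.autGroup P)) (c₀⁻¹ * (x₀ * b₀ * x₀⁻¹)) = 1 := by
      rw [map_mul, map_inv, hc₀, map_mul, map_mul, map_inv, inv_mul_cancel]
    rw [hker] at h2
    have hb₀S := (hmemR b₀).1 hb₀R
    have hc₀S := (hmemR c₀).1 hc₀R
    have h3 : (x₀ : MulAut P) * b₀ * (x₀ : MulAut P)⁻¹ ∈ autInducedBy S P := by
      have e : (x₀ : MulAut P) * b₀ * (x₀ : MulAut P)⁻¹ =
          (c₀ : MulAut P) * (((c₀⁻¹ * (x₀ * b₀ * x₀⁻¹) : F.autGroup P)) : MulAut P) := by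
        push_cast
        group
      rw [e]
      exact Subgroup.mul_mem _ hc₀S (inn_le_autInducedBy hPS' h2)
    have hb₀I : (b₀ : MulAut P) ∉ Inn P := fun h => hb'1' ((hker b₀).2 h)
    have h4 := mem_extGen_of_conj F hrec x₀.2 hb₀S hb₀I h3
    exact ⟨x₀, Subgroup.mem_subgroupOf.2 (Subgroup.subset_closure h4), rfl⟩
  by_cases hess : F.IsEssential p P
  · right
    refine ⟨hess, hnormal, ?_⟩
    obtain ⟨H₀, ⟨α, hαA, hαH₀⟩, _, H3⟩ := exists_control_aut hS F hF hess
    obtain ⟨_, _, _, Y, hY⟩ := hess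
    refine ⟨hY.1, ?_, R.mapSurjective hsurj, hΓ⟩
    intro ht
    apply hαH₀
    have hHH₀ : Subgroup.closure (extGen F P) ≤ H₀ := by
      rw [Subgroup.closure_le]
      rintro β ⟨Q, hPQ, φ, hφ, hv⟩
      have hβA : β ∈ F.autGroup P := hHA (Subgroup.subset_closure ⟨Q, hPQ, φ, hφ, hv⟩)
      have hQS : Q ≤ S := (F.le_of_mem hφ).1
      haveI : Finite Q := finite_of_le hQS
      obtain ⟨n, hn, hnP⟩ := exists_mem_normalizerIn_not_mem (S := Q) (hS.to_le hQS) hPQ
      have hT : P = (P.subgroupOf Q).map φ := by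
        ext y
        constructor
        · intro hy
          refine ⟨Subgroup.inclusion hPQ.le (β.symm ⟨y, hy⟩), ?_, ?_⟩
          · rw [SetLike.mem_coe, Subgroup.mem_subgroupOf]
            exact (β.symm ⟨y, hy⟩).2
          · rw [hv, MulEquiv.apply_symm_apply]
        · rintro ⟨z, hz, rfl⟩
          rw [SetLike.mem_coe, Subgroup.mem_subgroupOf] at hz
          have := hv ⟨z, hz⟩
          have e : Subgroup.inclusion hPQ.le ⟨(z : Ω), hz⟩ = z := Subtype.ext rfl
          rw [e] at this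
          rw [this]
          exact (β _).2
      have hn' := hom_mem_normalizerIn F hφ hT (n := ⟨n, hn.1⟩) hn.2
      apply H3 β hβA n (φ ⟨n, hn.1⟩) ⟨hQS hn.1, hn.2⟩ hn' hnP
      intro x hx
      rw [← hv, ← hv, ← map_inv, ← map_mul, ← map_mul]
      rfl
    exact hHH₀ (htop ht hαA)
  · left
    refine ⟨hess, le_antisymm hHA ?_⟩
    by_cases hcen : FusionSystem.centralizerIn S P ≤ P
    · have hc : F.IsCentric P := centric_of_receptive F hrec hcen
      by_cases ht : ((Subgroup.closure (extGen F P)).subgroupOf (F.autGroup P)).map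
          (QuotientGroup.mk' ((Inn P).subgroupOf (F.autGroup P))) = ⊤
      · exact htop ht
      · exfalso
        apply hess
        refine ⟨hc, hPn, hnormal, _, ⟨?_, ht, R.mapSurjective hsurj, hΓ⟩⟩
        by_contra hndvd
        obtain ⟨g, hg, hgP⟩ := exists_mem_normalizerIn_not_mem hS hPS
        have hcard : Nat.card ((R.mapSurjective hsurj : Sylow p (F.autGroup P ⧸ (Inn P).subgroupOf (F.autGroup P))) :
            Subgroup (F.autGroup P ⧸ (Inn P).subgroupOf (F.autGroup P))) = 1 := by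
          rw [Sylow.card_eq_multiplicity, Nat.factorization_eq_zero_of_not_dvd hndvd, pow_zero]
        have hbot := Subgroup.eq_bot_of_card_eq _ hcard
        have hcg : P.normalizerMonoidHom ⟨g, hg.2⟩ ∈ autInducedBy S P :=
          Subgroup.subset_closure ⟨g, hg.1, fun x => rfl⟩
        have hcgA := autInducedBy_le_autGroup F hPS' hcg
        have h5 : QuotientGroup.mk' ((Inn P).subgroupOf (F.autGroup P))
            (⟨P.normalizerMonoidHom ⟨g, hg.2⟩, hcgA⟩ : F.autGroup P) ∈
            ((R.mapSurjective hsurj : Sylow p (F.autGroup P ⧸ (Inn P).subgroupOf (F.autGroup P))) :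
            Subgroup (F.autGroup P ⧸ (Inn P).subgroupOf (F.autGroup P))) := by
          rw [Sylow.coe_mapSurjective]
          exact ⟨_, (hmemR _).2 hcg, rfl⟩
        rw [hbot, Subgroup.mem_bot, hker] at h5
        exact hgP (mem_of_conj_mem_inn hPS' hcen hg.1 hg.2 h5)
    · obtain ⟨c, hc, hcP⟩ := SetLike.not_le_iff_exists.1 hcen
      intro α hα
      apply Subgroup.subset_closure
      refine mem_extGen_of_rel F hrec hα (centralizerIn_le_normalizerIn S P hc) hcP S.one_mem (fun x hx => ?_)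
      have hcx : c * (x : Ω) * c⁻¹ = x := by
        have h1 := (Subgroup.mem_centralizer_iff.1 hc.2) x x.2
        rw [← h1, mul_inv_cancel_right]
      have e : (⟨c * (x : Ω) * c⁻¹, hx⟩ : P) = x := Subtype.ext hcx
      rw [e]
      simp

end Cfsg.Agent.Lib.Helper29
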