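import Mathlib
import Cfsg.Prelude.Def_Transfer

/-!
`G = O^p(G) · P` for a Sylow `p`-subgroup `P` of a finite group `G`.
-/
set_option autoImplicit false

namespace Cfsg.Agent.Lib.Helper29
open Cfsg

variable {G : Type*} [Group G]

theorem pResidual_normal' (p : ℕ) : (pResidual p G).Normal := by
  refine ⟨fun n hn g => ?_⟩
  have hmap : (pResidual p G).map (MulAut.conj g).toMonoidHom ≤ pResidual p G := by
    unfold pResidual
    rw [MonoidHom.map_closure, Subgroup.closure_le]
    rintro _ ⟨x, hx, rfl⟩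
    apply Subgroup.subset_closure
    show Nat.Coprime (orderOf (MulAut.conj g x)) p
    rw [MulEquiv.orderOf_eq]
    exact hx
  exact hmap ⟨n, hn, rfl⟩

/-- every element of a finite group has a `p`-power power of order prime to `p` -/
theorem exists_pow_mem_pResidual [Finite G] (p : ℕ) [Fact p.Prime] (g : G) :
    ∃ k : ℕ, g ^ (p ^ k) ∈ pResidual p G := by
  obtain ⟨k, m, hm, hkm⟩ := Nat.exists_eq_pow_mul_and_not_dvd (orderOf_pos g).ne' p
    (Fact.out : p.Prime).ne_one
  refine ⟨k, Subgroup.subset_closure ?_⟩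
  have hxord : orderOf (g ^ (p ^ k)) = m := by
    rw [orderOf_pow' g (pow_ne_zero k (Fact.out : p.Prime).ne_zero), hkm,
      Nat.gcd_eq_right (Dvd.intro _ rfl)]
    exact Nat.mul_div_cancel_left m (pow_pos (Fact.out : p.Prime).pos k)
  show Nat.Coprime (orderOf (g ^ (p ^ k))) p
  rw [hxord]
  exact ((Nat.Prime.coprime_iff_not_dvd (Fact.out : p.Prime)).mpr hm).symm

theorem pResidual_sup_sylow [Finite G] (p : ℕ) [Fact p.Prime] (P : Sylow p G) :
    pResidual p G ⊔ (P : Subgroup G) = ⊤ := by
  have hN : (pResidual p G).Normal := pResidual_normal' p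
  have hq : IsPGroup p (G ⧸ pResidual p G) := by
    intro x
    induction x using QuotientGroup.induction_on with
    | H g =>
      obtain ⟨k, hk⟩ := exists_pow_mem_pResidual p g
      refine ⟨k, ?_⟩
      rw [← QuotientGroup.mk_pow, QuotientGroup.eq_one_iff]
      exact hk
  obtain ⟨a, ha⟩ := IsPGroup.iff_card.1 hq
  have hidx : (pResidual p G).index = p ^ a := by rw [Subgroup.index_eq_card, ha]
  have h1 : (pResidual p G ⊔ (P : Subgroup G)).index ∣ p ^ a :=
    hidx ▸ Subgroup.index_dvd_of_le le_sup_left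
  have h2 : (pResidual p G ⊔ (P : Subgroup G)).index ∣ (P : Subgroup G).index :=
    Subgroup.index_dvd_of_le le_sup_right
  obtain ⟨b, _, hb⟩ := (Nat.dvd_prime_pow (Fact.out : p.Prime)).1 h1
  rw [← Subgroup.index_eq_one, hb]
  rcases Nat.eq_zero_or_pos b with rfl | hb0
  · rfl
  · exfalso
    apply P.not_dvd_index
    refine dvd_trans ?_ h2
    rw [hb]
    exact dvd_pow_self p hb0.ne'

theorem exists_mul_pResidual_sylow [Finite G] (p : ℕ) [Fact p.Prime] (P : Sylow p G) (g : G) :
    ∃ b ∈ pResidual p G, ∃ s ∈ (P : Subgroup G), g = b * s := by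
  have hN : (pResidual p G).Normal := pResidual_normal' p
  have hg : g ∈ ((pResidual p G ⊔ (P : Subgroup G) : Subgroup G) : Set G) := by
    rw [pResidual_sup_sylow p P]
    trivial
  rw [Subgroup.normal_mul] at hg
  obtain ⟨b, hb, s, hs, rfl⟩ := hg
  exact ⟨b, hb, s, hs, rfl⟩

end Cfsg.Agent.Lib.Helper29
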