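import Cfsg.Agent.Lib.Helper29.FusionSub
import Cfsg.Agent.Lib.Helper29.PResidualSylow

/-!
Focal and hyperfocal subgroups of a saturated fusion system: `foc(F) = hyp(F)·[S,S]`.
-/
set_option autoImplicit false

namespace Cfsg.Agent.Lib.Helper29
open Cfsg
open scoped commutatorElement

variable {Ω : Type*} [Group Ω] {S : Subgroup Ω}

/-- the subsystem of maps acting trivially modulo a subgroup `N ≥ [S,S]` -/
def modSys (F : FusionSystem S) (N : Subgroup Ω) (hN : ⁅S, S⁆ ≤ N) : FusionSystem S where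
  Hom P := {φ | φ ∈ F.Hom P ∧ ∀ x : P, (x : Ω)⁻¹ * φ x ∈ N}
  le_of_mem h := F.le_of_mem h.1
  injective_of_mem h := F.injective_of_mem h.1
  conj_mem := by
    intro P g hP hg
    refine ⟨F.conj_mem hP hg, fun x => hN ?_⟩
    have h3 : ⁅(x : Ω)⁻¹, g⁆ ∈ ⁅S, S⁆ :=
      Subgroup.commutator_mem_commutator (S.inv_mem (hP x.2)) hg
    have e : ⁅(x : Ω)⁻¹, g⁆ = (x : Ω)⁻¹ * conjHom P g x := by
      rw [commutatorElement_def]
      show _ = (x : Ω)⁻¹ * (g * x * g⁻¹)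
      group
    rw [← e]
    exact h3
  comp_mem := by
    rintro P Q φ ψ ⟨hφ, hφN⟩ ⟨hψ, hψN⟩ h
    refine ⟨F.comp_mem hφ hψ h, fun x => ?_⟩
    have e : (x : Ω)⁻¹ * (ψ.comp (φ.codRestrict Q h)) x =
        ((x : Ω)⁻¹ * φ x) * ((φ x)⁻¹ * ψ ⟨φ x, h x⟩) := by
      show (x : Ω)⁻¹ * ψ ⟨φ x, h x⟩ = _
      group
    rw [e]
    exact N.mul_mem (hφN x) (hψN ⟨φ x, h x⟩)
  inv_mem := by
    rintro P φ ⟨hφ, hφN⟩
    obtain ⟨χ, hχ, hχinv⟩ := F.inv_mem hφ
    refine ⟨χ, ⟨hχ, ?_⟩, hχinv⟩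
    rintro ⟨_, x, rfl⟩
    rw [hχinv x]
    have e : (φ x)⁻¹ * (x : Ω) = ((x : Ω)⁻¹ * φ x)⁻¹ := by group
    show (φ x)⁻¹ * (x : Ω) ∈ N
    rw [e]
    exact N.inv_mem (hφN x)

theorem fullyNormalized_top [Finite S] (F : FusionSystem S) : F.IsFullyNormalized S := by
  refine ⟨le_rfl, fun Q _ => ?_⟩
  have : Finite (FusionSystem.normalizerIn S S) := finite_normalizerIn S
  exact Subgroup.card_le_of_le (le_trans inf_le_left (le_normalizerIn le_rfl))

theorem hyperfocal_le (F : FusionSystem S) (p : ℕ) : F.hyperfocalSubgroup p ≤ S := by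
  unfold FusionSystem.hyperfocalSubgroup
  rw [Subgroup.closure_le]
  rintro _ ⟨P, α, x, hPS, _, rfl⟩
  exact S.mul_mem (S.inv_mem (hPS x.2)) (hPS ((α : MulAut P) x).2)

/-- decomposition `α = β ∘ c_s` with `β ∈ O^p(Aut_F(U))`, for `U` fully normalized -/
theorem inv_mul_aut_mem_of_fullyNormalized [Finite S] (p : ℕ) [Fact p.Prime] (hS : IsPGroup p S)
    (F : FusionSystem S) (hF : F.IsSaturated p) {U : Subgroup Ω} (hU : F.IsFullyNormalized U)
    {α : MulAut U} (hα : α ∈ F.autGroup U) (x : U) :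
    (x : Ω)⁻¹ * ((α x : U) : Ω) ∈ F.hyperfocalSubgroup p ⊔ ⁅S, S⁆ := by
  obtain ⟨hUS, R, hR⟩ := (((Cfsg.Agent.S5077.result p hS F).1 hF).1 U hU).2
  have : Finite U := finite_of_le hUS
  obtain ⟨b, hb, s, hs, hbs⟩ := exists_mul_pResidual_sylow p R ⟨α, hα⟩
  rw [← SetLike.mem_coe, hR, SetLike.mem_coe, Subgroup.mem_subgroupOf, autInducedBy_eq_map] at hs
  obtain ⟨n, hn, hns⟩ := hs
  have hnS : (n : Ω) ∈ S := hn
  have hα' : α = (b : MulAut U) * (s : MulAut U) := congrArg Subtype.val hbs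
  have hsx : (((s : MulAut U) x : U) : Ω) = (n : Ω) * x * (n : Ω)⁻¹ := by
    rw [← hns]
    rfl
  have e : (x : Ω)⁻¹ * ((α x : U) : Ω) =
      ((x : Ω)⁻¹ * (((s : MulAut U) x : U) : Ω)) *
        ((((s : MulAut U) x : U) : Ω)⁻¹ * (((b : MulAut U) ((s : MulAut U) x) : U) : Ω)) := by
    rw [hα', MulAut.mul_apply]
    group
  rw [e]
  apply Subgroup.mul_mem
  · apply (le_sup_right : ⁅S, S⁆ ≤ F.hyperfocalSubgroup p ⊔ ⁅S, S⁆)
    have h3 : ⁅(x : Ω)⁻¹, (n : Ω)⁆ ∈ ⁅S, S⁆ :=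
      Subgroup.commutator_mem_commutator (S.inv_mem (hUS x.2)) hnS
    have e2 : ⁅(x : Ω)⁻¹, (n : Ω)⁆ = (x : Ω)⁻¹ * (((s : MulAut U) x : U) : Ω) := by
      rw [commutatorElement_def, hsx]
      group
    rw [← e2]
    exact h3
  · apply (le_sup_left : F.hyperfocalSubgroup p ≤ F.hyperfocalSubgroup p ⊔ ⁅S, S⁆)
    apply Subgroup.subset_closure
    exact ⟨U, b, (s : MulAut U) x, hUS, hb, rfl⟩

end Cfsg.Agent.Lib.Helper29

namespace Cfsg.Agent.Lib.Helper29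
open Cfsg
open scoped commutatorElement

variable {Ω : Type*} [Group Ω] {S : Subgroup Ω}

/-- every map of a saturated system acts trivially modulo `hyp(F)·[S,S]` -/
theorem le_modSys_hyp [Finite S] (p : ℕ) [Fact p.Prime] (hS : IsPGroup p S)
    (F : FusionSystem S) (hF : F.IsSaturated p) :
    F ≤ modSys F (F.hyperfocalSubgroup p ⊔ ⁅S, S⁆) le_sup_right := by
  apply alperin p hS F hF
  intro U hU α hα
  have hUfn : F.IsFullyNormalized U := by
    rcases hU with rfl | hU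
    · exact fullyNormalized_top F
    · exact hU.2.1
  have hUS : U ≤ S := hUfn.1
  rw [mem_autGroup_iff _ hUS]
  exact ⟨(mem_autGroup_iff F hUS).1 hα,
    fun x => inv_mul_aut_mem_of_fullyNormalized p hS F hF hUfn hα x⟩

theorem focal_eq_hyperfocal_sup [Finite S] (p : ℕ) [Fact p.Prime] (hS : IsPGroup p S)
    (F : FusionSystem S) (hF : F.IsSaturated p) :
    F.focalSubgroup = F.hyperfocalSubgroup p ⊔ ⁅S, S⁆ := by
  apply le_antisymm
  · unfold FusionSystem.focalSubgroup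
    rw [Subgroup.closure_le]
    rintro _ ⟨P, φ, x, hφ, rfl⟩
    exact (le_modSys_hyp p hS F hF P hφ).2 x
  · apply sup_le
    · unfold FusionSystem.hyperfocalSubgroup FusionSystem.focalSubgroup
      rw [Subgroup.closure_le]
      rintro _ ⟨P, α, x, hPS, _, rfl⟩
      apply Subgroup.subset_closure
      exact ⟨P, _, x, (mem_autGroup_iff F hPS).1 α.2, rfl⟩
    · rw [Subgroup.commutator_le]
      intro a ha s hs
      unfold FusionSystem.focalSubgroup
      apply Subgroup.subset_closure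
      refine ⟨S, conjHom S s, ⟨a⁻¹, S.inv_mem ha⟩, F.conj_mem le_rfl hs, ?_⟩
      rw [commutatorElement_def]
      show a * s * a⁻¹ * s⁻¹ = (a⁻¹)⁻¹ * (s * a⁻¹ * s⁻¹)
      group

end Cfsg.Agent.Lib.Helper29
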