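import Cfsg.Agent.Lib.Helper29.FusionHyp

/-!
The hyperfocal subgroup of a saturated fusion system is strongly closed.
-/
set_option autoImplicit false

namespace Cfsg.Agent.Lib.Helper29
open Cfsg

theorem pResidual_map_of_injective {A A' : Type*} [Group A] [Group A'] (p : ℕ) (f : A →* A')
    (hf : Function.Injective f) {a : A} (ha : a ∈ pResidual p A) : f a ∈ pResidual p A' := by
  have hmap : (pResidual p A).map f ≤ pResidual p A' := by
    unfold pResidual
    rw [MonoidHom.map_closure, Subgroup.closure_le]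
    rintro _ ⟨x, hx, rfl⟩
    apply Subgroup.subset_closure
    show Nat.Coprime (orderOf (f x)) p
    rw [orderOf_injective f hf]
    exact hx
  exact hmap ⟨a, ha, rfl⟩

variable {Ω : Type*} [Group Ω] {S : Subgroup Ω}

/-- the hyperfocal subgroup is normalized by `S` -/
theorem conj_mem_hyperfocal (F : FusionSystem S) (p : ℕ) {s : Ω} (hs : s ∈ S) :
    ∀ y ∈ F.hyperfocalSubgroup p, s * y * s⁻¹ ∈ F.hyperfocalSubgroup p := by
  have hmap : (F.hyperfocalSubgroup p).map (MulAut.conj s).toMonoidHom ≤ F.hyperfocalSubgroup p := by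
    unfold FusionSystem.hyperfocalSubgroup
    rw [MonoidHom.map_closure, Subgroup.closure_le]
    rintro _ ⟨_, ⟨P, α, x, hPS, hα, rfl⟩, rfl⟩
    apply Subgroup.subset_closure
    have hc : conjHom P s ∈ F.Hom P := F.conj_mem hPS hs
    have hmem : ∀ a : F.autGroup P,
        (MulAut.congr (isoOfHom F hc rfl)) (a : MulAut P) ∈ F.autGroup (conjHom P s).range :=
      fun a => congr_mem_autGroup F hc rfl a.2
    let f : F.autGroup P →* F.autGroup (conjHom P s).range :=
      ((MulAut.congr (isoOfHom F hc rfl)).toMonoidHom.comp (F.autGroup P).subtype).codRestrict _ hmem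
    have hf : Function.Injective f := by
      intro a b hab
      have h1 : (MulAut.congr (isoOfHom F hc rfl)) (a : MulAut P) =
          (MulAut.congr (isoOfHom F hc rfl)) (b : MulAut P) := congrArg Subtype.val hab
      exact Subtype.ext ((MulAut.congr (isoOfHom F hc rfl)).injective h1)
    refine ⟨(conjHom P s).range, f α, isoOfHom F hc rfl x, range_le_of_hom_mem F hc,
      pResidual_map_of_injective p f hf hα, ?_⟩
    show s * ((x : Ω)⁻¹ * (((α : MulAut P) x : P) : Ω)) * s⁻¹ =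
      ((isoOfHom F hc rfl x : (conjHom P s).range) : Ω)⁻¹ *
        ((isoOfHom F hc rfl ((α : MulAut P) ((isoOfHom F hc rfl).symm (isoOfHom F hc rfl x))) :
          (conjHom P s).range) : Ω)
    rw [MulEquiv.symm_apply_apply, isoOfHom_coe, isoOfHom_coe]
    show _ = (s * (x : Ω) * s⁻¹)⁻¹ * (s * (((α : MulAut P) x : P) : Ω) * s⁻¹)
    group
  intro y hy
  exact hmap ⟨y, hy, rfl⟩

theorem conj_mem_hyperfocal_iff (F : FusionSystem S) (p : ℕ) {s : Ω} (hs : s ∈ S) (y : Ω) :
    y ∈ F.hyperfocalSubgroup p ↔ s * y * s⁻¹ ∈ F.hyperfocalSubgroup p := by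
  constructor
  · exact conj_mem_hyperfocal F p hs y
  · intro h
    have := conj_mem_hyperfocal F p (S.inv_mem hs) _ h
    have e : s⁻¹ * (s * y * s⁻¹) * s⁻¹⁻¹ = y := by group
    rwa [e] at this

/-- the subsystem of maps preserving membership in the hyperfocal subgroup -/
def hypSys (F : FusionSystem S) (p : ℕ) : FusionSystem S where
  Hom P := {φ | φ ∈ F.Hom P ∧ ∀ x : P, (x : Ω) ∈ F.hyperfocalSubgroup p ↔ φ x ∈ F.hyperfocalSubgroup p}
  le_of_mem h := F.le_of_mem h.1
  injective_of_mem h := F.injective_of_mem h.1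
  conj_mem := by
    intro P g hP hg
    exact ⟨F.conj_mem hP hg, fun x => conj_mem_hyperfocal_iff F p hg x⟩
  comp_mem := by
    rintro P Q φ ψ ⟨hφ, hφN⟩ ⟨hψ, hψN⟩ h
    exact ⟨F.comp_mem hφ hψ h, fun x => (hφN x).trans (hψN ⟨φ x, h x⟩)⟩
  inv_mem := by
    rintro P φ ⟨hφ, hφN⟩
    obtain ⟨χ, hχ, hχinv⟩ := F.inv_mem hφ
    refine ⟨χ, ⟨hχ, ?_⟩, hχinv⟩
    rintro ⟨_, x, rfl⟩
    rw [hχinv x]
    exact (hφN x).symm

/-- `F`-automorphisms of fully normalized subgroups map hyperfocal elements to hyperfocal elements -/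
theorem aut_mem_hyperfocal [Finite S] (p : ℕ) [Fact p.Prime] (hS : IsPGroup p S)
    (F : FusionSystem S) (hF : F.IsSaturated p) {U : Subgroup Ω} (hU : F.IsFullyNormalized U)
    {α : MulAut U} (hα : α ∈ F.autGroup U) (x : U) (hx : (x : Ω) ∈ F.hyperfocalSubgroup p) :
    ((α x : U) : Ω) ∈ F.hyperfocalSubgroup p := by
  obtain ⟨hUS, R, hR⟩ := (((Cfsg.Agent.S5077.result p hS F).1 hF).1 U hU).2
  have : Finite U := finite_of_le hUS
  obtain ⟨b, hb, s, hs, hbs⟩ := exists_mul_pResidual_sylow p R ⟨α, hα⟩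
  rw [← SetLike.mem_coe, hR, SetLike.mem_coe, Subgroup.mem_subgroupOf, autInducedBy_eq_map] at hs
  obtain ⟨n, hn, hns⟩ := hs
  have hnS : (n : Ω) ∈ S := hn
  have hα' : α = (b : MulAut U) * (s : MulAut U) := congrArg Subtype.val hbs
  have hsx : (((s : MulAut U) x : U) : Ω) = (n : Ω) * x * (n : Ω)⁻¹ := by
    rw [← hns]
    rfl
  have e : ((α x : U) : Ω) = (((s : MulAut U) x : U) : Ω) *
      ((((s : MulAut U) x : U) : Ω)⁻¹ * (((b : MulAut U) ((s : MulAut U) x) : U) : Ω)) := by
    rw [hα', MulAut.mul_apply]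
    group
  rw [e]
  apply Subgroup.mul_mem
  · rw [hsx]
    exact conj_mem_hyperfocal F p hnS _ hx
  · apply Subgroup.subset_closure
    exact ⟨U, b, (s : MulAut U) x, hUS, hb, rfl⟩

theorem hyperfocal_stronglyClosed [Finite S] (p : ℕ) [Fact p.Prime] (hS : IsPGroup p S)
    (F : FusionSystem S) (hF : F.IsSaturated p) : F.StronglyClosed (F.hyperfocalSubgroup p) := by
  have hle : F ≤ hypSys F p := by
    apply alperin p hS F hF
    intro U hU α hα
    have hUfn : F.IsFullyNormalized U := by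
      rcases hU with rfl | hU
      · exact fullyNormalized_top F
      · exact hU.2.1
    have hUS : U ≤ S := hUfn.1
    rw [mem_autGroup_iff _ hUS]
    refine ⟨(mem_autGroup_iff F hUS).1 hα, fun x => ⟨fun hx => ?_, fun hx => ?_⟩⟩
    · exact aut_mem_hyperfocal p hS F hF hUfn hα x hx
    · have := aut_mem_hyperfocal p hS F hF hUfn (inv_mem hα) (α x) hx
      rwa [MulAut.inv_apply_self] at this
  refine ⟨hyperfocal_le F p, fun R hR φ hφ x => ?_⟩
  exact ((hle R hφ).2 x).1 (hR x.2)

end Cfsg.Agent.Lib.Helper29
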