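import Cfsg.Agent.Lib.Helper29.YoshidaWeak
import Cfsg.Agent.Lib.Helper29.FusionHyp2

/-!
Yoshida's theorem for saturated fusion systems: if `S` has no wreath quotient then the focal
subgroup is generated by the automorphisms of `S` in the system.
-/
set_option autoImplicit false
open Cfsg

namespace Cfsg.Agent.Lib.Helper29
open scoped commutatorElement

section Main
variable {Ω : Type*} [Group Ω] {S : Subgroup Ω}

/-- `[S, O^p(Aut_F(S))]` -/
def topHyp (F : FusionSystem S) (p : ℕ) : Subgroup Ω :=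
  Subgroup.closure {y : Ω | ∃ (α : F.autGroup S) (x : S), α ∈ pResidual p (F.autGroup S) ∧
    y = (x : Ω)⁻¹ * ((α : MulAut S) x : S)}

/-- `[S, Aut_F(S)]` -/
def topFocal (F : FusionSystem S) : Subgroup Ω :=
  Subgroup.closure {y : Ω | ∃ (φ : S →* Ω) (x : S), φ ∈ F.Hom S ∧ y = (x : Ω)⁻¹ * φ x}

theorem topHyp_le_hyperfocal (F : FusionSystem S) (p : ℕ) : topHyp F p ≤ F.hyperfocalSubgroup p := by
  unfold topHyp FusionSystem.hyperfocalSubgroup
  apply Subgroup.closure_mono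
  rintro _ ⟨α, x, hα, rfl⟩
  exact ⟨S, α, x, le_rfl, hα, rfl⟩

theorem topHyp_le_topFocal (F : FusionSystem S) (p : ℕ) : topHyp F p ≤ topFocal F := by
  unfold topHyp topFocal
  apply Subgroup.closure_mono
  rintro _ ⟨α, x, _, rfl⟩
  exact ⟨S.subtype.comp (α : MulAut S).toMonoidHom, x, (mem_autGroup_iff F le_rfl).1 α.2, rfl⟩

theorem commutator_le_topFocal (F : FusionSystem S) : ⁅S, S⁆ ≤ topFocal F := by
  rw [Subgroup.commutator_le]
  intro a ha b hb
  unfold topFocal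
  apply Subgroup.subset_closure
  refine ⟨conjHom S b, ⟨a⁻¹, S.inv_mem ha⟩, F.conj_mem le_rfl hb, ?_⟩
  show ⁅a, b⁆ = (a⁻¹)⁻¹ * (b * a⁻¹ * b⁻¹)
  rw [commutatorElement_def]
  group

theorem conj_mem_autGroup_top (F : FusionSystem S) {s : Ω} (hs : s ∈ S) :
    MulAut.conj (⟨s, hs⟩ : S) ∈ F.autGroup S := by
  rw [mem_autGroup_iff F le_rfl]
  have : S.subtype.comp (MulAut.conj (⟨s, hs⟩ : S)).toMonoidHom = conjHom S s := by
    ext x
    rfl
  rw [this]
  exact F.conj_mem le_rfl hs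

theorem conj_mem_topHyp (F : FusionSystem S) (p : ℕ) {s : Ω} (hs : s ∈ S) :
    ∀ u ∈ topHyp F p, s * u * s⁻¹ ∈ topHyp F p := by
  have hmap : (topHyp F p).map (MulAut.conj s).toMonoidHom ≤ topHyp F p := by
    unfold topHyp
    rw [MonoidHom.map_closure, Subgroup.closure_le]
    rintro _ ⟨_, ⟨α, x, hα, rfl⟩, rfl⟩
    apply Subgroup.subset_closure
    have hcs := conj_mem_autGroup_top F hs
    have hN : (pResidual p (F.autGroup S)).Normal := pResidual_normal' p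
    refine ⟨⟨MulAut.conj (⟨s, hs⟩ : S), hcs⟩ * α * ⟨MulAut.conj (⟨s, hs⟩ : S), hcs⟩⁻¹,
      MulAut.conj (⟨s, hs⟩ : S) x, hN.conj_mem α hα _, ?_⟩
    have e1 : (((⟨MulAut.conj (⟨s, hs⟩ : S), hcs⟩ * α * ⟨MulAut.conj (⟨s, hs⟩ : S), hcs⟩⁻¹ :
        F.autGroup S) : MulAut S)) (MulAut.conj (⟨s, hs⟩ : S) x) =
        MulAut.conj (⟨s, hs⟩ : S) ((α : MulAut S) x) := by
      show (MulAut.conj (⟨s, hs⟩ : S) * (α : MulAut S) * (MulAut.conj (⟨s, hs⟩ : S))⁻¹)
        (MulAut.conj (⟨s, hs⟩ : S) x) = _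
      rw [MulAut.mul_apply, MulAut.mul_apply, MulAut.inv_apply_self]
    rw [e1]
    show s * ((x : Ω)⁻¹ * (((α : MulAut S) x : S) : Ω)) * s⁻¹ =
      (s * (x : Ω) * s⁻¹)⁻¹ * (s * (((α : MulAut S) x : S) : Ω) * s⁻¹)
    group
  intro u hu
  exact hmap ⟨u, hu, rfl⟩

/-- decomposition `α = β ∘ c_s` with `β ∈ O^p(Aut_F(S))` -/
theorem inv_mul_aut_mem_topHyp [Finite S] (p : ℕ) [Fact p.Prime] (hS : IsPGroup p S)
    (F : FusionSystem S) (hF : F.IsSaturated p) {α : MulAut S} (hα : α ∈ F.autGroup S) (x : S) :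
    (x : Ω)⁻¹ * ((α x : S) : Ω) ∈ topHyp F p ⊔ ⁅S, S⁆ := by
  obtain ⟨hUS, R, hR⟩ := (((Cfsg.Agent.S5077.result p hS F).1 hF).1 S (fullyNormalized_top F)).2
  obtain ⟨b, hb, s, hs, hbs⟩ := exists_mul_pResidual_sylow p R ⟨α, hα⟩
  rw [← SetLike.mem_coe, hR, SetLike.mem_coe, Subgroup.mem_subgroupOf, autInducedBy_eq_map] at hs
  obtain ⟨n, hn, hns⟩ := hs
  have hnS : (n : Ω) ∈ S := hn
  have hα' : α = (b : MulAut S) * (s : MulAut S) := congrArg Subtype.val hbs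
  have hsx : (((s : MulAut S) x : S) : Ω) = (n : Ω) * x * (n : Ω)⁻¹ := by
    rw [← hns]
    rfl
  have e : (x : Ω)⁻¹ * ((α x : S) : Ω) =
      ((x : Ω)⁻¹ * (((s : MulAut S) x : S) : Ω)) *
        ((((s : MulAut S) x : S) : Ω)⁻¹ * (((b : MulAut S) ((s : MulAut S) x) : S) : Ω)) := by
    rw [hα', MulAut.mul_apply]
    group
  rw [e]
  apply Subgroup.mul_mem
  · apply (le_sup_right : ⁅S, S⁆ ≤ topHyp F p ⊔ ⁅S, S⁆)
    have h3 : ⁅(x : Ω)⁻¹, (n : Ω)⁆ ∈ ⁅S, S⁆ :=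
      Subgroup.commutator_mem_commutator (S.inv_mem x.2) hnS
    have e2 : ⁅(x : Ω)⁻¹, (n : Ω)⁆ = (x : Ω)⁻¹ * (((s : MulAut S) x : S) : Ω) := by
      rw [commutatorElement_def, hsx]
      group
    rw [← e2]
    exact h3
  · apply (le_sup_left : topHyp F p ≤ topHyp F p ⊔ ⁅S, S⁆)
    apply Subgroup.subset_closure
    exact ⟨b, (s : MulAut S) x, hb, rfl⟩

theorem exists_aut_of_hom_top [Finite S] (F : FusionSystem S) {φ : S →* Ω} (hφ : φ ∈ F.Hom S) :
    ∃ α ∈ F.autGroup S, ∀ x : S, ((α x : S) : Ω) = φ x := by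
  have hr : φ.range = S := by
    apply Subgroup.eq_of_le_of_card_ge (range_le_of_hom_mem F hφ)
    exact le_of_eq (Nat.card_congr (MonoidHom.ofInjective (F.injective_of_mem hφ)).toEquiv)
  refine ⟨isoOfHom F hφ hr, ?_, fun x => rfl⟩
  rw [mem_autGroup_iff F le_rfl]
  have : S.subtype.comp (isoOfHom F hφ hr : MulAut S).toMonoidHom = φ := by
    ext x
    rfl
  rw [this]
  exact hφ

end Main

section Final
variable {Ω : Type*} [Group Ω] {S : Subgroup Ω}

/-- a homomorphism stable under the system kills the focal subgroup -/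
theorem focal_le_ker_of_stable (F : FusionSystem S) {A : Type*} [CommGroup A] (ε : S →* A)
    (hst : ∀ u v : S, F.IsConjElt (u : Ω) (v : Ω) → ε u = ε v) :
    F.focalSubgroup ≤ ε.ker.map S.subtype := by
  unfold FusionSystem.focalSubgroup
  rw [Subgroup.closure_le]
  rintro _ ⟨P, φ, z, hφ, rfl⟩
  have hzS : (z : Ω) ∈ S := (F.le_of_mem hφ).1 z.2
  have hφS : φ z ∈ S := (F.le_of_mem hφ).2 z
  have h3 := hst ⟨z, hzS⟩ ⟨φ z, hφS⟩ (isConjElt_of_mem F hφ z)
  refine ⟨⟨z, hzS⟩⁻¹ * ⟨φ z, hφS⟩, ?_, rfl⟩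
  rw [SetLike.mem_coe, MonoidHom.mem_ker, map_mul, map_inv, h3, inv_mul_cancel]

/-- **Yoshida's theorem for saturated fusion systems.** -/
theorem yoshida_focal_le [Finite S] {p : ℕ} [Fact p.Prime] (hS : IsPGroup p S) (hnw : NoWreath p S)
    (F : FusionSystem S) (hF : F.IsSaturated p) : F.focalSubgroup ≤ topFocal F := by
  have hfoc := focal_eq_hyperfocal_sup p hS F hF
  rw [hfoc]
  apply sup_le _ (commutator_le_topFocal F)
  refine le_trans ?_ (topHyp_le_topFocal F p)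
  apply hyperfocal_le_of_frattini p hS F hF (topHyp F p) (topHyp_le_hyperfocal F p)
    (fun s hs u hu => conj_mem_topHyp F p hs u hu)
  intro x hx
  by_contra hxn
  have hxS : x ∈ S := hyperfocal_le F p hx
  have htS : topHyp F p ≤ S := le_trans (topHyp_le_hyperfocal F p) (hyperfocal_le F p)
  haveI hUn : ((topHyp F p).subgroupOf S).Normal := by
    constructor
    intro n hn g
    rw [Subgroup.mem_subgroupOf] at hn ⊢
    exact conj_mem_topHyp F p g.2 _ hn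
  obtain ⟨R₀, hR₀⟩ : ∃ R₀ : Subgroup S, R₀ = frattini S ⊔ (topHyp F p).subgroupOf S := ⟨_, rfl⟩
  haveI hRn : R₀.Normal := by
    rw [hR₀]
    infer_instance
  have hmapR : R₀.map S.subtype = (frattini S).map S.subtype ⊔ topHyp F p := by
    rw [hR₀, Subgroup.map_sup, Subgroup.map_subgroupOf_eq_of_le htS]
  have hxR : (⟨x, hxS⟩ : S) ∉ R₀ := by
    intro h
    apply hxn
    rw [← hmapR]
    exact ⟨_, h, rfl⟩
  obtain ⟨ε, hεR, hεx⟩ := exists_hom_of_not_mem hS R₀ (hR₀ ▸ le_sup_left) hxR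
  have hε : ∀ (ψ : S →* Ω) (hψ : ψ ∈ F.Hom S) (y : S), ε ⟨ψ y, (F.le_of_mem hψ).2 y⟩ = ε y := by
    intro ψ hψ y
    obtain ⟨α, hα, hαψ⟩ := exists_aut_of_hom_top F hψ
    have h1 := inv_mul_aut_mem_topHyp p hS F hF hα y
    have hle : topHyp F p ⊔ ⁅S, S⁆ ≤ R₀.map S.subtype := by
      rw [hmapR]
      apply sup_le le_sup_right
      refine le_trans ?_ le_sup_left
      rw [← Subgroup.map_subtype_commutator]
      exact Subgroup.map_mono (Cfsg.Agent.Lib.Helper2.commutator_le_frattini_of_isPGroup hS)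
    obtain ⟨r, hr, hry⟩ := hle h1
    have hr' : r = y⁻¹ * α y := Subtype.ext hry
    have h3 := hεR r hr
    rw [hr', map_mul, map_inv, inv_mul_eq_one] at h3
    have e : (⟨ψ y, (F.le_of_mem hψ).2 y⟩ : S) = α y := Subtype.ext (hαψ y).symm
    rw [e, ← h3]
  have hst := weak_stable hS hnw F hF ε hε
  have hxf : x ∈ F.focalSubgroup := by
    rw [hfoc]
    exact (le_sup_left : F.hyperfocalSubgroup p ≤ _) hx
  obtain ⟨y, hy, hyx⟩ := focal_le_ker_of_stable F ε hst hxf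
  have e : y = ⟨x, hxS⟩ := Subtype.ext hyx
  rw [e] at hy
  exact hεx hy

end Final

end Cfsg.Agent.Lib.Helper29
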