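import Cfsg.Agent.Lib.Helper29.FusionNormal

/-!
A subgroup normal in a fusion system lies in every centric radical subgroup.
-/
set_option autoImplicit false

namespace Cfsg.Agent.Lib.Helper29
open Cfsg

variable {Ω : Type*} [Group Ω] {S : Subgroup Ω}

theorem autInducedBy_mono {K K' : Subgroup Ω} (h : K ≤ K') (P : Subgroup Ω) :
    autInducedBy K P ≤ autInducedBy K' P := by
  unfold autInducedBy
  apply Subgroup.closure_mono
  rintro α ⟨g, hg, hα⟩
  exact ⟨g, h hg, hα⟩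

/-- for `Q` normal in `F`, `Aut_{PQ}(P)` is normalized by `Aut_F(P)` -/
theorem conj_mem_autInducedBy_sup (F : FusionSystem S) {Q P : Subgroup Ω} (hQ : F.IsNormal Q) (hPS : P ≤ S)
    {α : MulAut P} (hα : α ∈ F.autGroup P) {β : MulAut P} (hβ : β ∈ autInducedBy (P ⊔ Q) P) :
    α * β * α⁻¹ ∈ autInducedBy (P ⊔ Q) P := by
  have hmap : (autInducedBy (P ⊔ Q) P).map (MulAut.conj α).toMonoidHom ≤ autInducedBy (P ⊔ Q) P := by
    unfold autInducedBy
    rw [MonoidHom.map_closure, Subgroup.closure_le]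
    rintro _ ⟨β, ⟨g, hg, hβ⟩, rfl⟩
    apply Subgroup.subset_closure
    obtain ⟨ψ, hψ, hψP, hψQ⟩ := hQ.2 P _ ((mem_autGroup_iff F hPS).1 hα)
    have hψT : ∀ z, ψ z ∈ P ⊔ Q := sup_hom_mem ψ
      (fun x => by rw [hψP]; exact (le_sup_left : P ≤ P ⊔ Q) (α x).2)
      (fun x => (le_sup_right : Q ≤ P ⊔ Q) (by
        have h1 : ψ (Subgroup.inclusion le_sup_right x) ∈ (Q.subgroupOf (P ⊔ Q)).map ψ := ⟨_, x.2, rfl⟩
        rw [hψQ] at h1
        exact h1))
    refine ⟨ψ ⟨g, hg⟩, hψT _, fun x => ?_⟩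
    show ((α (β (α⁻¹ x)) : P) : Ω) = ψ ⟨g, hg⟩ * x * (ψ ⟨g, hg⟩)⁻¹
    have hx : (x : Ω) = ψ (Subgroup.inclusion le_sup_left (α⁻¹ x)) := by
      rw [hψP]
      show (x : Ω) = ((α (α⁻¹ x) : P) : Ω)
      rw [MulAut.apply_inv_self]
    have h2 : ((α (β (α⁻¹ x)) : P) : Ω) = ψ (Subgroup.inclusion le_sup_left (β (α⁻¹ x))) := (hψP _).symm
    have h3 : Subgroup.inclusion (le_sup_left : P ≤ P ⊔ Q) (β (α⁻¹ x)) =
        ⟨g, hg⟩ * Subgroup.inclusion le_sup_left (α⁻¹ x) * ⟨g, hg⟩⁻¹ := Subtype.ext (hβ _)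
    rw [h2, h3, map_mul, map_mul, map_inv, ← hx]
  exact hmap ⟨β, hβ, rfl⟩

/-- a subgroup normal in `F` is contained in every `F`-centric `F`-radical subgroup -/
theorem le_of_isNormal_of_centric_radical [Finite S] {p : ℕ} [Fact p.Prime] (hS : IsPGroup p S)
    (F : FusionSystem S) {Q P : Subgroup Ω} (hQ : F.IsNormal Q) (hc : F.IsCentric P)
    (hr : F.IsRadical p P) : Q ≤ P := by
  have hPS : P ≤ S := hc.1
  have hQS : Q ≤ S := hQ.1
  have hTS : P ⊔ Q ≤ S := sup_le hPS hQS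
  have hA_le : autInducedBy (P ⊔ Q) P ≤ autInducedBy S P := autInducedBy_mono hTS P
  have hA_F : autInducedBy (P ⊔ Q) P ≤ F.autGroup P := hA_le.trans (autInducedBy_le_autGroup F hPS)
  have hA_p : IsPGroup p (autInducedBy (P ⊔ Q) P) := (isPGroup_autInducedBy hS P).to_le hA_le
  have hnorm : ((autInducedBy (P ⊔ Q) P).subgroupOf (F.autGroup P)).Normal := by
    refine ⟨fun n hn g => ?_⟩
    rw [Subgroup.mem_subgroupOf] at hn ⊢
    exact conj_mem_autInducedBy_sup F hQ hPS g.2 hn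
  have hp' : IsPGroup p ((autInducedBy (P ⊔ Q) P).subgroupOf (F.autGroup P)) := hA_p.comap_subtype
  have hcore := le_pCore' hnorm hp'
  have hcen : FusionSystem.centralizerIn S P ≤ P := hc.2 P (isConj_refl F hPS)
  have hN : FusionSystem.normalizerIn (P ⊔ Q) P ≤ P := by
    intro g hg
    have hgT : g ∈ P ⊔ Q := hg.1
    have hgN : g ∈ Subgroup.normalizer (P : Set Ω) := hg.2
    have h1 : P.normalizerMonoidHom ⟨g, hgN⟩ ∈ autInducedBy (P ⊔ Q) P :=
      Subgroup.subset_closure ⟨g, hgT, fun x => rfl⟩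
    have h2 : P.normalizerMonoidHom ⟨g, hgN⟩ ∈ Inn P := by
      rw [← hr.2]
      exact ⟨⟨_, hA_F h1⟩, hcore h1, rfl⟩
    exact mem_of_conj_mem_inn hPS hcen (hTS hgT) hgN h2
  have : Finite ↥(P ⊔ Q) := finite_of_le hTS
  have hTp : IsPGroup p ↥(P ⊔ Q) := hS.to_le hTS
  by_contra hQP
  have hne : P ≠ P ⊔ Q := by
    intro h
    apply hQP
    rw [h]
    exact le_sup_right
  exact normalizerIn_ne_self hTp le_sup_left hne (le_antisymm hN (le_normalizerIn le_sup_left))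

end Cfsg.Agent.Lib.Helper29
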