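import Cfsg.Agent.Lib.Helper29.FusionChain

/-!
Normality criteria for subgroups of a saturated fusion system via chains of strongly closed subgroups.
-/
set_option autoImplicit false

namespace Cfsg.Agent.Lib.Helper29
open Cfsg
open scoped commutatorElement

variable {Ω : Type*} [Group Ω] {S : Subgroup Ω}

theorem le_normalizer_of_conj_mem {H K : Subgroup Ω} (h : ∀ g ∈ H, ∀ x ∈ K, g * x * g⁻¹ ∈ K) :
    H ≤ Subgroup.normalizer (K : Set Ω) := by
  intro g hg
  rw [Subgroup.mem_normalizer_iff]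
  intro x
  constructor
  · exact h g hg x
  · intro hx
    have := h g⁻¹ (H.inv_mem hg) _ hx
    have e : g⁻¹ * (g * x * g⁻¹) * g⁻¹⁻¹ = x := by group
    rwa [e] at this

/-- a strongly closed subgroup is normalized by `S` -/
theorem conj_mem_of_stronglyClosed (F : FusionSystem S) {Q : Subgroup Ω} (hQ : F.StronglyClosed Q) :
    ∀ g ∈ S, ∀ x ∈ Q, g * x * g⁻¹ ∈ Q := by
  intro g hg x hx
  exact hQ.2 Q le_rfl _ (F.conj_mem hQ.1 hg) ⟨x, hx⟩

/-- `F`-automorphisms preserve strongly closed subgroups elementwise -/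
theorem aut_mem_of_stronglyClosed (F : FusionSystem S) {T P : Subgroup Ω} (hT : F.StronglyClosed T)
    (hPS : P ≤ S) {α : MulAut P} (hα : α ∈ F.autGroup P) (x : P) (hx : (x : Ω) ∈ T) :
    ((α x : P) : Ω) ∈ T := by
  rw [mem_autGroup_iff F hPS] at hα
  have h1 := hT.2 (T ⊓ P) inf_le_left _ (restrict_mem F (inf_le_right : T ⊓ P ≤ P) hα) ⟨x.1, hx, x.2⟩
  exact h1

/-- strongly closed and contained in all centric radical subgroups implies normal -/
theorem isNormal_of_stronglyClosed [Finite S] (p : ℕ) [Fact p.Prime] (hS : IsPGroup p S)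
    (F : FusionSystem S) (hF : F.IsSaturated p) (Q : Subgroup Ω) (hsc : F.StronglyClosed Q)
    (h : ∀ P : Subgroup Ω, F.IsCentric P → F.IsRadical p P → Q ≤ P) : F.IsNormal Q := by
  apply isNormal_of_aut p hS F hF Q
  intro P hP
  have hPS : P ≤ S := by
    rcases hP with rfl | hP
    · exact le_rfl
    · exact hP.1.1
  have hQP : Q ≤ P := by
    rcases hP with rfl | hP
    · exact hsc.1
    · exact h P hP.1 (isRadical_of_isEssential hS F hP)
  exact ⟨hQP, fun α hα => aut_map_eq_of_stronglyClosed F hsc hQP hPS hα⟩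

theorem stronglyClosed_bot (F : FusionSystem S) : F.StronglyClosed (⊥ : Subgroup Ω) := by
  refine ⟨bot_le, fun R hR φ hφ x => ?_⟩
  have : x = 1 := Subtype.ext ((Subgroup.mem_bot).1 (hR x.2))
  rw [this, map_one]
  exact Subgroup.one_mem _

/-- AKO I.4.6 (⇐): a chain of strongly closed subgroups with `[Q, Qᵢ₊₁] ≤ Qᵢ` makes `Q` normal -/
theorem isNormal_of_chain [Finite S] (p : ℕ) [Fact p.Prime] (hS : IsPGroup p S)
    (F : FusionSystem S) (hF : F.IsSaturated p) (Q : Subgroup Ω) (n : ℕ)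
    (Qs : Fin (n + 1) → Subgroup Ω) (h0 : Qs 0 = ⊥) (hn : Qs (Fin.last n) = Q) (hmono : Monotone Qs)
    (h : ∀ i : Fin n, F.StronglyClosed (Qs i.succ) ∧ ⁅Q, Qs i.succ⁆ ≤ Qs (Fin.castSucc i)) :
    F.IsNormal Q := by
  have hQsc : F.StronglyClosed Q := by
    rcases Nat.eq_zero_or_pos n with rfl | hpos
    · have : Q = ⊥ := by rw [← hn, ← h0]; rfl
      rw [this]
      exact stronglyClosed_bot F
    · have := (h ⟨n - 1, by omega⟩).1
      have e : Fin.succ (⟨n - 1, by omega⟩ : Fin n) = Fin.last n := by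
        apply Fin.ext
        simp only [Fin.val_succ, Fin.val_last]
        omega
      rw [e, hn] at this
      exact this
  have hQn := conj_mem_of_stronglyClosed F hQsc
  apply isNormal_of_stronglyClosed p hS F hF Q hQsc
  intro P hc hr
  have hPS : P ≤ S := hc.1
  -- the chain indexed by ℕ
  let M : ℕ → Subgroup Ω := fun i => if i ≤ n then Qs ⟨min i n, by omega⟩ else ⊤
  have hM_le : ∀ i (hi : i ≤ n), M i = Qs ⟨i, by omega⟩ := by
    intro i hi
    show (if i ≤ n then Qs ⟨min i n, by omega⟩ else ⊤) = _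
    rw [if_pos hi]
    congr 1
    exact Fin.ext (min_eq_left hi)
  have hM_gt : ∀ i, n < i → M i = ⊤ := by
    intro i hi
    show (if i ≤ n then Qs ⟨min i n, by omega⟩ else ⊤) = _
    rw [if_neg (by omega)]
  have hM0 : M 0 = ⊥ := by
    rw [hM_le 0 (Nat.zero_le n), ← h0]
    rfl
  have hMn : M n = Q := by
    rw [hM_le n le_rfl, ← hn]
    rfl
  have hMsc : ∀ i, 0 < i → i ≤ n → F.StronglyClosed (M i) := by
    intro i hi hin
    rw [hM_le i hin]
    have := (h ⟨i - 1, by omega⟩).1
    have e : Fin.succ (⟨i - 1, by omega⟩ : Fin n) = ⟨i, by omega⟩ := by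
      apply Fin.ext
      simp only [Fin.val_succ]
      omega
    rw [e] at this
    exact this
  apply le_of_stab_chain hS F hc hr Q hQsc.1
    (le_normalizer_of_conj_mem (fun g hg x hx => hQn g (hPS hg) x hx)) M (n + 1)
  · intro i
    by_cases hi : i + 1 ≤ n
    · rw [hM_le i (by omega), hM_le (i + 1) hi]
      exact hmono (by simp [Fin.le_def])
    · rw [hM_gt (i + 1) (by omega)]
      exact le_top
  · rw [hM_gt (n + 1) (by omega)]
    exact le_top
  · intro i α hα x hx
    rcases Nat.eq_zero_or_pos i with rfl | hi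
    · rw [hM0] at hx ⊢
      have : x = 1 := Subtype.ext ((Subgroup.mem_bot).1 hx)
      rw [this, map_one]
      exact Subgroup.one_mem _
    · by_cases hin : i ≤ n
      · exact aut_mem_of_stronglyClosed F (hMsc i hi hin) hPS hα x hx
      · rw [hM_gt i (by omega)]
        exact Subgroup.mem_top _
  · intro α _
    refine ⟨0, fun x hx => ?_⟩
    rw [hM0] at hx
    have : x = 1 := Subtype.ext ((Subgroup.mem_bot).1 hx)
    rw [this, map_one]
  · intro g hgQ hgN i hi x hxP hx
    by_cases hin : i + 1 ≤ n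
    · rw [hM_le (i + 1) hin] at hx
      rw [hM_le i (by omega)]
      have h2 := (h ⟨i, by omega⟩).2
      have e : Fin.succ (⟨i, by omega⟩ : Fin n) = ⟨i + 1, by omega⟩ := Fin.ext rfl
      have e' : Fin.castSucc (⟨i, by omega⟩ : Fin n) = ⟨i, by omega⟩ := Fin.ext rfl
      rw [e, e'] at h2
      apply h2
      have h3 : ⁅x⁻¹, g⁆ ∈ ⁅Qs ⟨i + 1, by omega⟩, Q⁆ :=
        Subgroup.commutator_mem_commutator (Subgroup.inv_mem _ hx) hgQ
      rw [Subgroup.commutator_comm] at h3
      have e2 : ⁅x⁻¹, g⁆ = x⁻¹ * (g * x * g⁻¹) := by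
        rw [commutatorElement_def]
        group
      rw [← e2]
      exact h3
    · have hin' : i = n := by omega
      subst hin'
      rw [hMn]
      have e2 : x⁻¹ * (g * x * g⁻¹) = (x⁻¹ * g * x⁻¹⁻¹) * g⁻¹ := by group
      rw [e2]
      exact Q.mul_mem (hQn x⁻¹ (S.inv_mem (hPS hxP)) g hgQ) (Q.inv_mem hgQ)

end Cfsg.Agent.Lib.Helper29
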