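import Mathlib

/-!
Automorphisms of a finite `p`-group stabilizing a chain of subgroups have `p`-power order.
-/
set_option autoImplicit false

namespace Cfsg.Agent.Lib.Helper29

variable {G : Type*} [Group G]

/-- powers of an automorphism stabilizing a step `M₀ ≤ M₁` of a chain -/
theorem stab_pow_mem {M₀ M₁ : Subgroup G} (hle : M₀ ≤ M₁) (γ : MulAut G)
    (hstab : ∀ x ∈ M₁, x⁻¹ * γ x ∈ M₀) (j : ℕ) :
    ∀ x ∈ M₁, x⁻¹ * (γ ^ j) x ∈ M₀ ∧ (γ ^ j) x ∈ M₁ := by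
  induction j with
  | zero =>
    intro x hx
    simp [hx]
  | succ j ih =>
    intro x hx
    obtain ⟨h1, h2⟩ := ih x hx
    have h3 := hstab _ h2
    rw [pow_succ', MulAut.mul_apply]
    have e : x⁻¹ * γ ((γ ^ j) x) = (x⁻¹ * (γ ^ j) x) * (((γ ^ j) x)⁻¹ * γ ((γ ^ j) x)) := by group
    have e2 : γ ((γ ^ j) x) = (γ ^ j) x * (((γ ^ j) x)⁻¹ * γ ((γ ^ j) x)) := by group
    refine ⟨e ▸ M₀.mul_mem h1 h3, ?_⟩
    rw [e2]
    exact M₁.mul_mem h2 (hle h3)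

/-- one step up a stabilized chain -/
theorem stab_step [Finite G] {p : ℕ} [Fact p.Prime] (hG : IsPGroup p G) {M₀ M₁ : Subgroup G}
    (hle : M₀ ≤ M₁) (γ : MulAut G) (hstab : ∀ x ∈ M₁, x⁻¹ * γ x ∈ M₀) (k : ℕ)
    (hk : ∀ x ∈ M₀, (γ ^ (p ^ k)) x = x) :
    ∃ k', ∀ x ∈ M₁, (γ ^ (p ^ k')) x = x := by
  obtain ⟨e, he⟩ := IsPGroup.iff_card.1 hG
  refine ⟨k + e, fun x hx => ?_⟩
  have hz : x⁻¹ * (γ ^ (p ^ k)) x ∈ M₀ := (stab_pow_mem hle γ hstab (p ^ k) x hx).1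
  have hβz := hk _ hz
  have hpow : ∀ m : ℕ, ((γ ^ (p ^ k)) ^ m) x = x * (x⁻¹ * (γ ^ (p ^ k)) x) ^ m := by
    intro m
    induction m with
    | zero => simp
    | succ m ih =>
      rw [pow_succ', MulAut.mul_apply, ih, map_mul, map_pow, hβz, pow_succ', ← mul_assoc,
        mul_inv_cancel_left]
  have h2 : γ ^ (p ^ (k + e)) = (γ ^ (p ^ k)) ^ (p ^ e) := by rw [pow_add, pow_mul]
  rw [h2, hpow, ← he, pow_card_eq_one', mul_one]

/-- an automorphism stabilizing an increasing chain, of `p`-power order on its bottom, has `p`-power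
order on every member of the chain -/
theorem stab_chain [Finite G] {p : ℕ} [Fact p.Prime] (hG : IsPGroup p G) (M : ℕ → Subgroup G)
    (hmono : ∀ i, M i ≤ M (i + 1)) (γ : MulAut G) (n : ℕ)
    (hstab : ∀ i < n, ∀ x ∈ M (i + 1), x⁻¹ * γ x ∈ M i)
    (hbase : ∃ k, ∀ x ∈ M 0, (γ ^ (p ^ k)) x = x) :
    ∃ k, ∀ x ∈ M n, (γ ^ (p ^ k)) x = x := by
  induction n with
  | zero => exact hbase
  | succ n ih =>
    obtain ⟨k, hk⟩ := ih (fun i hi => hstab i (Nat.lt_succ_of_lt hi))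
    exact stab_step hG (hmono n) γ (hstab n (Nat.lt_succ_self n)) k hk

/-- the subgroup of `A ≤ Aut(G)` of automorphisms stabilizing the chain `M 0 ≤ … ≤ M n` -/
def stabAut (A : Subgroup (MulAut G)) (M : ℕ → Subgroup G) (hmono : ∀ i, M i ≤ M (i + 1)) (n : ℕ) :
    Subgroup (MulAut G) where
  carrier := {γ | γ ∈ A ∧ ∀ i < n, ∀ x ∈ M (i + 1), x⁻¹ * γ x ∈ M i ∧ x⁻¹ * γ⁻¹ x ∈ M i}
  one_mem' := ⟨one_mem _, fun i _ x _ => by simp⟩
  mul_mem' := by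
    rintro γ δ ⟨hγ, hγs⟩ ⟨hδ, hδs⟩
    refine ⟨mul_mem hγ hδ, fun i hi x hx => ?_⟩
    obtain ⟨h1, _⟩ := hδs i hi x hx
    obtain ⟨_, h2⟩ := hγs i hi x hx
    have hδx : δ x ∈ M (i + 1) := by
      have e : δ x = x * (x⁻¹ * δ x) := by group
      rw [e]
      exact (M (i + 1)).mul_mem hx (hmono i h1)
    have hγx : γ⁻¹ x ∈ M (i + 1) := by
      have e : γ⁻¹ x = x * (x⁻¹ * γ⁻¹ x) := by group
      rw [e]
      exact (M (i + 1)).mul_mem hx (hmono i h2)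
    obtain ⟨h3, _⟩ := hγs i hi (δ x) hδx
    obtain ⟨_, h4⟩ := hδs i hi (γ⁻¹ x) hγx
    constructor
    · have e : x⁻¹ * (γ * δ) x = (x⁻¹ * δ x) * ((δ x)⁻¹ * γ (δ x)) := by
        rw [MulAut.mul_apply]
        group
      rw [e]
      exact (M i).mul_mem h1 h3
    · have e : x⁻¹ * (γ * δ)⁻¹ x = (x⁻¹ * γ⁻¹ x) * ((γ⁻¹ x)⁻¹ * δ⁻¹ (γ⁻¹ x)) := by
        rw [mul_inv_rev, MulAut.mul_apply]
        group
      rw [e]
      exact (M i).mul_mem h2 h4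
  inv_mem' := by
    rintro γ ⟨hγ, hγs⟩
    refine ⟨inv_mem hγ, fun i hi x hx => ?_⟩
    obtain ⟨h1, h2⟩ := hγs i hi x hx
    exact ⟨h2, by rwa [inv_inv]⟩

theorem stabAut_le (A : Subgroup (MulAut G)) (M : ℕ → Subgroup G) (hmono : ∀ i, M i ≤ M (i + 1))
    (n : ℕ) : stabAut A M hmono n ≤ A := fun _ h => h.1

/-- the stability group of a chain reaching the top is a `p`-group -/
theorem stabAut_isPGroup [Finite G] {p : ℕ} [Fact p.Prime] (hG : IsPGroup p G)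
    (A : Subgroup (MulAut G)) (M : ℕ → Subgroup G) (hmono : ∀ i, M i ≤ M (i + 1)) (n : ℕ)
    (htop : M n = ⊤) (hbase : ∀ γ ∈ A, ∃ k, ∀ x ∈ M 0, (γ ^ (p ^ k)) x = x) :
    IsPGroup p (stabAut A M hmono n) := by
  rintro ⟨γ, hγ⟩
  obtain ⟨k, hk⟩ := stab_chain hG M hmono γ n (fun i hi x hx => (hγ.2 i hi x hx).1) (hbase γ hγ.1)
  refine ⟨k, Subtype.ext ?_⟩
  show γ ^ (p ^ k) = 1
  ext x
  exact hk x (htop ▸ Subgroup.mem_top x)

/-- the stability group of an `A`-invariant chain is normal in `A` -/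
theorem stabAut_normal (A : Subgroup (MulAut G)) (M : ℕ → Subgroup G) (hmono : ∀ i, M i ≤ M (i + 1))
    (n : ℕ) (hinv : ∀ i, ∀ α ∈ A, ∀ x ∈ M i, α x ∈ M i) :
    ((stabAut A M hmono n).subgroupOf A).Normal := by
  refine ⟨fun γ hγ α => ?_⟩
  rw [Subgroup.mem_subgroupOf] at hγ ⊢
  refine ⟨(α * γ * α⁻¹).2, fun i hi x hx => ?_⟩
  have hy : (α : MulAut G)⁻¹ x ∈ M (i + 1) := hinv (i + 1) _ (inv_mem α.2) x hx
  obtain ⟨h1, h2⟩ := hγ.2 i hi _ hy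
  have h1' := hinv i _ α.2 _ h1
  have h2' := hinv i _ α.2 _ h2
  have hα : (α : MulAut G) ((α : MulAut G)⁻¹ x) = x := MulAut.apply_inv_self _ _ _
  constructor
  · have e : x⁻¹ * ((α * γ * α⁻¹ : A) : MulAut G) x =
        (α : MulAut G) (((α : MulAut G)⁻¹ x)⁻¹ * (γ : MulAut G) ((α : MulAut G)⁻¹ x)) := by
      rw [map_mul, map_inv, hα]
      rfl
    rw [e]
    exact h1'
  · have e : x⁻¹ * (((α * γ * α⁻¹ : A) : MulAut G))⁻¹ x =
        (α : MulAut G) (((α : MulAut G)⁻¹ x)⁻¹ * (γ : MulAut G)⁻¹ ((α : MulAut G)⁻¹ x)) := by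
      rw [map_mul, map_inv, hα]
      have : (((α * γ * α⁻¹ : A) : MulAut G))⁻¹ = (α : MulAut G) * (γ : MulAut G)⁻¹ * (α : MulAut G)⁻¹ := by
        push_cast
        group
      rw [this]
      rfl
    rw [e]
    exact h2'

end Cfsg.Agent.Lib.Helper29
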