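import Cfsg.Agent.Lib.Helper29.FusionNormal2
import Cfsg.Agent.Lib.Helper29.StabChain

/-!
A subgroup `R ≤ S` whose normalizer in `P` acts on a centric radical `P` stabilizing an `Aut_F(P)`-invariant
chain is contained in `P`.
-/
set_option autoImplicit false

namespace Cfsg.Agent.Lib.Helper29
open Cfsg

variable {Ω : Type*} [Group Ω] {S : Subgroup Ω}

theorem le_of_stab_chain [Finite S] {p : ℕ} [Fact p.Prime] (hS : IsPGroup p S) (F : FusionSystem S)
    {P : Subgroup Ω} (hc : F.IsCentric P) (hr : F.IsRadical p P) (R : Subgroup Ω) (hRS : R ≤ S)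
    (hPR : P ≤ Subgroup.normalizer (R : Set Ω))
    (M : ℕ → Subgroup Ω) (n : ℕ) (hmono : ∀ i, M i ≤ M (i + 1)) (htop : P ≤ M n)
    (hinv : ∀ i, ∀ α ∈ F.autGroup P, ∀ x : P, (x : Ω) ∈ M i → ((α x : P) : Ω) ∈ M i)
    (hbase : ∀ α ∈ F.autGroup P, ∃ k, ∀ x : P, (x : Ω) ∈ M 0 → (α ^ (p ^ k)) x = x)
    (hact : ∀ g ∈ R, g ∈ Subgroup.normalizer (P : Set Ω) → ∀ i < n, ∀ x ∈ P, x ∈ M (i + 1) →
      x⁻¹ * (g * x * g⁻¹) ∈ M i) : R ≤ P := by
  have hPS : P ≤ S := hc.1
  have : Finite P := finite_of_le hPS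
  have hPp : IsPGroup p P := hS.to_le hPS
  have hmono' : ∀ i, (M i).subgroupOf P ≤ (M (i + 1)).subgroupOf P := fun i x hx => hmono i hx
  have htop' : (M n).subgroupOf P = ⊤ := by
    ext x
    simp only [Subgroup.mem_subgroupOf, Subgroup.mem_top, iff_true]
    exact htop x.2
  have hCp : IsPGroup p (stabAut (F.autGroup P) (fun i => (M i).subgroupOf P) hmono' n) :=
    stabAut_isPGroup hPp _ _ hmono' n htop' (fun γ hγ => hbase γ hγ)
  have hCn : ((stabAut (F.autGroup P) (fun i => (M i).subgroupOf P) hmono' n).subgroupOf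
      (F.autGroup P)).Normal :=
    stabAut_normal _ _ hmono' n (fun i α hα x hx => hinv i α hα x hx)
  have hcore := le_pCore' hCn hCp.comap_subtype
  have hcen : FusionSystem.centralizerIn S P ≤ P := hc.2 P (isConj_refl F hPS)
  have hN : ∀ g ∈ R, g ∈ Subgroup.normalizer (P : Set Ω) → g ∈ P := by
    intro g hgR hgN
    have h0 : P.normalizerMonoidHom ⟨g, hgN⟩ ∈ F.autGroup P :=
      autInducedBy_le_autGroup F hPS (Subgroup.subset_closure ⟨g, hRS hgR, fun x => rfl⟩)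
    have h1 : P.normalizerMonoidHom ⟨g, hgN⟩ ∈
        stabAut (F.autGroup P) (fun i => (M i).subgroupOf P) hmono' n := by
      refine ⟨h0, fun i hi x hx => ⟨?_, ?_⟩⟩
      · exact hact g hgR hgN i hi x x.2 hx
      · have e : (P.normalizerMonoidHom ⟨g, hgN⟩)⁻¹ = P.normalizerMonoidHom ⟨g, hgN⟩⁻¹ :=
          (map_inv _ _).symm
        rw [e]
        exact hact g⁻¹ (R.inv_mem hgR) (inv_mem hgN) i hi x x.2 hx
    have h2 : P.normalizerMonoidHom ⟨g, hgN⟩ ∈ Inn P := by
      rw [← hr.2]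
      exact ⟨⟨_, h0⟩, hcore h1, rfl⟩
    exact mem_of_conj_mem_inn hPS hcen (hRS hgR) hgN h2
  have hTS : P ⊔ R ≤ S := sup_le hPS hRS
  have hNT : FusionSystem.normalizerIn (P ⊔ R) P ≤ P := by
    intro g hg
    have hgT : g ∈ ((P ⊔ R : Subgroup Ω) : Set Ω) := hg.1
    have hgN : g ∈ Subgroup.normalizer (P : Set Ω) := hg.2
    rw [Subgroup.coe_mul_of_left_le_normalizer_right P R hPR] at hgT
    obtain ⟨x, hx, r, hr', rfl⟩ := hgT
    have hrN : r ∈ Subgroup.normalizer (P : Set Ω) := by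
      have : r = x⁻¹ * (x * r) := by group
      rw [this]
      exact mul_mem (inv_mem (Subgroup.le_normalizer hx)) hgN
    exact P.mul_mem hx (hN r hr' hrN)
  have : Finite ↥(P ⊔ R) := finite_of_le hTS
  have hTp : IsPGroup p ↥(P ⊔ R) := hS.to_le hTS
  by_contra hRP
  have hne : P ≠ P ⊔ R := by
    intro h
    apply hRP
    rw [h]
    exact le_sup_right
  exact normalizerIn_ne_self hTp le_sup_left hne (le_antisymm hNT (le_normalizerIn le_sup_left))

end Cfsg.Agent.Lib.Helper29
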