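import Cfsg.Agent.Lib.Helper29.FusionRS
import Mathlib.GroupTheory.Perm.Cycle.Type

set_option autoImplicit false
set_option linter.unusedVariables false
open Cfsg

namespace Cfsg.Agent.Lib.Helper29

section cores
variable {X : Type*} [Group X]

theorem pCore_normal' (p : ℕ) : (pCore p X).Normal :=
  Subgroup.sSup_normal _ (fun _ hH => hH.1)

theorem le_pCore' {p : ℕ} {N : Subgroup X} (hN : N.Normal) (hp : IsPGroup p N) : N ≤ pCore p X :=
  le_sSup ⟨hN, hp⟩

theorem pCore_isPGroup' (p : ℕ) : IsPGroup p (pCore p X) :=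
  Sylow.sSup_of_normal _ (fun _ hH => hH.2) (fun _ hH => hH.1)

theorem pCore_le_sylow' (p : ℕ) (P : Sylow p X) : pCore p X ≤ P :=
  sSup_le (fun _ hN => by have := hN.1; exact hN.2.le_sylow_of_normal P)

/-- a nontrivial `p`-group has positive `p`-rank -/
theorem not_pRankLE_zero [Finite X] {p : ℕ} [Fact p.Prime] {V : Subgroup X} (hV : IsPGroup p V)
    (hne : V ≠ ⊥) : ¬ PRankLE p 0 V := by
  intro h
  have hnt : Nontrivial V := (Subgroup.nontrivial_iff_ne_bot V).2 hne
  obtain ⟨n, hn⟩ := IsPGroup.iff_card.1 hV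
  have hn0 : n ≠ 0 := by
    rintro rfl
    rw [pow_zero] at hn
    have := (Nat.card_eq_one_iff_unique.1 hn).1
    exact not_subsingleton V this
  have hdvd : p ∣ Nat.card V := by rw [hn]; exact dvd_pow_self p hn0
  obtain ⟨x, hx⟩ := exists_prime_orderOf_dvd_card' p hdvd
  have h1 := h (Subgroup.zpowers x) inferInstance (by
    intro a ha
    obtain ⟨k, rfl⟩ := Subgroup.mem_zpowers_iff.1 ha
    rw [← zpow_natCast, ← zpow_mul, mul_comm, zpow_mul, zpow_natCast, ← hx, pow_orderOf_eq_one, one_zpow])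
  rw [Nat.card_zpowers, hx, pow_zero] at h1
  have := (Fact.out : p.Prime).one_lt
  omega

/-- a group with a strongly `p`-embedded subgroup has trivial `O_p` -/
theorem pCore_eq_bot_of_stronglyPEmbedded [Finite X] {p : ℕ} [Fact p.Prime] {Y : Subgroup X}
    (h : IsStronglyPEmbedded p Y) : pCore p X = ⊥ := by
  obtain ⟨_, hY, P, hP⟩ := h
  by_contra hne
  apply hY
  rw [eq_top_iff]
  have hn : (pCore p X).Normal := pCore_normal' p
  have h1 : Subgroup.normalizer ((pCore p X : Subgroup X) : Set X) = ⊤ := Subgroup.normalizer_eq_top _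
  rw [← h1]
  refine le_trans ?_ hP
  unfold kGeneratedCore
  exact le_iSup (fun Q : {Q : Subgroup X // Q ≤ (P : Subgroup X) ∧ ¬ PRankLE p (1 - 1) Q} =>
    Subgroup.normalizer ((Q : Subgroup X) : Set X))
    ⟨pCore p X, pCore_le_sylow' p P, by simpa using not_pRankLE_zero (pCore_isPGroup' p) hne⟩

end cores

variable {Ω : Type*} [Group Ω] {S : Subgroup Ω}

theorem inn_le_autGroup (F : FusionSystem S) {P : Subgroup Ω} (hP : P ≤ S) : Inn P ≤ F.autGroup P := by
  rintro _ ⟨r, rfl⟩
  rw [mem_autGroup_iff F hP]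
  have : P.subtype.comp (MulAut.conj r).toMonoidHom = conjHom P (r : Ω) := by
    ext x
    rfl
  rw [this]
  exact F.conj_mem hP (hP r.2)

theorem isPGroup_inn {p : ℕ} (hS : IsPGroup p S) {P : Subgroup Ω} (hP : P ≤ S) : IsPGroup p (Inn P) := by
  have hPp : IsPGroup p P := hS.of_injective (Subgroup.inclusion hP) (Subgroup.inclusion_injective hP)
  exact hPp.of_surjective (MulAut.conj : P →* MulAut P).rangeRestrict
    (MulAut.conj : P →* MulAut P).rangeRestrict_surjective

/-- if `Out_F(P)` has trivial `O_p`, then `P` is radical -/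
theorem isRadical_of_pCore_out [Finite S] {p : ℕ} [Fact p.Prime] (hS : IsPGroup p S) (F : FusionSystem S)
    {P : Subgroup Ω} (hP : P ≤ S) [hN : ((Inn P).subgroupOf (F.autGroup P)).Normal]
    (h : pCore p (F.autGroup P ⧸ (Inn P).subgroupOf (F.autGroup P)) = ⊥) : F.IsRadical p P := by
  refine ⟨hP, ?_⟩
  have hI : Inn P ≤ F.autGroup P := inn_le_autGroup F hP
  have hWI : pCore p (F.autGroup P) = (Inn P).subgroupOf (F.autGroup P) := by
    apply le_antisymm
    · have hn : (pCore p (F.autGroup P)).Normal := pCore_normal' p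
      have h1 : ((pCore p (F.autGroup P)).map
          (QuotientGroup.mk' ((Inn P).subgroupOf (F.autGroup P)))).Normal :=
        hn.map _ (QuotientGroup.mk'_surjective _)
      have h2 := le_pCore' h1 ((pCore_isPGroup' p).map _)
      rw [h, le_bot_iff, Subgroup.map_eq_bot_iff, QuotientGroup.ker_mk'] at h2
      exact h2
    · apply le_pCore' hN
      exact (isPGroup_subgroupOf_iff_of_le hI).2 (isPGroup_inn hS hP)
  rw [hWI, Subgroup.subgroupOf_map_subtype, inf_eq_left.2 hI]

/-- AKO I.3.3(a): an essential subgroup is radical -/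
theorem isRadical_of_isEssential [Finite S] {p : ℕ} [Fact p.Prime] (hS : IsPGroup p S) (F : FusionSystem S)
    {P : Subgroup Ω} (hP : F.IsEssential p P) : F.IsRadical p P := by
  obtain ⟨hcen, hfn, hN, E', hE'⟩ := hP
  have hPS : P ≤ S := hcen.1
  have : Finite P := finite_of_le hPS
  exact isRadical_of_pCore_out hS F hPS (pCore_eq_bot_of_stronglyPEmbedded hE')

end Cfsg.Agent.Lib.Helper29
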