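import Cfsg.Agent.Lib.Helper29.FusionRS

set_option autoImplicit false
open Cfsg

namespace Cfsg.Agent.Lib.Helper29

section sylowTransport

/-- transport of a Sylow statement along an isomorphism of ambient groups -/
theorem sylow_transport {M M' : Type*} [Group M] [Group M'] {p : ℕ} [Fact p.Prime] (Φ : M ≃* M')
    {A B : Subgroup M} {A' B' : Subgroup M'} (hA : ∀ α, α ∈ A ↔ Φ α ∈ A') (hB : ∀ α, α ∈ B ↔ Φ α ∈ B')
    (h : ∃ R' : Sylow p A', (R' : Subgroup A') = B'.subgroupOf A') :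
    ∃ R : Sylow p A, (R : Subgroup A) = B.subgroupOf A := by
  obtain ⟨R', hR'⟩ := h
  let f : A →* A' := (Φ.toMonoidHom.comp A.subtype).codRestrict A' (fun a => (hA a).1 a.2)
  have hinj : Function.Injective f := by
    intro a b hab
    apply Subtype.ext
    apply Φ.injective
    exact congrArg Subtype.val hab
  have hsurj : ∀ a' : A', ∃ a, f a = a' := by
    intro a'
    refine ⟨⟨Φ.symm a', (hA _).2 (by rw [MulEquiv.apply_symm_apply]; exact a'.2)⟩, ?_⟩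
    apply Subtype.ext
    show Φ (Φ.symm a') = a'
    rw [MulEquiv.apply_symm_apply]
  have hle : (R' : Subgroup A') ≤ f.range := by
    intro x _
    obtain ⟨a, ha⟩ := hsurj x
    exact ⟨a, ha⟩
  refine ⟨R'.comapOfInjective f hinj hle, ?_⟩
  rw [Sylow.coe_comapOfInjective, hR']
  ext x
  rw [Subgroup.mem_comap, Subgroup.mem_subgroupOf, Subgroup.mem_subgroupOf]
  exact (hB x).symm

end sylowTransport

variable {Ω Ω' : Type*} [Group Ω] [Group Ω'] {S : Subgroup Ω} {S' : Subgroup Ω'}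

/-- image of a subgroup of `S` under `e : S ≃* S'`, as a subgroup of the second ambient group -/
def imgE (e : S ≃* S') (P : Subgroup Ω) : Subgroup Ω' :=
  ((P.subgroupOf S).map e.toMonoidHom).map S'.subtype

theorem mem_imgE {e : S ≃* S'} {P : Subgroup Ω} {y : Ω'} :
    y ∈ imgE e P ↔ ∃ x : S, (x : Ω) ∈ P ∧ ((e x : S') : Ω') = y := by
  constructor
  · rintro ⟨_, ⟨x, hx, rfl⟩, rfl⟩
    exact ⟨x, hx, rfl⟩
  · rintro ⟨x, hx, rfl⟩
    exact ⟨e x, ⟨x, hx, rfl⟩, rfl⟩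

theorem coe_mem_imgE (e : S ≃* S') {P : Subgroup Ω} (x : S) (hx : (x : Ω) ∈ P) :
    ((e x : S') : Ω') ∈ imgE e P := mem_imgE.2 ⟨x, hx, rfl⟩

theorem imgE_le (e : S ≃* S') (P : Subgroup Ω) : imgE e P ≤ S' := by
  intro y hy
  obtain ⟨x, _, rfl⟩ := mem_imgE.1 hy
  exact (e x).2

theorem imgE_mono (e : S ≃* S') {P Q : Subgroup Ω} (h : P ≤ Q) : imgE e P ≤ imgE e Q := by
  intro y hy
  obtain ⟨x, hx, rfl⟩ := mem_imgE.1 hy
  exact coe_mem_imgE e x (h hx)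

theorem coe_mem_imgE_iff (e : S ≃* S') {P : Subgroup Ω} (x : S) :
    ((e x : S') : Ω') ∈ imgE e P ↔ (x : Ω) ∈ P := by
  constructor
  · intro h
    obtain ⟨x', hx', hxx'⟩ := mem_imgE.1 h
    have : x' = x := e.injective (Subtype.ext hxx')
    rw [← this]
    exact hx'
  · exact coe_mem_imgE e x

theorem imgE_symm_imgE (e : S ≃* S') {P : Subgroup Ω} (hP : P ≤ S) : imgE e.symm (imgE e P) = P := by
  ext y
  rw [mem_imgE]
  constructor
  · rintro ⟨z, hz, rfl⟩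
    obtain ⟨x, hx, hxz⟩ := mem_imgE.1 hz
    have : e x = z := Subtype.ext hxz
    rw [← this, MulEquiv.symm_apply_apply]
    exact hx
  · intro hy
    refine ⟨e ⟨y, hP hy⟩, coe_mem_imgE e _ hy, ?_⟩
    rw [MulEquiv.symm_apply_apply]

theorem imgE_imgE_symm (e : S ≃* S') {Q : Subgroup Ω'} (hQ : Q ≤ S') : imgE e (imgE e.symm Q) = Q := by
  ext y
  rw [mem_imgE]
  constructor
  · rintro ⟨z, hz, rfl⟩
    obtain ⟨x, hx, hxz⟩ := mem_imgE.1 hz
    have : e.symm x = z := Subtype.ext hxz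
    rw [← this, MulEquiv.apply_symm_apply]
    exact hx
  · intro hy
    refine ⟨e.symm ⟨y, hQ hy⟩, coe_mem_imgE e.symm _ hy, ?_⟩
    rw [MulEquiv.apply_symm_apply]

/-- `F` over `S` and `F'` over `S'` correspond under `e : S ≃* S'` -/
def FusIso (F : FusionSystem S) (F' : FusionSystem S') (e : S ≃* S') : Prop :=
  ∀ (P : Subgroup Ω) (hP : P ≤ S) (φ : P →* Ω) (hφ : ∀ x, φ x ∈ S),
    φ ∈ F.Hom P ↔ ∃ φ' ∈ F'.Hom (imgE e P),
      ∀ (x : P) (h : ((e ⟨x, hP x.2⟩ : S') : Ω') ∈ imgE e P),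
        φ' ⟨(e ⟨x, hP x.2⟩ : S'), h⟩ = (e ⟨φ x, hφ x⟩ : S')

variable {F : FusionSystem S} {F' : FusionSystem S'} {e : S ≃* S'}

theorem FusIso.push (h : FusIso F F' e) {P : Subgroup Ω} {φ : P →* Ω} (hφ : φ ∈ F.Hom P) :
    ∃ φ' ∈ F'.Hom (imgE e P),
      ∀ (x : P) (h1 : ((e ⟨x, (F.le_of_mem hφ).1 x.2⟩ : S') : Ω') ∈ imgE e P),
        φ' ⟨(e ⟨x, (F.le_of_mem hφ).1 x.2⟩ : S'), h1⟩ = (e ⟨φ x, (F.le_of_mem hφ).2 x⟩ : S') :=
  (h P (F.le_of_mem hφ).1 φ (F.le_of_mem hφ).2).1 hφ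

theorem FusIso.pull (h : FusIso F F' e) {P : Subgroup Ω} (hP : P ≤ S) {φ' : imgE e P →* Ω'}
    (hφ' : φ' ∈ F'.Hom (imgE e P)) :
    ∃ φ ∈ F.Hom P, ∃ hφS : ∀ x : P, φ x ∈ S, ∀ x : P,
      ((e ⟨φ x, hφS x⟩ : S') : Ω') = φ' ⟨(e ⟨x, hP x.2⟩ : S'), coe_mem_imgE e _ x.2⟩ := by
  let f₁ : P →* imgE e P :=
    ((S'.subtype.comp e.toMonoidHom).comp (Subgroup.inclusion hP)).codRestrict (imgE e P)
      (fun x => coe_mem_imgE e _ x.2)
  let f₂ : imgE e P →* S' := φ'.codRestrict S' (F'.le_of_mem hφ').2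
  let φ : P →* Ω := S.subtype.comp (e.symm.toMonoidHom.comp (f₂.comp f₁))
  have hφS : ∀ x : P, φ x ∈ S := fun x => (e.symm (f₂ (f₁ x))).2
  have hval : ∀ x : P, ((e ⟨φ x, hφS x⟩ : S') : Ω') =
      φ' ⟨(e ⟨x, hP x.2⟩ : S'), coe_mem_imgE e _ x.2⟩ := by
    intro x
    have : (⟨φ x, hφS x⟩ : S) = e.symm (f₂ (f₁ x)) := rfl
    rw [this, MulEquiv.apply_symm_apply]
    rfl
  refine ⟨φ, (h P hP φ hφS).2 ⟨φ', hφ', fun x h1 => ?_⟩, hφS, hval⟩
  exact (hval x).symm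

/-- L3: conjugacy pulls back -/
theorem FusIso.isConj_pull (h : FusIso F F' e) {P : Subgroup Ω} (hP : P ≤ S) {Q' : Subgroup Ω'}
    (hc : F'.IsConj (imgE e P) Q') : F.IsConj P (imgE e.symm Q') := by
  obtain ⟨φ', hφ', hr⟩ := hc
  obtain ⟨φ, hφ, hφS, hval⟩ := h.pull hP hφ'
  refine ⟨φ, hφ, ?_⟩
  ext y
  rw [mem_imgE]
  constructor
  · rintro ⟨x, rfl⟩
    refine ⟨e ⟨φ x, hφS x⟩, ?_, ?_⟩
    · rw [hval, ← hr]
      exact ⟨_, rfl⟩
    · rw [MulEquiv.symm_apply_apply]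
  · rintro ⟨z, hz, rfl⟩
    rw [← hr] at hz
    obtain ⟨w, hw⟩ := hz
    obtain ⟨x, hx, hxw⟩ := mem_imgE.1 w.2
    refine ⟨⟨x, hx⟩, ?_⟩
    have h1 := hval ⟨x, hx⟩
    have h2 : (⟨((e ⟨((⟨x, hx⟩ : P) : Ω), hP hx⟩ : S') : Ω'), coe_mem_imgE e _ hx⟩ : imgE e P) = w :=
      Subtype.ext hxw
    rw [h2, hw] at h1
    have h3 : e ⟨φ ⟨x, hx⟩, hφS _⟩ = z := Subtype.ext h1
    rw [← h3, MulEquiv.symm_apply_apply]

/-- the isomorphism `Q ≃* imgE e Q` -/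
noncomputable def imgEquiv (e : S ≃* S') {Q : Subgroup Ω} (hQ : Q ≤ S) : Q ≃* imgE e Q :=
  MulEquiv.ofBijective
    (((S'.subtype.comp e.toMonoidHom).comp (Subgroup.inclusion hQ)).codRestrict (imgE e Q)
      (fun x => coe_mem_imgE e _ x.2))
    ⟨by
      intro a b hab
      have h1 : ((e ⟨a, hQ a.2⟩ : S') : Ω') = (e ⟨b, hQ b.2⟩ : S') :=
        congrArg (fun z : imgE e Q => (z : Ω')) hab
      have h2 := e.injective (Subtype.ext h1)
      exact Subtype.ext (congrArg (fun z : S => (z : Ω)) h2),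
    by
      intro y
      obtain ⟨x, hx, hxy⟩ := mem_imgE.1 y.2
      exact ⟨⟨x, hx⟩, Subtype.ext hxy⟩⟩

theorem imgEquiv_coe (e : S ≃* S') {Q : Subgroup Ω} (hQ : Q ≤ S) (x : Q) :
    ((imgEquiv e hQ x : imgE e Q) : Ω') = (e ⟨x, hQ x.2⟩ : S') := rfl

/-- L4: fully automized pulls back -/
theorem FusIso.fullyAutomized_pull (h : FusIso F F' e) {p : ℕ} [Fact p.Prime] {Q : Subgroup Ω}
    (hQ : Q ≤ S) (hfa : F'.IsFullyAutomized p (imgE e Q)) : F.IsFullyAutomized p Q := by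
  refine ⟨hQ, ?_⟩
  obtain ⟨hQ', hSy⟩ := hfa
  set eQ := imgEquiv e hQ with heQ
  apply sylow_transport (MulAut.congr eQ) ?_ ?_ hSy
  · -- Aut_F
    intro α
    rw [mem_autGroup_iff F hQ, mem_autGroup_iff F' hQ']
    have hαS : ∀ x : Q, (Q.subtype.comp α.toMonoidHom) x ∈ S := fun x => hQ (α x).2
    rw [h Q hQ _ hαS]
    constructor
    · rintro ⟨φ', hφ', hval⟩
      have : (imgE e Q).subtype.comp (MulAut.congr eQ α).toMonoidHom = φ' := by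
        ext y
        obtain ⟨x, rfl⟩ := eQ.surjective y
        have h1 := hval x (eQ x).2
        show ((eQ (α (eQ.symm (eQ x))) : imgE e Q) : Ω') = φ' (eQ x)
        rw [MulEquiv.symm_apply_apply]
        exact h1.symm
      rw [this]
      exact hφ'
    · intro hα
      refine ⟨_, hα, fun x h1 => ?_⟩
      show ((eQ (α (eQ.symm ⟨_, h1⟩)) : imgE e Q) : Ω') = _
      have : (⟨_, h1⟩ : imgE e Q) = eQ x := rfl
      rw [this, MulEquiv.symm_apply_apply]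
      rfl
  · -- Aut_S
    intro α
    constructor
    · intro hα
      rw [autInducedBy_eq_map] at hα
      obtain ⟨n, hn, rfl⟩ := hα
      have hnS : (n : Ω) ∈ S := hn
      apply Subgroup.subset_closure
      refine ⟨(e ⟨n, hnS⟩ : S'), (e ⟨n, hnS⟩).2, fun y => ?_⟩
      obtain ⟨x, rfl⟩ := eQ.surjective y
      show ((eQ (Q.normalizerMonoidHom n (eQ.symm (eQ x))) : imgE e Q) : Ω') = _
      rw [MulEquiv.symm_apply_apply, imgEquiv_coe, imgEquiv_coe]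
      have : (⟨((Q.normalizerMonoidHom n x : Q) : Ω), hQ (Q.normalizerMonoidHom n x).2⟩ : S) =
          ⟨n, hnS⟩ * ⟨x, hQ x.2⟩ * ⟨n, hnS⟩⁻¹ := Subtype.ext rfl
      rw [this, map_mul, map_mul, map_inv]
      rfl
    · intro hα
      rw [autInducedBy_eq_map] at hα
      obtain ⟨n', hn', hα'⟩ := hα
      have hn'S : (n' : Ω') ∈ S' := hn'
      apply Subgroup.subset_closure
      refine ⟨(e.symm ⟨n', hn'S⟩ : S), (e.symm ⟨n', hn'S⟩).2, fun x => ?_⟩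
      have h1 : ((MulAut.congr eQ α) (eQ x) : imgE e Q) = (imgE e Q).normalizerMonoidHom n' (eQ x) := by
        rw [hα']
      have h2 : ((eQ (α x) : imgE e Q) : Ω') = (n' : Ω') * (eQ x : imgE e Q) * (n' : Ω')⁻¹ := by
        have := congrArg (fun z : imgE e Q => (z : Ω')) h1
        refine Eq.trans ?_ this
        show _ = ((eQ (α (eQ.symm (eQ x))) : imgE e Q) : Ω')
        rw [MulEquiv.symm_apply_apply]
      rw [imgEquiv_coe, imgEquiv_coe] at h2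
      have hmem : ((e.symm ⟨n', hn'S⟩ : S) : Ω) * x * ((e.symm ⟨n', hn'S⟩ : S) : Ω)⁻¹ ∈ S :=
        S.mul_mem (S.mul_mem (e.symm ⟨n', hn'S⟩).2 (hQ x.2)) (S.inv_mem (e.symm ⟨n', hn'S⟩).2)
      have h3 : (⟨((α x : Q) : Ω), hQ (α x).2⟩ : S) = ⟨_, hmem⟩ := by
        apply e.injective
        apply Subtype.ext
        rw [h2]
        have : (⟨_, hmem⟩ : S) = (e.symm ⟨n', hn'S⟩) * ⟨x, hQ x.2⟩ * (e.symm ⟨n', hn'S⟩)⁻¹ :=
          Subtype.ext rfl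
        rw [this, map_mul, map_mul, map_inv, MulEquiv.apply_symm_apply]
        rfl
      exact congrArg (fun z : S => (z : Ω)) h3

theorem coe_conj_eq (e : S ≃* S') (g x : S) :
    ((e g : S') : Ω') * (e x : S') * ((e g : S') : Ω')⁻¹ = (e (g * x * g⁻¹) : S') := by
  rw [map_mul, map_mul, map_inv]
  rfl

/-- L5: receptivity pulls back -/
theorem FusIso.receptive_pull (h : FusIso F F' e) {Q : Subgroup Ω} (hQ : Q ≤ S)
    (hrec : F'.IsReceptive (imgE e Q)) : F.IsReceptive Q := by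
  refine ⟨hQ, fun P₁ φ hφ hr => ?_⟩
  have hP₁ := (F.le_of_mem hφ).1
  have hφS := (F.le_of_mem hφ).2
  obtain ⟨φ', hφ', hval⟩ := h.push hφ
  have hval' : ∀ (x : S) (hx : (x : Ω) ∈ P₁),
      φ' ⟨(e x : S'), coe_mem_imgE e x hx⟩ = (e ⟨φ ⟨x, hx⟩, hφS _⟩ : S') := by
    intro x hx
    exact hval ⟨x, hx⟩ (coe_mem_imgE e x hx)
  have hr' : φ'.range = imgE e Q := by
    ext y
    constructor
    · rintro ⟨w, rfl⟩
      obtain ⟨x, hx, hxw⟩ := mem_imgE.1 w.2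
      have : w = ⟨(e x : S'), coe_mem_imgE e x hx⟩ := Subtype.ext hxw.symm
      rw [this, hval' x hx]
      apply coe_mem_imgE
      rw [← hr]
      exact ⟨_, rfl⟩
    · intro hy
      obtain ⟨z, hz, rfl⟩ := mem_imgE.1 hy
      rw [← hr] at hz
      obtain ⟨x, hx⟩ := hz
      refine ⟨⟨(e ⟨x, hP₁ x.2⟩ : S'), coe_mem_imgE e _ x.2⟩, ?_⟩
      rw [hval' ⟨x, hP₁ x.2⟩ x.2]
      congr 2
      exact Subtype.ext hx
  obtain ⟨ψ', hψ', hψ'e⟩ := hrec.2 _ φ' hφ' hr'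
  have hXS : FusionSystem.extender S P₁ φ ≤ S := by
    unfold FusionSystem.extender
    rw [Subgroup.closure_le]
    rintro g ⟨hg, _⟩
    exact hg
  have hXK : FusionSystem.extender S P₁ φ ≤
      ((FusionSystem.extender S' (imgE e P₁) φ').comap (S'.subtype.comp e.toMonoidHom)).map S.subtype := by
    unfold FusionSystem.extender
    rw [Subgroup.closure_le]
    rintro g ⟨hgS, hgN, k, hkS, hrel⟩
    refine ⟨⟨g, hgS⟩, ?_, rfl⟩
    show ((e ⟨g, hgS⟩ : S') : Ω') ∈ Subgroup.closure _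
    apply Subgroup.subset_closure
    have hgN' := Subgroup.mem_normalizer_iff.1 hgN
    have hgiN : g⁻¹ ∈ Subgroup.normalizer (P₁ : Set Ω) := Subgroup.inv_mem _ hgN
    have hgiN' := Subgroup.mem_normalizer_iff.1 hgiN
    refine ⟨(e ⟨g, hgS⟩).2, ?_, (e ⟨k, hkS⟩ : S'), (e ⟨k, hkS⟩).2, ?_⟩
    · rw [Subgroup.mem_normalizer_iff]
      intro y
      constructor
      · intro hy
        obtain ⟨x, hx, rfl⟩ := mem_imgE.1 hy
        rw [coe_conj_eq]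
        apply coe_mem_imgE
        exact (hgN' x).1 hx
      · intro hy
        obtain ⟨x', hx', hxy⟩ := mem_imgE.1 hy
        have hy2 : y = ((e ((⟨g, hgS⟩ : S)⁻¹ * x' * (⟨g, hgS⟩ : S)⁻¹⁻¹) : S') : Ω') := by
          rw [← coe_conj_eq, hxy, map_inv]
          show y = ((e ⟨g, hgS⟩ : S') : Ω')⁻¹ * (((e ⟨g, hgS⟩ : S') : Ω') * y * ((e ⟨g, hgS⟩ : S') : Ω')⁻¹) *
            ((e ⟨g, hgS⟩ : S') : Ω')⁻¹⁻¹
          group
        rw [hy2]
        apply coe_mem_imgE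
        exact (hgiN' x').1 hx'
    · intro y hy
      obtain ⟨x, hx, hxy⟩ := mem_imgE.1 y.2
      have ey : y = ⟨(e x : S'), coe_mem_imgE e x hx⟩ := Subtype.ext hxy.symm
      have hgx : g * (x : Ω) * g⁻¹ ∈ P₁ := (hgN' x).1 hx
      have e1 : (⟨((e ⟨g, hgS⟩ : S') : Ω') * (y : Ω') * ((e ⟨g, hgS⟩ : S') : Ω')⁻¹, hy⟩ : imgE e P₁) =
          ⟨(e (⟨g, hgS⟩ * x * ⟨g, hgS⟩⁻¹) : S'), coe_mem_imgE e _ hgx⟩ := by
        apply Subtype.ext
        show ((e ⟨g, hgS⟩ : S') : Ω') * (y : Ω') * ((e ⟨g, hgS⟩ : S') : Ω')⁻¹ = _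
        rw [← hxy, coe_conj_eq]
      rw [e1, hval' _ hgx, ey, hval' x hx]
      have h2 := hrel ⟨x, hx⟩ hgx
      have e2 : (⟨φ ⟨((⟨g, hgS⟩ * x * ⟨g, hgS⟩⁻¹ : S) : Ω), hgx⟩, hφS _⟩ : S) =
          ⟨k, hkS⟩ * ⟨φ ⟨x, hx⟩, hφS _⟩ * ⟨k, hkS⟩⁻¹ := Subtype.ext h2
      rw [e2, ← coe_conj_eq]
  have hXle : imgE e (FusionSystem.extender S P₁ φ) ≤ FusionSystem.extender S' (imgE e P₁) φ' := by
    intro y hy
    obtain ⟨x, hx, rfl⟩ := mem_imgE.1 hy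
    obtain ⟨s, hs, hsx⟩ := hXK hx
    have : s = x := Subtype.ext hsx
    rw [← this]
    exact hs
  have hψ'X := restrict_mem F' hXle hψ'
  obtain ⟨ψ, hψ, hψS, hψval⟩ := h.pull hXS hψ'X
  refine ⟨ψ, hψ, fun x hP hN => ?_⟩
  have h1 := hψval ⟨x, hN⟩
  have h2 := hψ'e (e ⟨x, hXS hN⟩ : S') (coe_mem_imgE e _ hP) (hXle (coe_mem_imgE e _ hN))
  have h3 := hval' ⟨x, hXS hN⟩ hP
  have h4 : (e ⟨ψ ⟨x, hN⟩, hψS _⟩ : S') = e ⟨φ ⟨x, hP⟩, hφS _⟩ := by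
    apply Subtype.ext
    rw [h1]
    refine Eq.trans ?_ (h2.trans h3)
    rfl
  exact congrArg (fun z : S => (z : Ω)) (e.injective h4)

/-- saturation pulls back along an isomorphism of fusion systems -/
theorem FusIso.saturated_pull (h : FusIso F F' e) {p : ℕ} [Fact p.Prime] (hF' : F'.IsSaturated p) :
    F.IsSaturated p := by
  intro P hP
  obtain ⟨Q', hc, hfa, hrec⟩ := hF' (imgE e P) (imgE_le e P)
  have hQ'S' : Q' ≤ S' := hrec.1
  have hQS : imgE e.symm Q' ≤ S := imgE_le e.symm Q'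
  have heq : imgE e (imgE e.symm Q') = Q' := imgE_imgE_symm e hQ'S'
  refine ⟨imgE e.symm Q', h.isConj_pull hP hc, h.fullyAutomized_pull hQS ?_, h.receptive_pull hQS ?_⟩
  · rw [heq]
    exact hfa
  · rw [heq]
    exact hrec

end Cfsg.Agent.Lib.Helper29
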