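import Cfsg.Agent.Lib.Helper29.GroupFusion
import Cfsg.Agent.Lib.Helper29.FusionTransport

set_option autoImplicit false
open Cfsg
open scoped Pointwise

namespace Cfsg.Agent.Lib.Helper29

variable {G : Type*} [Group G]

theorem cj_eq_self_of_mem {g : G} {T : Subgroup G} (hg : g ∈ T) : cj g T = T := by
  ext x
  rw [mem_cj]
  constructor
  · intro h
    have h1 := T.mul_mem (T.mul_mem hg h) (T.inv_mem hg)
    have : g * (g⁻¹ * x * g) * g⁻¹ = x := by group
    rwa [this] at h1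
  · intro h
    exact T.mul_mem (T.mul_mem (T.inv_mem hg) h) hg

/-- a `p`-subgroup `L` whose image under `r` lies in the image of the Sylow subgroup `T` is conjugate into
`T` by an element of the kernel of `r` -/
theorem exists_ker_conj_le {B : Type*} [Group B] [Finite G] {p : ℕ} [Fact p.Prime]
    {T : Subgroup G} (hT : IsSylowSub p T ⊤) (r : G →* B) {L : Subgroup G} (hL : IsPGroup p L)
    (h : ∀ l ∈ L, ∃ t ∈ T, r l = r t) : ∃ b ∈ r.ker, cj b L ≤ T := by
  have hLH : L ≤ T ⊔ r.ker := by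
    intro l hl
    obtain ⟨t, ht, hlt⟩ := h l hl
    have e : l = t * (t⁻¹ * l) := by group
    rw [e]
    refine Subgroup.mul_mem_sup ht ?_
    rw [MonoidHom.mem_ker, map_mul, map_inv, hlt, inv_mul_cancel]
  have hTH : IsSylowSub p T (T ⊔ r.ker) := hT.of_le le_sup_left le_top
  obtain ⟨a, ha, haL⟩ := exists_cj_le_of_isSylowSub hTH hLH hL
  have ha' : a ∈ ((T ⊔ r.ker : Subgroup G) : Set G) := ha
  rw [Subgroup.mul_normal] at ha'
  obtain ⟨t, ht, m, hm, rfl⟩ := Set.mem_mul.1 ha'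
  refine ⟨m, hm, ?_⟩
  rw [← cj_cj, cj_le_iff, cj_eq_self_of_mem (T.inv_mem ht)] at haL
  exact haL

/-- some conjugate of the Sylow subgroup `T` of `A` meets `X ≤ A` in a Sylow subgroup of `X` -/
theorem exists_conj_inf_sylow [Finite G] {p : ℕ} [Fact p.Prime] {T A X : Subgroup G}
    (hTA : T ≤ A) (hT : IsSylowSub p T A) (hXA : X ≤ A) : ∃ γ ∈ A, IsSylowSub p (cj γ T ⊓ X) X := by
  obtain ⟨Y, -⟩ : ∃ Y : Sylow p X, True := ⟨default, trivial⟩
  have hYp : IsPGroup p ((Y : Subgroup X).map X.subtype) := Y.isPGroup'.map _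
  have hYX : (Y : Subgroup X).map X.subtype ≤ X := by
    rintro _ ⟨y, _, rfl⟩
    exact y.2
  obtain ⟨m, hm, hmY⟩ := exists_cj_le_of_isSylowSub hT (hYX.trans hXA) hYp
  refine ⟨m⁻¹, A.inv_mem hm, ?_⟩
  rw [cj_le_iff] at hmY
  have hle : (Y : Subgroup X).map X.subtype ≤ cj m⁻¹ T ⊓ X := le_inf hmY hYX
  have hp : IsPGroup p ↥(cj m⁻¹ T ⊓ X) := by
    have h1 : IsPGroup p ↥(cj m⁻¹ T) := isPGroup_cj (hT.isPGroup hTA)
    exact h1.to_le inf_le_left
  have heq : (Y : Subgroup X) = (cj m⁻¹ T ⊓ X).subgroupOf X := by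
    have hp' : IsPGroup p ((cj m⁻¹ T ⊓ X).subgroupOf X) :=
      (isPGroup_subgroupOf_iff_of_le inf_le_right).2 hp
    have hle' : (Y : Subgroup X) ≤ (cj m⁻¹ T ⊓ X).subgroupOf X := by
      intro y hy
      rw [Subgroup.mem_subgroupOf]
      exact hle ⟨y, hy, rfl⟩
    exact (Y.is_maximal' hp' hle').symm
  exact ⟨Y, heq⟩

/-- a `p`-subgroup containing a Sylow subgroup is Sylow -/
theorem IsSylowSub.of_le_pgroup [Finite G] {p : ℕ} [Fact p.Prime] {Y T A : Subgroup G}
    (hY : IsSylowSub p Y A) (hYT : Y ≤ T) (hTA : T ≤ A) (hT : IsPGroup p T) : IsSylowSub p T A := by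
  obtain ⟨R, hR⟩ := hY
  have hp' : IsPGroup p (T.subgroupOf A) := (isPGroup_subgroupOf_iff_of_le hTA).2 hT
  have hle' : (R : Subgroup A) ≤ T.subgroupOf A := by
    rw [hR]
    intro y hy
    rw [Subgroup.mem_subgroupOf] at hy ⊢
    exact hYT hy
  exact ⟨R, (R.is_maximal' hp' hle').symm⟩

/-- transport of a Sylow statement along `Subgroup.map` of an isomorphism -/
theorem IsSylowSub.map_equiv {G' : Type*} [Group G'] {p : ℕ} [Fact p.Prime] {T A : Subgroup G}
    (h : IsSylowSub p T A) (e : G ≃* G') :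
    IsSylowSub p (T.map e.toMonoidHom) (A.map e.toMonoidHom) := by
  refine sylow_transport e.symm (A' := A) (B' := T) ?_ ?_ h
  · intro α
    exact Subgroup.mem_map_equiv
  · intro α
    exact Subgroup.mem_map_equiv

end Cfsg.Agent.Lib.Helper29
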