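import Cfsg.Agent.Lib.Helper29.KNormFA
import Cfsg.Agent.Lib.Helper29.KNormGroup

set_option autoImplicit false
open Cfsg

namespace Cfsg.Agent.Lib.Helper29

variable {Ω : Type*} [Group Ω] {S : Subgroup Ω}

/-- the generating set of the extender is already a subgroup -/
def extSub (S P : Subgroup Ω) (φ : P →* Ω) : Subgroup Ω where
  carrier := {g | g ∈ S ∧ g ∈ Subgroup.normalizer (P : Set Ω) ∧
    ∃ h ∈ S, ∀ (x : P) (hx : g * (x : Ω) * g⁻¹ ∈ P), φ ⟨g * x * g⁻¹, hx⟩ = h * φ x * h⁻¹}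
  one_mem' := by
    refine ⟨S.one_mem, Subgroup.one_mem _, 1, S.one_mem, fun x hx => ?_⟩
    have e : (⟨1 * (x : Ω) * 1⁻¹, hx⟩ : P) = x := Subtype.ext (by simp)
    rw [e]
    simp
  mul_mem' := by
    rintro g₁ g₂ ⟨hS₁, hn₁, h₁, hh₁S, hh₁⟩ ⟨hS₂, hn₂, h₂, hh₂S, hh₂⟩
    refine ⟨S.mul_mem hS₁ hS₂, Subgroup.mul_mem _ hn₁ hn₂, h₁ * h₂, S.mul_mem hh₁S hh₂S, fun x hx => ?_⟩
    have hx2 : g₂ * (x : Ω) * g₂⁻¹ ∈ P := (Subgroup.mem_normalizer_iff.1 hn₂ x).1 x.2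
    have hx1 : g₁ * ((⟨g₂ * (x : Ω) * g₂⁻¹, hx2⟩ : P) : Ω) * g₁⁻¹ ∈ P :=
      (Subgroup.mem_normalizer_iff.1 hn₁ _).1 hx2
    have e : (⟨g₁ * g₂ * (x : Ω) * (g₁ * g₂)⁻¹, hx⟩ : P) =
        ⟨g₁ * ((⟨g₂ * (x : Ω) * g₂⁻¹, hx2⟩ : P) : Ω) * g₁⁻¹, hx1⟩ := by
      apply Subtype.ext
      show g₁ * g₂ * (x : Ω) * (g₁ * g₂)⁻¹ = g₁ * (g₂ * (x : Ω) * g₂⁻¹) * g₁⁻¹
      group
    rw [e, hh₁ _ hx1, hh₂ x hx2]
    group
  inv_mem' := by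
    rintro g ⟨hS, hn, h, hhS, hh⟩
    have hn' : g⁻¹ ∈ Subgroup.normalizer (P : Set Ω) := Subgroup.inv_mem _ hn
    refine ⟨S.inv_mem hS, hn', h⁻¹, S.inv_mem hhS, fun x hx => ?_⟩
    have hx1 : g * ((⟨g⁻¹ * (x : Ω) * g⁻¹⁻¹, hx⟩ : P) : Ω) * g⁻¹ ∈ P := by
      show g * (g⁻¹ * (x : Ω) * g⁻¹⁻¹) * g⁻¹ ∈ P
      have : g * (g⁻¹ * (x : Ω) * g⁻¹⁻¹) * g⁻¹ = x := by group
      rw [this]
      exact x.2
    have h1 := hh ⟨g⁻¹ * (x : Ω) * g⁻¹⁻¹, hx⟩ hx1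
    have e : (⟨g * ((⟨g⁻¹ * (x : Ω) * g⁻¹⁻¹, hx⟩ : P) : Ω) * g⁻¹, hx1⟩ : P) = x := by
      apply Subtype.ext
      show g * (g⁻¹ * (x : Ω) * g⁻¹⁻¹) * g⁻¹ = x
      group
    rw [e] at h1
    rw [h1]
    group

theorem extender_eq_extSub (S P : Subgroup Ω) (φ : P →* Ω) :
    FusionSystem.extender S P φ = extSub S P φ := by
  apply le_antisymm
  · unfold FusionSystem.extender
    rw [Subgroup.closure_le]
    intro g hg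
    exact hg
  · intro g hg
    exact Subgroup.subset_closure hg

theorem mem_extender_iff {P : Subgroup Ω} {φ : P →* Ω} {g : Ω} :
    g ∈ FusionSystem.extender S P φ ↔ g ∈ S ∧ g ∈ Subgroup.normalizer (P : Set Ω) ∧
      ∃ h ∈ S, ∀ (x : P) (hx : g * (x : Ω) * g⁻¹ ∈ P), φ ⟨g * x * g⁻¹, hx⟩ = h * φ x * h⁻¹ := by
  rw [extender_eq_extSub]
  exact Iff.rfl

theorem range_sup_hom {A B : Subgroup Ω} (ψ : ↥(A ⊔ B) →* Ω) {A' B' : Subgroup Ω}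
    (hA : (ψ.comp (Subgroup.inclusion le_sup_left)).range = A')
    (hB : (ψ.comp (Subgroup.inclusion le_sup_right)).range = B') : ψ.range = A' ⊔ B' := by
  apply le_antisymm
  · rintro _ ⟨z, rfl⟩
    refine sup_hom_mem ψ (fun x => ?_) (fun x => ?_) z
    · apply Subgroup.mem_sup_left
      rw [← hA]
      exact ⟨x, rfl⟩
    · apply Subgroup.mem_sup_right
      rw [← hB]
      exact ⟨x, rfl⟩
  · rw [← hA, ← hB]
    refine sup_le ?_ ?_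
    · rintro _ ⟨x, rfl⟩
      exact ⟨_, rfl⟩
    · rintro _ ⟨x, rfl⟩
      exact ⟨_, rfl⟩

theorem isSylowSub_top_of_sylow {G : Type*} [Group G] [Finite G] {p : ℕ} [Fact p.Prime] (T : Sylow p G) :
    IsSylowSub p (T : Subgroup G) ⊤ := by
  rw [isSylowSub_iff le_top]
  refine ⟨T.isPGroup', ?_⟩
  rw [Subgroup.card_top]
  exact T.card_eq_multiplicity

end Cfsg.Agent.Lib.Helper29
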