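import Cfsg.Agent.Lib.Helper29.KNormVia
import Cfsg.Agent.Lib.Helper29.KNormExt
import Cfsg.Agent.Lib.Helper29.FusionEssential
import Cfsg.Agent.Lib.Helper29.FusionNormal2
import Cfsg.Agent.Lib.Helper29.FusionInner

set_option autoImplicit false
open Cfsg

namespace Cfsg.Agent.Lib.Helper29

variable {Ω : Type*} [Group Ω] {S : Subgroup Ω}

section imgSub

/-- the image of the subgroup `Q` under a map defined on `A` -/
def imgSub {A : Subgroup Ω} (φ : A →* Ω) (Q : Subgroup Ω) : Subgroup Ω := (Q.subgroupOf A).map φ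

theorem mem_imgSub {A : Subgroup Ω} {φ : A →* Ω} {Q : Subgroup Ω} {y : Ω} :
    y ∈ imgSub φ Q ↔ ∃ x : A, (x : Ω) ∈ Q ∧ φ x = y := by
  constructor
  · rintro ⟨x, hx, rfl⟩
    exact ⟨x, hx, rfl⟩
  · rintro ⟨x, hx, rfl⟩
    exact ⟨x, hx, rfl⟩

theorem imgSub_mem {A : Subgroup Ω} (φ : A →* Ω) {Q : Subgroup Ω} {x : A} (hx : (x : Ω) ∈ Q) :
    φ x ∈ imgSub φ Q := mem_imgSub.2 ⟨x, hx, rfl⟩

theorem imgSub_self {A : Subgroup Ω} (φ : A →* Ω) : imgSub φ A = φ.range := by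
  ext y
  rw [mem_imgSub]
  constructor
  · rintro ⟨x, _, rfl⟩
    exact ⟨x, rfl⟩
  · rintro ⟨x, rfl⟩
    exact ⟨x, x.2, rfl⟩

theorem imgSub_mono {A : Subgroup Ω} (φ : A →* Ω) {Q Q' : Subgroup Ω} (h : Q ≤ Q') :
    imgSub φ Q ≤ imgSub φ Q' := by
  intro y hy
  obtain ⟨x, hx, rfl⟩ := mem_imgSub.1 hy
  exact imgSub_mem φ (h hx)

theorem imgSub_le_range {A : Subgroup Ω} (φ : A →* Ω) (Q : Subgroup Ω) : imgSub φ Q ≤ φ.range := by
  intro y hy
  obtain ⟨x, _, rfl⟩ := mem_imgSub.1 hy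
  exact ⟨x, rfl⟩

theorem imgSub_congr {A A' : Subgroup Ω} {φ : A →* Ω} {φ' : A' →* Ω} {Q : Subgroup Ω} (hA : Q ≤ A)
    (hA' : Q ≤ A') (h : ∀ (x : Ω) (hx : x ∈ Q), φ ⟨x, hA hx⟩ = φ' ⟨x, hA' hx⟩) :
    imgSub φ Q = imgSub φ' Q := by
  ext y
  rw [mem_imgSub, mem_imgSub]
  constructor
  · rintro ⟨x, hx, rfl⟩
    exact ⟨⟨x, hA' hx⟩, hx, (h x hx).symm⟩
  · rintro ⟨x, hx, rfl⟩
    exact ⟨⟨x, hA hx⟩, hx, h x hx⟩

theorem imgSub_comp {A B : Subgroup Ω} (φ : A →* Ω) (ψ : B →* Ω) (h : ∀ x, φ x ∈ B) (Q : Subgroup Ω) :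
    imgSub (ψ.comp (φ.codRestrict B h)) Q = imgSub ψ (imgSub φ Q) := by
  ext y
  rw [mem_imgSub, mem_imgSub]
  constructor
  · rintro ⟨x, hx, rfl⟩
    exact ⟨⟨φ x, h x⟩, imgSub_mem φ hx, rfl⟩
  · rintro ⟨z, hz, rfl⟩
    obtain ⟨x, hx, hxz⟩ := mem_imgSub.1 hz
    refine ⟨x, hx, ?_⟩
    show ψ ⟨φ x, h x⟩ = ψ z
    congr 1
    exact Subtype.ext hxz

theorem imgSub_comp' {A B : Subgroup Ω} {φ : A →* Ω} {ψ : B →* Ω} {χ : A →* Ω} (h : ∀ x, φ x ∈ B)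
    (hχ : ∀ x, χ x = ψ ⟨φ x, h x⟩) (Q : Subgroup Ω) : imgSub χ Q = imgSub ψ (imgSub φ Q) := by
  rw [← imgSub_comp φ ψ h Q]
  congr 1
  ext x
  exact hχ x

theorem imgSub_inclusion {A B : Subgroup Ω} (h : B ≤ A) (φ : A →* Ω) {Q : Subgroup Ω} (hQ : Q ≤ B) :
    imgSub (φ.comp (Subgroup.inclusion h)) Q = imgSub φ Q :=
  imgSub_congr hQ (hQ.trans h) (fun _ _ => rfl)

theorem range_comp_inclusion {A B : Subgroup Ω} (h : B ≤ A) (φ : A →* Ω) :
    (φ.comp (Subgroup.inclusion h)).range = imgSub φ B := by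
  rw [← imgSub_self, imgSub_inclusion h φ le_rfl]

theorem mem_imgSub_iff_of_injective {A : Subgroup Ω} {φ : A →* Ω} (hφ : Function.Injective φ)
    {Q : Subgroup Ω} (x : A) : φ x ∈ imgSub φ Q ↔ (x : Ω) ∈ Q := by
  constructor
  · intro h
    obtain ⟨x', hx', hxx⟩ := mem_imgSub.1 h
    rw [← hφ hxx]
    exact hx'
  · exact imgSub_mem φ

theorem card_imgSub {A : Subgroup Ω} {φ : A →* Ω} (hφ : Function.Injective φ) {Q : Subgroup Ω}
    (hQ : Q ≤ A) : Nat.card (imgSub φ Q) = Nat.card Q := by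
  unfold imgSub
  rw [Subgroup.card_map_of_injective hφ]
  exact card_subgroupOf_of_le hQ

theorem imgSub_normalizer {A : Subgroup Ω} (φ : A →* Ω) {Q : Subgroup Ω} {g : A}
    (hg : (g : Ω) ∈ Subgroup.normalizer (Q : Set Ω)) :
    φ g ∈ Subgroup.normalizer ((imgSub φ Q : Subgroup Ω) : Set Ω) := by
  rw [Subgroup.mem_normalizer_iff]
  intro y
  constructor
  · intro hy
    obtain ⟨x, hx, rfl⟩ := mem_imgSub.1 hy
    rw [← map_inv, ← map_mul, ← map_mul]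
    apply imgSub_mem
    exact (Subgroup.mem_normalizer_iff.1 hg x).1 hx
  · intro hy
    obtain ⟨x, hx, hxy⟩ := mem_imgSub.1 hy
    have e : y = φ (g⁻¹ * x * g) := by
      rw [map_mul, map_mul, hxy, map_inv]
      group
    rw [e]
    apply imgSub_mem
    have hg' : ((g : Ω))⁻¹ ∈ Subgroup.normalizer (Q : Set Ω) := Subgroup.inv_mem _ hg
    have := (Subgroup.mem_normalizer_iff.1 hg' x).1 hx
    simpa using this

end imgSub

/-- the `F`-automorphisms of `R` stabilizing `Q` -/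
def autPair (F : FusionSystem S) (R Q : Subgroup Ω) : Subgroup (MulAut R) := F.autGroup R ⊓ stabSub R Q

/-- `N_S(R) ∩ N_S(Q)` -/
def pairNorm (S R Q : Subgroup Ω) : Subgroup Ω :=
  FusionSystem.normalizerIn S R ⊓ FusionSystem.normalizerIn S Q

theorem mem_pairNorm {R Q : Subgroup Ω} {g : Ω} : g ∈ pairNorm S R Q ↔
    g ∈ S ∧ g ∈ Subgroup.normalizer (R : Set Ω) ∧ g ∈ Subgroup.normalizer (Q : Set Ω) := by
  constructor
  · rintro ⟨⟨h1, h2⟩, ⟨_, h3⟩⟩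
    exact ⟨h1, h2, h3⟩
  · rintro ⟨h1, h2, h3⟩
    exact ⟨⟨h1, h2⟩, ⟨h1, h3⟩⟩

theorem pairNorm_le (R Q : Subgroup Ω) : pairNorm S R Q ≤ S := fun _ hg => (mem_pairNorm.1 hg).1

/-- the pair `(R, Q)` with `Q ≤ R ≤ M` is "good": `Aut_M(R)` is a Sylow subgroup of the stabilizer of
`Q` in `Aut_F(R)`, and `R` is receptive relative to `M` -/
structure KGood (F : FusionSystem S) (p : ℕ) (R Q M : Subgroup Ω) : Prop where
  hQR : Q ≤ R
  hRM : R ≤ M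
  hMS : M ≤ S
  hMR : M ≤ Subgroup.normalizer (R : Set Ω)
  hMQ : M ≤ Subgroup.normalizer (Q : Set Ω)
  sylow : IsSylowSub p (autInducedBy M R) (autPair F R Q)
  ext : ∀ (R' : Subgroup Ω) (ψ : R' →* Ω), ψ ∈ F.Hom R' → ψ.range = R → ∀ X : Subgroup Ω, R' ≤ X →
    (∀ g ∈ X, g ∈ S ∧ g ∈ Subgroup.normalizer (R' : Set Ω) ∧ ∃ h ∈ M,
      ∀ (x : R') (hx : g * (x : Ω) * g⁻¹ ∈ R'), ψ ⟨g * x * g⁻¹, hx⟩ = h * ψ x * h⁻¹) →
    ∃ ρ ∈ F.Hom X, (∀ x, ρ x ∈ M) ∧ ∀ (x : Ω) (hx : x ∈ R') (hX : x ∈ X), ρ ⟨x, hX⟩ = ψ ⟨x, hx⟩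

/-- the automorphism of `R` induced by `g ∈ N(R)` -/
theorem mem_autInducedBy_iff {K R : Subgroup Ω} {α : MulAut R} : α ∈ autInducedBy K R ↔
    ∃ g ∈ K, ∃ hg : g ∈ Subgroup.normalizer (R : Set Ω), α = R.normalizerMonoidHom ⟨g, hg⟩ := by
  rw [autInducedBy_eq_map]
  constructor
  · rintro ⟨n, hn, rfl⟩
    exact ⟨n.1, hn, n.2, rfl⟩
  · rintro ⟨g, hg, hgN, rfl⟩
    exact ⟨⟨g, hgN⟩, hg, rfl⟩

theorem normalizerMonoidHom_mem_stabSub {R Q : Subgroup Ω} {g : Ω} (hg : g ∈ Subgroup.normalizer (R : Set Ω))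
    (hgQ : g ∈ Subgroup.normalizer (Q : Set Ω)) : R.normalizerMonoidHom ⟨g, hg⟩ ∈ stabSub R Q := by
  intro x
  exact Subgroup.mem_normalizer_iff.1 hgQ x

theorem mem_normalizer_of_stabSub {R Q : Subgroup Ω} (hQR : Q ≤ R) {g : Ω}
    (hg : g ∈ Subgroup.normalizer (R : Set Ω)) (h : R.normalizerMonoidHom ⟨g, hg⟩ ∈ stabSub R Q) :
    g ∈ Subgroup.normalizer (Q : Set Ω) := by
  rw [Subgroup.mem_normalizer_iff]
  intro y
  constructor
  · intro hy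
    exact (h ⟨y, hQR hy⟩).1 hy
  · intro hy
    have hyR : y ∈ R := by
      have h1 := (Subgroup.mem_normalizer_iff.1 hg y).2 (hQR hy)
      exact h1
    exact (h ⟨y, hyR⟩).2 hy

theorem autInducedBy_le_autPair (F : FusionSystem S) {R Q M : Subgroup Ω} (hRS : R ≤ S) (hMS : M ≤ S)
    (hMQ : M ≤ Subgroup.normalizer (Q : Set Ω)) : autInducedBy M R ≤ autPair F R Q := by
  intro α hα
  refine ⟨autInducedBy_le_autGroup F hRS (autInducedBy_mono hMS R hα), ?_⟩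
  obtain ⟨g, hg, hgN, rfl⟩ := mem_autInducedBy_iff.1 hα
  exact normalizerMonoidHom_mem_stabSub hgN (hMQ hg)

theorem mem_autInducedBy_pairNorm {R Q : Subgroup Ω} (hQR : Q ≤ R) {α : MulAut R} :
    α ∈ autInducedBy (pairNorm S R Q) R ↔ α ∈ autInducedBy S R ∧ α ∈ stabSub R Q := by
  constructor
  · intro h
    refine ⟨autInducedBy_mono (pairNorm_le R Q) R h, ?_⟩
    obtain ⟨g, hg, hgN, rfl⟩ := mem_autInducedBy_iff.1 h
    exact normalizerMonoidHom_mem_stabSub hgN (mem_pairNorm.1 hg).2.2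
  · rintro ⟨h1, h2⟩
    obtain ⟨g, hg, hgN, rfl⟩ := mem_autInducedBy_iff.1 h1
    exact mem_autInducedBy_iff.2 ⟨g, mem_pairNorm.2 ⟨hg, hgN, mem_normalizer_of_stabSub hQR hgN h2⟩, hgN, rfl⟩

theorem congr_symm_apply_congr {R₁ R₂ : Subgroup Ω} (ι : R₁ ≃* R₂) (α : MulAut R₂) :
    MulAut.congr ι (MulAut.congr ι.symm α) = α := by
  ext x
  simp [congr_apply]

/-- a pair `(R, Q)` with `Q ⊴ R`, where `R` has a fully automized receptive conjugate `Rs`, is conjugate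
to a good pair `(Rs, Q₀)` -/
theorem exists_kgood_conj [Finite S] {p : ℕ} [Fact p.Prime] (F : FusionSystem S) {R Q Rs : Subgroup Ω}
    (hRN : R ≤ Subgroup.normalizer (Q : Set Ω)) (hconj : F.IsConj R Rs)
    (hfa : F.IsFullyAutomized p Rs) (hrec : F.IsReceptive Rs) :
    ∃ χ ∈ F.Hom R, χ.range = Rs ∧ KGood F p Rs (imgSub χ Q) (pairNorm S Rs (imgSub χ Q)) := by
  obtain ⟨ψ, hψ, hr, hsyl⟩ := exists_hom_sylow_via F hconj hfa (X := autPair F R Q) inf_le_left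
  refine ⟨ψ, hψ, hr, ?_⟩
  have hRsS : Rs ≤ S := hfa.1
  set Q₀ := imgSub ψ Q with hQ₀
  set ι := isoOfHom F hψ hr with hι
  have hinj := F.injective_of_mem hψ
  have hιQ : ∀ x : R, (x : Ω) ∈ Q ↔ ((ι x : Rs) : Ω) ∈ Q₀ :=
    fun x => (mem_imgSub_iff_of_injective hinj x).symm
  have hQ₀Rs : Q₀ ≤ Rs := by
    rw [← hr]
    exact imgSub_le_range ψ Q
  have hRsN : Rs ≤ Subgroup.normalizer (Q₀ : Set Ω) := by
    intro y hy
    rw [← hr] at hy
    obtain ⟨x, rfl⟩ := hy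
    exact imgSub_normalizer ψ (hRN x.2)
  have hA : ∀ α : MulAut Rs, α ∈ autPair F Rs Q₀ ↔ MulAut.congr ι.symm α ∈ autPair F R Q := by
    intro α
    unfold autPair
    rw [Subgroup.mem_inf, Subgroup.mem_inf, congr_mem_autGroup_iff F hψ hr (MulAut.congr ι.symm α),
      congr_symm_apply_congr, congr_mem_stabSub ι hιQ (α := MulAut.congr ι.symm α),
      congr_symm_apply_congr]
  refine ⟨hQ₀Rs, ?_, pairNorm_le _ _, ?_, ?_, ?_, ?_⟩
  · intro y hy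
    exact mem_pairNorm.2 ⟨hRsS hy, Subgroup.le_normalizer hy, hRsN hy⟩
  · intro g hg
    exact (mem_pairNorm.1 hg).2.1
  · intro g hg
    exact (mem_pairNorm.1 hg).2.2
  · refine sylow_transport (MulAut.congr ι.symm) (A' := autPair F R Q)
      (B' := (autInducedBy S Rs).comap (MulAut.congr ι).toMonoidHom ⊓ autPair F R Q) hA ?_ hsyl
    intro α
    rw [mem_autInducedBy_pairNorm hQ₀Rs, Subgroup.mem_inf, Subgroup.mem_comap, ← hA]
    show _ ↔ MulAut.congr ι (MulAut.congr ι.symm α) ∈ _ ∧ _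
    rw [congr_symm_apply_congr]
    constructor
    · rintro ⟨h1, h2⟩
      exact ⟨h1, autInducedBy_le_autGroup F hRsS h1, h2⟩
    · rintro ⟨h1, _, h2⟩
      exact ⟨h1, h2⟩
  · intro R' ψ' hψ' hr' X hR'X hX
    obtain ⟨ρ, hρ, hρe⟩ := hrec.2 R' ψ' hψ' hr'
    have hXle : X ≤ FusionSystem.extender S R' ψ' := by
      intro g hg
      obtain ⟨h1, h2, h, hh, hx⟩ := hX g hg
      exact Subgroup.subset_closure ⟨h1, h2, h, (pairNorm_le _ _) hh, hx⟩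
    have hρX : ρ.comp (Subgroup.inclusion hXle) ∈ F.Hom X := restrict_mem F hXle hρ
    have hagree : ∀ (x : Ω) (hx : x ∈ R') (hX' : x ∈ X),
        (ρ.comp (Subgroup.inclusion hXle)) ⟨x, hX'⟩ = ψ' ⟨x, hx⟩ := fun x hx hX' => hρe x hx (hXle hX')
    refine ⟨ρ.comp (Subgroup.inclusion hXle), hρX, ?_, hagree⟩
    intro g
    obtain ⟨h1, h2, h, hh, hx⟩ := hX g g.2
    have himg : imgSub (ρ.comp (Subgroup.inclusion hXle)) R' = Rs := by
      rw [← hr', ← imgSub_self ψ']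
      exact imgSub_congr hR'X le_rfl (fun x hx => hagree x hx (hR'X hx))
    have hgRs : (ρ.comp (Subgroup.inclusion hXle)) g ∈ Subgroup.normalizer (Rs : Set Ω) := by
      rw [← himg]
      exact imgSub_normalizer _ h2
    have hconj : ∀ y ∈ Rs, (ρ.comp (Subgroup.inclusion hXle)) g * y * ((ρ.comp (Subgroup.inclusion hXle)) g)⁻¹
        = h * y * h⁻¹ := by
      intro y hy
      rw [← hr'] at hy
      obtain ⟨x, rfl⟩ := hy
      have hx' : (g : Ω) * (x : Ω) * (g : Ω)⁻¹ ∈ R' := (Subgroup.mem_normalizer_iff.1 h2 x).1 x.2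
      rw [← hx x hx', ← hagree x x.2 (hR'X x.2), ← hagree _ hx' (hR'X hx'), ← map_inv, ← map_mul, ← map_mul]
      rfl
    refine mem_pairNorm.2 ⟨(F.le_of_mem hρX).2 g, hgRs, ?_⟩
    rw [Subgroup.mem_normalizer_iff]
    have hhQ := (mem_pairNorm.1 hh).2.2
    intro y
    constructor
    · intro hy
      rw [hconj y (hQ₀Rs hy)]
      exact (Subgroup.mem_normalizer_iff.1 hhQ y).1 hy
    · intro hy
      have hyRs : y ∈ Rs := (Subgroup.mem_normalizer_iff.1 hgRs y).2 (hQ₀Rs hy)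
      rw [hconj y hyRs] at hy
      exact (Subgroup.mem_normalizer_iff.1 hhQ y).2 hy

/-- for a good pair `(R, Q, M)` and an isomorphism of pairs `ψ : (R', Q') → (R, Q)`, some map of the system
defined on `N_S(R') ∩ N_S(Q')` carries `(R', Q')` to `(R, Q)` -/
theorem KGood.exists_hom [Finite S] {p : ℕ} [Fact p.Prime] (hS : IsPGroup p S) {F : FusionSystem S}
    {R Q M : Subgroup Ω} (hK : KGood F p R Q M) {R' Q' : Subgroup Ω} {ψ : R' →* Ω} (hψ : ψ ∈ F.Hom R')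
    (hr : ψ.range = R) (hQ'R' : Q' ≤ R') (hR'N : R' ≤ Subgroup.normalizer (Q' : Set Ω))
    (hq : imgSub ψ Q' = Q) :
    ∃ ρ ∈ F.Hom (pairNorm S R' Q'), imgSub ρ R' = R ∧ imgSub ρ Q' = Q := by
  have hR'S : R' ≤ S := le_of_hom_mem F hψ
  have hRS : R ≤ S := hK.hRM.trans hK.hMS
  haveI : Finite R := finite_of_le hRS
  set ι := isoOfHom F hψ hr with hι
  have hinj := F.injective_of_mem hψ
  have hιQ : ∀ x : R', (x : Ω) ∈ Q' ↔ ((ι x : R) : Ω) ∈ Q := by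
    intro x
    rw [← hq]
    exact (mem_imgSub_iff_of_injective hinj x).symm
  set X := pairNorm S R' Q' with hX
  set L := (autInducedBy X R').map (MulAut.congr ι).toMonoidHom with hL
  have hLA : L ≤ autPair F R Q := by
    rintro _ ⟨α, hα, rfl⟩
    have h1 : α ∈ autPair F R' Q' := autInducedBy_le_autPair F hR'S (pairNorm_le _ _)
      (fun g hg => (mem_pairNorm.1 hg).2.2) hα
    exact ⟨congr_mem_autGroup F hψ hr h1.1, (congr_mem_stabSub ι hιQ).1 h1.2⟩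
  have hLp : IsPGroup p L := (isPGroup_autInducedBy (hS.to_le (pairNorm_le R' Q')) R').map _
  obtain ⟨β, hβ, hβL⟩ := exists_cj_le_of_isSylowSub hK.sylow hLA hLp
  have hβmem : R.subtype.comp (β : MulAut R).toMonoidHom ∈ F.Hom R := (mem_autGroup_iff F hRS).1 hβ.1
  set ψ' : R' →* Ω := R.subtype.comp ((β : MulAut R).toMonoidHom.comp ι.toMonoidHom) with hψ'def
  have hψR : ∀ x : R', ψ x ∈ R := fun x => hr ▸ ⟨x, rfl⟩
  have hψ' : ψ' ∈ F.Hom R' := by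
    apply comp_mem' F hψ hβmem hψR
    intro x
    rfl
  have hr' : ψ'.range = R := by
    ext y
    constructor
    · rintro ⟨x, rfl⟩
      exact (β (ι x)).2
    · intro hy
      refine ⟨ι.symm (β.symm ⟨y, hy⟩), ?_⟩
      simp [hψ'def]
  have key : ∀ g ∈ X, g ∈ S ∧ g ∈ Subgroup.normalizer (R' : Set Ω) ∧ ∃ h ∈ M,
      ∀ (x : R') (hx : g * (x : Ω) * g⁻¹ ∈ R'), ψ' ⟨g * x * g⁻¹, hx⟩ = h * ψ' x * h⁻¹ := by
    intro g hg
    obtain ⟨hgS, hgR, hgQ⟩ := mem_pairNorm.1 hg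
    refine ⟨hgS, hgR, ?_⟩
    set α := R'.normalizerMonoidHom ⟨g, hgR⟩ with hα
    have hαmem : α ∈ autInducedBy X R' := mem_autInducedBy_iff.2 ⟨g, hg, hgR, rfl⟩
    have hk : MulAut.congr ι α ∈ L := ⟨α, hαmem, rfl⟩
    have h3 := hβL (conj_mem_cj (g := β) hk)
    obtain ⟨h, hh, hhN, hh'⟩ := mem_autInducedBy_iff.1 h3
    refine ⟨h, hh, ?_⟩
    intro x hx
    have h4 : ∀ y : R, ((R.normalizerMonoidHom ⟨h, hhN⟩ y : R) : Ω) =
        ((β ((MulAut.congr ι α) (β⁻¹ y)) : R) : Ω) := by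
      intro y
      rw [← hh']
      rfl
    have h5 := h4 (β (ι x))
    rw [normalizerMonoidHom_apply_coe] at h5
    show ((β (ι ⟨g * x * g⁻¹, hx⟩) : R) : Ω) = h * ((β (ι x) : R) : Ω) * h⁻¹
    rw [h5]
    simp only [MulAut.inv_apply_self, MulAut.congr_apply, MulEquiv.trans_apply,
      MulEquiv.symm_apply_apply]
    rfl
  have hR'X : R' ≤ X := fun y hy => mem_pairNorm.2 ⟨hR'S hy, Subgroup.le_normalizer hy, hR'N hy⟩
  obtain ⟨ρ, hρ, -, hρe⟩ := hK.ext R' ψ' hψ' hr' X hR'X key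
  refine ⟨ρ, hρ, ?_, ?_⟩
  · rw [← hr', ← imgSub_self ψ']
    exact imgSub_congr hR'X le_rfl (fun x hx => hρe x hx (hR'X hx))
  · have h1 : imgSub ρ Q' = imgSub ψ' Q' :=
      imgSub_congr (hQ'R'.trans hR'X) hQ'R' (fun x hx => hρe x (hQ'R' hx) _)
    rw [h1]
    ext y
    rw [mem_imgSub]
    constructor
    · rintro ⟨x, hx, rfl⟩
      exact (mem_stabSub.1 hβ.2 (ι x)).1 ((hιQ x).1 hx)
    · intro hy
      have hyR : y ∈ R := hK.hQR hy
      have hβi : β⁻¹ ∈ stabSub R Q := (stabSub R Q).inv_mem hβ.2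
      have h2 : ((β⁻¹ ⟨y, hyR⟩ : R) : Ω) ∈ Q := (mem_stabSub.1 hβi ⟨y, hyR⟩).1 hy
      refine ⟨ι.symm (β⁻¹ ⟨y, hyR⟩), ?_, ?_⟩
      · rw [hιQ, MulEquiv.apply_symm_apply]
        exact h2
      · show ((β (ι (ι.symm (β⁻¹ ⟨y, hyR⟩))) : R) : Ω) = y
        rw [MulEquiv.apply_symm_apply, MulAut.apply_inv_self]

/-- a good pair can be transported along a map of the system defined on a subgroup containing `M` -/
theorem KGood.transport [Finite S] {p : ℕ} [Fact p.Prime] {F : FusionSystem S} {R₀ Q₀ M₀ : Subgroup Ω}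
    (hK : KGood F p R₀ Q₀ M₀) {N : Subgroup Ω} (hMN : M₀ ≤ N) {θ : N →* Ω} (hθ : θ ∈ F.Hom N) :
    KGood F p (imgSub θ R₀) (imgSub θ Q₀) (imgSub θ M₀) := by
  have hinj := F.injective_of_mem hθ
  have hRN : R₀ ≤ N := hK.hRM.trans hMN
  set θR : R₀ →* Ω := θ.comp (Subgroup.inclusion hRN) with hθR
  have hθRmem : θR ∈ F.Hom R₀ := restrict_mem F hRN hθ
  have hθRr : θR.range = imgSub θ R₀ := range_comp_inclusion hRN θ
  set e := isoOfHom F hθRmem hθRr with he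
  have hecoe : ∀ x : R₀, ((e x : imgSub θ R₀) : Ω) = θ (Subgroup.inclusion hRN x) := fun x => rfl
  have heQ : ∀ x : R₀, (x : Ω) ∈ Q₀ ↔ ((e x : imgSub θ R₀) : Ω) ∈ imgSub θ Q₀ := by
    intro x
    exact (mem_imgSub_iff_of_injective hinj (Subgroup.inclusion hRN x)).symm
  have hA : ∀ α : MulAut (imgSub θ R₀), α ∈ autPair F (imgSub θ R₀) (imgSub θ Q₀) ↔
      MulAut.congr e.symm α ∈ autPair F R₀ Q₀ := by
    intro α
    unfold autPair
    rw [Subgroup.mem_inf, Subgroup.mem_inf,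
      congr_mem_autGroup_iff F hθRmem hθRr (MulAut.congr e.symm α), congr_symm_apply_congr,
      congr_mem_stabSub e heQ (α := MulAut.congr e.symm α), congr_symm_apply_congr]
  have hconjeq : ∀ (m : N) (hm : (m : Ω) ∈ Subgroup.normalizer (R₀ : Set Ω))
      (hm' : θ m ∈ Subgroup.normalizer ((imgSub θ R₀ : Subgroup Ω) : Set Ω)),
      MulAut.congr e (R₀.normalizerMonoidHom ⟨m, hm⟩) = (imgSub θ R₀).normalizerMonoidHom ⟨θ m, hm'⟩ := by
    intro m hm hm'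
    refine MulEquiv.ext (fun y => ?_)
    obtain ⟨x, rfl⟩ := e.surjective y
    rw [congr_apply, MulEquiv.symm_apply_apply]
    apply Subtype.ext
    rw [hecoe, normalizerMonoidHom_apply_coe, hecoe, ← map_inv, ← map_mul, ← map_mul]
    rfl
  have hB : ∀ α : MulAut (imgSub θ R₀), α ∈ autInducedBy (imgSub θ M₀) (imgSub θ R₀) ↔
      MulAut.congr e.symm α ∈ autInducedBy M₀ R₀ := by
    intro α
    rw [mem_autInducedBy_iff, mem_autInducedBy_iff]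
    constructor
    · rintro ⟨g', hg', hg'N, rfl⟩
      obtain ⟨m, hm, rfl⟩ := mem_imgSub.1 hg'
      refine ⟨m, hm, hK.hMR hm, ?_⟩
      rw [← hconjeq m (hK.hMR hm) hg'N, congr_symm_congr]
    · rintro ⟨m, hm, hmN, hα⟩
      refine ⟨θ ⟨m, hMN hm⟩, imgSub_mem θ hm, imgSub_normalizer θ hmN, ?_⟩
      rw [← hconjeq ⟨m, hMN hm⟩ hmN, ← hα, congr_symm_apply_congr]
  refine ⟨imgSub_mono θ hK.hQR, imgSub_mono θ hK.hRM, ?_, ?_, ?_, sylow_transport (MulAut.congr e.symm) hA hB hK.sylow, ?_⟩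
  · intro y hy
    obtain ⟨m, _, rfl⟩ := mem_imgSub.1 hy
    exact (F.le_of_mem hθ).2 m
  · intro y hy
    obtain ⟨m, hm, rfl⟩ := mem_imgSub.1 hy
    exact imgSub_normalizer θ (hK.hMR hm)
  · intro y hy
    obtain ⟨m, hm, rfl⟩ := mem_imgSub.1 hy
    exact imgSub_normalizer θ (hK.hMQ hm)
  · intro R' ψ hψ hr X hR'X hX
    obtain ⟨inv, hinvmem, hinv⟩ := exists_inv_iso F hθRmem hθRr
    have hψv : ∀ x : R', ψ x ∈ imgSub θ R₀ := fun x => hr ▸ ⟨x, rfl⟩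
    have hinvval : ∀ y : imgSub θ R₀, ∃ hy : inv y ∈ R₀, θ ⟨inv y, hRN hy⟩ = y := by
      intro y
      obtain ⟨x, rfl⟩ := e.surjective y
      have h1 := hinv x (e x).2
      have h2 : inv (e x) = x := h1
      rw [h2]
      exact ⟨x.2, rfl⟩
    set ψ₀ : R' →* Ω := inv.comp (ψ.codRestrict _ hψv) with hψ₀def
    have hψ₀ : ψ₀ ∈ F.Hom R' := F.comp_mem hψ hinvmem hψv
    have hψ₀R : ∀ x : R', ψ₀ x ∈ R₀ := fun x => (hinvval ⟨ψ x, hψv x⟩).1
    have hθψ₀ : ∀ x : R', θ ⟨ψ₀ x, hRN (hψ₀R x)⟩ = ψ x := fun x => (hinvval ⟨ψ x, hψv x⟩).2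
    have hr₀ : ψ₀.range = R₀ := by
      ext y
      constructor
      · rintro ⟨x, rfl⟩
        exact hψ₀R x
      · intro hy
        have h1 : ((e ⟨y, hy⟩ : imgSub θ R₀) : Ω) ∈ ψ.range := by
          rw [hr]
          exact (e ⟨y, hy⟩).2
        obtain ⟨z, hz⟩ := h1
        refine ⟨z, ?_⟩
        have h2 : (⟨ψ z, hψv z⟩ : imgSub θ R₀) = e ⟨y, hy⟩ := Subtype.ext hz
        show inv ⟨ψ z, hψv z⟩ = y
        rw [h2]
        exact hinv ⟨y, hy⟩ (e ⟨y, hy⟩).2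
    have cond₀ : ∀ g ∈ X, g ∈ S ∧ g ∈ Subgroup.normalizer (R' : Set Ω) ∧ ∃ h ∈ M₀,
        ∀ (x : R') (hx : g * (x : Ω) * g⁻¹ ∈ R'), ψ₀ ⟨g * x * g⁻¹, hx⟩ = h * ψ₀ x * h⁻¹ := by
      intro g hg
      obtain ⟨h1, h2, h, hh, hx⟩ := hX g hg
      obtain ⟨m, hm, rfl⟩ := mem_imgSub.1 hh
      refine ⟨h1, h2, m, hm, fun x hx' => ?_⟩
      have hmR : (m : Ω) * ψ₀ x * (m : Ω)⁻¹ ∈ R₀ :=
        (Subgroup.mem_normalizer_iff.1 (hK.hMR hm) _).1 (hψ₀R x)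
      have h3 : θ ⟨ψ₀ ⟨g * x * g⁻¹, hx'⟩, hRN (hψ₀R _)⟩ = θ ⟨(m : Ω) * ψ₀ x * (m : Ω)⁻¹, hRN hmR⟩ := by
        rw [hθψ₀, hx x hx', ← hθψ₀ x, ← map_inv, ← map_mul, ← map_mul]
        rfl
      exact congrArg Subtype.val (hinj h3)
    obtain ⟨ρ₀, hρ₀, hρ₀M, hρ₀e⟩ := hK.ext R' ψ₀ hψ₀ hr₀ X hR'X cond₀
    have hρ₀N : ∀ x : X, ρ₀ x ∈ N := fun x => hMN (hρ₀M x)
    refine ⟨θ.comp (ρ₀.codRestrict N hρ₀N), F.comp_mem hρ₀ hθ hρ₀N, ?_, ?_⟩
    · intro x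
      exact mem_imgSub.2 ⟨⟨ρ₀ x, hρ₀N x⟩, hρ₀M x, rfl⟩
    · intro x hx hX'
      show θ ⟨ρ₀ ⟨x, hX'⟩, _⟩ = ψ ⟨x, hx⟩
      rw [← hθψ₀ ⟨x, hx⟩]
      congr 1
      exact Subtype.ext (hρ₀e x hx hX')

/-- an element mapped into a normal `p`-subgroup has the same image as some element of a Sylow subgroup -/
theorem exists_sylow_map_eq {G B : Type*} [Group G] [Group B] [Finite G] {p : ℕ} [Fact p.Prime]
    (T : Sylow p G) (r : G →* B) {O : Subgroup B} (hOn : O.Normal) (hOp : IsPGroup p O) {a : G}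
    (ha : r a ∈ O) : ∃ t ∈ (T : Subgroup G), r t = r a := by
  have hsurj : Function.Surjective r.rangeRestrict := r.rangeRestrict_surjective
  set T₀ := T.mapSurjective hsurj with hT₀
  haveI hOn₀ : (O.subgroupOf r.range).Normal := hOn.subgroupOf _
  have hOp₀ : IsPGroup p (O.subgroupOf r.range) := hOp.comap_subtype
  have hle : O.subgroupOf r.range ≤ T₀ := hOp₀.le_sylow_of_normal T₀
  have h1 : r.rangeRestrict a ∈ (T₀ : Subgroup r.range) := by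
    apply hle
    rw [Subgroup.mem_subgroupOf]
    exact ha
  rw [hT₀, Sylow.coe_mapSurjective] at h1
  obtain ⟨t, ht, hta⟩ := h1
  exact ⟨t, ht, congrArg Subtype.val hta⟩

theorem resAut_mem_autGroup (F : FusionSystem S) {R P : Subgroup Ω} (hPR : P ≤ R) (hRS : R ≤ S)
    {α : MulAut R} (hα : α ∈ autPair F R P) : resAut hPR ⟨α, hα.2⟩ ∈ F.autGroup P := by
  rw [mem_autGroup_iff F (hPR.trans hRS)]
  have h1 := (mem_autGroup_iff F hRS).1 hα.1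
  have h2 := restrict_mem F hPR h1
  have : P.subtype.comp (resAut hPR ⟨α, hα.2⟩).toMonoidHom =
      (R.subtype.comp α.toMonoidHom).comp (Subgroup.inclusion hPR) := by
    ext x
    rfl
  rw [this]
  exact h2

/-- for a good pair `(R, P, M)`, an element of `Aut_F(R)` stabilizing `P` whose restriction to `P` lies in
`O_p(Aut_F(P))` acts on `P` as some element of `M` -/
theorem KGood.exists_of_mem_pCore [Finite S] {p : ℕ} [Fact p.Prime] {F : FusionSystem S}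
    {R P M : Subgroup Ω} (hK : KGood F p R P M) {l : MulAut R} (hl : l ∈ autPair F R P)
    (hO : resAut hK.hQR ⟨l, hl.2⟩ ∈ (pCore p (F.autGroup P)).map (F.autGroup P).subtype) :
    ∃ h ∈ M, ∀ x : P, (((l (Subgroup.inclusion hK.hQR x)) : R) : Ω) = h * x * h⁻¹ := by
  have hRS : R ≤ S := hK.hRM.trans hK.hMS
  haveI : Finite R := finite_of_le hRS
  let r : autPair F R P →* F.autGroup P :=
    ((resAut hK.hQR).comp (Subgroup.inclusion (inf_le_right : autPair F R P ≤ stabSub R P))).codRestrict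
      (F.autGroup P) (fun a => resAut_mem_autGroup F hK.hQR hRS a.2)
  obtain ⟨T, hT⟩ := hK.sylow
  have ha : r ⟨l, hl⟩ ∈ pCore p (F.autGroup P) := by
    obtain ⟨o, ho, hoe⟩ := hO
    have : r ⟨l, hl⟩ = o := Subtype.ext hoe.symm
    rw [this]
    exact ho
  obtain ⟨t, ht, hte⟩ := exists_sylow_map_eq T r (pCore_normal' p) (pCore_isPGroup' p) ha
  rw [hT, Subgroup.mem_subgroupOf] at ht
  obtain ⟨h, hh, hhN, hheq⟩ := mem_autInducedBy_iff.1 ht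
  refine ⟨h, hh, fun x => ?_⟩
  have h1 : ((r ⟨l, hl⟩ : F.autGroup P) : MulAut P) = ((r t : F.autGroup P) : MulAut P) := by
    rw [hte]
  have h2 := congrArg (fun f : MulAut P => ((f x : P) : Ω)) h1
  have h3 : ((((t : MulAut R) (Subgroup.inclusion hK.hQR x)) : R) : Ω) = h * x * h⁻¹ := by
    rw [hheq]
    rfl
  exact (show (((l (Subgroup.inclusion hK.hQR x)) : R) : Ω) =
    ((((t : MulAut R) (Subgroup.inclusion hK.hQR x)) : R) : Ω) from h2).trans h3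

/-- for a good pair `(R, P, M)`: an automorphism `β` of the pair such that conjugation by the elements of
`X ≥ R`, transported by `β`, acts on `P` like elements of `M`, can be changed on `R` (but not on `P`) so as to
extend to `X` -/
theorem KGood.exists_adjust [Finite S] {p : ℕ} [Fact p.Prime] (hS : IsPGroup p S) {F : FusionSystem S}
    {R P M : Subgroup Ω} (hK : KGood F p R P M) {β : MulAut R} (hβ : β ∈ autPair F R P) {X : Subgroup Ω}
    (hRX : R ≤ X)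
    (hX : ∀ g ∈ X, g ∈ S ∧ g ∈ Subgroup.normalizer (R : Set Ω) ∧ g ∈ Subgroup.normalizer (P : Set Ω) ∧
      ∃ h ∈ M, ∀ (x : R) (hx : g * (x : Ω) * g⁻¹ ∈ R), (x : Ω) ∈ P →
        ((β ⟨g * x * g⁻¹, hx⟩ : R) : Ω) = h * ((β x : R) : Ω) * h⁻¹) :
    ∃ ρ ∈ F.Hom X, ∀ (x : Ω) (hx : x ∈ P) (hX : x ∈ X), ρ ⟨x, hX⟩ = ((β ⟨x, hK.hQR hx⟩ : R) : Ω) := by
  have hRS : R ≤ S := hK.hRM.trans hK.hMS
  haveI : Finite R := finite_of_le hRS
  set A := autPair F R P with hA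
  set r : A →* MulAut P :=
    (resAut hK.hQR).comp (Subgroup.inclusion (inf_le_right : A ≤ stabSub R P)) with hr
  have hrapp : ∀ (a : A) (y : P),
      ((r a y : P) : Ω) = (((a : MulAut R) (Subgroup.inclusion hK.hQR y) : R) : Ω) := fun a y => rfl
  obtain ⟨T, hT⟩ := hK.sylow
  have hTtop : IsSylowSub p (T : Subgroup A) ⊤ := isSylowSub_top_of_sylow T
  have hXS : X ≤ S := fun g hg => (hX g hg).1
  have hXA : autInducedBy X R ≤ A :=
    autInducedBy_le_autPair F hRS hXS (fun g hg => (hX g hg).2.2.1)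
  set b : A := ⟨β, hβ⟩ with hb
  set L₀ : Subgroup A := (autInducedBy X R).subgroupOf A with hL₀
  have hXp : IsPGroup p X := hS.to_le hXS
  have hL₀p : IsPGroup p L₀ := (isPGroup_subgroupOf_iff_of_le hXA).2 (isPGroup_autInducedBy hXp R)
  set L := cj b L₀ with hL
  have hLp : IsPGroup p L := isPGroup_cj hL₀p
  have hβi : β⁻¹ ∈ stabSub R P := (stabSub R P).inv_mem hβ.2
  have hcond : ∀ l ∈ L, ∃ t ∈ (T : Subgroup A), r l = r t := by
    intro l hl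
    rw [hL, mem_cj, hL₀, Subgroup.mem_subgroupOf] at hl
    obtain ⟨g, hg, hgN, hgeq⟩ := mem_autInducedBy_iff.1 hl
    obtain ⟨hgS, _, hgP, h, hh, hhx⟩ := hX g hg
    have hhN := hK.hMR hh
    have htM : R.normalizerMonoidHom ⟨h, hhN⟩ ∈ autInducedBy M R :=
      mem_autInducedBy_iff.2 ⟨h, hh, hhN, rfl⟩
    have htA : R.normalizerMonoidHom ⟨h, hhN⟩ ∈ A :=
      autInducedBy_le_autPair F hRS hK.hMS hK.hMQ htM
    refine ⟨⟨_, htA⟩, ?_, ?_⟩
    · rw [hT, Subgroup.mem_subgroupOf]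
      exact htM
    · refine MulEquiv.ext (fun y => Subtype.ext ?_)
      rw [hrapp, hrapp]
      have h0 : ((b⁻¹ * l * b : A) : MulAut R) = β⁻¹ * (l : MulAut R) * β := rfl
      have hl' : (l : MulAut R) = β * R.normalizerMonoidHom ⟨g, hgN⟩ * β⁻¹ := by
        rw [← hgeq, h0]
        group
      rw [hl']
      have hxP : ((β⁻¹ (Subgroup.inclusion hK.hQR y) : R) : Ω) ∈ P := (mem_stabSub.1 hβi _).1 y.2
      have hgx : g * ((β⁻¹ (Subgroup.inclusion hK.hQR y) : R) : Ω) * g⁻¹ ∈ R :=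
        (Subgroup.mem_normalizer_iff.1 hgN _).1 (β⁻¹ (Subgroup.inclusion hK.hQR y)).2
      have h1 := hhx (β⁻¹ (Subgroup.inclusion hK.hQR y)) hgx hxP
      rw [MulAut.apply_inv_self] at h1
      exact h1
  obtain ⟨k, hk, hkL⟩ := exists_ker_conj_le hTtop r hLp hcond
  set ψa : MulAut R := (k : MulAut R) * β with hψa
  have hψaA : ψa ∈ A := A.mul_mem k.2 hβ
  have hψamem : R.subtype.comp ψa.toMonoidHom ∈ F.Hom R := (mem_autGroup_iff F hRS).1 hψaA.1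
  have hψar : (R.subtype.comp ψa.toMonoidHom).range = R := by
    ext y
    constructor
    · rintro ⟨x, rfl⟩
      exact (ψa x).2
    · intro hy
      exact ⟨ψa.symm ⟨y, hy⟩, by simp⟩
  have key : ∀ g ∈ X, g ∈ S ∧ g ∈ Subgroup.normalizer (R : Set Ω) ∧ ∃ h ∈ M,
      ∀ (x : R) (hx : g * (x : Ω) * g⁻¹ ∈ R),
        (R.subtype.comp ψa.toMonoidHom) ⟨g * x * g⁻¹, hx⟩ =
          h * (R.subtype.comp ψa.toMonoidHom) x * h⁻¹ := by
    intro g hg
    obtain ⟨hgS, hgN, hgP, _⟩ := hX g hg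
    refine ⟨hgS, hgN, ?_⟩
    have hcX : R.normalizerMonoidHom ⟨g, hgN⟩ ∈ autInducedBy X R :=
      mem_autInducedBy_iff.2 ⟨g, hg, hgN, rfl⟩
    have hcA : R.normalizerMonoidHom ⟨g, hgN⟩ ∈ A := hXA hcX
    have hcL₀ : (⟨_, hcA⟩ : A) ∈ L₀ := by
      rw [hL₀, Subgroup.mem_subgroupOf]
      exact hcX
    have h1 : k * (b * (⟨_, hcA⟩ : A) * b⁻¹) * k⁻¹ ∈ (T : Subgroup A) :=
      hkL (conj_mem_cj (conj_mem_cj hcL₀))
    rw [hT, Subgroup.mem_subgroupOf] at h1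
    obtain ⟨h, hh, hhN, hheq⟩ := mem_autInducedBy_iff.1 h1
    refine ⟨h, hh, fun x hx => ?_⟩
    have h2 : (k : MulAut R) * (β * R.normalizerMonoidHom ⟨g, hgN⟩ * β⁻¹) * (k : MulAut R)⁻¹ =
        R.normalizerMonoidHom ⟨h, hhN⟩ := hheq
    have h3 : ψa * R.normalizerMonoidHom ⟨g, hgN⟩ = R.normalizerMonoidHom ⟨h, hhN⟩ * ψa := by
      rw [← h2, hψa]
      group
    have h4 := congrArg (fun f : MulAut R => ((f x : R) : Ω)) h3
    exact h4
  obtain ⟨ρ, hρ, -, hρe⟩ := hK.ext R _ hψamem hψar X hRX key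
  refine ⟨ρ, hρ, fun x hx hX' => ?_⟩
  rw [hρe x (hK.hQR hx) hX']
  show (((k : MulAut R) (β ⟨x, hK.hQR hx⟩) : R) : Ω) = ((β ⟨x, hK.hQR hx⟩ : R) : Ω)
  have hk1 : r k = 1 := hk
  have hβP : ((β ⟨x, hK.hQR hx⟩ : R) : Ω) ∈ P := (mem_stabSub.1 hβ.2 _).1 hx
  have h5 := hrapp k ⟨_, hβP⟩
  rw [hk1] at h5
  exact h5.symm

end Cfsg.Agent.Lib.Helper29
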