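import Cfsg.Agent.Lib.Helper29.FusionEssential

set_option autoImplicit false
set_option linter.unusedVariables false
open Cfsg

namespace Cfsg.Agent.Lib.Helper29

variable {Ω : Type*} [Group Ω] {S : Subgroup Ω}

theorem extender_le (P : Subgroup Ω) (φ : P →* Ω) : FusionSystem.extender S P φ ≤ S := by
  refine (Subgroup.closure_le _).2 ?_
  rintro g ⟨hg, _⟩
  exact hg

theorem centralizerIn_le_extender (P : Subgroup Ω) (φ : P →* Ω) :
    FusionSystem.centralizerIn S P ≤ FusionSystem.extender S P φ := by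
  intro c hc
  apply Subgroup.subset_closure
  refine ⟨hc.1, Subgroup.centralizer_le_normalizer _ hc.2, 1, S.one_mem, ?_⟩
  intro x hx
  have hc2 : c ∈ Subgroup.centralizer (P : Set Ω) := hc.2
  rw [Subgroup.mem_centralizer_iff] at hc2
  have h1 : c * (x : Ω) * c⁻¹ = x := by
    rw [← hc2 x x.2]; group
  have h2 : (⟨c * (x : Ω) * c⁻¹, hx⟩ : P) = x := Subtype.ext h1
  rw [h2]; simp

/-- the receptive extension maps `C_S(Q)` into `C_S(P)` -/
theorem ext_centralizer (F : FusionSystem S) {P Q : Subgroup Ω} {φ : Q →* Ω} (hφ : φ ∈ F.Hom Q)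
    (hr : φ.range = P) {ψ : ↥(FusionSystem.extender S Q φ) →* Ω} (hψ : ψ ∈ F.Hom (FusionSystem.extender S Q φ))
    (hext : ∀ (x : Ω) (hP : x ∈ Q) (hN : x ∈ FusionSystem.extender S Q φ), ψ ⟨x, hN⟩ = φ ⟨x, hP⟩)
    (c : Ω) (hc : c ∈ FusionSystem.centralizerIn S Q) :
    ψ ⟨c, centralizerIn_le_extender Q φ hc⟩ ∈ FusionSystem.centralizerIn S P := by
  refine ⟨(F.le_of_mem hψ).2 _, ?_⟩
  show ψ ⟨c, _⟩ ∈ Subgroup.centralizer (P : Set Ω)
  rw [Subgroup.mem_centralizer_iff]
  intro y hy
  rw [← hr] at hy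
  obtain ⟨x, rfl⟩ := hy
  rw [← hext x.1 x.2 (le_extender F hφ x.2), ← map_mul, ← map_mul]
  congr 1
  apply Subtype.ext
  have hc2 : c ∈ Subgroup.centralizer (Q : Set Ω) := hc.2
  rw [Subgroup.mem_centralizer_iff] at hc2
  exact hc2 x x.2

/-- a receptive subgroup containing its centralizer is centric -/
theorem centric_of_receptive (F : FusionSystem S) {R : Subgroup Ω} (hR : F.IsReceptive R)
    (h : FusionSystem.centralizerIn S R ≤ R) : F.IsCentric R := by
  refine ⟨hR.1, fun Q hRQ => ?_⟩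
  obtain ⟨φ, hφ, hr⟩ := isConj_symm F hRQ
  obtain ⟨ψ, hψ, hext⟩ := hR.2 Q φ hφ hr
  intro c hc
  have h1 := h (ext_centralizer F hφ hr hψ hext c hc)
  rw [← hr] at h1
  obtain ⟨x, hx⟩ := h1
  rw [← hext x.1 x.2 (le_extender F hφ x.2)] at hx
  have h2 := F.injective_of_mem hψ hx
  have h3 : (x : Ω) = c := congrArg (fun z : FusionSystem.extender S Q φ => (z : Ω)) h2
  rw [← h3]
  exact x.2

/-- AKO I.2.6(b): fully automized and receptive implies fully normalized -/
theorem fullyNormalized_of_fa_rec [Finite S] {p : ℕ} [Fact p.Prime] (hS : IsPGroup p S) (F : FusionSystem S)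
    {R : Subgroup Ω} (hfa : F.IsFullyAutomized p R) (hrec : F.IsReceptive R) : F.IsFullyNormalized R := by
  refine ⟨hrec.1, fun Q hRQ => ?_⟩
  obtain ⟨θ, hθ, hθN, _, _⟩ := exists_hom_normalizer p hS F R Q hfa hrec (isConj_symm F hRQ)
  haveI := finite_normalizerIn (S := S) R
  apply Nat.card_le_card_of_injective (fun x => (⟨θ x, hθN x⟩ : FusionSystem.normalizerIn S R))
  intro a b hab
  exact F.injective_of_mem hθ (congrArg Subtype.val hab)

theorem range_subtype_comp_aut {R : Subgroup Ω} (α : MulAut R) :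
    (R.subtype.comp α.toMonoidHom).range = R := by
  ext y
  constructor
  · rintro ⟨z, rfl⟩
    exact (α z).2
  · intro hy
    exact ⟨α.symm ⟨y, hy⟩, by simp⟩

/-- if conjugation by `g ∈ N_S(R)` is inner on `R` and `C_S(R) ≤ R`, then `g ∈ R` -/
theorem mem_of_conj_mem_inn {R : Subgroup Ω} (hRS : R ≤ S) (hcen : FusionSystem.centralizerIn S R ≤ R)
    {g : Ω} (hgS : g ∈ S) (hgN : g ∈ Subgroup.normalizer (R : Set Ω))
    (h : R.normalizerMonoidHom ⟨g, hgN⟩ ∈ Inn R) : g ∈ R := by
  obtain ⟨r, hr⟩ := h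
  have hrx : ∀ x : R, (r : Ω) * x * (r : Ω)⁻¹ = g * x * g⁻¹ := by
    intro x
    have := congrArg (fun f : MulAut R => ((f x : R) : Ω)) hr
    simpa [MulAut.conj_apply, normalizerMonoidHom_apply_coe] using this
  have hc : (r : Ω)⁻¹ * g ∈ FusionSystem.centralizerIn S R := by
    refine ⟨S.mul_mem (S.inv_mem (hRS r.2)) hgS, ?_⟩
    show (r : Ω)⁻¹ * g ∈ Subgroup.centralizer (R : Set Ω)
    rw [Subgroup.mem_centralizer_iff]
    intro x hx
    have h1 := hrx ⟨x, hx⟩
    have h2 : x * ((r : Ω)⁻¹ * g) = (r : Ω)⁻¹ * ((r : Ω) * x * (r : Ω)⁻¹) * g := by group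
    rw [h2, h1]
    group
  have h3 := R.mul_mem r.2 (hcen hc)
  rwa [mul_inv_cancel_left] at h3

/-- the induction step of Alperin's theorem: automorphisms of a fully automized receptive proper
subgroup lie in `E`, provided all `F`-maps on larger subgroups do. -/
theorem autGroup_le_of_IH [Finite S] {p : ℕ} [Fact p.Prime] (hS : IsPGroup p S) (F E : FusionSystem S)
    (hE : ∀ P : Subgroup Ω, (P = S ∨ F.IsEssential p P) → F.autGroup P ≤ E.autGroup P)
    {R : Subgroup Ω} (hRne : R ≠ S) (hRfa : F.IsFullyAutomized p R) (hRrec : F.IsReceptive R)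
    (IH : ∀ P' : Subgroup Ω, P' ≤ S → Nat.card R < Nat.card P' → F.Hom P' ⊆ E.Hom P') :
    F.autGroup R ≤ E.autGroup R := by
  have hRS : R ≤ S := hRrec.1
  have hRfn := fullyNormalized_of_fa_rec hS F hRfa hRrec
  haveI : Finite R := finite_of_le hRS
  by_cases hess : F.IsEssential p R
  · exact hE R (Or.inr hess)
  -- extension criterion
  have hK : ∀ α ∈ F.autGroup R,
      (∃ g ∈ FusionSystem.extender S R (R.subtype.comp α.toMonoidHom), g ∉ R) → α ∈ E.autGroup R := by
    rintro α hα ⟨g, hgE, hgR⟩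
    have hφ : R.subtype.comp α.toMonoidHom ∈ F.Hom R := (mem_autGroup_iff F hRS).1 hα
    obtain ⟨ψ, hψ, hψe⟩ := hRrec.2 R _ hφ (range_subtype_comp_aut α)
    have hle : R ≤ FusionSystem.extender S R (R.subtype.comp α.toMonoidHom) := le_extender F hφ
    have hES : FusionSystem.extender S R (R.subtype.comp α.toMonoidHom) ≤ S := extender_le _ _
    haveI : Finite (FusionSystem.extender S R (R.subtype.comp α.toMonoidHom)) := finite_of_le hES
    have hcard : Nat.card R < Nat.card (FusionSystem.extender S R (R.subtype.comp α.toMonoidHom)) := by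
      rcases (Subgroup.card_le_of_le hle).lt_or_eq with h | h
      · exact h
      · exfalso
        have := Subgroup.eq_of_le_of_card_ge hle h.ge
        rw [← this] at hgE
        exact hgR hgE
    have hψE := IH _ hES hcard hψ
    have h1 := restrict_mem E hle hψE
    rw [mem_autGroup_iff E hRS]
    have h2 : ψ.comp (Subgroup.inclusion hle) = R.subtype.comp α.toMonoidHom := by
      ext x
      exact hψe x x.2 (hle x.2)
    rwa [h2] at h1
  by_cases hcen : F.IsCentric R
  swap
  · have hnot : ¬ FusionSystem.centralizerIn S R ≤ R := fun h => hcen (centric_of_receptive F hRrec h)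
    obtain ⟨c, hc, hcR⟩ := SetLike.not_le_iff_exists.1 hnot
    intro α hα
    exact hK α hα ⟨c, centralizerIn_le_extender R _ hc, hcR⟩
  · have hCR : FusionSystem.centralizerIn S R ≤ R := hcen.2 R (isConj_refl F hRS)
    by_contra hnot
    apply hess
    have hIA : Inn R ≤ F.autGroup R := inn_le_autGroup F hRS
    have hIE : Inn R ≤ E.autGroup R := inn_le_autGroup E hRS
    have hSA : autInducedBy S R ≤ F.autGroup R := autInducedBy_le_autGroup F hRS
    have hIT : Inn R ≤ autInducedBy S R := by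
      rintro _ ⟨r, rfl⟩
      exact Subgroup.subset_closure ⟨r.1, hRS r.2, fun x => rfl⟩
    obtain ⟨_, T, hT⟩ := hRfa
    have hN : ((Inn R).subgroupOf (F.autGroup R)).Normal := inferInstance
    refine ⟨hcen, hRfn, hN, ((E.autGroup R).subgroupOf (F.autGroup R)).map
      (QuotientGroup.mk' ((Inn R).subgroupOf (F.autGroup R))), ?_⟩
    have hIleT : (Inn R).subgroupOf (F.autGroup R) ≤ (T : Subgroup (F.autGroup R)) := by
      rw [hT]
      intro a ha
      exact hIT ha
    -- membership in the image of T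
    have hmemT : ∀ a : F.autGroup R, QuotientGroup.mk' ((Inn R).subgroupOf (F.autGroup R)) a ∈
        (T : Subgroup (F.autGroup R)).map (QuotientGroup.mk' ((Inn R).subgroupOf (F.autGroup R))) →
        (a : MulAut R) ∈ autInducedBy S R := by
      intro a ha
      have h1 : a ∈ ((T : Subgroup (F.autGroup R)).map
          (QuotientGroup.mk' ((Inn R).subgroupOf (F.autGroup R)))).comap
          (QuotientGroup.mk' ((Inn R).subgroupOf (F.autGroup R))) := ha
      rw [Subgroup.comap_map_eq, QuotientGroup.ker_mk', sup_eq_left.2 hIleT, hT] at h1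
      exact h1
    -- elements of N_S(R) outside R give nontrivial elements
    have hnontriv : ∀ (g : Ω) (hgS : g ∈ S) (hgN : g ∈ Subgroup.normalizer (R : Set Ω)), g ∉ R →
        R.normalizerMonoidHom ⟨g, hgN⟩ ∉ Inn R :=
      fun g hgS hgN hgR h => hgR (mem_of_conj_mem_inn hRS hCR hgS hgN h)
    set P' : Sylow p (F.autGroup R ⧸ (Inn R).subgroupOf (F.autGroup R)) :=
      T.mapSurjective (QuotientGroup.mk'_surjective _) with hP'def
    have hP'coe : (P' : Subgroup (F.autGroup R ⧸ (Inn R).subgroupOf (F.autGroup R))) =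
        (T : Subgroup (F.autGroup R)).map (QuotientGroup.mk' ((Inn R).subgroupOf (F.autGroup R))) :=
      Sylow.coe_mapSurjective _ _
    refine ⟨?_, ?_, P', ?_⟩
    · -- p divides |Out_F(R)|
      have hNne := normalizerIn_ne_self hS hRS hRne
      have hRN := le_normalizerIn hRS
      obtain ⟨g, hg, hgR⟩ : ∃ g ∈ FusionSystem.normalizerIn S R, g ∉ R := by
        by_contra hcon
        push Not at hcon
        exact hNne (le_antisymm hcon hRN)
      have hcg : R.normalizerMonoidHom ⟨g, hg.2⟩ ∈ autInducedBy S R :=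
        Subgroup.subset_closure ⟨g, hg.1, fun x => rfl⟩
      set t : F.autGroup R := ⟨R.normalizerMonoidHom ⟨g, hg.2⟩, hSA hcg⟩ with ht
      have htT : t ∈ (T : Subgroup (F.autGroup R)) := by rw [hT]; exact hcg
      have hmk : QuotientGroup.mk' ((Inn R).subgroupOf (F.autGroup R)) t ≠ 1 := by
        intro h
        rw [QuotientGroup.mk'_apply, QuotientGroup.eq_one_iff] at h
        exact hnontriv g hg.1 hg.2 hgR h
      have hP'ne : (P' : Subgroup (F.autGroup R ⧸ (Inn R).subgroupOf (F.autGroup R))) ≠ ⊥ := by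
        intro h
        have h1 : QuotientGroup.mk' ((Inn R).subgroupOf (F.autGroup R)) t ∈
            (P' : Subgroup (F.autGroup R ⧸ (Inn R).subgroupOf (F.autGroup R))) := by
          rw [hP'coe]
          exact ⟨t, htT, rfl⟩
        rw [h, Subgroup.mem_bot] at h1
        exact hmk h1
      obtain ⟨n, hn⟩ := IsPGroup.iff_card.1 P'.isPGroup'
      have hn0 : n ≠ 0 := by
        rintro rfl
        rw [pow_zero] at hn
        exact hP'ne (Subgroup.card_eq_one.1 hn)
      have h1 : p ∣ Nat.card (P' : Subgroup (F.autGroup R ⧸ (Inn R).subgroupOf (F.autGroup R))) := by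
        rw [hn]; exact dvd_pow_self p hn0
      exact h1.trans (Subgroup.card_subgroup_dvd_card _)
    · -- the image of H is proper
      intro htop
      apply hnot
      intro α hα
      have h1 : QuotientGroup.mk' ((Inn R).subgroupOf (F.autGroup R)) ⟨α, hα⟩ ∈
          ((E.autGroup R).subgroupOf (F.autGroup R)).map
            (QuotientGroup.mk' ((Inn R).subgroupOf (F.autGroup R))) := by
        rw [htop]; trivial
      have h2 : (⟨α, hα⟩ : F.autGroup R) ∈ (((E.autGroup R).subgroupOf (F.autGroup R)).map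
          (QuotientGroup.mk' ((Inn R).subgroupOf (F.autGroup R)))).comap
          (QuotientGroup.mk' ((Inn R).subgroupOf (F.autGroup R))) := h1
      have hIH : (Inn R).subgroupOf (F.autGroup R) ≤ (E.autGroup R).subgroupOf (F.autGroup R) :=
        fun a ha => hIE ha
      rw [Subgroup.comap_map_eq, QuotientGroup.ker_mk', sup_eq_left.2 hIH] at h2
      exact h2
    · -- the 1-generated core lies in the image of H
      unfold kGeneratedCore
      apply iSup_le
      rintro ⟨U, hUT, hUrank⟩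
      intro abar habar
      obtain ⟨a, rfl⟩ := QuotientGroup.mk'_surjective _ abar
      refine ⟨a, ?_, rfl⟩
      show (a : MulAut R) ∈ E.autGroup R
      have hUne : U ≠ ⊥ := by
        rintro rfl
        apply hUrank
        intro B _ _
        have : Nat.card B = 1 := by
          have h1 : Subsingleton (⊥ : Subgroup (F.autGroup R ⧸ (Inn R).subgroupOf (F.autGroup R))) :=
            inferInstance
          have : Subsingleton B := inferInstance
          exact Nat.card_unique
        rw [this]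
        exact Nat.one_le_pow _ _ (Fact.out : p.Prime).pos
      obtain ⟨⟨ubar, hubar⟩, hu⟩ := Subgroup.ne_bot_iff_exists_ne_one.1 hUne
      have hubar1 : ubar ≠ 1 := fun h => hu (Subtype.ext h)
      have hubarP : ubar ∈ (P' : Subgroup (F.autGroup R ⧸ (Inn R).subgroupOf (F.autGroup R))) :=
        hUT hubar
      rw [hP'coe] at hubarP
      obtain ⟨t, htT, rfl⟩ := hubarP
      rw [SetLike.mem_coe, hT, Subgroup.mem_subgroupOf, autInducedBy_eq_map] at htT
      obtain ⟨n, hn, hnt⟩ := htT
      rw [SetLike.mem_coe, Subgroup.mem_subgroupOf] at hn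
      have hgR : (n : Ω) ∉ R := by
        intro hgR
        apply hubar1
        rw [QuotientGroup.mk'_apply, QuotientGroup.eq_one_iff]
        show (t : MulAut R) ∈ Inn R
        rw [← hnt]
        refine ⟨⟨n.1, hgR⟩, ?_⟩
        ext x
        rfl
      apply hK a.1 a.2 ⟨n.1, ?_, hgR⟩
      -- conjugate of t by a lies in T
      have h1 : QuotientGroup.mk' ((Inn R).subgroupOf (F.autGroup R)) (a * t * a⁻¹) ∈ U := by
        have := (Subgroup.mem_normalizer_iff.1 habar
          (QuotientGroup.mk' ((Inn R).subgroupOf (F.autGroup R)) t)).1 hubar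
        simpa using this
      have h2 := hmemT (a * t * a⁻¹) (hP'coe ▸ hUT h1)
      rw [autInducedBy_eq_map] at h2
      obtain ⟨m, hm, hma⟩ := h2
      rw [SetLike.mem_coe, Subgroup.mem_subgroupOf] at hm
      apply Subgroup.subset_closure
      refine ⟨hn, n.2, m.1, hm, ?_⟩
      intro x hx
      have h3 : ((R.normalizerMonoidHom m ((a : MulAut R) x) : R) : Ω) =
          ((((a * t * a⁻¹ : F.autGroup R) : MulAut R) ((a : MulAut R) x) : R) : Ω) := by
        rw [hma]
      rw [normalizerMonoidHom_apply_coe] at h3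
      show (((a : MulAut R) ⟨(n : Ω) * x * (n : Ω)⁻¹, hx⟩ : R) : Ω) =
        (m : Ω) * (((a : MulAut R) x : R) : Ω) * (m : Ω)⁻¹
      rw [h3]
      have h4 : ((a * t * a⁻¹ : F.autGroup R) : MulAut R) ((a : MulAut R) x) =
          (a : MulAut R) ((t : MulAut R) x) := by
        simp [Subgroup.coe_mul, MulAut.mul_apply]
      rw [h4, ← hnt]
      rfl

/-- **Alperin–Goldschmidt fusion theorem** for saturated fusion systems. -/
theorem alperin_aux [Finite S] (p : ℕ) [Fact p.Prime] (hS : IsPGroup p S) (F : FusionSystem S)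
    (hF : F.IsSaturated p) (E : FusionSystem S)
    (hE : ∀ P : Subgroup Ω, (P = S ∨ F.IsEssential p P) → F.autGroup P ≤ E.autGroup P) (k : ℕ) :
    ∀ P : Subgroup Ω, P ≤ S → Nat.card S - Nat.card P = k → F.Hom P ⊆ E.Hom P := by
  induction k using Nat.strong_induction_on with
  | _ k ih =>
    intro P hPS hk φ hφ
    obtain ⟨R, hPR, hRfa, hRrec⟩ := hF P hPS
    have hRS : R ≤ S := hRrec.1
    haveI : Finite R := finite_of_le hRS
    haveI : Finite P := finite_of_le hPS
    have hcardPR : Nat.card P = Nat.card R := card_eq_of_isConj F hPR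
    have IH : ∀ P' : Subgroup Ω, P' ≤ S → Nat.card R < Nat.card P' → F.Hom P' ⊆ E.Hom P' := by
      intro P' hP'S hlt
      have hle : Nat.card P' ≤ Nat.card S := Subgroup.card_le_of_le hP'S
      exact ih (Nat.card S - Nat.card P') (by omega) P' hP'S rfl
    have hAut : F.autGroup R ≤ E.autGroup R := by
      by_cases hRne : R = S
      · exact hE R (Or.inl hRne)
      · exact autGroup_le_of_IH hS F E hE hRne hRfa hRrec IH
    have hconj : ∀ Q : Subgroup Ω, F.IsConj Q R →
        ∃ θ : Q →* Ω, θ ∈ F.Hom Q ∧ θ ∈ E.Hom Q ∧ θ.range = R := by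
      intro Q hQR
      have hQS := isConj_le_left F hQR
      by_cases hQ : Q = S
      · have hRQ : R = Q := by
          rw [hQ]
          apply Subgroup.eq_of_le_of_card_ge hRS
          rw [← hQ, card_eq_of_isConj F hQR]
        exact ⟨Q.subtype, subtype_mem F hQS, subtype_mem E hQS, by rw [Subgroup.range_subtype, hRQ]⟩
      · obtain ⟨θ, hθ, hθN, hθQ, hmap⟩ := exists_hom_normalizer p hS F R Q hRfa hRrec hQR
        have hNS : FusionSystem.normalizerIn S Q ≤ S := inf_le_left
        have hQN : Q ≤ FusionSystem.normalizerIn S Q := le_normalizerIn hQS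
        haveI : Finite (FusionSystem.normalizerIn S Q) := finite_of_le hNS
        have hlt : Nat.card Q < Nat.card (FusionSystem.normalizerIn S Q) := by
          rcases (Subgroup.card_le_of_le hQN).lt_or_eq with h | h
          · exact h
          · exfalso
            exact normalizerIn_ne_self hS hQS hQ (Subgroup.eq_of_le_of_card_ge hQN h.ge).symm
        have hθE := IH _ hNS (by rw [← card_eq_of_isConj F hQR]; exact hlt) hθ
        refine ⟨θ.comp (Subgroup.inclusion hQN), restrict_mem F hQN hθ, restrict_mem E hQN hθE, ?_⟩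
        ext y
        constructor
        · rintro ⟨x, rfl⟩
          exact theta_mem hmap x x.2 _
        · intro hy
          obtain ⟨x, hx, hx', rfl⟩ := theta_surj hmap hy
          exact ⟨⟨x, hx⟩, rfl⟩
    obtain ⟨θ, hθF, hθE, hθr⟩ := hconj P hPR
    have hP₁R : F.IsConj φ.range R := isConj_trans F (isConj_symm F ⟨φ, hφ, rfl⟩) hPR
    obtain ⟨θ₁, hθ₁F, hθ₁E, hθ₁r⟩ := hconj φ.range hP₁R
    obtain ⟨θi, hθiF, hθi⟩ := exists_inv_iso F hθF hθr
    obtain ⟨θ₁i, hθ₁iE, hθ₁i⟩ := exists_inv_iso E hθ₁E hθ₁r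
    have hθR : ∀ x : P, θ x ∈ R := fun x => hθr ▸ ⟨x, rfl⟩
    have hθ₁R : ∀ z : φ.range, θ₁ z ∈ R := fun z => hθ₁r ▸ ⟨z, rfl⟩
    -- θi maps R into P
    have hθiP : ∀ y : R, θi y ∈ P := by
      intro y
      have hy : (y : Ω) ∈ θ.range := hθr ▸ y.2
      obtain ⟨x, hx⟩ := hy
      have : y = ⟨θ x, hθR x⟩ := Subtype.ext hx.symm
      rw [this, hθi]
      exact x.2
    have hθi' : ∀ x : P, (⟨θi ⟨θ x, hθR x⟩, hθiP _⟩ : P) = x := fun x => Subtype.ext (hθi x _)
    -- χ = θ₁ ∘ φ ∘ θi : R → R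
    have s1 : φ.comp (θi.codRestrict P hθiP) ∈ F.Hom R := F.comp_mem hθiF hφ hθiP
    have hs1 : ∀ y : R, (φ.comp (θi.codRestrict P hθiP)) y ∈ φ.range := fun y => ⟨_, rfl⟩
    have s2 := F.comp_mem s1 hθ₁F hs1
    have hs2R : ∀ y : R, (θ₁.comp ((φ.comp (θi.codRestrict P hθiP)).codRestrict φ.range hs1)) y ∈ R :=
      fun y => hθ₁R _
    obtain ⟨α, hα, hαv⟩ := exists_aut_of_hom F s2 hs2R
    have hαE : R.subtype.comp α.toMonoidHom ∈ E.Hom R := (mem_autGroup_iff E hRS).1 (hAut hα)
    -- φ = θ₁i ∘ α ∘ θ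
    have t1 : (R.subtype.comp α.toMonoidHom).comp (θ.codRestrict R hθR) ∈ E.Hom P :=
      E.comp_mem hθE hαE hθR
    have ht1 : ∀ x : P, ((R.subtype.comp α.toMonoidHom).comp (θ.codRestrict R hθR)) x ∈ R :=
      fun x => (α ⟨θ x, hθR x⟩).2
    apply comp_mem' E t1 hθ₁iE ht1
    intro x
    -- φ x = θ₁i ⟨α ⟨θ x⟩⟩
    have e1 : ((α ⟨θ x, hθR x⟩ : R) : Ω) = θ₁ ⟨φ x, ⟨x, rfl⟩⟩ := by
      rw [hαv]
      show θ₁ ⟨φ ⟨θi ⟨θ x, hθR x⟩, hθiP _⟩, _⟩ = θ₁ ⟨φ x, _⟩
      congr 2
      rw [hθi' x]
    have e2 := hθ₁i ⟨φ x, ⟨x, rfl⟩⟩ (hθ₁R _)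
    refine e2.symm.trans ?_
    congr 1
    exact Subtype.ext e1.symm

theorem alperin [Finite S] (p : ℕ) [Fact p.Prime] (hS : IsPGroup p S) (F : FusionSystem S)
    (hF : F.IsSaturated p) (E : FusionSystem S)
    (hE : ∀ P : Subgroup Ω, (P = S ∨ F.IsEssential p P) → F.autGroup P ≤ E.autGroup P) : F ≤ E := by
  intro P φ hφ
  exact alperin_aux p hS F hF E hE _ P (le_of_hom_mem F hφ) rfl hφ

end Cfsg.Agent.Lib.Helper29
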