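import Cfsg.Agent.Lib.Helper29.FusionChain4
import Cfsg.Agent.Lib.Helper29.GroupFusion

/-!
Uniqueness of extensions over centric subgroups (AKO-type lemma): two `F`-maps on `P` agreeing on a centric
`Q ≤ P` differ by conjugation by an element of `Z(Q)`.
-/
set_option autoImplicit false

namespace Cfsg.Agent.Lib.Helper29
open Cfsg

variable {Ω : Type*} [Group Ω] {S : Subgroup Ω}

/-- conjugates of centric subgroups are centric -/
theorem isCentric_of_isConj (F : FusionSystem S) {Q Q' : Subgroup Ω} (hQ : F.IsCentric Q)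
    (h : F.IsConj Q Q') : F.IsCentric Q' :=
  ⟨isConj_le_right F h, fun R hR => hQ.2 R (isConj_trans F h hR)⟩

/-- the image of `Q ≤ P` under an `F`-map on `P` is `F`-conjugate to `Q` -/
theorem isConj_map (F : FusionSystem S) {Q P : Subgroup Ω} (hQP : Q ≤ P) {φ : P →* Ω}
    (hφ : φ ∈ F.Hom P) : F.IsConj Q ((Q.subgroupOf P).map φ) := by
  refine ⟨φ.comp (Subgroup.inclusion hQP), restrict_mem F hQP hφ, ?_⟩
  ext y
  constructor
  · rintro ⟨x, rfl⟩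
    exact ⟨Subgroup.inclusion hQP x, x.2, rfl⟩
  · rintro ⟨x, hx, rfl⟩
    exact ⟨⟨x.1, hx⟩, rfl⟩

/-- overgroups (inside `S`) of centric subgroups are centric -/
theorem isCentric_of_le (F : FusionSystem S) {Q Q₁ : Subgroup Ω} (hQ : F.IsCentric Q) (hle : Q ≤ Q₁)
    (hQ₁S : Q₁ ≤ S) : F.IsCentric Q₁ := by
  refine ⟨hQ₁S, ?_⟩
  rintro Q₁' ⟨θ, hθ, rfl⟩
  have h1 := hQ.2 _ (isConj_map F hle hθ)
  intro c hc
  have h2 : c ∈ FusionSystem.centralizerIn S ((Q.subgroupOf Q₁).map θ) := by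
    refine ⟨hc.1, ?_⟩
    have hc2 : c ∈ Subgroup.centralizer ((θ.range : Subgroup Ω) : Set Ω) := hc.2
    show c ∈ Subgroup.centralizer (((Q.subgroupOf Q₁).map θ : Subgroup Ω) : Set Ω)
    rw [Subgroup.mem_centralizer_iff] at hc2 ⊢
    rintro _ ⟨x, _, rfl⟩
    exact hc2 _ ⟨x, rfl⟩
  obtain ⟨x, _, hx⟩ := h1 h2
  exact ⟨x, hx⟩

/-- fully automized case: a `p`-element of `Aut_F(P)` fixing a centric `Q ≤ P` pointwise is conjugation by
an element of `Q` -/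
theorem aut_eq_conj_of_fix_fa [Finite S] {p : ℕ} [Fact p.Prime] (F : FusionSystem S) {P Q : Subgroup Ω}
    (hfa : F.IsFullyAutomized p P) (hQP : Q ≤ P) (hQ : F.IsCentric Q) {α : MulAut P}
    (hα : α ∈ F.autGroup P) (hpow : ∃ k, α ^ (p ^ k) = 1) (hfix : ∀ x : P, (x : Ω) ∈ Q → α x = x) :
    ∃ z : P, (z : Ω) ∈ Q ∧ ∀ y : P, α y = z * y * z⁻¹ := by
  obtain ⟨hPS, R, hR⟩ := hfa
  have : Finite P := finite_of_le hPS
  obtain ⟨k, hk⟩ := hpow
  have hak : (⟨α, hα⟩ : F.autGroup P) ^ (p ^ k) = 1 := Subtype.ext hk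
  have hzp : IsPGroup p (Subgroup.zpowers (⟨α, hα⟩ : F.autGroup P)) := by
    rintro ⟨b, hb⟩
    obtain ⟨m, rfl⟩ := Subgroup.mem_zpowers_iff.1 hb
    refine ⟨k, Subtype.ext ?_⟩
    show ((⟨α, hα⟩ : F.autGroup P) ^ m) ^ (p ^ k) = 1
    rw [← zpow_natCast, ← zpow_mul, mul_comm, zpow_mul, zpow_natCast, hak, one_zpow]
  obtain ⟨χ, hχ⟩ := exists_cj_le_sylow R hzp
  have h1 : χ * ⟨α, hα⟩ * χ⁻¹ ∈ (R : Subgroup (F.autGroup P)) :=
    hχ (conj_mem_cj (Subgroup.mem_zpowers _))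
  rw [hR, Subgroup.mem_subgroupOf, autInducedBy_eq_map] at h1
  obtain ⟨n, hn, hn'⟩ := h1
  have hgS : (n : Ω) ∈ S := hn
  have hconj : ∀ y : P, P.normalizerMonoidHom n ((χ : MulAut P) y) = (χ : MulAut P) (α y) := by
    intro y
    rw [hn']
    show ((χ : MulAut P) * α * (χ : MulAut P)⁻¹) ((χ : MulAut P) y) = _
    rw [MulAut.mul_apply, MulAut.mul_apply, MulAut.inv_apply_self]
  have hχF := (mem_autGroup_iff F hPS).1 χ.2
  have hQ'c : F.IsCentric ((Q.subgroupOf P).map (P.subtype.comp (χ : MulAut P).toMonoidHom)) :=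
    isCentric_of_isConj F hQ (isConj_map F hQP hχF)
  have hgC : (n : Ω) ∈ FusionSystem.centralizerIn S
      ((Q.subgroupOf P).map (P.subtype.comp (χ : MulAut P).toMonoidHom)) := by
    refine ⟨hgS, ?_⟩
    show (n : Ω) ∈ Subgroup.centralizer
      (((Q.subgroupOf P).map (P.subtype.comp (χ : MulAut P).toMonoidHom) : Subgroup Ω) : Set Ω)
    rw [Subgroup.mem_centralizer_iff]
    rintro _ ⟨q, hq, rfl⟩
    have h2 := hconj q
    rw [hfix q hq] at h2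
    have h3 : (n : Ω) * (((χ : MulAut P) q : P) : Ω) * (n : Ω)⁻¹ = (((χ : MulAut P) q : P) : Ω) :=
      congrArg Subtype.val h2
    show (((χ : MulAut P) q : P) : Ω) * (n : Ω) = (n : Ω) * (((χ : MulAut P) q : P) : Ω)
    calc (((χ : MulAut P) q : P) : Ω) * (n : Ω)
        = ((n : Ω) * (((χ : MulAut P) q : P) : Ω) * (n : Ω)⁻¹) * (n : Ω) := by rw [h3]
      _ = (n : Ω) * (((χ : MulAut P) q : P) : Ω) := by group
  have hgQ' := hQ'c.2 _ (isConj_refl F hQ'c.1) hgC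
  obtain ⟨z, hz, hzn⟩ := hgQ'
  refine ⟨z, hz, fun y => ?_⟩
  apply (χ : MulAut P).injective
  rw [map_mul, map_mul, map_inv, ← hconj y]
  apply Subtype.ext
  show (n : Ω) * (((χ : MulAut P) y : P) : Ω) * (n : Ω)⁻¹ = _
  rw [← hzn]
  rfl

/-- a `p`-element of `Aut_F(P)` fixing a centric `Q ≤ P` pointwise is conjugation by an element of `Q` -/
theorem aut_eq_conj_of_fix [Finite S] {p : ℕ} [Fact p.Prime] (F : FusionSystem S) (hF : F.IsSaturated p)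
    {P Q : Subgroup Ω} (hPS : P ≤ S) (hQP : Q ≤ P) (hQ : F.IsCentric Q) {α : MulAut P}
    (hα : α ∈ F.autGroup P) (hpow : ∃ k, α ^ (p ^ k) = 1) (hfix : ∀ x : P, (x : Ω) ∈ Q → α x = x) :
    ∃ z : P, (z : Ω) ∈ Q ∧ ∀ y : P, α y = z * y * z⁻¹ := by
  obtain ⟨P', ⟨θ, hθ, hr⟩, hfa, _⟩ := hF P hPS
  have hα' := congr_mem_autGroup F hθ hr hα
  have hQ'P' : (Q.subgroupOf P).map θ ≤ P' := by
    rintro _ ⟨x, _, rfl⟩
    rw [← hr]
    exact ⟨x, rfl⟩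
  have hQ'c := isCentric_of_isConj F hQ (isConj_map F hQP hθ)
  have hpow' : ∃ k, (MulAut.congr (isoOfHom F hθ hr) α) ^ (p ^ k) = 1 := by
    obtain ⟨k, hk⟩ := hpow
    exact ⟨k, by rw [← map_pow, hk, map_one]⟩
  have hfix' : ∀ x : P', (x : Ω) ∈ (Q.subgroupOf P).map θ →
      MulAut.congr (isoOfHom F hθ hr) α x = x := by
    rintro x ⟨q, hq, hqx⟩
    have e : x = isoOfHom F hθ hr q := Subtype.ext hqx.symm
    rw [e]
    show isoOfHom F hθ hr (α ((isoOfHom F hθ hr).symm (isoOfHom F hθ hr q))) = _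
    rw [MulEquiv.symm_apply_apply, hfix q hq]
  obtain ⟨z', hz', hzy⟩ := aut_eq_conj_of_fix_fa F hfa hQ'P' hQ'c hα' hpow' hfix'
  refine ⟨(isoOfHom F hθ hr).symm z', ?_, fun y => ?_⟩
  · obtain ⟨q, hq, hqz⟩ := hz'
    have e : z' = isoOfHom F hθ hr q := Subtype.ext hqz.symm
    rw [e, MulEquiv.symm_apply_apply]
    exact hq
  · apply (isoOfHom F hθ hr).injective
    have h1 := hzy (isoOfHom F hθ hr y)
    rw [map_mul, map_mul, map_inv, MulEquiv.apply_symm_apply, ← h1]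
    show isoOfHom F hθ hr (α y) =
      isoOfHom F hθ hr (α ((isoOfHom F hθ hr).symm (isoOfHom F hθ hr y)))
    rw [MulEquiv.symm_apply_apply]

/-- normal case: an `F`-map on `P` restricting to the identity on a centric `Q ⊴ P` is conjugation by an
element of `Q` -/
theorem hom_eq_conj_of_fix_normal [Finite S] {p : ℕ} [Fact p.Prime] (hS : IsPGroup p S)
    (F : FusionSystem S) (hF : F.IsSaturated p) {P Q : Subgroup Ω} (hQP : Q ≤ P)
    (hPN : P ≤ Subgroup.normalizer (Q : Set Ω)) (hQ : F.IsCentric Q) {ψ : P →* Ω} (hψ : ψ ∈ F.Hom P)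
    (hfix : ∀ x : P, (x : Ω) ∈ Q → ψ x = x) :
    ∃ z : P, (z : Ω) ∈ Q ∧ ∀ y : P, ψ y = (z : Ω) * y * (z : Ω)⁻¹ := by
  have hPS : P ≤ S := le_of_hom_mem F hψ
  have : Finite P := finite_of_le hPS
  have hPp : IsPGroup p P := hS.to_le hPS
  have hcen : FusionSystem.centralizerIn S Q ≤ Q := hQ.2 Q (isConj_refl F hQ.1)
  have h1 : ∀ x : P, (x : Ω)⁻¹ * ψ x ∈ Q := by
    intro x
    apply hcen
    refine ⟨S.mul_mem (S.inv_mem (hPS x.2)) ((F.le_of_mem hψ).2 x), ?_⟩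
    show (x : Ω)⁻¹ * ψ x ∈ Subgroup.centralizer (Q : Set Ω)
    rw [Subgroup.mem_centralizer_iff]
    intro g hg
    have hxg : (x : Ω) * g * (x : Ω)⁻¹ ∈ Q := (Subgroup.mem_normalizer_iff.1 (hPN x.2) g).1 hg
    have e1 : ψ (x * ⟨g, hQP hg⟩ * x⁻¹) = (x : Ω) * g * (x : Ω)⁻¹ := hfix _ hxg
    rw [map_mul, map_mul, map_inv, hfix ⟨g, hQP hg⟩ hg] at e1
    have e2 : ψ x * g = (x : Ω) * g * (x : Ω)⁻¹ * ψ x := by
      rw [← e1]
      group
    calc g * ((x : Ω)⁻¹ * ψ x) = (x : Ω)⁻¹ * ((x : Ω) * g * (x : Ω)⁻¹ * ψ x) := by group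
      _ = (x : Ω)⁻¹ * (ψ x * g) := by rw [e2]
      _ = (x : Ω)⁻¹ * ψ x * g := by group
  have h2 : ∀ x : P, ψ x ∈ P := by
    intro x
    have e : ψ x = (x : Ω) * ((x : Ω)⁻¹ * ψ x) := by group
    rw [e]
    exact P.mul_mem x.2 (hQP (h1 x))
  obtain ⟨α, hα, hαv⟩ := exists_aut_of_hom F hψ h2
  have hαfix : ∀ x : P, (x : Ω) ∈ Q → α x = x := fun x hx => Subtype.ext ((hαv x).trans (hfix x hx))
  have hpow : ∃ k, α ^ (p ^ k) = 1 := by
    obtain ⟨k, hk⟩ := stab_step hPp (le_top : Q.subgroupOf P ≤ ⊤) α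
      (fun x _ => by
        show ((x⁻¹ * α x : P) : Ω) ∈ Q
        have := h1 x
        rw [← hαv x] at this
        exact this) 0
      (fun x hx => by
        rw [pow_zero, pow_one]
        exact hαfix x hx)
    refine ⟨k, ?_⟩
    ext x
    exact congrArg Subtype.val (hk x (Subgroup.mem_top x))
  obtain ⟨z, hz, hzy⟩ := aut_eq_conj_of_fix F hF hPS hQP hQ hα hpow hαfix
  refine ⟨z, hz, fun y => ?_⟩
  rw [← hαv y, hzy y]
  rfl

/-- general case: an `F`-map on `P` restricting to the identity on a centric `Q ≤ P` is conjugation by an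
element of `Z(Q)` -/
theorem hom_eq_conj_of_fix [Finite S] {p : ℕ} [Fact p.Prime] (hS : IsPGroup p S)
    (F : FusionSystem S) (hF : F.IsSaturated p) (n : ℕ) :
    ∀ {P Q : Subgroup Ω} (_ : Q ≤ P) (_ : F.IsCentric Q) {ψ : P →* Ω} (_ : ψ ∈ F.Hom P)
      (_ : ∀ x : P, (x : Ω) ∈ Q → ψ x = x), Nat.card P - Nat.card Q = n →
      ∃ z : P, (z : Ω) ∈ Q ∧ (z : Ω) ∈ Subgroup.centralizer (Q : Set Ω) ∧
        ∀ y : P, ψ y = (z : Ω) * y * (z : Ω)⁻¹ := by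
  induction n using Nat.strong_induction_on with
  | _ n ih =>
    intro P Q hQP hQ ψ hψ hfix hn
    have hPS : P ≤ S := le_of_hom_mem F hψ
    have : Finite P := finite_of_le hPS
    have hPp : IsPGroup p P := hS.to_le hPS
    have hcen : FusionSystem.centralizerIn S Q ≤ Q := hQ.2 Q (isConj_refl F hQ.1)
    -- the centralizer claim follows from the formula
    have hcentral : ∀ z : P, (∀ y : P, ψ y = (z : Ω) * y * (z : Ω)⁻¹) →
        (z : Ω) ∈ Subgroup.centralizer (Q : Set Ω) := by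
      intro z hz
      rw [Subgroup.mem_centralizer_iff]
      intro g hg
      have h1 := hz ⟨g, hQP hg⟩
      rw [hfix ⟨g, hQP hg⟩ hg] at h1
      have h1' : g = (z : Ω) * g * (z : Ω)⁻¹ := h1
      calc g * (z : Ω) = ((z : Ω) * g * (z : Ω)⁻¹) * (z : Ω) := by rw [← h1']
        _ = (z : Ω) * g := by group
    by_cases hQeq : Q = P
    · refine ⟨1, Q.one_mem, Subgroup.one_mem _, fun y => ?_⟩
      rw [hfix y (hQeq ▸ y.2)]
      simp
    · -- Q₁ = N_P(Q)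
      have hne := normalizerIn_ne_self hPp hQP hQeq
      have hQQ₁ : Q ≤ FusionSystem.normalizerIn P Q := le_normalizerIn hQP
      have hQ₁P : FusionSystem.normalizerIn P Q ≤ P := inf_le_left
      have hQ₁N : FusionSystem.normalizerIn P Q ≤ Subgroup.normalizer (Q : Set Ω) := inf_le_right
      have : Finite (FusionSystem.normalizerIn P Q) := finite_of_le (hQ₁P.trans hPS)
      have hcard : Nat.card Q < Nat.card (FusionSystem.normalizerIn P Q) := by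
        rcases (Subgroup.card_le_of_le hQQ₁).lt_or_eq with h | h
        · exact h
        · exact absurd (Subgroup.eq_of_le_of_card_ge hQQ₁ h.ge).symm hne
      have hcard2 : Nat.card (FusionSystem.normalizerIn P Q) ≤ Nat.card P :=
        Subgroup.card_le_of_le hQ₁P
      have hψ₁ : ψ.comp (Subgroup.inclusion hQ₁P) ∈ F.Hom (FusionSystem.normalizerIn P Q) :=
        restrict_mem F hQ₁P hψ
      obtain ⟨z₀, hz₀, hz₀y⟩ := hom_eq_conj_of_fix_normal hS F hF hQQ₁ hQ₁N hQ hψ₁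
        (fun x hx => hfix (Subgroup.inclusion hQ₁P x) hx)
      -- ψ' = ψ ∘ c_{z₀⁻¹}
      have hz₀P : (z₀ : Ω) ∈ P := hQP hz₀
      have hc : conjHom P (z₀ : Ω)⁻¹ ∈ F.Hom P := F.conj_mem hPS (S.inv_mem (hPS hz₀P))
      have hcP : ∀ y : P, conjHom P (z₀ : Ω)⁻¹ y ∈ P := by
        intro y
        show (z₀ : Ω)⁻¹ * y * (z₀ : Ω)⁻¹⁻¹ ∈ P
        exact P.mul_mem (P.mul_mem (P.inv_mem hz₀P) y.2) (P.inv_mem (P.inv_mem hz₀P))
      have hψ' := F.comp_mem hc hψ hcP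
      have hQ₁c : F.IsCentric (FusionSystem.normalizerIn P Q) :=
        isCentric_of_le F hQ hQQ₁ (hQ₁P.trans hPS)
      have hfix' : ∀ x : P, (x : Ω) ∈ FusionSystem.normalizerIn P Q →
          (ψ.comp ((conjHom P (z₀ : Ω)⁻¹).codRestrict P hcP)) x = x := by
        intro x hx
        have hmem : (z₀ : Ω)⁻¹ * x * (z₀ : Ω)⁻¹⁻¹ ∈ FusionSystem.normalizerIn P Q :=
          Subgroup.mul_mem _ (Subgroup.mul_mem _ (Subgroup.inv_mem _ z₀.2) hx)
            (Subgroup.inv_mem _ (Subgroup.inv_mem _ z₀.2))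
        have h3 := hz₀y ⟨(z₀ : Ω)⁻¹ * x * (z₀ : Ω)⁻¹⁻¹, hmem⟩
        show ψ ⟨(z₀ : Ω)⁻¹ * x * (z₀ : Ω)⁻¹⁻¹, _⟩ = x
        have h4 : ψ ⟨(z₀ : Ω)⁻¹ * x * (z₀ : Ω)⁻¹⁻¹, hcP x⟩ =
            (z₀ : Ω) * ((z₀ : Ω)⁻¹ * x * (z₀ : Ω)⁻¹⁻¹) * (z₀ : Ω)⁻¹ := h3
        rw [h4]
        group
      obtain ⟨z₁, hz₁, hz₁c, hz₁y⟩ := ih (Nat.card P - Nat.card (FusionSystem.normalizerIn P Q))
        (by omega) hQ₁P hQ₁c hψ' hfix' rfl
      have hformula : ∀ y : P, ψ y = ((z₁ * ⟨z₀, hz₀P⟩ : P) : Ω) * y * ((z₁ * ⟨z₀, hz₀P⟩ : P) : Ω)⁻¹ := by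
        intro y
        have h5 := hz₁y (⟨z₀, hz₀P⟩ * y * ⟨z₀, hz₀P⟩⁻¹)
        have h6 : (ψ.comp ((conjHom P (z₀ : Ω)⁻¹).codRestrict P hcP)) (⟨z₀, hz₀P⟩ * y * ⟨z₀, hz₀P⟩⁻¹)
            = ψ y := by
          show ψ ⟨(z₀ : Ω)⁻¹ * ((z₀ : Ω) * y * (z₀ : Ω)⁻¹) * (z₀ : Ω)⁻¹⁻¹, _⟩ = ψ y
          congr 1
          apply Subtype.ext
          show (z₀ : Ω)⁻¹ * ((z₀ : Ω) * y * (z₀ : Ω)⁻¹) * (z₀ : Ω)⁻¹⁻¹ = y
          group
        rw [h6] at h5
        rw [h5]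
        show (z₁ : Ω) * ((z₀ : Ω) * y * (z₀ : Ω)⁻¹) * (z₁ : Ω)⁻¹ =
          ((z₁ : Ω) * (z₀ : Ω)) * y * ((z₁ : Ω) * (z₀ : Ω))⁻¹
        group
      refine ⟨z₁ * ⟨z₀, hz₀P⟩, ?_, hcentral _ hformula, hformula⟩
      show (z₁ : Ω) * (z₀ : Ω) ∈ Q
      refine Q.mul_mem (hcen ⟨hPS z₁.2, ?_⟩) hz₀
      show (z₁ : Ω) ∈ Subgroup.centralizer (Q : Set Ω)
      exact Subgroup.centralizer_le (fun x hx => hQQ₁ hx) hz₁c

end Cfsg.Agent.Lib.Helper29
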