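import Cfsg.Agent.Lib.Helper29.StronglyEmbeddedControl
import Cfsg.Agent.Lib.Helper29.FusionAlperin
import Cfsg.Agent.S5077

/-!
An essential subgroup's conjugacy class cannot be omitted from a conjugation family.
-/
set_option autoImplicit false

namespace Cfsg.Agent.Lib.Helper29
open Cfsg

variable {Ω : Type*} [Group Ω] {S : Subgroup Ω}

/-- the proper subgroup `H` of `Aut_F(Q)` (`Q` essential) containing every automorphism that conjugates a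
non-inner element of `Aut_S(Q)` into `Aut_S(Q)` -/
theorem exists_control_aut [Finite S] {p : ℕ} [Fact p.Prime] (hS : IsPGroup p S) (F : FusionSystem S)
    (hF : F.IsSaturated p) {Q : Subgroup Ω} (hQ : F.IsEssential p Q) :
    ∃ H : Subgroup (MulAut Q), (∃ α ∈ F.autGroup Q, α ∉ H) ∧
      (∃ a ∈ FusionSystem.normalizerIn S Q, a ∉ Q) ∧
      ∀ β ∈ F.autGroup Q, ∀ a a' : Ω, a ∈ FusionSystem.normalizerIn S Q →
        a' ∈ FusionSystem.normalizerIn S Q → a ∉ Q →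
        (∀ (x : Q) (hx : a * x * a⁻¹ ∈ Q), ((β ⟨a * x * a⁻¹, hx⟩ : Q) : Ω) = a' * (β x : Q) * a'⁻¹) →
        β ∈ H := by
  obtain ⟨hc, hfn, hnorm, Y, hY⟩ := hQ
  have hQS : Q ≤ S := hc.1
  have : Finite Q := finite_of_le hQS
  haveI := hnorm
  obtain ⟨_, R, hR⟩ := (((Cfsg.Agent.S5077.result p hS F).1 hF).1 Q hfn).2
  have hsurj : Function.Surjective (QuotientGroup.mk' ((Inn Q).subgroupOf (F.autGroup Q))) :=
    QuotientGroup.mk'_surjective _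
  obtain ⟨H', hH'top, hH'⟩ := exists_control_of_stronglyPEmbedded hY (R.mapSurjective hsurj)
  have hcen : FusionSystem.centralizerIn S Q ≤ Q := hc.2 Q (isConj_refl F hQS)
  -- conjugation automorphisms
  have hcj : ∀ a : Ω, a ∈ FusionSystem.normalizerIn S Q → ∃ c ∈ F.autGroup Q,
      c ∈ autInducedBy S Q ∧ (∀ x : Q, ((c x : Q) : Ω) = a * x * a⁻¹) ∧ (a ∉ Q → c ∉ Inn Q) := by
    intro a ha
    have h1 : Q.normalizerMonoidHom ⟨a, ha.2⟩ ∈ autInducedBy S Q :=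
      Subgroup.subset_closure ⟨a, ha.1, fun x => rfl⟩
    refine ⟨_, autInducedBy_le_autGroup F hQS h1, h1, fun x => rfl, fun haQ hinn => haQ ?_⟩
    exact mem_of_conj_mem_inn hQS hcen ha.1 ha.2 hinn
  have hmemR : ∀ (c : MulAut Q) (hcA : c ∈ F.autGroup Q), c ∈ autInducedBy S Q →
      (⟨c, hcA⟩ : F.autGroup Q) ∈ (R : Subgroup (F.autGroup Q)) := by
    intro c hcA hcS
    rw [hR, Subgroup.mem_subgroupOf]
    exact hcS
  refine ⟨(H'.comap (QuotientGroup.mk' ((Inn Q).subgroupOf (F.autGroup Q)))).map (F.autGroup Q).subtype, ?_, ?_, ?_⟩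
  · have hex : ∃ x, x ∉ H' := by
      by_contra hcon
      push_neg at hcon
      exact hH'top (eq_top_iff.2 (fun x _ => hcon x))
    obtain ⟨x, hx⟩ := hex
    obtain ⟨α, rfl⟩ := hsurj x
    refine ⟨α.1, α.2, ?_⟩
    rintro ⟨α', hα', hαα'⟩
    have : α' = α := Subtype.ext hαα'
    rw [this] at hα'
    exact hx hα'
  · by_contra hall
    push_neg at hall
    have hle : autInducedBy S Q ≤ Inn Q := by
      rw [autInducedBy_eq_map]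
      rintro _ ⟨g, hg, rfl⟩
      have hgQ : (g : Ω) ∈ Q := hall g ⟨hg, g.2⟩
      refine ⟨⟨g, hgQ⟩, ?_⟩
      ext x
      rfl
    have hbot : ((R.mapSurjective hsurj : Sylow p (F.autGroup Q ⧸ (Inn Q).subgroupOf (F.autGroup Q))) :
        Subgroup (F.autGroup Q ⧸ (Inn Q).subgroupOf (F.autGroup Q))) = ⊥ := by
      rw [Sylow.coe_mapSurjective, eq_bot_iff]
      rintro _ ⟨c, hc, rfl⟩
      rw [Subgroup.mem_bot]
      have h1 : c ∈ (Inn Q).subgroupOf (F.autGroup Q) := by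
        rw [Subgroup.mem_subgroupOf]
        apply hle
        have := hc
        rw [SetLike.mem_coe, hR, Subgroup.mem_subgroupOf] at this
        exact this
      rw [← QuotientGroup.ker_mk' ((Inn Q).subgroupOf (F.autGroup Q))] at h1
      exact h1
    exact Sylow.ne_bot_of_dvd_card (R.mapSurjective hsurj) hY.1 hbot
  · intro β hβ a a' ha ha' haQ hrel
    obtain ⟨c, hcA, hcS, hcv, hcI⟩ := hcj a ha
    obtain ⟨c', hc'A, hc'S, hc'v, _⟩ := hcj a' ha'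
    refine ⟨⟨β, hβ⟩, ?_, rfl⟩
    show QuotientGroup.mk' _ (⟨β, hβ⟩ : F.autGroup Q) ∈ H'
    apply hH' _ (QuotientGroup.mk' _ (⟨c, hcA⟩ : F.autGroup Q))
    · exact ⟨⟨c, hcA⟩, hmemR c hcA hcS, rfl⟩
    · intro h1
      have h2 : (⟨c, hcA⟩ : F.autGroup Q) ∈ (Inn Q).subgroupOf (F.autGroup Q) := by
        rw [← QuotientGroup.ker_mk' ((Inn Q).subgroupOf (F.autGroup Q))]
        exact h1
      exact hcI haQ h2
    · have e : (⟨β, hβ⟩ : F.autGroup Q) * ⟨c, hcA⟩ * (⟨β, hβ⟩ : F.autGroup Q)⁻¹ = ⟨c', hc'A⟩ := by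
        apply Subtype.ext
        show β * c * β⁻¹ = c'
        ext x
        rw [MulAut.mul_apply, MulAut.mul_apply, hc'v]
        have hx1 : a * ((β⁻¹ x : Q) : Ω) * a⁻¹ ∈ Q := by
          rw [← hcv]
          exact (c (β⁻¹ x)).2
        have h3 : c (β⁻¹ x) = ⟨a * ((β⁻¹ x : Q) : Ω) * a⁻¹, hx1⟩ := Subtype.ext (hcv _)
        rw [h3, hrel (β⁻¹ x) hx1, MulAut.apply_inv_self]
      rw [← map_inv, ← map_mul, ← map_mul, e]
      exact ⟨⟨c', hc'A⟩, hmemR c' hc'A hc'S, rfl⟩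

section comp

variable (F : FusionSystem S) (Q : Subgroup Ω) (H : Subgroup (MulAut Q))
  (mk : (Q' : Subgroup Ω) → (FusionSystem.normalizerIn S Q' →* Ω))

/-- `θ'` is an `F`-map on `N_S(Q')` carrying `Q'` onto `Q` -/
def IsMark (Q' : Subgroup Ω) (θ' : FusionSystem.normalizerIn S Q' →* Ω) : Prop :=
  θ' ∈ F.Hom (FusionSystem.normalizerIn S Q') ∧
    (Q'.subgroupOf (FusionSystem.normalizerIn S Q')).map θ' = Q

/-- `φ₀ : Q' → Ω` is good: transported to `Q` along the chosen markings it is an element of `H` -/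
def GoodAt (Q' : Subgroup Ω) (φ₀ : Q' →* Ω) : Prop :=
  ∀ Q'' : Subgroup Ω, Q'' = φ₀.range →
    ∃ β ∈ H, ∀ (x : Q') (y : Q) (h1 : (x : Ω) ∈ FusionSystem.normalizerIn S Q')
      (h3 : φ₀ x ∈ FusionSystem.normalizerIn S Q''),
      mk Q' ⟨x, h1⟩ = (y : Ω) → mk Q'' ⟨φ₀ x, h3⟩ = ((β y : Q) : Ω)

variable {F Q H mk}

theorem IsMark.mem {Q' : Subgroup Ω} {θ' : FusionSystem.normalizerIn S Q' →* Ω} (hm : IsMark F Q Q' θ')
    {x : Ω} (hx : x ∈ Q') (h1 : x ∈ FusionSystem.normalizerIn S Q') : θ' ⟨x, h1⟩ ∈ Q :=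
  hm.2.le ⟨⟨x, h1⟩, hx, rfl⟩

theorem IsMark.surj {Q' : Subgroup Ω} {θ' : FusionSystem.normalizerIn S Q' →* Ω} (hm : IsMark F Q Q' θ')
    {q : Ω} (hq : q ∈ Q) :
    ∃ (x : Ω) (_ : x ∈ Q') (h1 : x ∈ FusionSystem.normalizerIn S Q'), θ' ⟨x, h1⟩ = q := by
  obtain ⟨y, hy, rfl⟩ := hm.2.ge hq
  exact ⟨y.1, hy, y.2, rfl⟩

theorem IsMark.inj {Q' : Subgroup Ω} {θ' : FusionSystem.normalizerIn S Q' →* Ω} (hm : IsMark F Q Q' θ') :
    Function.Injective θ' := F.injective_of_mem hm.1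

theorem IsMark.normalizes {Q' : Subgroup Ω} {θ' : FusionSystem.normalizerIn S Q' →* Ω}
    (hm : IsMark F Q Q' θ') (n : FusionSystem.normalizerIn S Q') :
    θ' n ∈ FusionSystem.normalizerIn S Q := by
  refine ⟨(F.le_of_mem hm.1).2 n, ?_⟩
  have hle : θ'.range ≤ Subgroup.normalizer (Q : Set Ω) := by
    apply le_normalizer_of_conj_mem
    rintro _ ⟨m, rfl⟩ q hq
    obtain ⟨x, hx, h1, rfl⟩ := hm.surj hq
    have hmx : (m : Ω) * x * (m : Ω)⁻¹ ∈ Q' := (Subgroup.mem_normalizer_iff.1 m.2.2 x).1 hx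
    have e : θ' m * θ' ⟨x, h1⟩ * (θ' m)⁻¹ = θ' (m * ⟨x, h1⟩ * m⁻¹) := by
      rw [map_mul, map_mul, map_inv]
    rw [e]
    exact hm.2.le ⟨_, hmx, rfl⟩
  exact hle ⟨n, rfl⟩

theorem IsMark.isConj {Q' : Subgroup Ω} {θ' : FusionSystem.normalizerIn S Q' →* Ω} (hm : IsMark F Q Q' θ')
    (hQ'S : Q' ≤ S) : F.IsConj Q' Q := by
  refine ⟨θ'.comp (Subgroup.inclusion (le_normalizerIn hQ'S)), restrict_mem F _ hm.1, ?_⟩
  ext y
  constructor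
  · rintro ⟨x, rfl⟩
    exact hm.mem x.2 _
  · intro hy
    obtain ⟨x, hx, h1, rfl⟩ := hm.surj hy
    exact ⟨⟨x, hx⟩, rfl⟩

/-- transport of an `F`-isomorphism between conjugates of `Q` to an `F`-automorphism of `Q` -/
theorem transportAut [Finite S] {Q' Q'' : Subgroup Ω} {θ' : FusionSystem.normalizerIn S Q' →* Ω}
    {θ'' : FusionSystem.normalizerIn S Q'' →* Ω} (hQ'S : Q' ≤ S) (hQ''S : Q'' ≤ S)
    (hm' : IsMark F Q Q' θ') (hm'' : IsMark F Q Q'' θ'') {φ₀ : Q' →* Ω} (hφ₀ : φ₀ ∈ F.Hom Q')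
    (hφ₀Q'' : ∀ x, φ₀ x ∈ Q'') :
    ∃ β ∈ F.autGroup Q, ∀ (x : Q') (y : Q) (h1 : (x : Ω) ∈ FusionSystem.normalizerIn S Q')
      (h3 : φ₀ x ∈ FusionSystem.normalizerIn S Q''),
      θ' ⟨x, h1⟩ = (y : Ω) → θ'' ⟨φ₀ x, h3⟩ = ((β y : Q) : Ω) := by
  have hQS : Q ≤ S := isConj_le_right F (hm'.isConj hQ'S)
  have : Finite Q := finite_of_le hQS
  have hle' : Q' ≤ FusionSystem.normalizerIn S Q' := le_normalizerIn hQ'S
  have hle'' : Q'' ≤ FusionSystem.normalizerIn S Q'' := le_normalizerIn hQ''S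
  have hθ'r : (θ'.comp (Subgroup.inclusion hle')).range = Q := by
    ext y
    constructor
    · rintro ⟨x, rfl⟩
      exact hm'.mem x.2 _
    · intro hy
      obtain ⟨x, hx, h1, rfl⟩ := hm'.surj hy
      exact ⟨⟨x, hx⟩, rfl⟩
  obtain ⟨θi, hθi, hθiv⟩ := exists_inv_iso F (restrict_mem F hle' hm'.1) hθ'r
  have hθiQ' : ∀ y : Q, θi y ∈ Q' := by
    intro y
    obtain ⟨x, hx, h1, hxy⟩ := hm'.surj y.2
    have hmem : (θ'.comp (Subgroup.inclusion hle')) ⟨x, hx⟩ ∈ Q := hm'.mem hx _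
    have e : y = ⟨(θ'.comp (Subgroup.inclusion hle')) ⟨x, hx⟩, hmem⟩ := Subtype.ext hxy.symm
    rw [e, hθiv ⟨x, hx⟩ hmem]
    exact hx
  have s1 : φ₀.comp (θi.codRestrict Q' hθiQ') ∈ F.Hom Q := F.comp_mem hθi hφ₀ hθiQ'
  have hs1 : ∀ y : Q, (φ₀.comp (θi.codRestrict Q' hθiQ')) y ∈ Q'' := fun y => hφ₀Q'' _
  have s2 := F.comp_mem s1 (restrict_mem F hle'' hm''.1) hs1
  have hs2 : ∀ y : Q, ((θ''.comp (Subgroup.inclusion hle'')).comp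
      ((φ₀.comp (θi.codRestrict Q' hθiQ')).codRestrict Q'' hs1)) y ∈ Q := fun y => hm''.mem (hs1 y) _
  obtain ⟨β, hβ, hβv⟩ := exists_aut_of_hom F s2 hs2
  refine ⟨β, hβ, fun x y h1 h3 hxy => ?_⟩
  rw [hβv]
  have hy : θ' ⟨x, h1⟩ ∈ Q := by rw [hxy]; exact y.2
  have e : y = ⟨θ' ⟨x, h1⟩, hy⟩ := Subtype.ext hxy.symm
  subst e
  have e1 : θi ⟨θ' ⟨x, h1⟩, hy⟩ = x := hθiv x hy
  have e2 : (⟨θi ⟨θ' ⟨x, h1⟩, hy⟩, hθiQ' _⟩ : Q') = x := Subtype.ext e1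
  have key : ∀ (z : Q') (hz : φ₀ z ∈ FusionSystem.normalizerIn S Q''), z = x →
      θ'' ⟨φ₀ z, hz⟩ = θ'' ⟨φ₀ x, h3⟩ := by
    rintro z hz rfl
    rfl
  exact (key ⟨θi ⟨θ' ⟨x, h1⟩, hy⟩, hθiQ' _⟩ (hle'' (hφ₀Q'' _)) e2).symm

/-- a map defined on a subgroup properly normalizing `Q'` restricts to a good map on `Q'` -/
theorem good_of_extends [Finite S] (hmk : ∀ Q', F.IsConj Q' Q → IsMark F Q Q' (mk Q'))
    (H3 : ∀ β ∈ F.autGroup Q, ∀ a a' : Ω, a ∈ FusionSystem.normalizerIn S Q →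
        a' ∈ FusionSystem.normalizerIn S Q → a ∉ Q →
        (∀ (x : Q) (hx : a * x * a⁻¹ ∈ Q), ((β ⟨a * x * a⁻¹, hx⟩ : Q) : Ω) = a' * (β x : Q) * a'⁻¹) →
        β ∈ H)
    {P : Subgroup Ω} {φ : P →* Ω} (hφ : φ ∈ F.Hom P) {Q' : Subgroup Ω} (hQ'P : Q' ≤ P)
    (hc : F.IsConj Q' Q) {n : Ω} (hnP : n ∈ P) (hnN : n ∈ Subgroup.normalizer (Q' : Set Ω))
    (hnQ' : n ∉ Q') :
    GoodAt Q H mk Q' (φ.comp (Subgroup.inclusion hQ'P)) := by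
  intro Q'' hQ''
  have hPS : P ≤ S := (F.le_of_mem hφ).1
  have hQ'S := hQ'P.trans hPS
  have hφ₀ : φ.comp (Subgroup.inclusion hQ'P) ∈ F.Hom Q' := restrict_mem F hQ'P hφ
  have hc'' : F.IsConj Q'' Q := isConj_trans F (isConj_symm F ⟨_, hφ₀, hQ''.symm⟩) hc
  have hQ''S : Q'' ≤ S := isConj_le_left F hc''
  have hm' := hmk Q' hc
  have hm'' := hmk Q'' hc''
  have hφ₀Q'' : ∀ x, (φ.comp (Subgroup.inclusion hQ'P)) x ∈ Q'' := fun x => hQ'' ▸ ⟨x, rfl⟩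
  obtain ⟨β, hβ, hβv⟩ := transportAut hQ'S hQ''S hm' hm'' hφ₀ hφ₀Q''
  refine ⟨β, ?_, hβv⟩
  have hn' : n ∈ FusionSystem.normalizerIn S Q' := ⟨hPS hnP, hnN⟩
  have hφN : φ ⟨n, hnP⟩ ∈ FusionSystem.normalizerIn S Q'' := by
    refine ⟨(F.le_of_mem hφ).2 _, ?_⟩
    have hle : ((Subgroup.normalizer (Q' : Set Ω)).subgroupOf P).map φ
        ≤ Subgroup.normalizer (Q'' : Set Ω) := by
      apply le_normalizer_of_conj_mem
      rintro _ ⟨m, hm, rfl⟩ y hy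
      rw [hQ''] at hy ⊢
      obtain ⟨z, rfl⟩ := hy
      have hmz : (m : Ω) * z * (m : Ω)⁻¹ ∈ Q' := (Subgroup.mem_normalizer_iff.1 hm z).1 z.2
      refine ⟨⟨_, hmz⟩, ?_⟩
      show φ ⟨(m : Ω) * z * (m : Ω)⁻¹, _⟩ = φ m * φ ⟨z, _⟩ * (φ m)⁻¹
      rw [← map_inv, ← map_mul, ← map_mul]
      rfl
    exact hle ⟨⟨n, hnP⟩, hnN, rfl⟩
  apply H3 β hβ (mk Q' ⟨n, hn'⟩) (mk Q'' ⟨φ ⟨n, hnP⟩, hφN⟩) (hm'.normalizes _) (hm''.normalizes _)
  · intro hcon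
    obtain ⟨x, hx, h1, hxe⟩ := hm'.surj hcon
    have h2 := hm'.inj hxe
    apply hnQ'
    have e : x = n := congrArg Subtype.val h2
    rw [← e]
    exact hx
  · intro x hx
    obtain ⟨y, hy, h1, hxy⟩ := hm'.surj x.2
    have hnyn : n * y * n⁻¹ ∈ Q' := (Subgroup.mem_normalizer_iff.1 hnN y).1 hy
    have h1' : n * y * n⁻¹ ∈ FusionSystem.normalizerIn S Q' := le_normalizerIn hQ'S hnyn
    have e1 : mk Q' ⟨n * y * n⁻¹, h1'⟩ = mk Q' ⟨n, hn'⟩ * x * (mk Q' ⟨n, hn'⟩)⁻¹ := by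
      rw [← hxy, ← map_inv, ← map_mul, ← map_mul]
      rfl
    have h3y : (φ.comp (Subgroup.inclusion hQ'P)) ⟨y, hy⟩ ∈ FusionSystem.normalizerIn S Q'' :=
      le_normalizerIn hQ''S (hφ₀Q'' _)
    have h3nyn : (φ.comp (Subgroup.inclusion hQ'P)) ⟨n * y * n⁻¹, hnyn⟩ ∈ FusionSystem.normalizerIn S Q'' :=
      le_normalizerIn hQ''S (hφ₀Q'' _)
    have r1 := hβv ⟨y, hy⟩ x h1 h3y hxy
    have r2 := hβv ⟨n * y * n⁻¹, hnyn⟩ ⟨_, hx⟩ h1' h3nyn e1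
    rw [← r2, ← r1, ← map_inv, ← map_mul, ← map_mul]
    congr 1
    apply Subtype.ext
    show φ ⟨n * y * n⁻¹, _⟩ = φ ⟨n, hnP⟩ * φ ⟨y, _⟩ * (φ ⟨n, hnP⟩)⁻¹
    rw [← map_inv, ← map_mul, ← map_mul]
    rfl

theorem goodAt_comp {Q' Q'' : Subgroup Ω} {φ₀ : Q' →* Ω} {ψ₀ : Q'' →* Ω} (hQ''S : Q'' ≤ S)
    (h1 : GoodAt Q H mk Q' φ₀) (hQ'' : Q'' = φ₀.range) (h2 : GoodAt Q H mk Q'' ψ₀)
    (h : ∀ x, φ₀ x ∈ Q'') : GoodAt Q H mk Q' (ψ₀.comp (φ₀.codRestrict Q'' h)) := by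
  intro Q''' hQ'''
  have hsub : ∀ z ∈ Q'', z ∈ φ₀.range := fun z hz => hQ'' ▸ hz
  have hQ'''2 : Q''' = ψ₀.range := by
    rw [hQ''']
    ext z
    constructor
    · rintro ⟨x, rfl⟩
      exact ⟨_, rfl⟩
    · rintro ⟨y, rfl⟩
      obtain ⟨x, hx⟩ := hsub y y.2
      refine ⟨x, ?_⟩
      show ψ₀ ⟨φ₀ x, h x⟩ = ψ₀ y
      congr 1
      exact Subtype.ext hx
  obtain ⟨β₁, hβ₁, r₁⟩ := h1 Q'' hQ''
  obtain ⟨β₂, hβ₂, r₂⟩ := h2 Q''' hQ'''2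
  refine ⟨β₂ * β₁, H.mul_mem hβ₂ hβ₁, fun x y hx1 hx3 hxy => ?_⟩
  have h3 : φ₀ x ∈ FusionSystem.normalizerIn S Q'' := le_normalizerIn hQ''S (h x)
  have e1 := r₁ x y hx1 h3 hxy
  exact r₂ ⟨φ₀ x, h x⟩ (β₁ y) h3 hx3 e1

theorem goodAt_inv {Q₂ Q₁ : Subgroup Ω} {φ₀ : Q₂ →* Ω} {ψ₁ : Q₁ →* Ω} (hQ₂S : Q₂ ≤ S)
    (hm₂ : IsMark F Q Q₂ (mk Q₂)) (h1 : GoodAt Q H mk Q₂ φ₀) (hQ₁ : Q₁ = φ₀.range)
    (hψ : ∀ (x : Q₂) (h : φ₀ x ∈ Q₁), ψ₁ ⟨φ₀ x, h⟩ = x) : GoodAt Q H mk Q₁ ψ₁ := by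
  intro Q₂' hQ₂'
  have hsub : ∀ z ∈ Q₁, z ∈ φ₀.range := fun z hz => hQ₁ ▸ hz
  have hmemQ₁ : ∀ x : Q₂, φ₀ x ∈ Q₁ := fun x => by rw [hQ₁]; exact ⟨x, rfl⟩
  have hQ₂e : Q₂ = Q₂' := by
    rw [hQ₂']
    ext z
    constructor
    · intro hz
      exact ⟨⟨φ₀ ⟨z, hz⟩, hmemQ₁ _⟩, hψ _ _⟩
    · rintro ⟨y, rfl⟩
      obtain ⟨x, hx⟩ := hsub y y.2
      have e : y = ⟨φ₀ x, hmemQ₁ x⟩ := Subtype.ext hx.symm
      rw [e, hψ x (hmemQ₁ x)]
      exact x.2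
  subst hQ₂e
  obtain ⟨β, hβ, r⟩ := h1 Q₁ hQ₁
  refine ⟨β⁻¹, H.inv_mem hβ, fun z y hz1 hz3 hzy => ?_⟩
  obtain ⟨x, hx⟩ := hsub z z.2
  have e : z = ⟨φ₀ x, hmemQ₁ x⟩ := Subtype.ext hx.symm
  subst e
  have hx1 : (x : Ω) ∈ FusionSystem.normalizerIn S Q₂ := le_normalizerIn hQ₂S x.2
  have hy' : mk Q₂ ⟨x, hx1⟩ ∈ Q := hm₂.mem x.2 hx1
  have e1 := r x ⟨_, hy'⟩ hx1 hz1 rfl
  have e2 : y = β ⟨_, hy'⟩ := Subtype.ext (hzy.symm.trans e1)
  rw [e2, MulAut.inv_apply_self]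
  show mk Q₂ ⟨ψ₁ ⟨φ₀ x, hmemQ₁ x⟩, hz3⟩ = mk Q₂ ⟨x, hx1⟩
  congr 1
  exact Subtype.ext (hψ x (hmemQ₁ x))

/-- the subsystem of `F` of the maps all of whose restrictions to conjugates of `Q` are good -/
theorem exists_goodSystem [Finite S] (hmk : ∀ Q', F.IsConj Q' Q → IsMark F Q Q' (mk Q'))
    (H3 : ∀ β ∈ F.autGroup Q, ∀ a a' : Ω, a ∈ FusionSystem.normalizerIn S Q →
        a' ∈ FusionSystem.normalizerIn S Q → a ∉ Q →
        (∀ (x : Q) (hx : a * x * a⁻¹ ∈ Q), ((β ⟨a * x * a⁻¹, hx⟩ : Q) : Ω) = a' * (β x : Q) * a'⁻¹) →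
        β ∈ H)
    (hne : ∀ Q', F.IsConj Q' Q → ∃ n ∈ FusionSystem.normalizerIn S Q', n ∉ Q') :
    ∃ E : FusionSystem S, ∀ (P : Subgroup Ω) (φ : P →* Ω), φ ∈ E.Hom P ↔
      (φ ∈ F.Hom P ∧ ∀ (Q' : Subgroup Ω) (hQ'P : Q' ≤ P), F.IsConj Q' Q →
        GoodAt Q H mk Q' (φ.comp (Subgroup.inclusion hQ'P))) := by
  refine ⟨{
    Hom := fun P => {φ | φ ∈ F.Hom P ∧ ∀ (Q' : Subgroup Ω) (hQ'P : Q' ≤ P), F.IsConj Q' Q →
        GoodAt Q H mk Q' (φ.comp (Subgroup.inclusion hQ'P))}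
    le_of_mem := fun h => F.le_of_mem h.1
    injective_of_mem := fun h => F.injective_of_mem h.1
    conj_mem := ?_
    comp_mem := ?_
    inv_mem := ?_ }, fun P φ => Iff.rfl⟩
  · intro P g hP hg
    refine ⟨F.conj_mem hP hg, fun Q' hQ'P hc => ?_⟩
    obtain ⟨n, hn, hnQ'⟩ := hne Q' hc
    have hQ'S : Q' ≤ S := hQ'P.trans hP
    have e : (conjHom P g).comp (Subgroup.inclusion hQ'P) = (conjHom S g).comp (Subgroup.inclusion hQ'S) := by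
      ext x
      rfl
    rw [e]
    exact good_of_extends hmk H3 (F.conj_mem le_rfl hg) hQ'S hc hn.1 hn.2 hnQ'
  · intro P P' φ ψ hφ hψ h
    refine ⟨F.comp_mem hφ.1 hψ.1 h, fun Q' hQ'P hc => ?_⟩
    have hφ₀ : φ.comp (Subgroup.inclusion hQ'P) ∈ F.Hom Q' := restrict_mem F hQ'P hφ.1
    have hQ''P' : (φ.comp (Subgroup.inclusion hQ'P)).range ≤ P' := by
      rintro _ ⟨x, rfl⟩
      exact h _
    have hc'' : F.IsConj (φ.comp (Subgroup.inclusion hQ'P)).range Q :=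
      isConj_trans F (isConj_symm F ⟨_, hφ₀, rfl⟩) hc
    have hr : ∀ x, (φ.comp (Subgroup.inclusion hQ'P)) x ∈ (φ.comp (Subgroup.inclusion hQ'P)).range :=
      fun x => ⟨x, rfl⟩
    have key := goodAt_comp (isConj_le_left F hc'') (hφ.2 Q' hQ'P hc) rfl (hψ.2 _ hQ''P' hc'') hr
    have e : (ψ.comp (φ.codRestrict P' h)).comp (Subgroup.inclusion hQ'P) =
        (ψ.comp (Subgroup.inclusion hQ''P')).comp
          ((φ.comp (Subgroup.inclusion hQ'P)).codRestrict (φ.comp (Subgroup.inclusion hQ'P)).range hr) := by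
      ext x
      rfl
    rw [e]
    exact key
  · intro P φ hφ
    obtain ⟨ψ, hψ, hinv⟩ := F.inv_mem hφ.1
    refine ⟨ψ, ⟨hψ, fun Q₁ hQ₁ hc₁ => ?_⟩, hinv⟩
    have hψ₁ : ψ.comp (Subgroup.inclusion hQ₁) ∈ F.Hom Q₁ := restrict_mem F hQ₁ hψ
    have hQ₂P : (ψ.comp (Subgroup.inclusion hQ₁)).range ≤ P := by
      rintro _ ⟨z, rfl⟩
      obtain ⟨w, hw⟩ := hQ₁ z.2
      have e : Subgroup.inclusion hQ₁ z = ⟨φ w, ⟨w, rfl⟩⟩ := Subtype.ext hw.symm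
      show ψ (Subgroup.inclusion hQ₁ z) ∈ P
      rw [e, hinv w]
      exact w.2
    have hc₂ : F.IsConj (ψ.comp (Subgroup.inclusion hQ₁)).range Q :=
      isConj_trans F (isConj_symm F ⟨_, hψ₁, rfl⟩) hc₁
    have hQ₂S := isConj_le_left F hc₂
    have hg := hφ.2 _ hQ₂P hc₂
    refine goodAt_inv hQ₂S (hmk _ hc₂) hg ?_ ?_
    · ext z
      constructor
      · intro hz
        obtain ⟨w, hw⟩ := hQ₁ hz
        have e : (⟨z, hQ₁ hz⟩ : φ.range) = ⟨φ w, ⟨w, rfl⟩⟩ := Subtype.ext hw.symm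
        have hwmem : (w : Ω) ∈ (ψ.comp (Subgroup.inclusion hQ₁)).range := by
          refine ⟨⟨z, hz⟩, ?_⟩
          show ψ ⟨z, hQ₁ hz⟩ = w
          rw [e, hinv w]
        refine ⟨⟨w, hwmem⟩, ?_⟩
        show φ ⟨w, _⟩ = z
        rw [← hw]
      · rintro ⟨x, rfl⟩
        obtain ⟨z, hz⟩ := x.2
        obtain ⟨w, hw⟩ := hQ₁ z.2
        have e : Subgroup.inclusion hQ₁ z = ⟨φ w, ⟨w, rfl⟩⟩ := Subtype.ext hw.symm
        have hz' : ψ (Subgroup.inclusion hQ₁ z) = x := hz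
        rw [e, hinv w] at hz'
        show φ ⟨x, _⟩ ∈ Q₁
        have e2 : (⟨(x : Ω), hQ₂P x.2⟩ : P) = w := Subtype.ext hz'.symm
        rw [e2, hw]
        exact z.2
    · intro x hx
      show ψ ⟨φ ⟨x, hQ₂P x.2⟩, _⟩ = x
      exact hinv ⟨x, hQ₂P x.2⟩

/-- an essential subgroup's conjugacy class cannot be omitted from a conjugation family -/
theorem exists_system_of_essential [Finite S] {p : ℕ} [Fact p.Prime] (hS : IsPGroup p S)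
    (F : FusionSystem S) (hF : F.IsSaturated p) {Q : Subgroup Ω} (hQ : F.IsEssential p Q) :
    ∃ E : FusionSystem S, (∀ R : Subgroup Ω, R ≤ S → ¬ F.IsConj Q R → F.autGroup R ≤ E.autGroup R) ∧
      ¬ F ≤ E := by
  obtain ⟨H, ⟨α, hαF, hαH⟩, ⟨a, haN, haQ⟩, H3⟩ := exists_control_aut hS F hF hQ
  have hQS : Q ≤ S := hQ.1.1
  haveI : Finite Q := finite_of_le hQS
  have hsat := (Cfsg.Agent.S5077.result p hS F).1 hF
  have hfa : F.IsFullyAutomized p Q := (hsat.1 Q hQ.2.1).2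
  have hrec : F.IsReceptive Q := hsat.2 Q (hsat.1 Q hQ.2.1).1
  have hex : ∀ Q', F.IsConj Q' Q → ∃ θ', IsMark F Q Q' θ' := fun Q' hc => by
    obtain ⟨φ, hφ, _, _, hmap⟩ := exists_hom_normalizer p hS F Q Q' hfa hrec hc
    exact ⟨φ, hφ, hmap⟩
  classical
  obtain ⟨mk, hmk⟩ : ∃ mk : (Q' : Subgroup Ω) → (FusionSystem.normalizerIn S Q' →* Ω),
      ∀ Q', F.IsConj Q' Q → IsMark F Q Q' (mk Q') := by
    refine ⟨fun Q' => if hc : F.IsConj Q' Q then Classical.choose (hex Q' hc) else 1, fun Q' hc => ?_⟩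
    simp only [dif_pos hc]
    exact Classical.choose_spec (hex Q' hc)
  have hQne : Q ≠ S := fun h => haQ (h ▸ haN.1)
  have hne : ∀ Q', F.IsConj Q' Q → ∃ n ∈ FusionSystem.normalizerIn S Q', n ∉ Q' := by
    intro Q' hc
    have hQ'S := isConj_le_left F hc
    have hQ'ne : Q' ≠ S := by
      intro h
      apply hQne
      apply Subgroup.eq_of_le_of_card_ge hQS
      rw [← card_eq_of_isConj F hc, h]
    have h1 := normalizerIn_ne_self hS hQ'S hQ'ne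
    by_contra hcon
    push_neg at hcon
    exact h1 (le_antisymm (fun n hn => hcon n hn) (le_normalizerIn hQ'S))
  obtain ⟨E, hE⟩ := exists_goodSystem hmk H3 hne
  refine ⟨E, ?_, ?_⟩
  · intro R hRS hnc γ hγ
    rw [mem_autGroup_iff F hRS] at hγ
    apply Subgroup.subset_closure
    show R.subtype.comp γ.toMonoidHom ∈ E.Hom R
    rw [hE]
    refine ⟨hγ, fun Q' hQ'R hc => ?_⟩
    have hQ'ne : Q' ≠ R := fun h => hnc (h ▸ isConj_symm F hc)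
    haveI : Finite R := finite_of_le hRS
    have h1 := normalizerIn_ne_self (S := R) (hS.to_le hRS) hQ'R hQ'ne
    have h2 : ∃ n ∈ FusionSystem.normalizerIn R Q', n ∉ Q' := by
      by_contra hcon
      push_neg at hcon
      exact h1 (le_antisymm (fun n hn => hcon n hn) (le_normalizerIn hQ'R))
    obtain ⟨n, hn, hnQ'⟩ := h2
    exact good_of_extends hmk H3 hγ hQ'R hc hn.1 hn.2 hnQ'
  · intro hFE
    have hαhom : Q.subtype.comp α.toMonoidHom ∈ F.Hom Q := (mem_autGroup_iff F hQS).1 hαF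
    have hαE := (hE Q _).1 (hFE Q hαhom)
    have hgood := hαE.2 Q le_rfl (isConj_refl F hQS)
    have hm := hmk Q (isConj_refl F hQS)
    have hrange : Q = ((Q.subtype.comp α.toMonoidHom).comp (Subgroup.inclusion (le_refl Q))).range := by
      ext z
      constructor
      · intro hz
        refine ⟨α.symm ⟨z, hz⟩, ?_⟩
        show ((α (α.symm ⟨z, hz⟩) : Q) : Ω) = z
        rw [MulEquiv.apply_symm_apply]
      · rintro ⟨x, rfl⟩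
        exact (α x).2
    obtain ⟨β, hβ, r⟩ := hgood Q hrange
    -- the automorphism μ induced by the marking of Q
    have hle : Q ≤ FusionSystem.normalizerIn S Q := le_normalizerIn hQS
    have hμ0 : (mk Q).comp (Subgroup.inclusion hle) ∈ F.Hom Q := restrict_mem F hle hm.1
    have hμ1 : ∀ x : Q, ((mk Q).comp (Subgroup.inclusion hle)) x ∈ Q := fun x => hm.mem x.2 _
    obtain ⟨μ, hμF, hμv⟩ := exists_aut_of_hom F hμ0 hμ1
    have hμH : μ ∈ H := by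
      apply H3 μ hμF a (mk Q ⟨a, haN⟩) haN (hm.normalizes _) haQ
      intro x hx
      rw [hμv, hμv]
      show mk Q ⟨a * x * a⁻¹, _⟩ = mk Q ⟨a, haN⟩ * mk Q ⟨x, hle x.2⟩ * (mk Q ⟨a, haN⟩)⁻¹
      rw [← map_inv, ← map_mul, ← map_mul]
      rfl
    have hrel : μ * α = β * μ := by
      ext x
      rw [MulAut.mul_apply, MulAut.mul_apply, hμv]
      have := r x (μ x) (hle x.2) (hle (α x).2) (hμv x).symm
      rw [← this]
      rfl
    apply hαH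
    have e : α = μ⁻¹ * (β * μ) := by
      rw [← hrel, inv_mul_cancel_left]
    rw [e]
    exact H.mul_mem (H.inv_mem hμH) (H.mul_mem hβ hμH)

end comp

end Cfsg.Agent.Lib.Helper29
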