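import Mathlib.GroupTheory.Sylow

set_option autoImplicit false

namespace Cfsg.Agent.Lib.Helper29

variable {A : Type*} [Group A]

/-- the intersection of a Sylow subgroup with a normal subgroup is a Sylow subgroup of the latter -/
theorem exists_sylow_eq_subgroupOf_normal [Finite A] {p : ℕ} [Fact p.Prime] (Sy : Sylow p A)
    (K : Subgroup A) [K.Normal] :
    ∃ P₁ : Sylow p K, (P₁ : Subgroup K) = (Sy : Subgroup A).subgroupOf K := by
  obtain ⟨P₀⟩ : Nonempty (Sylow p K) := inferInstance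
  obtain ⟨Q₀, hQ₀⟩ := P₀.exists_comap_subtype_eq
  obtain ⟨g, hg⟩ := MulAction.exists_smul_eq A Q₀ Sy
  refine ⟨(MulAut.conjNormal g : MulAut K) • P₀, ?_⟩
  ext k
  rw [Subgroup.mem_subgroupOf, ← hg]
  have h1 : k ∈ (((MulAut.conjNormal g : MulAut K) • P₀ : Sylow p K) : Subgroup K) ↔
      (MulAut.conjNormal g : MulAut K)⁻¹ k ∈ (P₀ : Subgroup K) := by
    rw [Sylow.pointwise_smul_def]
    exact Subgroup.mem_pointwise_smul_iff_inv_smul_mem
  have h2 : (k : A) ∈ ((g • Q₀ : Sylow p A) : Subgroup A) ↔ g⁻¹ * (k : A) * g ∈ (Q₀ : Subgroup A) := by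
    rw [Sylow.coe_subgroup_smul, Subgroup.mem_pointwise_smul_iff_inv_smul_mem, MulAut.smul_def,
      MulAut.conj_inv_apply]
  rw [h1, h2, ← hQ₀]
  have h3 : (((MulAut.conjNormal g : MulAut K)⁻¹ k : K) : A) = g⁻¹ * (k : A) * g := by
    rw [← map_inv, MulAut.conjNormal_apply, inv_inv]
  rw [← h3]
  rfl

/-- Frattini factorization relative to a normal subgroup: every `δ` is `κ * ν` with `κ ∈ K` and `ν`
normalizing `Sy ⊓ K`. -/
theorem exists_mul_normalizer_of_normal [Finite A] {p : ℕ} [Fact p.Prime] (Sy : Sylow p A)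
    (K : Subgroup A) [K.Normal] (δ : A) :
    ∃ κ ∈ K, ∃ ν : A, δ = κ * ν ∧ ∀ t ∈ (Sy : Subgroup A) ⊓ K, ν * t * ν⁻¹ ∈ (Sy : Subgroup A) ⊓ K := by
  obtain ⟨P₁, hP₁⟩ := exists_sylow_eq_subgroupOf_normal Sy K
  have h1 := Sylow.normalizer_sup_eq_top P₁
  have h2 : ((P₁ : Subgroup K).map K.subtype) = (Sy : Subgroup A) ⊓ K := by
    rw [hP₁, Subgroup.subgroupOf_map_subtype]
  rw [h2, sup_comm] at h1
  have h3 : δ ∈ K ⊔ Subgroup.normalizer (((Sy : Subgroup A) ⊓ K : Subgroup A) : Set A) := by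
    rw [h1]
    exact Subgroup.mem_top δ
  rw [← SetLike.mem_coe, Subgroup.normal_mul] at h3
  obtain ⟨κ, hκ, ν, hν, rfl⟩ := Set.mem_mul.1 h3
  refine ⟨κ, hκ, ν, rfl, fun t ht => ?_⟩
  exact (Subgroup.mem_normalizer_iff.1 hν t).1 ht

end Cfsg.Agent.Lib.Helper29
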