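import Cfsg.Agent.Lib.Helper29.SubnormalConstrained
import Cfsg.Agent.Lib.Helper25.OmegaFix
import Cfsg.Prelude.Def_PLocal

/-!
Normality of a strongly closed subgroup from a central-type series of `Ω₁` (odd `p`).
-/
set_option autoImplicit false

namespace Cfsg.Agent.Lib.Helper29
open Cfsg
open scoped commutatorElement

variable {Ω : Type*} [Group Ω] {S : Subgroup Ω}

/-- if the automorphisms of a centric radical `P` induced by `N_R(P)` lie in a normal `p`-subgroup of
`Aut_F(P)`, then `R ≤ P` -/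
theorem le_of_normal_pSubgroup_aut [Finite S] {p : ℕ} [Fact p.Prime] (hS : IsPGroup p S) (F : FusionSystem S)
    {P : Subgroup Ω} (hc : F.IsCentric P) (hr : F.IsRadical p P) (R : Subgroup Ω) (hRS : R ≤ S)
    (hPR : P ≤ Subgroup.normalizer (R : Set Ω))
    (K : Subgroup (MulAut P)) (hKp : IsPGroup p K) (hKn : (K.subgroupOf (F.autGroup P)).Normal)
    (hmem : ∀ g ∈ R, ∀ hgN : g ∈ Subgroup.normalizer (P : Set Ω), P.normalizerMonoidHom ⟨g, hgN⟩ ∈ K) :
    R ≤ P := by
  have hPS : P ≤ S := hc.1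
  have : Finite P := finite_of_le hPS
  have hcore := le_pCore' hKn hKp.comap_subtype
  have hcen' : FusionSystem.centralizerIn S P ≤ P := hc.2 P (isConj_refl F hPS)
  have hN : ∀ g ∈ R, g ∈ Subgroup.normalizer (P : Set Ω) → g ∈ P := by
    intro g hgR hgN
    have h0 : P.normalizerMonoidHom ⟨g, hgN⟩ ∈ F.autGroup P :=
      autInducedBy_le_autGroup F hPS (Subgroup.subset_closure ⟨g, hRS hgR, fun x => rfl⟩)
    have h1 := hmem g hgR hgN
    have h2 : P.normalizerMonoidHom ⟨g, hgN⟩ ∈ Inn P := by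
      rw [← hr.2]
      exact ⟨⟨_, h0⟩, hcore h1, rfl⟩
    exact mem_of_conj_mem_inn hPS hcen' (hRS hgR) hgN h2
  have hTS : P ⊔ R ≤ S := sup_le hPS hRS
  have hNT : FusionSystem.normalizerIn (P ⊔ R) P ≤ P := by
    intro g hg
    have hgT : g ∈ ((P ⊔ R : Subgroup Ω) : Set Ω) := hg.1
    have hgN : g ∈ Subgroup.normalizer (P : Set Ω) := hg.2
    rw [Subgroup.coe_mul_of_left_le_normalizer_right P R hPR] at hgT
    obtain ⟨x, hx, r, hr', rfl⟩ := hgT
    have hrN : r ∈ Subgroup.normalizer (P : Set Ω) := by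
      have : r = x⁻¹ * (x * r) := by group
      rw [this]
      exact mul_mem (inv_mem (Subgroup.le_normalizer hx)) hgN
    exact P.mul_mem hx (hN r hr' hrN)
  have : Finite ↥(P ⊔ R) := finite_of_le hTS
  have hTp : IsPGroup p ↥(P ⊔ R) := hS.to_le hTS
  by_contra hRP
  have hne : P ≠ P ⊔ R := by
    intro h
    apply hRP
    rw [h]
    exact le_sup_right
  exact normalizerIn_ne_self hTp le_sup_left hne (le_antisymm hNT (le_normalizerIn le_sup_left))

/-- an element of a finite group whose `p'`-parts are all trivial has `p`-power order: criterion for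
`p`-groups of automorphisms -/
theorem isPGroup_of_pPrime_trivial {A : Type*} [Group A] [Finite A] {p : ℕ} [Fact p.Prime] (K : Subgroup A)
    (h : ∀ β ∈ K, ∀ m : ℕ, m.Coprime p → β ^ m = 1 → β = 1) : IsPGroup p K := by
  have hp : p.Prime := Fact.out
  rintro ⟨γ, hγ⟩
  have ho : orderOf γ ≠ 0 := (orderOf_pos γ).ne'
  obtain ⟨e, m, hm, hom⟩ := Nat.exists_eq_pow_mul_and_not_dvd ho p hp.ne_one
  refine ⟨e, Subtype.ext ?_⟩
  show γ ^ (p ^ e) = 1
  apply h (γ ^ (p ^ e)) (K.pow_mem hγ _) m ((Nat.Prime.coprime_iff_not_dvd hp).2 hm).symm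
  rw [← pow_mul, ← hom, pow_orderOf_eq_one]

theorem pow_apply_eq_self {G : Type*} [Group G] (γ : MulAut G) {x : G} (h : γ x = x) (j : ℕ) :
    (γ ^ j) x = x := by
  induction j with
  | zero => simp
  | succ j ih => rw [pow_succ', MulAut.mul_apply, ih, h]

/-- the chain `A ≤ ⊤ ≤ ⊤ ≤ …` -/
def chainTop {G : Type*} [Group G] (A : Subgroup G) : ℕ → Subgroup G
  | 0 => A
  | _ + 1 => ⊤

/-- `P` strongly closed (odd `p`) with an `F`-invariant series of `Ω₁(P)` centralized stepwise by `P` is normal -/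
theorem isNormal_of_omega_chain [Finite S] (p : ℕ) [Fact p.Prime] (hS : IsPGroup p S) (F : FusionSystem S)
    (hF : F.IsSaturated p) (hp : p ≠ 2) (P : Subgroup Ω) (hP : F.StronglyClosed P) (n : ℕ)
    (Q : ℕ → Subgroup Ω) (h0 : Q 0 = ⊥) (hn : Q n = omegaOne p P) (hmono : ∀ i, Q i ≤ Q (i + 1))
    (hsc : ∀ i, F.StronglyClosed (Q i)) (hcomm : ∀ i < n, ⁅Q (i + 1), P⁆ ≤ Q i) : F.IsNormal P := by
  have hpp : p.Prime := Fact.out
  apply isNormal_of_stronglyClosed p hS F hF P hP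
  intro R hc hr
  have hRS : R ≤ S := hc.1
  have : Finite R := finite_of_le hRS
  have hRp : IsPGroup p R := hS.to_le hRS
  have hPn := conj_mem_of_stronglyClosed F hP
  have hmonoM : ∀ i, (Q i).subgroupOf R ≤ (Q (i + 1)).subgroupOf R := fun i x hx => hmono i hx
  have hmono2 : ∀ i, chainTop (P.subgroupOf R) i ≤ chainTop (P.subgroupOf R) (i + 1) := fun i => le_top
  refine le_of_normal_pSubgroup_aut hS F hc hr P hP.1
    (le_normalizer_of_conj_mem (fun g hg x hx => hPn g (hRS hg) x hx))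
    (stabAut (F.autGroup R) (fun i => (Q i).subgroupOf R) hmonoM n ⊓
      stabAut (F.autGroup R) (chainTop (P.subgroupOf R)) hmono2 1) ?_ ?_ ?_
  · -- p-group
    apply isPGroup_of_pPrime_trivial
    intro β hβ m hcop hm
    obtain ⟨⟨hβA, hβ1⟩, ⟨_, hβ2⟩⟩ := Subgroup.mem_inf.1 hβ
    obtain ⟨k, hk⟩ := stab_chain hRp (fun i => (Q i).subgroupOf R) hmonoM β n
      (fun i hi x hx => (hβ1 i hi x hx).1) ⟨0, fun x hx => by
        have hx' : (x : Ω) ∈ Q 0 := hx
        rw [h0, Subgroup.mem_bot] at hx'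
        have : x = 1 := Subtype.ext hx'
        rw [this, map_one]⟩
    have hord : orderOf β ∣ m := orderOf_dvd_of_pow_eq_one hm
    have hcop' : (p ^ k).Coprime (orderOf β) :=
      (Nat.Coprime.pow_left k (Nat.Coprime.coprime_dvd_left hord hcop).symm)
    obtain ⟨j, hj⟩ := exists_pow_eq_self_of_coprime hcop'
    have hfixΩ : ∀ x : R, (x : Ω) ∈ Q n → β x = x := by
      intro x hx
      have := pow_apply_eq_self (β ^ (p ^ k)) (hk x hx) j
      rwa [hj] at this
    have hfixP : ∀ y ∈ P.subgroupOf R, β y = y := by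
      apply Cfsg.Agent.Lib.Helper25.fix_of_fix_small β hm hcop _ (P.subgroupOf R) rfl inferInstance
        (hRp.to_subgroup _)
      · intro y hy
        exact aut_mem_of_stronglyClosed F hP hRS hβA y hy
      · intro y hy hsmall
        rcases hsmall with h1 | ⟨h2, _⟩
        · apply hfixΩ
          rw [hn]
          refine Subgroup.subset_closure ⟨hy, ?_⟩
          have := congrArg Subtype.val h1
          simpa using this
        · exact absurd h2 hp
    obtain ⟨k', hk'⟩ := stab_step hRp (le_top : P.subgroupOf R ≤ ⊤) β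
      (fun x _ => (hβ2 0 Nat.zero_lt_one x (Subgroup.mem_top x)).1) 0
      (fun x hx => by rw [pow_zero, pow_one]; exact hfixP x hx)
    have h1 : β ^ (p ^ k') = 1 := by
      ext x
      rw [hk' x (Subgroup.mem_top x)]
      rfl
    have hord2 : orderOf β ∣ p ^ k' := orderOf_dvd_of_pow_eq_one h1
    have h3 : orderOf β ∣ Nat.gcd m (p ^ k') := Nat.dvd_gcd hord hord2
    rw [Nat.Coprime.gcd_eq_one (Nat.Coprime.pow_right k' hcop)] at h3
    exact orderOf_eq_one_iff.1 (Nat.dvd_one.1 h3)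
  · -- normal
    have hn1 := stabAut_normal (F.autGroup R) (fun i => (Q i).subgroupOf R) hmonoM n
      (fun i α hα x hx => aut_mem_of_stronglyClosed F (hsc i) hRS hα x hx)
    have hn2 := stabAut_normal (F.autGroup R) (chainTop (P.subgroupOf R)) hmono2 1
      (fun i α hα x hx => by
        match i with
        | 0 => exact aut_mem_of_stronglyClosed F hP hRS hα x hx
        | _ + 1 => exact Subgroup.mem_top _)
    refine ⟨fun γ hγ α => ?_⟩
    rw [Subgroup.mem_subgroupOf] at hγ ⊢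
    obtain ⟨h1, h2⟩ := Subgroup.mem_inf.1 hγ
    exact Subgroup.mem_inf.2 ⟨hn1.conj_mem γ h1 α, hn2.conj_mem γ h2 α⟩
  · -- membership
    intro g hg hgN
    have h0' : R.normalizerMonoidHom ⟨g, hgN⟩ ∈ F.autGroup R :=
      autInducedBy_le_autGroup F hRS (Subgroup.subset_closure ⟨g, hP.1 hg, fun x => rfl⟩)
    have e : (R.normalizerMonoidHom ⟨g, hgN⟩)⁻¹ = R.normalizerMonoidHom ⟨g, hgN⟩⁻¹ :=
      (map_inv _ _).symm
    have hact1 : ∀ g ∈ P, ∀ i < n, ∀ x ∈ Q (i + 1), x⁻¹ * (g * x * g⁻¹) ∈ Q i := by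
      intro g hg i hi x hx
      have e1 : x⁻¹ * (g * x * g⁻¹) = ⁅x⁻¹, g⁆ := by
        rw [commutatorElement_def]; group
      rw [e1]
      exact hcomm i hi (Subgroup.commutator_mem_commutator (inv_mem hx) hg)
    have hact2 : ∀ g ∈ P, ∀ x ∈ R, x⁻¹ * (g * x * g⁻¹) ∈ P := by
      intro g hg x hx
      have e1 : x⁻¹ * (g * x * g⁻¹) = x⁻¹ * g * x⁻¹⁻¹ * g⁻¹ := by group
      rw [e1]
      exact P.mul_mem (hPn x⁻¹ (hRS (inv_mem hx)) g hg) (inv_mem hg)
    refine Subgroup.mem_inf.2 ⟨⟨h0', fun i hi x hx => ⟨?_, ?_⟩⟩, ⟨h0', fun i hi x hx => ⟨?_, ?_⟩⟩⟩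
    · exact hact1 g hg i hi x hx
    · rw [e]
      exact hact1 g⁻¹ (inv_mem hg) i hi x hx
    · have hi0 : i = 0 := by omega
      subst hi0
      exact hact2 g hg x x.2
    · have hi0 : i = 0 := by omega
      subst hi0
      rw [e]
      exact hact2 g⁻¹ (inv_mem hg) x x.2

theorem omegaOne_le (p : ℕ) (P : Subgroup Ω) : omegaOne p P ≤ P := by
  unfold omegaOne
  rw [Subgroup.closure_le]
  exact fun x hx => hx.1

/-- `Ω₁(P)` is strongly closed when `P` is normal in `F` -/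
theorem omegaOne_stronglyClosed [Finite S] (F : FusionSystem S) {P : Subgroup Ω} (hPn : F.IsNormal P)
    (p : ℕ) : F.StronglyClosed (omegaOne p P) := by
  have hle := omegaOne_le p P
  refine ⟨hle.trans hPn.1, fun R' hR' φ hφ x => ?_⟩
  obtain ⟨α, _, hαv⟩ := exists_aut_of_isNormal F hPn R' (hR'.trans hle) φ hφ
  have key : omegaOne p P ≤
      (((omegaOne p P).subgroupOf P).comap α.toMonoidHom).map P.subtype := by
    unfold omegaOne
    rw [Subgroup.closure_le]
    rintro z ⟨hzP, hzp⟩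
    refine ⟨⟨z, hzP⟩, ?_, rfl⟩
    show ((α ⟨z, hzP⟩ : P) : Ω) ∈ Subgroup.closure {x : Ω | x ∈ P ∧ x ^ p = 1}
    refine Subgroup.subset_closure ⟨(α ⟨z, hzP⟩).2, ?_⟩
    have h1 : (α ⟨z, hzP⟩) ^ p = 1 := by
      rw [← map_pow]
      have : (⟨z, hzP⟩ : P) ^ p = 1 := Subtype.ext hzp
      rw [this, map_one]
    exact congrArg Subtype.val h1
  obtain ⟨y, hy, hyx⟩ := key (hR' x.2)
  rw [← hαv]
  have : Subgroup.inclusion (hR'.trans hle) x = y := Subtype.ext hyx.symm
  rw [this]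
  exact hy

end Cfsg.Agent.Lib.Helper29
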