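import Mathlib

/-!
`PGL_n(q) / PSL_n(q)` is cyclic of order `gcd(n, q - 1)`.
-/

set_option autoImplicit false

namespace Cfsg.Agent.Lib.Helper29

/-- a finite cyclic group maps onto `ZMod d`, `d = gcd(|C|, n)`, with kernel the `n`-th powers -/
theorem exists_hom_cyclic_pow (C : Type*) [CommGroup C] [IsCyclic C] [Finite C] (n d : ℕ)
    (hd : (Nat.card C).gcd n = d) :
    ∃ δ : C →* Multiplicative (ZMod d), Function.Surjective δ ∧ ∀ x, δ x = 1 ↔ ∃ y, y ^ n = x := by
  have hidx : (powMonoidHom n : C →* C).range.index = d := by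
    rw [IsCyclic.index_powMonoidHom_range, hd]
  have hcard : Nat.card (C ⧸ (powMonoidHom n : C →* C).range) = d := by
    rw [← Subgroup.index_eq_card]
    exact hidx
  have hcyc : IsCyclic (C ⧸ (powMonoidHom n : C →* C).range) :=
    isCyclic_of_surjective (QuotientGroup.mk' _) (QuotientGroup.mk'_surjective _)
  let e₁ := zmodCyclicMulEquiv hcyc
  let e₂ : Multiplicative (ZMod (Nat.card (C ⧸ (powMonoidHom n : C →* C).range))) ≃*
      Multiplicative (ZMod d) := AddEquiv.toMultiplicative (ZMod.ringEquivCongr hcard).toAddEquiv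
  refine ⟨(e₂.toMonoidHom.comp e₁.symm.toMonoidHom).comp (QuotientGroup.mk' _), ?_, fun x => ?_⟩
  · exact (e₂.surjective.comp e₁.symm.surjective).comp (QuotientGroup.mk'_surjective _)
  · have h1 : ((e₂.toMonoidHom.comp e₁.symm.toMonoidHom).comp (QuotientGroup.mk' _)) x =
        e₂ (e₁.symm (QuotientGroup.mk' (powMonoidHom n : C →* C).range x)) := rfl
    rw [h1, MulEquiv.map_eq_one_iff, MulEquiv.map_eq_one_iff, QuotientGroup.mk'_apply,
      QuotientGroup.eq_one_iff]
    constructor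
    · rintro ⟨y, hy⟩
      exact ⟨y, hy⟩
    · rintro ⟨y, hy⟩
      exact ⟨y, hy⟩

open Matrix Matrix.ProjGenLinGroup Matrix.SpecialLinearGroup in
set_option backward.isDefEq.respectTransparency.types false in
theorem pgl_mod_psl {F : Type*} [Field F] [Fintype F] {q : ℕ} (hF : Fintype.card F = q) (n : ℕ)
    (hn : 1 ≤ n) :
    ∃ g : Matrix.ProjGenLinGroup (Fin n) F →* Multiplicative (ZMod (Nat.gcd n (q - 1))),
      Function.Surjective g ∧
      g.ker = (Matrix.ProjectiveSpecialLinearGroup.toPGL :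
        Matrix.ProjectiveSpecialLinearGroup (Fin n) F →* Matrix.ProjGenLinGroup (Fin n) F).range := by
  classical
  have hcard : Nat.card Fˣ = q - 1 := by
    rw [Nat.card_eq_fintype_card, Fintype.card_units, hF]
  have hd : (Nat.card Fˣ).gcd n = Nat.gcd n (q - 1) := by rw [hcard, Nat.gcd_comm]
  obtain ⟨δ, hδs, hδk⟩ := exists_hom_cyclic_pow Fˣ n _ hd
  haveI : Nonempty (Fin n) := ⟨⟨0, hn⟩⟩
  have hle : Subgroup.center (GL (Fin n) F) ≤ (δ.comp Matrix.GeneralLinearGroup.det).ker := by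
    rw [Matrix.GeneralLinearGroup.center_eq_range_scalar]
    rintro _ ⟨u, rfl⟩
    rw [MonoidHom.mem_ker, MonoidHom.comp_apply, Matrix.GeneralLinearGroup.det_scalar, hδk]
    exact ⟨u, by rw [Fintype.card_fin]⟩
  let g : Matrix.ProjGenLinGroup (Fin n) F →* Multiplicative (ZMod (Nat.gcd n (q - 1))) :=
    QuotientGroup.lift _ (δ.comp Matrix.GeneralLinearGroup.det) hle
  have hg : ∀ A : GL (Fin n) F, g (Matrix.ProjGenLinGroup.mk A) = δ (Matrix.GeneralLinearGroup.det A) :=
    fun A => rfl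
  refine ⟨g, ?_, ?_⟩
  · intro y
    obtain ⟨u, rfl⟩ := hδs y
    obtain ⟨A, rfl⟩ := Matrix.GeneralLinearGroup.det_surjective (n := Fin n) u
    exact ⟨Matrix.ProjGenLinGroup.mk A, hg A⟩
  · ext x
    induction x using Matrix.ProjGenLinGroup.induction_on with | mk A =>
    rw [MonoidHom.mem_ker, hg, hδk, MonoidHom.mem_range]
    constructor
    · rintro ⟨y, hy⟩
      obtain ⟨r, hr⟩ : ∃ r : Fˣ, r ^ Fintype.card (Fin n) * A.det = 1 :=
        ⟨y⁻¹, by rw [Fintype.card_fin, inv_pow, hy, inv_mul_cancel]⟩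
      simp only [Units.ext_iff, Units.val_mul, Units.val_pow_eq_pow_val,
        GeneralLinearGroup.val_det_apply, ← Matrix.det_smul A.1 r.1, Units.val_one] at hr
      use QuotientGroup.mk ⟨r.1 • A.1, hr⟩
      simp only [ProjectiveSpecialLinearGroup.toPGL_mk, mk_eq_mk_iff]
      refine ⟨r⁻¹, Units.ext ?_⟩
      simp only [Units.val_mul, coe_GL_coe_matrix, GeneralLinearGroup.coe_scalar]
      simp [← Matrix.mul_smul, ← Matrix.diagonal_smul, Pi.smul_def, smul_eq_mul]
    · rintro ⟨s, hs⟩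
      induction s using QuotientGroup.induction_on with | H s =>
      rw [ProjectiveSpecialLinearGroup.toPGL_mk, mk_eq_mk_iff] at hs
      obtain ⟨u, rfl⟩ := hs
      refine ⟨u, ?_⟩
      rw [map_mul, Matrix.GeneralLinearGroup.det_scalar, Fintype.card_fin]
      have : Matrix.GeneralLinearGroup.det (toGL s) = 1 := by
        ext
        simp
      rw [this, one_mul]

end Cfsg.Agent.Lib.Helper29
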