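import Cfsg.Prelude.Def_FusionSystem

set_option autoImplicit false
open Cfsg

namespace Cfsg.Agent.Lib.Helper29

variable {G : Type*} [Group G]

/-- `H` (a subgroup of `K`) is a Sylow `p`-subgroup of `K`, in the form the statements use. -/
def IsSylowSub (p : ℕ) (H K : Subgroup G) : Prop :=
  ∃ R : Sylow p K, (R : Subgroup K) = H.subgroupOf K

theorem card_subgroupOf_of_le {H K : Subgroup G} (h : H ≤ K) :
    Nat.card (H.subgroupOf K) = Nat.card H :=
  Nat.card_congr (Subgroup.subgroupOfEquivOfLe h).toEquiv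

theorem isPGroup_subgroupOf_iff_of_le {p : ℕ} {H K : Subgroup G} (h : H ≤ K) :
    IsPGroup p (H.subgroupOf K) ↔ IsPGroup p H := by
  constructor
  · intro hp
    exact hp.of_equiv (Subgroup.subgroupOfEquivOfLe h)
  · intro hp
    exact hp.of_equiv (Subgroup.subgroupOfEquivOfLe h).symm

theorem isSylowSub_iff [Finite G] {p : ℕ} [Fact p.Prime] {H K : Subgroup G} (h : H ≤ K) :
    IsSylowSub p H K ↔ IsPGroup p H ∧ Nat.card H = p ^ (Nat.card K).factorization p := by
  constructor
  · rintro ⟨R, hR⟩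
    constructor
    · rw [← isPGroup_subgroupOf_iff_of_le h, ← hR]
      exact R.isPGroup'
    · rw [← card_subgroupOf_of_le h, ← hR]
      exact R.card_eq_multiplicity
  · rintro ⟨hp, hc⟩
    obtain ⟨R, hR⟩ := ((isPGroup_subgroupOf_iff_of_le h).2 hp).exists_le_sylow
    refine ⟨R, ?_⟩
    symm
    apply Subgroup.eq_of_le_of_card_ge hR
    rw [card_subgroupOf_of_le h, hc, R.card_eq_multiplicity]

theorem IsPGroup_card_le [Finite G] {p : ℕ} [Fact p.Prime] {H K : Subgroup G} (h : H ≤ K)
    (hp : IsPGroup p H) : Nat.card H ≤ p ^ (Nat.card K).factorization p := by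
  obtain ⟨R, hR⟩ := ((isPGroup_subgroupOf_iff_of_le h).2 hp).exists_le_sylow
  rw [← card_subgroupOf_of_le h, ← R.card_eq_multiplicity]
  exact Subgroup.card_le_of_le hR

end Cfsg.Agent.Lib.Helper29
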