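import Cfsg.Agent.Lib.Helper29.FusionCentric
import Cfsg.Agent.S5077
import Cfsg.Agent.S5095

/-!
Saturated subsystems `F' ≤ F` over the same `S`: a map of `F` whose restriction to an `F`-centric subgroup lies
in `F'` lies in `F'`.
-/
set_option autoImplicit false

namespace Cfsg.Agent.Lib.Helper29
open Cfsg

variable {Ω : Type*} [Group Ω] {S : Subgroup Ω}

theorem isConj_of_le {F' F : FusionSystem S} (hle : F' ≤ F) {P X : Subgroup Ω} (h : F'.IsConj P X) :
    F.IsConj P X := by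
  obtain ⟨θ, hθ, hr⟩ := h
  exact ⟨θ, hle P hθ, hr⟩

/-- an `F`-centric subgroup is fully centralized in any subsystem `F' ≤ F` over `S` -/
theorem fullyCentralized_of_centric_sub [Finite S] {F' F : FusionSystem S} (hle : F' ≤ F)
    {P : Subgroup Ω} (hP : F.IsCentric P) : F'.IsFullyCentralized P := by
  refine ⟨hP.1, ?_⟩
  rintro X ⟨θ, hθ, hr⟩
  have hXc : FusionSystem.centralizerIn S X ≤ X := hP.2 X ⟨θ, hle P hθ, hr⟩
  obtain ⟨χ, hχ, hχinv⟩ := exists_inv_iso F' hθ hr
  have hχinj := F'.injective_of_mem hχ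
  have : Finite (FusionSystem.centralizerIn S P) := finite_centralizerIn P
  -- the map c ↦ χ c from C_S(X) to C_S(P)
  have hmem : ∀ c : FusionSystem.centralizerIn S X, χ ⟨c.1, hXc c.2⟩ ∈ FusionSystem.centralizerIn S P := by
    intro c
    refine ⟨(F'.le_of_mem hχ).2 _, ?_⟩
    show χ ⟨c.1, hXc c.2⟩ ∈ Subgroup.centralizer (P : Set Ω)
    rw [Subgroup.mem_centralizer_iff]
    intro a ha
    have hθa : θ ⟨a, ha⟩ ∈ X := hr ▸ ⟨⟨a, ha⟩, rfl⟩
    have h1 := hχinv ⟨a, ha⟩ hθa
    have hc2 : (c : Ω) ∈ Subgroup.centralizer (X : Set Ω) := c.2.2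
    have h2 : θ ⟨a, ha⟩ * (c : Ω) = (c : Ω) * θ ⟨a, ha⟩ := (Subgroup.mem_centralizer_iff.1 hc2) _ hθa
    have h3 : (⟨θ ⟨a, ha⟩, hθa⟩ : X) * ⟨c.1, hXc c.2⟩ = ⟨c.1, hXc c.2⟩ * ⟨θ ⟨a, ha⟩, hθa⟩ :=
      Subtype.ext h2
    have h4 := congrArg χ h3
    rw [map_mul, map_mul, h1] at h4
    exact h4
  apply Nat.card_le_card_of_injective (fun c => (⟨χ ⟨c.1, hXc c.2⟩, hmem c⟩ : FusionSystem.centralizerIn S P))
  intro c c' hcc
  have h1 : χ ⟨c.1, hXc c.2⟩ = χ ⟨c'.1, hXc c'.2⟩ := congrArg Subtype.val hcc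
  have h2 := hχinj h1
  have h3 : ((⟨c.1, hXc c.2⟩ : X) : Ω) = ((⟨c'.1, hXc c'.2⟩ : X) : Ω) :=
    congrArg (fun y : X => (y : Ω)) h2
  exact Subtype.ext h3

/-- key lemma: if the restriction of an `F`-map `ψ` on `R` to an `F`-centric `P ≤ R` lies in the saturated
subsystem `F'`, then so does `ψ` -/
theorem mem_sub_of_restrict_centric [Finite S] (p : ℕ) [Fact p.Prime] (hS : IsPGroup p S)
    (F : FusionSystem S) (hF : F.IsSaturated p) (F' : FusionSystem S) (hF' : F'.IsSaturated p)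
    (hle : F' ≤ F) (n : ℕ) :
    ∀ {P R : Subgroup Ω} (hPR : P ≤ R) (_ : F.IsCentric P) {ψ : R →* Ω} (_ : ψ ∈ F.Hom R)
      (_ : ψ.comp (Subgroup.inclusion hPR) ∈ F'.Hom P), Nat.card R - Nat.card P = n → ψ ∈ F'.Hom R := by
  induction n using Nat.strong_induction_on with
  | _ n ih =>
    intro P R hPR hP ψ hψ hψP hn
    have hRS : R ≤ S := le_of_hom_mem F hψ
    have : Finite R := finite_of_le hRS
    have hRp : IsPGroup p R := hS.to_le hRS
    by_cases hPeq : P = R
    · subst hPeq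
      exact hψP
    · have hne := normalizerIn_ne_self hRp hPR hPeq
      have hPP₁ : P ≤ FusionSystem.normalizerIn R P := le_normalizerIn hPR
      have hP₁R : FusionSystem.normalizerIn R P ≤ R := inf_le_left
      have : Finite (FusionSystem.normalizerIn R P) := finite_of_le (hP₁R.trans hRS)
      have hcard : Nat.card P < Nat.card (FusionSystem.normalizerIn R P) := by
        rcases (Subgroup.card_le_of_le hPP₁).lt_or_eq with h | h
        · exact h
        · exact absurd (Subgroup.eq_of_le_of_card_ge hPP₁ h.ge).symm hne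
      have hcard2 : Nat.card (FusionSystem.normalizerIn R P) ≤ Nat.card R := Subgroup.card_le_of_le hP₁R
      -- receptivity of ψ(P) in F'
      have hX : F.IsCentric (ψ.comp (Subgroup.inclusion hPR)).range :=
        isCentric_of_isConj F hP ⟨_, hle P hψP, rfl⟩
      have hrec : F'.IsReceptive (ψ.comp (Subgroup.inclusion hPR)).range :=
        ((Cfsg.Agent.S5077.result p hS F').1 hF').2 _ (fullyCentralized_of_centric_sub hle hX)
      obtain ⟨ψ', hψ', hψ'ext⟩ := hrec.2 P _ hψP rfl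
      -- N_R(P) lies in the extender
      have hP₁E : FusionSystem.normalizerIn R P ≤
          FusionSystem.extender S P (ψ.comp (Subgroup.inclusion hPR)) := by
        intro g hg
        apply Subgroup.subset_closure
        refine ⟨hRS hg.1, hg.2, ψ ⟨g, hg.1⟩, (F.le_of_mem hψ).2 _, ?_⟩
        intro x hx
        show ψ ⟨g * x * g⁻¹, _⟩ = ψ ⟨g, hg.1⟩ * ψ ⟨x, hPR x.2⟩ * (ψ ⟨g, hg.1⟩)⁻¹
        rw [← map_inv, ← map_mul, ← map_mul]
        rfl
      have hψ₁ : ψ'.comp (Subgroup.inclusion hP₁E) ∈ F'.Hom (FusionSystem.normalizerIn R P) :=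
        restrict_mem F' hP₁E hψ'
      have hψ₂ : ψ.comp (Subgroup.inclusion hP₁R) ∈ F.Hom (FusionSystem.normalizerIn R P) :=
        restrict_mem F hP₁R hψ
      -- the two maps agree on P
      have hagree : ∀ x : FusionSystem.normalizerIn R P, (x : Ω) ∈ P →
          (ψ'.comp (Subgroup.inclusion hP₁E)) x = (ψ.comp (Subgroup.inclusion hP₁R)) x := by
        intro x hx
        exact hψ'ext x.1 hx (hP₁E x.2)
      obtain ⟨z, hzP, _, hzy⟩ := Cfsg.Agent.S5095.result p hS F hF _ P hPP₁ hP _ _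
        (hle _ hψ₁) hψ₂ hagree
      -- ψ|P₁ = ψ₁ ∘ c_z
      have hzS : (z : Ω) ∈ S := hP.1 hzP
      have hc : conjHom (FusionSystem.normalizerIn R P) (z : Ω) ∈
          F'.Hom (FusionSystem.normalizerIn R P) := F'.conj_mem (hP₁R.trans hRS) hzS
      have hcP₁ : ∀ y : FusionSystem.normalizerIn R P,
          conjHom (FusionSystem.normalizerIn R P) (z : Ω) y ∈ FusionSystem.normalizerIn R P := by
        intro y
        exact (z * y * z⁻¹).2
      have hψ₂' : ψ.comp (Subgroup.inclusion hP₁R) ∈ F'.Hom (FusionSystem.normalizerIn R P) := by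
        apply comp_mem' F' hc hψ₁ hcP₁
        intro y
        rw [hzy y]
        rfl
      have hP₁c : F.IsCentric (FusionSystem.normalizerIn R P) :=
        isCentric_of_le F hP hPP₁ (hP₁R.trans hRS)
      exact ih (Nat.card R - Nat.card (FusionSystem.normalizerIn R P)) (by omega) hP₁R hP₁c hψ hψ₂' rfl

end Cfsg.Agent.Lib.Helper29
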