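import Cfsg.Agent.Lib.Helper29.InvariantCore
import Cfsg.Agent.Lib.Helper29.ExtendableAut

/-!
Subsystems of index prime to `p`: AKO Lemma I.7.6.
-/
set_option autoImplicit false

namespace Cfsg.Agent.Lib.Helper29
open Cfsg

variable {Ω : Type*} [Group Ω] {S T : Subgroup Ω}

/-- the automorphism step of the Frattini induction -/
def AutStep (p : ℕ) (E : FusionSystem T) (F : FusionSystem S) : Prop :=
  ∀ R : Subgroup Ω, R ≤ T → R ≠ T → F.IsFullyAutomized p R → F.IsReceptive R →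
    (∀ P' : Subgroup Ω, P' ≤ T → Nat.card R < Nat.card P' → ∀ φ ∈ F.Hom P', Good E F P' φ) →
    ∀ δ ∈ F.autGroup R, Good E F R (R.subtype.comp δ.toMonoidHom)

/-- (B): maps from proper subgroups of `T` onto fully automized receptive subgroups are good -/
theorem good_of_range_fa_rec_gen [Finite S] {p : ℕ} [Fact p.Prime] (hS : IsPGroup p S)
    {E : FusionSystem T} {F : FusionSystem S} (hTS : T ≤ S) (hT : F.StronglyClosed T)
    (hinv : InvCond E F) (hA : AutStep p E F) {P₁ R : Subgroup Ω} (hP₁T : P₁ ≤ T) (hne : P₁ ≠ T)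
    (hfa : F.IsFullyAutomized p R) (hrec : F.IsReceptive R)
    (IH : ∀ P' : Subgroup Ω, P' ≤ T → Nat.card P₁ < Nat.card P' → ∀ φ ∈ F.Hom P', Good E F P' φ)
    {ψ : P₁ →* Ω} (hψ : ψ ∈ F.Hom P₁) (hr : ψ.range = R) : Good E F P₁ ψ := by
  have hP₁S : P₁ ≤ S := hP₁T.trans hTS
  haveI : Finite T := finite_of_le hTS
  haveI : Finite P₁ := finite_of_le hP₁S
  have hTp : IsPGroup p T := hS.to_le hTS
  have hRS : R ≤ S := hrec.1
  haveI : Finite R := finite_of_le hRS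
  have hRT : R ≤ T := by
    rw [← hr]
    rintro _ ⟨x, rfl⟩
    exact hT.2 P₁ hP₁T ψ hψ x
  have hcard : Nat.card P₁ = Nat.card R := card_eq_of_isConj F ⟨ψ, hψ, hr⟩
  have hRne : R ≠ T := by
    intro h
    apply hne
    have h1 : Nat.card T ≤ Nat.card P₁ := by rw [hcard, h]
    exact Subgroup.eq_of_le_of_card_ge hP₁T h1
  obtain ⟨ρ, hρ, hρN, hρR, hρmap⟩ := exists_hom_normalizer p hS F R P₁ hfa hrec ⟨ψ, hψ, hr⟩
  have hNle : FusionSystem.normalizerIn T P₁ ≤ FusionSystem.normalizerIn S P₁ :=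
    fun x hx => ⟨hTS hx.1, hx.2⟩
  have hP₁N : P₁ ≤ FusionSystem.normalizerIn T P₁ := le_normalizerIn hP₁T
  have hNne : FusionSystem.normalizerIn T P₁ ≠ P₁ := normalizerIn_ne_self hTp hP₁T hne
  have := finite_normalizerIn (S := T) P₁
  have hNT : FusionSystem.normalizerIn T P₁ ≤ T := inf_le_left
  have hcardlt : Nat.card P₁ < Nat.card (FusionSystem.normalizerIn T P₁) := by
    rcases Nat.lt_or_ge (Nat.card P₁) (Nat.card (FusionSystem.normalizerIn T P₁)) with h | h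
    · exact h
    · exact absurd (Subgroup.eq_of_le_of_card_ge hP₁N h).symm hNne
  have hρT := restrict_mem F hNle hρ
  have hρTg := IH _ hNT hcardlt _ hρT
  have hρ₁g := good_restrict hρTg hP₁N
  have hρ₁ := restrict_mem F hP₁N hρT
  have hr₁ : ((ρ.comp (Subgroup.inclusion hNle)).comp (Subgroup.inclusion hP₁N)).range = R := by
    rw [← hρmap]
    ext y
    constructor
    · rintro ⟨x, rfl⟩
      exact ⟨⟨x.1, hNle (hP₁N x.2)⟩, x.2, rfl⟩
    · rintro ⟨x, hx, rfl⟩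
      exact ⟨⟨x.1, hx⟩, rfl⟩
  obtain ⟨σ, hσ, hσe⟩ := exists_inv_iso F hρ₁ hr₁
  have hσg : Good E F R σ := good_inv hinv hρ₁g hr₁ hσe
  have hσP₁ : ∀ y : R, σ y ∈ P₁ := by
    intro y
    have hy : (y : Ω) ∈ ((ρ.comp (Subgroup.inclusion hNle)).comp (Subgroup.inclusion hP₁N)).range :=
      hr₁.ge y.2
    obtain ⟨x, hx⟩ := hy
    have hxR : ((ρ.comp (Subgroup.inclusion hNle)).comp (Subgroup.inclusion hP₁N)) x ∈ R := hx ▸ y.2
    have ey : y = ⟨_, hxR⟩ := Subtype.ext hx.symm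
    rw [ey, hσe]
    exact x.2
  have hδ₀ := F.comp_mem hσ hψ hσP₁
  have hδ₀R : ∀ y : R, (ψ.comp (σ.codRestrict P₁ hσP₁)) y ∈ R := fun y => hr.le ⟨_, rfl⟩
  obtain ⟨δ, hδ, hδe⟩ := exists_aut_of_hom F hδ₀ hδ₀R
  have hδg := hA R hRT hRne hfa hrec
    (fun P' hP' hlt => IH P' hP' (hcard ▸ hlt)) δ hδ
  have hδ₀g : Good E F R (ψ.comp (σ.codRestrict P₁ hσP₁)) := good_congr hδg (fun x => (hδe x).symm)
  have hρ₁R : ∀ x : P₁, ((ρ.comp (Subgroup.inclusion hNle)).comp (Subgroup.inclusion hP₁N)) x ∈ R :=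
    fun x => hr₁.le ⟨x, rfl⟩
  apply good_comp hinv hρ₁g hδ₀g hρ₁R
  intro x
  show ψ x = ψ ⟨σ ⟨_, hρ₁R x⟩, _⟩
  congr 1
  apply Subtype.ext
  exact (hσe x (hρ₁R x)).symm

/-- (C): strong invariance implies the Frattini condition -/
theorem frattiniCond_gen_aux [Finite S] (p : ℕ) [Fact p.Prime] (hS : IsPGroup p S)
    {E : FusionSystem T} {F : FusionSystem S} (hF : F.IsSaturated p) (hTS : T ≤ S)
    (hT : F.StronglyClosed T) (hinv : InvCond E F) (hA : AutStep p E F) (k : ℕ) :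
    ∀ P : Subgroup Ω, P ≤ T → Nat.card T - Nat.card P = k → ∀ φ ∈ F.Hom P, Good E F P φ := by
  induction k using Nat.strong_induction_on with
  | _ k ih =>
    intro P hPT hk φ hφ
    have : Finite T := finite_of_le hTS
    have hPS : P ≤ S := hPT.trans hTS
    have : Finite P := finite_of_le hPS
    by_cases hne : P = T
    · subst hne
      have hval : ∀ x : P, φ x ∈ P := fun x => hT.2 P le_rfl φ hφ x
      obtain ⟨α, hα, hαe⟩ := exists_aut_of_hom F hφ hval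
      exact ⟨α, hα, P.subtype, subtype_mem E le_rfl, fun x hx => (hαe x).symm⟩
    · have IH : ∀ P' : Subgroup Ω, P' ≤ T → Nat.card P < Nat.card P' → ∀ φ ∈ F.Hom P',
          Good E F P' φ := by
        intro P' hP' hlt φ' hφ'
        have hle : Nat.card P' ≤ Nat.card T := Subgroup.card_le_of_le hP'
        exact ih (Nat.card T - Nat.card P') (by omega) P' hP' rfl φ' hφ'
      obtain ⟨R, hPR, hRfn⟩ := exists_fullyNormalized_conj F hPS
      have hsat := (Cfsg.Agent.S5077.result p hS F).1 hF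
      have hRfa := (hsat.1 R hRfn).2
      have hRrec := hsat.2 R (hsat.1 R hRfn).1
      have hPP' : F.IsConj P φ.range := ⟨φ, hφ, rfl⟩
      have hP'T : φ.range ≤ T := by
        rintro _ ⟨x, rfl⟩
        exact hT.2 P hPT φ hφ x
      obtain ⟨ψ₁, hψ₁, hr₁⟩ := isConj_trans F (isConj_symm F hPP') hPR
      have hcard : Nat.card P = Nat.card φ.range := card_eq_of_isConj F hPP'
      have hne' : φ.range ≠ T := by
        intro h
        apply hne
        have h1 : Nat.card T ≤ Nat.card P := by rw [hcard, h]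
        exact Subgroup.eq_of_le_of_card_ge hPT h1
      have hψ₁g := good_of_range_fa_rec_gen hS hTS hT hinv hA hP'T hne' hRfa hRrec
        (fun P' hP' hlt => IH P' hP' (hcard ▸ hlt)) hψ₁ hr₁
      have hφr : ∀ x : P, φ x ∈ φ.range := fun x => ⟨x, rfl⟩
      have hψ₂ := F.comp_mem hφ hψ₁ hφr
      have hr₂ : (ψ₁.comp (φ.codRestrict φ.range hφr)).range = R := by
        rw [← hr₁]
        ext y
        constructor
        · rintro ⟨x, rfl⟩
          exact ⟨_, rfl⟩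
        · rintro ⟨⟨_, x, rfl⟩, rfl⟩
          exact ⟨x, rfl⟩
      have hψ₂g := good_of_range_fa_rec_gen hS hTS hT hinv hA hPT hne hRfa hRrec IH hψ₂ hr₂
      obtain ⟨σ₁, hσ₁, hσ₁e⟩ := exists_inv_iso F hψ₁ hr₁
      have hσ₁g : Good E F R σ₁ := good_inv hinv hψ₁g hr₁ hσ₁e
      have hψ₂R : ∀ x : P, (ψ₁.comp (φ.codRestrict φ.range hφr)) x ∈ R := fun x => hr₂.le ⟨x, rfl⟩
      apply good_comp hinv hψ₂g hσ₁g hψ₂R
      intro x
      exact (hσ₁e ⟨φ x, hφr x⟩ (hψ₂R x)).symm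


theorem frattiniCond_gen [Finite S] (p : ℕ) [Fact p.Prime] (hS : IsPGroup p S)
    {E : FusionSystem T} {F : FusionSystem S} (hF : F.IsSaturated p)
    (hT : F.StronglyClosed T) (hinv : InvCond E F) (hA : AutStep p E F) : FrattiniCond E F :=
  fun P hPT φ hφ => frattiniCond_gen_aux p hS hF hT.1 hT hinv hA _ P hPT rfl φ hφ

section S5114

variable {Ω : Type*} [Group Ω] {S : Subgroup Ω}

/-- `O^{p'}(Aut_F(P))`, in the form used by the Prelude -/
def OpP (F : FusionSystem S) (p : ℕ) (P : Subgroup Ω) : Subgroup (MulAut P) :=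
  (Subgroup.closure {α : ↥(F.autGroup P) | ∃ k : ℕ, orderOf α = p ^ k}).map (F.autGroup P).subtype

theorem opP_eq_closure (F : FusionSystem S) (p : ℕ) (P : Subgroup Ω) :
    OpP F p P = Subgroup.closure {a : MulAut P | a ∈ F.autGroup P ∧ ∃ k : ℕ, orderOf a = p ^ k} := by
  unfold OpP
  rw [MonoidHom.map_closure]
  congr 1
  ext a
  constructor
  · rintro ⟨α, ⟨k, hk⟩, rfl⟩
    refine ⟨α.2, k, ?_⟩
    rw [← hk]
    exact Subgroup.orderOf_coe α
  · rintro ⟨ha, k, hk⟩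
    refine ⟨⟨a, ha⟩, ⟨k, ?_⟩, rfl⟩
    rw [← hk]
    exact (Subgroup.orderOf_coe (⟨a, ha⟩ : F.autGroup P)).symm

theorem opP_congr (F : FusionSystem S) (p : ℕ) {Q P : Subgroup Ω} {φ : Q →* Ω} (hφ : φ ∈ F.Hom Q)
    (hr : φ.range = P) {a : MulAut Q} (ha : a ∈ OpP F p Q) :
    MulAut.congr (isoOfHom F hφ hr) a ∈ OpP F p P := by
  rw [opP_eq_closure] at ha ⊢
  have hle : (Subgroup.closure {a : MulAut Q | a ∈ F.autGroup Q ∧ ∃ k : ℕ, orderOf a = p ^ k}).map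
      (MulAut.congr (isoOfHom F hφ hr)).toMonoidHom ≤
      Subgroup.closure {a : MulAut P | a ∈ F.autGroup P ∧ ∃ k : ℕ, orderOf a = p ^ k} := by
    rw [MonoidHom.map_closure, Subgroup.closure_le]
    rintro _ ⟨b, ⟨hb, k, hk⟩, rfl⟩
    apply Subgroup.subset_closure
    refine ⟨congr_mem_autGroup F hφ hr hb, k, ?_⟩
    rw [← hk]
    exact MulEquiv.orderOf_eq (MulAut.congr (isoOfHom F hφ hr)) b
  exact hle ⟨a, ha, rfl⟩

theorem pElts_closure_normal (A : Type*) [Group A] (p : ℕ) :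
    (Subgroup.closure {a : A | ∃ k : ℕ, orderOf a = p ^ k}).Normal := by
  constructor
  intro n hn g
  induction hn using Subgroup.closure_induction with
  | mem x hx =>
    apply Subgroup.subset_closure
    obtain ⟨k, hk⟩ := hx
    refine ⟨k, ?_⟩
    rw [← hk, ← MulAut.conj_apply]
    exact MulEquiv.orderOf_eq (MulAut.conj g) x
  | one =>
    rw [mul_one, mul_inv_cancel]
    exact Subgroup.one_mem _
  | mul x y _ _ hx hy =>
    have e : g * (x * y) * g⁻¹ = (g * x * g⁻¹) * (g * y * g⁻¹) := by group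
    rw [e]
    exact Subgroup.mul_mem _ hx hy
  | inv x _ hx =>
    have e : g * x⁻¹ * g⁻¹ = (g * x * g⁻¹)⁻¹ := by group
    rw [e]
    exact Subgroup.inv_mem _ hx

theorem sylow_le_pElts_closure {A : Type*} [Group A] {p : ℕ} [Fact p.Prime] (Sy : Sylow p A) :
    (Sy : Subgroup A) ≤ Subgroup.closure {a : A | ∃ k : ℕ, orderOf a = p ^ k} := by
  intro t ht
  apply Subgroup.subset_closure
  obtain ⟨k, hk⟩ := (IsPGroup.iff_orderOf.1 Sy.isPGroup') ⟨t, ht⟩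
  refine ⟨k, ?_⟩
  rw [← hk, Subgroup.orderOf_mk]

/-- the automorphism step for a subsystem containing `O^{p'}(Aut_F(R))` for the centric `R` -/
theorem autStep_of_opP [Finite S] {p : ℕ} [Fact p.Prime] (hS : IsPGroup p S) {E₀ F : FusionSystem S}
    (hinv : InvCond E₀ F) (hO : ∀ R : Subgroup Ω, F.IsCentric R → OpP F p R ≤ E₀.autGroup R) :
    AutStep p E₀ F := by
  intro R hRS hne hfa hrec IH δ hδ
  haveI : Finite R := finite_of_le hRS
  by_cases hcen : FusionSystem.centralizerIn S R ≤ R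
  · have hc : F.IsCentric R := centric_of_receptive F hrec hcen
    obtain ⟨_, Sy, hSy⟩ := hfa
    haveI : (Subgroup.closure {a : F.autGroup R | ∃ k : ℕ, orderOf a = p ^ k}).Normal :=
      pElts_closure_normal _ p
    have hSyK : (Sy : Subgroup (F.autGroup R)) ≤
        Subgroup.closure {a : F.autGroup R | ∃ k : ℕ, orderOf a = p ^ k} := sylow_le_pElts_closure Sy
    obtain ⟨κ, hκ, ν, hδκν, hν⟩ := exists_mul_normalizer_of_normal Sy
      (Subgroup.closure {a : F.autGroup R | ∃ k : ℕ, orderOf a = p ^ k}) ⟨δ, hδ⟩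
    have hRN : R ≤ FusionSystem.normalizerIn S R := le_normalizerIn hRS
    have hnorm : ∀ g ∈ FusionSystem.normalizerIn S R, g ∈ S ∧ g ∈ Subgroup.normalizer (R : Set Ω) ∧
        ∃ h ∈ S, ∀ (x : R) (hx : g * (x : Ω) * g⁻¹ ∈ R),
        (((ν : MulAut R) ⟨g * x * g⁻¹, hx⟩ : R) : Ω) = h * ((ν : MulAut R) x : R) * h⁻¹ := by
      intro g hg
      refine ⟨hg.1, hg.2, ?_⟩
      have hcg : R.normalizerMonoidHom ⟨g, hg.2⟩ ∈ autInducedBy S R := by
        rw [autInducedBy_eq_map]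
        exact ⟨⟨g, hg.2⟩, hg.1, rfl⟩
      have hcgA : R.normalizerMonoidHom ⟨g, hg.2⟩ ∈ F.autGroup R := autInducedBy_le_autGroup F hRS hcg
      have hcgSy : (⟨_, hcgA⟩ : F.autGroup R) ∈ (Sy : Subgroup (F.autGroup R)) := by
        rw [hSy, Subgroup.mem_subgroupOf]
        exact hcg
      have h3 : ν * (⟨_, hcgA⟩ : F.autGroup R) * ν⁻¹ ∈ (Sy : Subgroup (F.autGroup R)) :=
        (hν _ ⟨hcgSy, hSyK hcgSy⟩).1
      rw [hSy, Subgroup.mem_subgroupOf, autInducedBy_eq_map] at h3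
      obtain ⟨h, hhS, hh⟩ := h3
      refine ⟨h, hhS, fun x hx => ?_⟩
      have h4 : R.normalizerMonoidHom h ((ν : MulAut R) x) =
          (ν : MulAut R) (R.normalizerMonoidHom ⟨g, hg.2⟩ x) := by
        rw [hh]
        show ((ν : MulAut R) * (R.normalizerMonoidHom ⟨g, hg.2⟩) * (ν : MulAut R)⁻¹)
          ((ν : MulAut R) x) = _
        rw [MulAut.mul_apply, MulAut.mul_apply, MulAut.inv_apply_self]
      have h5 := congrArg (fun z : R => (z : Ω)) h4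
      exact h5.symm
    obtain ⟨ψ, hψ, hψe⟩ := exists_hom_of_receptive_le F hrec ν.2 hRN hnorm
    have hNne : FusionSystem.normalizerIn S R ≠ R := normalizerIn_ne_self hS hRS hne
    have := finite_normalizerIn (S := S) R
    have hNS : FusionSystem.normalizerIn S R ≤ S := inf_le_left
    have hcardlt : Nat.card R < Nat.card (FusionSystem.normalizerIn S R) := by
      rcases Nat.lt_or_ge (Nat.card R) (Nat.card (FusionSystem.normalizerIn S R)) with h | h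
      · exact h
      · exact absurd (Subgroup.eq_of_le_of_card_ge hRN h).symm hNne
    have hψg := IH _ hNS hcardlt ψ hψ
    have hνg : Good E₀ F R (R.subtype.comp (ν : MulAut R).toMonoidHom) :=
      good_congr (good_restrict hψg hRN) (fun x => (hψe x).symm)
    have hκO : (κ : MulAut R) ∈ OpP F p R := ⟨κ, hκ, rfl⟩
    have hκg : Good E₀ F R (R.subtype.comp (κ : MulAut R).toMonoidHom) :=
      good_of_mem F ((mem_autGroup_iff E₀ hRS).1 (hO R hc hκO))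
    apply good_comp hinv hνg hκg (fun x => ((ν : MulAut R) x).2)
    intro x
    have e : δ = (κ : MulAut R) * (ν : MulAut R) := by
      have := congrArg (fun z : F.autGroup R => (z : MulAut R)) hδκν
      exact this
    rw [e]
    rfl
  · obtain ⟨c, hc, hcR⟩ := SetLike.not_le_iff_exists.1 hcen
    have hφ : R.subtype.comp δ.toMonoidHom ∈ F.Hom R := (mem_autGroup_iff F hRS).1 hδ
    obtain ⟨ψ, hψ, hext⟩ := hrec.2 R _ hφ (range_subtype_comp_aut δ)
    have hle : R ≤ FusionSystem.extender S R (R.subtype.comp δ.toMonoidHom) := le_extender F hφ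
    have hcE : c ∈ FusionSystem.extender S R (R.subtype.comp δ.toMonoidHom) :=
      centralizerIn_le_extender _ _ hc
    have hES : FusionSystem.extender S R (R.subtype.comp δ.toMonoidHom) ≤ S := extender_le _ _
    haveI : Finite (FusionSystem.extender S R (R.subtype.comp δ.toMonoidHom)) := finite_of_le hES
    have hcard : Nat.card R < Nat.card (FusionSystem.extender S R (R.subtype.comp δ.toMonoidHom)) := by
      rcases (Subgroup.card_le_of_le hle).lt_or_eq with h | h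
      · exact h
      · exfalso
        have := Subgroup.eq_of_le_of_card_ge hle h.ge
        rw [← this] at hcE
        exact hcR hcE
    have hψg := IH _ hES hcard ψ hψ
    exact good_congr (good_restrict hψg hle) (fun x => (hext x.1 x.2 _).symm)

/-- the invariant core still contains `O^{p'}(Aut_F(P))` for the centric `P` -/
theorem opP_le_core {p : ℕ} {E F E₀ : FusionSystem S}
    (hE₀ : ∀ (P : Subgroup Ω) (φ : P →* Ω), φ ∈ E₀.Hom P ↔ InCore E F P φ)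
    (h : ∀ P : Subgroup Ω, F.IsCentric P → OpP F p P ≤ E.autGroup P) :
    ∀ P : Subgroup Ω, F.IsCentric P → OpP F p P ≤ E₀.autGroup P := by
  intro P hPc ω hω
  have hPS := hPc.1
  apply Subgroup.subset_closure
  show P.subtype.comp ω.toMonoidHom ∈ E₀.Hom P
  rw [hE₀]
  refine ⟨(mem_autGroup_iff E hPS).1 (h P hPc hω), fun α hα P' hP' => ?_⟩
  have hαF : S.subtype.comp α.toMonoidHom ∈ F.Hom S := (mem_autGroup_iff F le_rfl).1 hα
  have hφ : (S.subtype.comp α.toMonoidHom).comp (Subgroup.inclusion hPS) ∈ F.Hom P :=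
    restrict_mem F hPS hαF
  have hr : ((S.subtype.comp α.toMonoidHom).comp (Subgroup.inclusion hPS)).range = P' := by
    ext y
    rw [hP' y]
    constructor
    · rintro ⟨x, rfl⟩
      exact ⟨x.1, hPS x.2, x.2, rfl⟩
    · rintro ⟨x, hx, hxP, rfl⟩
      exact ⟨⟨x, hxP⟩, rfl⟩
  have hP'c : F.IsCentric P' := isCentric_of_isConj F hPc ⟨_, hφ, hr⟩
  have hω' := opP_congr F p hφ hr hω
  have hω'E := (mem_autGroup_iff E hP'c.1).1 (h P' hP'c hω')
  refine ⟨_, hω'E, fun x hx hφx h1 => ?_⟩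
  have e1 : (isoOfHom F hφ hr).symm ⟨α ⟨x, hx⟩, h1⟩ = x := by
    rw [MulEquiv.symm_apply_eq]
    exact Subtype.ext rfl
  show ((isoOfHom F hφ hr (ω ((isoOfHom F hφ hr).symm ⟨α ⟨x, hx⟩, h1⟩)) : P') : Ω) = _
  rw [e1]
  rfl

theorem stronglyClosed_self (F : FusionSystem S) : F.StronglyClosed S :=
  ⟨le_rfl, fun _ _ _ hφ x => (F.le_of_mem hφ).2 x⟩

/-- AKO I.7.6(b): every map of `F` is a map of `E` followed by an element of `Aut_F(S)` -/
theorem frattini_of_opP [Finite S] {p : ℕ} [Fact p.Prime] (hS : IsPGroup p S) (F : FusionSystem S)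
    (hF : F.IsSaturated p) (E : FusionSystem S)
    (h : ∀ P : Subgroup Ω, F.IsCentric P → OpP F p P ≤ E.autGroup P) :
    ∃ E₀ : FusionSystem S, E₀ ≤ E ∧ InvCond E₀ F ∧ FrattiniCond E₀ F := by
  obtain ⟨E₀, hE₀⟩ := exists_invariantCore E F
  have hinv : InvCond E₀ F := invCond_of_core hE₀
  have hO := opP_le_core hE₀ h
  refine ⟨E₀, fun P φ hφ => ((hE₀ P φ).1 hφ).1, hinv, ?_⟩
  exact frattiniCond_gen p hS hF (stronglyClosed_self F) hinv (autStep_of_opP hS hinv hO)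

end S5114

section S5114b

variable {Ω : Type*} [Group Ω] {S : Subgroup Ω}

/-- AKO I.7.6(a): the index is prime to `p` at every subgroup -/
theorem opP_le_of_frattini [Finite S] {p : ℕ} [Fact p.Prime] (hS : IsPGroup p S) (F : FusionSystem S)
    (hF : F.IsSaturated p) (E : FusionSystem S)
    (hfr : ∀ (P : Subgroup Ω), P ≤ S → ∀ (φ : P →* Ω), φ ∈ F.Hom P → Good E F P φ)
    {P : Subgroup Ω} (hPS : P ≤ S) : OpP F p P ≤ E.autGroup P := by
  haveI : Finite P := finite_of_le hPS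
  rw [opP_eq_closure, Subgroup.closure_le]
  rintro β ⟨hβ, k, hk⟩
  -- a fully normalized conjugate
  obtain ⟨P', hPP', hP'fn⟩ := exists_fullyNormalized_conj F hPS
  have hsat := (Cfsg.Agent.S5077.result p hS F).1 hF
  obtain ⟨hP'S, Sy, hSy⟩ := (hsat.1 P' hP'fn).2
  haveI : Finite P' := finite_of_le hP'S
  obtain ⟨χ, hχ, hrχ⟩ := hPP'
  have hβ' : MulAut.congr (isoOfHom F hχ hrχ) β ∈ F.autGroup P' := congr_mem_autGroup F hχ hrχ hβ
  -- conjugate the cyclic p-group generated by β' into the Sylow subgroup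
  have hpz : IsPGroup p (Subgroup.zpowers (⟨_, hβ'⟩ : F.autGroup P')) := by
    have hord : orderOf (⟨_, hβ'⟩ : F.autGroup P') = p ^ k := by
      rw [← Subgroup.orderOf_coe, ← hk]
      exact MulEquiv.orderOf_eq (MulAut.congr (isoOfHom F hχ hrχ)) β
    apply IsPGroup.of_card (n := k)
    rw [Nat.card_zpowers, hord]
  obtain ⟨γ, hγ⟩ := exists_cj_le_sylow Sy hpz
  have h1 : γ * (⟨_, hβ'⟩ : F.autGroup P') * γ⁻¹ ∈ (Sy : Subgroup (F.autGroup P')) :=
    hγ (conj_mem_cj (Subgroup.mem_zpowers _))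
  rw [hSy, Subgroup.mem_subgroupOf, autInducedBy_eq_map] at h1
  obtain ⟨s, hsS, hs⟩ := h1
  -- θ = γ ∘ χ
  have hχP' : ∀ x : P, χ x ∈ P' := fun x => hrχ ▸ ⟨x, rfl⟩
  have hγF : P'.subtype.comp (γ : MulAut P').toMonoidHom ∈ F.Hom P' := (mem_autGroup_iff F hP'S).1 γ.2
  have hθ := F.comp_mem hχ hγF hχP'
  have hθv : ∀ x : P, ((P'.subtype.comp (γ : MulAut P').toMonoidHom).comp (χ.codRestrict P' hχP')) (β x) =
      (s : Ω) * ((P'.subtype.comp (γ : MulAut P').toMonoidHom).comp (χ.codRestrict P' hχP')) x * (s : Ω)⁻¹ := by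
    intro x
    have e1 : ((γ : MulAut P') * MulAut.congr (isoOfHom F hχ hrχ) β * (γ : MulAut P')⁻¹)
        ((γ : MulAut P') (isoOfHom F hχ hrχ x)) = P'.normalizerMonoidHom s ((γ : MulAut P') (isoOfHom F hχ hrχ x)) := by
      rw [hs]
      rfl
    rw [MulAut.mul_apply, MulAut.mul_apply, MulAut.inv_apply_self] at e1
    have e2 : MulAut.congr (isoOfHom F hχ hrχ) β (isoOfHom F hχ hrχ x) = isoOfHom F hχ hrχ (β x) := by
      show isoOfHom F hχ hrχ (β ((isoOfHom F hχ hrχ).symm (isoOfHom F hχ hrχ x))) = _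
      rw [MulEquiv.symm_apply_apply]
    rw [e2] at e1
    exact congrArg (fun z : P' => (z : Ω)) e1
  -- Frattini decomposition of θ
  obtain ⟨α, hα, θ₀, hθ₀, hθe⟩ := hfr P hPS _ hθ
  have hθ₀S : ∀ x, θ₀ x ∈ S := (E.le_of_mem hθ₀).2
  -- θ₀ (β x) = t θ₀ x t⁻¹
  have hrel : ∀ x : P, θ₀ (β x) = ((α⁻¹ ⟨s, hsS⟩ : S) : Ω) * θ₀ x * ((α⁻¹ ⟨s, hsS⟩ : S) : Ω)⁻¹ := by
    intro x
    have h2 := hθv x
    rw [hθe (β x) (hθ₀S _), hθe x (hθ₀S _)] at h2
    have h3 : α ⟨θ₀ (β x), hθ₀S _⟩ = ⟨s, hsS⟩ * α ⟨θ₀ x, hθ₀S _⟩ * (⟨s, hsS⟩ : S)⁻¹ := Subtype.ext h2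
    have h4 : (⟨θ₀ (β x), hθ₀S _⟩ : S) = α⁻¹ ⟨s, hsS⟩ * ⟨θ₀ x, hθ₀S _⟩ * (α⁻¹ ⟨s, hsS⟩)⁻¹ := by
      apply α.injective
      rw [h3, map_mul, map_mul, map_inv, MulAut.apply_inv_self]
    exact congrArg (fun z : S => (z : Ω)) h4
  -- assemble β = θ₀⁻¹ ∘ c_t ∘ θ₀
  obtain ⟨ι, hι, hιv⟩ := E.inv_mem hθ₀
  have hr₀ : ∀ x : P, θ₀ x ∈ θ₀.range := fun x => ⟨x, rfl⟩
  have hP₀S : θ₀.range ≤ S := by
    rintro _ ⟨x, rfl⟩
    exact hθ₀S x
  have hct : conjHom θ₀.range ((α⁻¹ ⟨s, hsS⟩ : S) : Ω) ∈ E.Hom θ₀.range :=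
    E.conj_mem hP₀S (α⁻¹ ⟨s, hsS⟩).2
  have s1 := E.comp_mem hθ₀ hct hr₀
  have hs1 : ∀ x : P, ((conjHom θ₀.range ((α⁻¹ ⟨s, hsS⟩ : S) : Ω)).comp (θ₀.codRestrict θ₀.range hr₀)) x ∈
      θ₀.range := by
    intro x
    refine ⟨β x, ?_⟩
    rw [hrel x]
    rfl
  apply Subgroup.subset_closure
  show P.subtype.comp β.toMonoidHom ∈ E.Hom P
  apply comp_mem' E s1 hι hs1
  intro x
  have e5 : (⟨((conjHom θ₀.range ((α⁻¹ ⟨s, hsS⟩ : S) : Ω)).comp (θ₀.codRestrict θ₀.range hr₀)) x, hs1 x⟩ :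
      θ₀.range) = ⟨θ₀ (β x), ⟨β x, rfl⟩⟩ := by
    apply Subtype.ext
    exact (hrel x).symm
  rw [e5, hιv]
  rfl

/-- AKO I.7.6(c): the centric subgroups are the same -/
theorem isCentric_iff_of_frattini (F E : FusionSystem S) (hEF : E.IsSubsystemOf F)
    (hfr : ∀ (P : Subgroup Ω), P ≤ S → ∀ (φ : P →* Ω), φ ∈ F.Hom P → Good E F P φ)
    (P : Subgroup Ω) : E.IsCentric P ↔ F.IsCentric P := by
  constructor
  · rintro ⟨hPS, hc⟩
    refine ⟨hPS, ?_⟩
    rintro Q ⟨φ, hφ, rfl⟩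
    obtain ⟨α, hα, φ₀, hφ₀, hφe⟩ := hfr P hPS φ hφ
    have hφ₀S : ∀ x, φ₀ x ∈ S := (E.le_of_mem hφ₀).2
    have h0 := hc φ₀.range ⟨φ₀, hφ₀, rfl⟩
    intro c hc'
    have hcc := Subgroup.mem_centralizer_iff.1 hc'.2
    have hc₀ : ((α⁻¹ ⟨c, hc'.1⟩ : S) : Ω) ∈ FusionSystem.centralizerIn S φ₀.range := by
      refine ⟨(α⁻¹ ⟨c, hc'.1⟩).2, ?_⟩
      show ((α⁻¹ ⟨c, hc'.1⟩ : S) : Ω) ∈ Subgroup.centralizer (φ₀.range : Set Ω)
      rw [Subgroup.mem_centralizer_iff]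
      rintro _ ⟨x, rfl⟩
      have h1 := hcc (φ x) ⟨x, rfl⟩
      rw [hφe x (hφ₀S x)] at h1
      have h2 : α ⟨φ₀ x, hφ₀S x⟩ * ⟨c, hc'.1⟩ = ⟨c, hc'.1⟩ * α ⟨φ₀ x, hφ₀S x⟩ := Subtype.ext h1
      have h3 : (⟨φ₀ x, hφ₀S x⟩ : S) * α⁻¹ ⟨c, hc'.1⟩ = α⁻¹ ⟨c, hc'.1⟩ * ⟨φ₀ x, hφ₀S x⟩ := by
        apply α.injective
        rw [map_mul, map_mul, MulAut.apply_inv_self, h2]
      exact congrArg (fun z : S => (z : Ω)) h3
    obtain ⟨x₁, hx₁⟩ := h0 hc₀
    refine ⟨x₁, ?_⟩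
    rw [hφe x₁ (hφ₀S x₁)]
    have h4 : (⟨φ₀ x₁, hφ₀S x₁⟩ : S) = α⁻¹ ⟨c, hc'.1⟩ := Subtype.ext hx₁
    rw [h4, MulAut.apply_inv_self]
  · rintro ⟨hPS, hc⟩
    refine ⟨hPS, ?_⟩
    rintro Q ⟨φ, hφ, hr⟩
    exact hc Q ⟨φ, hEF P hφ, hr⟩

/-- AKO Lemma I.7.6 -/
theorem primeToPIndex_of_centric [Finite S] {p : ℕ} [Fact p.Prime] (hS : IsPGroup p S) (F : FusionSystem S)
    (hF : F.IsSaturated p) (E : FusionSystem S) (hEF : E.IsSubsystemOf F)
    (h : ∀ P : Subgroup Ω, F.IsCentric P → OpP F p P ≤ E.autGroup P) :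
    E.HasPrimeToPIndexIn F p ∧
      (∀ (P : Subgroup Ω) (φ : P →* Ω), φ ∈ F.Hom P → Good E F P φ) ∧
      ∀ P : Subgroup Ω, E.IsCentric P ↔ F.IsCentric P := by
  obtain ⟨E₀, hE₀E, _, hfr₀⟩ := frattini_of_opP hS F hF E h
  have hfr : ∀ (P : Subgroup Ω), P ≤ S → ∀ (φ : P →* Ω), φ ∈ F.Hom P → Good E F P φ := by
    intro P hPS φ hφ
    obtain ⟨α, hα, φ₀, hφ₀, he⟩ := hfr₀ P hPS φ hφ
    exact ⟨α, hα, φ₀, hE₀E P hφ₀, he⟩
  refine ⟨⟨hEF, fun P hPS => opP_le_of_frattini hS F hF E hfr hPS⟩,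
    fun P φ hφ => hfr P (F.le_of_mem hφ).1 φ hφ, isCentric_iff_of_frattini F E hEF hfr⟩

end S5114b

end Cfsg.Agent.Lib.Helper29
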