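import Cfsg.Agent.Lib.Helper29.GroupFusion

set_option autoImplicit false
open Cfsg

namespace Cfsg.Agent.Lib.Helper29

variable {G : Type*} [Group G]

theorem normalizerMonoidHom_apply_coe (Q : Subgroup G) (g : Subgroup.normalizer (Q : Set G)) (x : Q) :
    ((Q.normalizerMonoidHom g x : Q) : G) = (g : G) * x * (g : G)⁻¹ := rfl

/-- `Aut_K(Q)` is the image of `N_K(Q)` under the conjugation map `N_G(Q) → Aut(Q)`. -/
theorem autInducedBy_eq_map (K Q : Subgroup G) :
    autInducedBy K Q = (K.subgroupOf (Subgroup.normalizer (Q : Set G))).map Q.normalizerMonoidHom := by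
  apply le_antisymm
  · unfold autInducedBy
    rw [Subgroup.closure_le]
    rintro α ⟨g, hgK, hg⟩
    have hgN : g ∈ Subgroup.normalizer (Q : Set G) := by
      rw [Subgroup.mem_normalizer_iff]
      intro y
      constructor
      · intro hy
        rw [← hg ⟨y, hy⟩]
        exact (α ⟨y, hy⟩).2
      · intro hy
        obtain ⟨x, hx⟩ := α.surjective ⟨_, hy⟩
        have h1 : ((α x : Q) : G) = g * y * g⁻¹ := congrArg Subtype.val hx
        rw [hg x] at h1
        have h2 : (x : G) = y := mul_left_cancel (mul_right_cancel h1)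
        rw [← h2]
        exact x.2
    refine ⟨⟨g, hgN⟩, hgK, ?_⟩
    ext x
    rw [hg x]
    rfl
  · rintro _ ⟨g, hg, rfl⟩
    apply Subgroup.subset_closure
    exact ⟨g.1, hg, fun x => rfl⟩

theorem autInducedBy_top_eq_range (Q : Subgroup G) :
    autInducedBy ⊤ Q = Q.normalizerMonoidHom.range := by
  rw [autInducedBy_eq_map, MonoidHom.range_eq_map]
  congr 1

/-- If `N_S(Q)` is a Sylow `p`-subgroup of `N_G(Q)` then `Aut_S(Q)` is a Sylow `p`-subgroup of `Aut_G(Q)`. -/
theorem autInducedBy_sylow [Finite G] {p : ℕ} [Fact p.Prime] (S Q : Subgroup G)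
    (h : IsSylowSub p (FusionSystem.normalizerIn S Q) (Subgroup.normalizer (Q : Set G))) :
    ∃ R : Sylow p ↥(autInducedBy ⊤ Q),
      (R : Subgroup ↥(autInducedBy ⊤ Q)) = (autInducedBy S Q).subgroupOf (autInducedBy ⊤ Q) := by
  obtain ⟨R0, hR0⟩ := h
  have key : ∀ A B : Subgroup (MulAut Q), A = Q.normalizerMonoidHom.range →
      B = (S.subgroupOf (Subgroup.normalizer (Q : Set G))).map Q.normalizerMonoidHom →
      ∃ R : Sylow p ↥A, (R : Subgroup ↥A) = B.subgroupOf A := by
    rintro _ _ rfl rfl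
    refine ⟨R0.mapSurjective (f := Q.normalizerMonoidHom.rangeRestrict)
      Q.normalizerMonoidHom.rangeRestrict_surjective, ?_⟩
    rw [Sylow.coe_mapSurjective, hR0]
    ext y
    rw [Subgroup.mem_subgroupOf]
    constructor
    · rintro ⟨x, hx, rfl⟩
      refine ⟨x, ?_, rfl⟩
      rw [SetLike.mem_coe, Subgroup.mem_subgroupOf] at hx ⊢
      exact hx.1
    · rintro ⟨x, hx, hxy⟩
      refine ⟨x, ?_, Subtype.ext hxy⟩
      rw [SetLike.mem_coe, Subgroup.mem_subgroupOf] at hx ⊢
      exact ⟨hx, x.2⟩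
  exact key _ _ (autInducedBy_top_eq_range Q) (autInducedBy_eq_map S Q)

end Cfsg.Agent.Lib.Helper29
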