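import Cfsg.Agent.Lib.Helper29.FusionBasic
import Cfsg.Agent.Lib.Helper29.AutInduced

set_option autoImplicit false
open Cfsg

namespace Cfsg.Agent.Lib.Helper29

variable {Ω : Type*} [Group Ω] {S : Subgroup Ω}

/-- inverse of an isomorphism of the system -/
theorem exists_inv_iso (F : FusionSystem S) {Q P : Subgroup Ω} {φ : Q →* Ω} (hφ : φ ∈ F.Hom Q)
    (hr : φ.range = P) : ∃ ψ ∈ F.Hom P, ∀ (x : Q) (h : φ x ∈ P), ψ ⟨φ x, h⟩ = x := by
  subst hr
  obtain ⟨ψ, hψ, h⟩ := F.inv_mem hφ
  exact ⟨ψ, hψ, fun x _ => h x⟩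

/-- the source of a map of the system lies in `S` -/
theorem le_of_hom_mem (F : FusionSystem S) {Q : Subgroup Ω} {φ : Q →* Ω} (hφ : φ ∈ F.Hom Q) : Q ≤ S :=
  (F.le_of_mem hφ).1

theorem range_le_of_hom_mem (F : FusionSystem S) {Q : Subgroup Ω} {φ : Q →* Ω} (hφ : φ ∈ F.Hom Q) :
    φ.range ≤ S := by
  rintro _ ⟨x, rfl⟩
  exact (F.le_of_mem hφ).2 x

/-- The generating set of `Aut_F(P)` is already a subgroup when `P ≤ S`. -/
theorem mem_autGroup_iff (F : FusionSystem S) {P : Subgroup Ω} (hP : P ≤ S) {α : MulAut P} :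
    α ∈ F.autGroup P ↔ P.subtype.comp α.toMonoidHom ∈ F.Hom P := by
  constructor
  · intro h
    unfold FusionSystem.autGroup at h
    induction h using Subgroup.closure_induction with
    | mem x hx => exact hx
    | one => exact subtype_mem F hP
    | mul x y _ _ hx hy =>
      have h1 : ∀ z : P, (P.subtype.comp y.toMonoidHom) z ∈ P := fun z => (y z).2
      have h2 := F.comp_mem hy hx h1
      have h3 : (P.subtype.comp x.toMonoidHom).comp ((P.subtype.comp y.toMonoidHom).codRestrict P h1)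
          = P.subtype.comp (x * y).toMonoidHom := by
        ext z
        rfl
      rwa [h3] at h2
    | inv x _ hx =>
      have hr : (P.subtype.comp x.toMonoidHom).range = P := by
        ext y
        constructor
        · rintro ⟨z, rfl⟩
          exact (x z).2
        · intro hy
          exact ⟨x.symm ⟨y, hy⟩, by simp⟩
      obtain ⟨ψ, hψ, h⟩ := exists_inv_iso F hx hr
      have h3 : ψ = P.subtype.comp (x⁻¹).toMonoidHom := by
        ext y
        have := h (x⁻¹ y) (by simp)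
        simp only [MonoidHom.coe_comp, Subgroup.coe_subtype, Function.comp_apply,
          MulEquiv.coe_toMonoidHom, MulAut.apply_inv_self, Subtype.coe_eta] at this
        rw [this]
        rfl
      rwa [h3] at hψ
  · intro h
    exact Subgroup.subset_closure h

/-- `Aut_S(P) ≤ Aut_F(P)`. -/
theorem autInducedBy_le_autGroup (F : FusionSystem S) {P : Subgroup Ω} (hP : P ≤ S) :
    autInducedBy S P ≤ F.autGroup P := by
  unfold autInducedBy
  rw [Subgroup.closure_le]
  rintro α ⟨g, hg, h⟩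
  rw [SetLike.mem_coe, mem_autGroup_iff F hP]
  have h1 : P.subtype.comp α.toMonoidHom = conjHom P g := by
    ext x
    exact h x
  rw [h1]
  exact F.conj_mem hP hg

/-- an isomorphism of the system as a `MulEquiv` -/
noncomputable def isoOfHom (F : FusionSystem S) {Q P : Subgroup Ω} {φ : Q →* Ω} (hφ : φ ∈ F.Hom Q)
    (hr : φ.range = P) : Q ≃* P :=
  (MonoidHom.ofInjective (F.injective_of_mem hφ)).trans (MulEquiv.subgroupCongr hr)

theorem isoOfHom_coe (F : FusionSystem S) {Q P : Subgroup Ω} {φ : Q →* Ω} (hφ : φ ∈ F.Hom Q)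
    (hr : φ.range = P) (x : Q) : ((isoOfHom F hφ hr x : P) : Ω) = φ x := rfl

/-- composition with values known to lie in the source of the second map -/
theorem comp_mem' (F : FusionSystem S) {P Q : Subgroup Ω} {φ : P →* Ω} {ψ : Q →* Ω} (hφ : φ ∈ F.Hom P)
    (hψ : ψ ∈ F.Hom Q) (h : ∀ x : P, φ x ∈ Q) {χ : P →* Ω} (hχ : ∀ x : P, χ x = ψ ⟨φ x, h x⟩) :
    χ ∈ F.Hom P := by
  have h2 := F.comp_mem hφ hψ h
  have h3 : ψ.comp (φ.codRestrict Q h) = χ := by
    ext x
    rw [hχ x]
    rfl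
  rwa [h3] at h2

/-- transport of an `F`-automorphism along an `F`-isomorphism is an `F`-automorphism -/
theorem congr_mem_autGroup (F : FusionSystem S) {Q P : Subgroup Ω} {φ : Q →* Ω} (hφ : φ ∈ F.Hom Q)
    (hr : φ.range = P) {α : MulAut Q} (hα : α ∈ F.autGroup Q) :
    MulAut.congr (isoOfHom F hφ hr) α ∈ F.autGroup P := by
  have hQ : Q ≤ S := le_of_hom_mem F hφ
  have hP : P ≤ S := hr ▸ range_le_of_hom_mem F hφ
  rw [mem_autGroup_iff F hP]
  rw [mem_autGroup_iff F hQ] at hα
  obtain ⟨ψ, hψ, hinv⟩ := exists_inv_iso F hφ hr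
  set e := isoOfHom F hφ hr with he
  -- ψ y = e.symm y
  have hψe : ∀ y : P, ψ y = (e.symm y : Q) := by
    intro y
    obtain ⟨x, rfl⟩ := e.surjective y
    have := hinv x (e x).2
    rw [MulEquiv.symm_apply_apply]
    exact this
  -- step 1: α ∘ ψ
  have h1 : ∀ y : P, ψ y ∈ Q := fun y => by rw [hψe]; exact (e.symm y).2
  have s1 : (Q.subtype.comp (α.toMonoidHom.comp e.symm.toMonoidHom)) ∈ F.Hom P := by
    apply comp_mem' F hψ hα h1
    intro y
    show ((α (e.symm y) : Q) : Ω) = ((α ⟨ψ y, h1 y⟩ : Q) : Ω)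
    congr 2
    apply Subtype.ext
    exact (hψe y).symm
  have h2 : ∀ y : P, (Q.subtype.comp (α.toMonoidHom.comp e.symm.toMonoidHom)) y ∈ Q :=
    fun y => (α (e.symm y)).2
  apply comp_mem' F s1 hφ h2
  intro y
  rfl

end Cfsg.Agent.Lib.Helper29
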