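import Cfsg.Agent.Lib.Helper29.FusionCentric
import Cfsg.Agent.Lib.Helper29.FrattiniFactor
import Cfsg.Agent.S5077
import Cfsg.Agent.Lib.Helper29.FusionNormal2

set_option autoImplicit false
open Cfsg

namespace Cfsg.Agent.Lib.Helper29

variable {Ω : Type*} [Group Ω] {S T : Subgroup Ω}

/-- transport of a map of the system along an equality of subgroups -/
theorem hom_of_eq (F : FusionSystem S) {P P' : Subgroup Ω} (h : P = P') {φ : P →* Ω} (hφ : φ ∈ F.Hom P) :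
    ∃ φ' ∈ F.Hom P', ∀ (x : Ω) (hx : x ∈ P) (hx' : x ∈ P'), φ' ⟨x, hx'⟩ = φ ⟨x, hx⟩ := by
  subst h
  exact ⟨φ, hφ, fun _ _ _ => rfl⟩

/-- the invariance condition -/
def InvCond (E : FusionSystem T) (F : FusionSystem S) : Prop :=
  ∀ (P : Subgroup Ω) (hPT : P ≤ T) (φ : P →* Ω), φ ∈ E.Hom P → ∀ α ∈ F.autGroup T,
    ∃ χ ∈ E.Hom ((P.subgroupOf T).map (T.subtype.comp α.toMonoidHom)),
      ∀ (x : P) (hφx : φ x ∈ T)
        (hαx : ((α ⟨x, hPT x.2⟩ : T) : Ω) ∈ (P.subgroupOf T).map (T.subtype.comp α.toMonoidHom)),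
        χ ⟨(α ⟨x, hPT x.2⟩ : T), hαx⟩ = ((α ⟨φ x, hφx⟩ : T) : Ω)

/-- a map is good if it is an `E`-map followed by an element of `Aut_F(T)` -/
def Good (E : FusionSystem T) (F : FusionSystem S) (P : Subgroup Ω) (φ : P →* Ω) : Prop :=
  ∃ α ∈ F.autGroup T, ∃ φ₀ ∈ E.Hom P, ∀ (x : P) (hx : φ₀ x ∈ T), φ x = ((α ⟨φ₀ x, hx⟩ : T) : Ω)

/-- the Frattini condition -/
def FrattiniCond (E : FusionSystem T) (F : FusionSystem S) : Prop :=
  ∀ (P : Subgroup Ω), P ≤ T → ∀ (φ : P →* Ω), φ ∈ F.Hom P → Good E F P φ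

/-- the strong invariance condition -/
def StrongInv (E : FusionSystem T) (F : FusionSystem S) : Prop :=
  ∀ (P Q : Subgroup Ω) (hPQ : P ≤ Q) (_ : Q ≤ T) (φ : P →* Ω) (_ : φ ∈ E.Hom P) (hφQ : ∀ x : P, φ x ∈ Q)
    (ψ : Q →* Ω) (_ : ψ ∈ F.Hom Q), ∃ χ ∈ E.Hom ((P.subgroupOf Q).map ψ),
      ∀ (x : P) (hx : ψ (Subgroup.inclusion hPQ x) ∈ (P.subgroupOf Q).map ψ),
        χ ⟨ψ (Subgroup.inclusion hPQ x), hx⟩ = ψ ⟨φ x, hφQ x⟩

/-- flexible form of the invariance condition -/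
theorem InvCond.exists_hom {E : FusionSystem T} {F : FusionSystem S} (h : InvCond E F) {P : Subgroup Ω}
    {φ : P →* Ω} (hφ : φ ∈ E.Hom P) {α : MulAut T} (hα : α ∈ F.autGroup T) {P' : Subgroup Ω}
    (hP' : ∀ y : Ω, y ∈ P' ↔ ∃ x : P, ((α ⟨x, (E.le_of_mem hφ).1 x.2⟩ : T) : Ω) = y) :
    ∃ χ ∈ E.Hom P', ∀ (x : P) (h1 : ((α ⟨x, (E.le_of_mem hφ).1 x.2⟩ : T) : Ω) ∈ P'),
      χ ⟨(α ⟨x, (E.le_of_mem hφ).1 x.2⟩ : T), h1⟩ = ((α ⟨φ x, (E.le_of_mem hφ).2 x⟩ : T) : Ω) := by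
  have hPT := (E.le_of_mem hφ).1
  obtain ⟨χ, hχ, hχe⟩ := h P hPT φ hφ α hα
  have heq : (P.subgroupOf T).map (T.subtype.comp α.toMonoidHom) = P' := by
    ext y
    rw [hP']
    constructor
    · rintro ⟨x, hx, rfl⟩
      exact ⟨⟨x.1, hx⟩, rfl⟩
    · rintro ⟨x, rfl⟩
      exact ⟨⟨x.1, hPT x.2⟩, x.2, rfl⟩
  obtain ⟨χ', hχ', hχ'e⟩ := hom_of_eq E heq hχ
  refine ⟨χ', hχ', fun x h1 => ?_⟩
  rw [hχ'e _ (heq ▸ h1) h1]
  exact hχe x _ _

theorem good_of_mem {E : FusionSystem T} (F : FusionSystem S) {P : Subgroup Ω} {φ : P →* Ω}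
    (hφ : φ ∈ E.Hom P) : Good E F P φ :=
  ⟨1, Subgroup.one_mem _, φ, hφ, fun _ _ => rfl⟩

theorem good_restrict {E : FusionSystem T} {F : FusionSystem S} {P P₁ : Subgroup Ω} {φ : P →* Ω}
    (h : Good E F P φ) (hle : P₁ ≤ P) : Good E F P₁ (φ.comp (Subgroup.inclusion hle)) := by
  obtain ⟨α, hα, φ₀, hφ₀, he⟩ := h
  exact ⟨α, hα, φ₀.comp (Subgroup.inclusion hle), restrict_mem E hle hφ₀, fun x hx => he _ hx⟩

theorem good_comp {E : FusionSystem T} {F : FusionSystem S} (hinv : InvCond E F) {P P' : Subgroup Ω}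
    {φ : P →* Ω} {ψ : P' →* Ω} (hφ : Good E F P φ) (hψ : Good E F P' ψ) (h : ∀ x : P, φ x ∈ P')
    {χ : P →* Ω} (hχ : ∀ x : P, χ x = ψ ⟨φ x, h x⟩) : Good E F P χ := by
  obtain ⟨α, hα, φ₀, hφ₀, hφe⟩ := hφ
  obtain ⟨β, hβ, ψ₀, hψ₀, hψe⟩ := hψ
  have hP'T : P' ≤ T := (E.le_of_mem hψ₀).1
  have hφ₀T : ∀ x, φ₀ x ∈ T := (E.le_of_mem hφ₀).2
  have hψ₀T : ∀ x, ψ₀ x ∈ T := (E.le_of_mem hψ₀).2
  have hαi : α⁻¹ ∈ F.autGroup T := (F.autGroup T).inv_mem hα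
  obtain ⟨θ, hθ, hθe⟩ := hinv.exists_hom hψ₀ hαi
    (P' := (P'.subgroupOf T).map (T.subtype.comp (α⁻¹).toMonoidHom)) (by
      intro y
      constructor
      · rintro ⟨x, hx, rfl⟩
        exact ⟨⟨x.1, hx⟩, rfl⟩
      · rintro ⟨x, rfl⟩
        exact ⟨⟨x.1, hP'T x.2⟩, x.2, rfl⟩)
  have key : ∀ x : P, (⟨φ x, hP'T (h x)⟩ : T) = α ⟨φ₀ x, hφ₀T x⟩ := fun x => Subtype.ext (hφe x _)
  have key2 : ∀ x : P, α⁻¹ (⟨φ x, hP'T (h x)⟩ : T) = ⟨φ₀ x, hφ₀T x⟩ := by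
    intro x
    rw [key, MulAut.inv_apply_self]
  have hφ₀P'' : ∀ x : P, φ₀ x ∈ (P'.subgroupOf T).map (T.subtype.comp (α⁻¹).toMonoidHom) := by
    intro x
    refine ⟨⟨φ x, hP'T (h x)⟩, h x, ?_⟩
    show ((α⁻¹ (⟨φ x, hP'T (h x)⟩ : T) : T) : Ω) = φ₀ x
    rw [key2]
  refine ⟨β * α, (F.autGroup T).mul_mem hβ hα, θ.comp (φ₀.codRestrict _ hφ₀P''),
    E.comp_mem hφ₀ hθ hφ₀P'', fun x hx => ?_⟩
  have e : (⟨ψ₀ ⟨φ x, h x⟩, hψ₀T _⟩ : T) =
      α ⟨(θ.comp (φ₀.codRestrict _ hφ₀P'')) x, hx⟩ := by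
    apply α⁻¹.injective
    rw [MulAut.inv_apply_self]
    apply Subtype.ext
    show ((α⁻¹ (⟨ψ₀ ⟨φ x, h x⟩, hψ₀T _⟩ : T) : T) : Ω) = θ ⟨φ₀ x, hφ₀P'' x⟩
    have h2 : (((α⁻¹ : MulAut T) ⟨((⟨φ x, h x⟩ : P') : Ω), hP'T (h x)⟩ : T) : Ω) ∈
        (P'.subgroupOf T).map (T.subtype.comp (α⁻¹).toMonoidHom) :=
      ⟨⟨φ x, hP'T (h x)⟩, h x, rfl⟩
    have h1 := hθe ⟨φ x, h x⟩ h2
    have h3 : (⟨φ₀ x, hφ₀P'' x⟩ : ↥((P'.subgroupOf T).map (T.subtype.comp (α⁻¹).toMonoidHom))) =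
        ⟨(((α⁻¹ : MulAut T) ⟨((⟨φ x, h x⟩ : P') : Ω), hP'T (h x)⟩ : T) : Ω), h2⟩ := by
      apply Subtype.ext
      show φ₀ x = ((α⁻¹ (⟨φ x, hP'T (h x)⟩ : T) : T) : Ω)
      rw [key2]
    rw [h3, h1]
  rw [hχ, hψe _ (hψ₀T _), MulAut.mul_apply, e]

theorem good_inv {E : FusionSystem T} {F : FusionSystem S} (hinv : InvCond E F) {P P' : Subgroup Ω}
    {φ : P →* Ω} (hφ : Good E F P φ) (hr : φ.range = P') {ψ : P' →* Ω}
    (hψ : ∀ (x : P) (h : φ x ∈ P'), ψ ⟨φ x, h⟩ = x) : Good E F P' ψ := by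
  obtain ⟨α, hα, φ₀, hφ₀, hφe⟩ := hφ
  obtain ⟨θ, hθ, hθe⟩ := E.inv_mem hφ₀
  have hPT : P ≤ T := (E.le_of_mem hφ₀).1
  have hφ₀T : ∀ x, φ₀ x ∈ T := (E.le_of_mem hφ₀).2
  have hαi : α⁻¹ ∈ F.autGroup T := (F.autGroup T).inv_mem hα
  obtain ⟨χ, hχ, hχe⟩ := hinv.exists_hom hθ hα (P' := P') (by
      intro y
      rw [← hr]
      constructor
      · rintro ⟨x, rfl⟩
        exact ⟨⟨φ₀ x, ⟨x, rfl⟩⟩, (hφe x _).symm⟩
      · rintro ⟨⟨_, x, rfl⟩, rfl⟩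
        exact ⟨x, hφe x _⟩)
  have hχT : ∀ y, χ y ∈ T := (E.le_of_mem hχ).2
  refine ⟨α⁻¹, hαi, χ, hχ, fun y hy => ?_⟩
  have hy' : (y : Ω) ∈ φ.range := hr ▸ y.2
  obtain ⟨x, hx⟩ := hy'
  have hxP' : φ x ∈ P' := hx ▸ y.2
  have ey : y = ⟨φ x, hxP'⟩ := Subtype.ext hx.symm
  have h1 : (((α ⟨((⟨φ₀ x, ⟨x, rfl⟩⟩ : φ₀.range) : Ω), hφ₀T x⟩ : T) : T) : Ω) ∈ P' := by
    have : (((α ⟨φ₀ x, hφ₀T x⟩ : T) : T) : Ω) = φ x := (hφe x _).symm
    rw [this]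
    exact hxP'
  have h2 := hχe ⟨φ₀ x, ⟨x, rfl⟩⟩ h1
  have h3 : χ y = ((α ⟨x, hPT x.2⟩ : T) : Ω) := by
    rw [ey]
    have e1 : (⟨φ x, hxP'⟩ : P') = ⟨(((α ⟨((⟨φ₀ x, ⟨x, rfl⟩⟩ : φ₀.range) : Ω), hφ₀T x⟩ : T) : T) : Ω), h1⟩ :=
      Subtype.ext (hφe x _)
    rw [e1, h2]
    congr 2
    apply Subtype.ext
    exact hθe x
  have h4 : (⟨χ y, hy⟩ : T) = α ⟨x, hPT x.2⟩ := Subtype.ext h3
  rw [h4, MulAut.inv_apply_self, ey]
  exact hψ x hxP'

theorem invCond_of_strongInv {E : FusionSystem T} {F : FusionSystem S} (hTS : T ≤ S)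
    (h : StrongInv E F) : InvCond E F := by
  intro P hPT φ hφ α hα
  have hαF : T.subtype.comp α.toMonoidHom ∈ F.Hom T := (mem_autGroup_iff F hTS).1 hα
  obtain ⟨χ, hχ, hχe⟩ := h P T hPT le_rfl φ hφ (E.le_of_mem hφ).2 _ hαF
  exact ⟨χ, hχ, fun x hφx hαx => hχe x hαx⟩

theorem strongInv_of_invariant {E : FusionSystem T} {F : FusionSystem S} (hinv : InvCond E F)
    (hfr : FrattiniCond E F) : StrongInv E F := by
  intro P Q hPQ hQT φ hφ hφQ ψ hψ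
  obtain ⟨α, hα, ψ₀, hψ₀, hψe⟩ := hfr Q hQT ψ hψ
  have hψ₀T : ∀ x, ψ₀ x ∈ T := (E.le_of_mem hψ₀).2
  have hψ₀P := restrict_mem E hPQ hψ₀
  obtain ⟨θ, hθ, hθe⟩ := E.inv_mem hψ₀P
  have hθP : ∀ z : (ψ₀.comp (Subgroup.inclusion hPQ)).range, θ z ∈ P := by
    rintro ⟨_, x, rfl⟩
    rw [hθe]
    exact x.2
  have s1 := E.comp_mem hθ hφ hθP
  have hs1Q : ∀ z : (ψ₀.comp (Subgroup.inclusion hPQ)).range,
      (φ.comp (θ.codRestrict P hθP)) z ∈ Q := fun z => hφQ _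
  have s2 := E.comp_mem s1 hψ₀ hs1Q
  have hval : ∀ x : P, (ψ₀.comp ((φ.comp (θ.codRestrict P hθP)).codRestrict Q hs1Q))
      ⟨ψ₀ (Subgroup.inclusion hPQ x), ⟨x, rfl⟩⟩ = ψ₀ ⟨φ x, hφQ x⟩ := by
    intro x
    show ψ₀ ⟨φ ⟨θ ⟨ψ₀ (Subgroup.inclusion hPQ x), ⟨x, rfl⟩⟩, _⟩, _⟩ = _
    congr 2
    congr 1
    apply Subtype.ext
    exact hθe x
  obtain ⟨χ, hχ, hχe⟩ := hinv.exists_hom s2 hα (P' := (P.subgroupOf Q).map ψ) (by
      intro y
      constructor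
      · rintro ⟨q, hq, rfl⟩
        refine ⟨⟨ψ₀ (Subgroup.inclusion hPQ ⟨q.1, hq⟩), ⟨⟨q.1, hq⟩, rfl⟩⟩, ?_⟩
        exact (hψe q (hψ₀T q)).symm
      · rintro ⟨⟨_, x, rfl⟩, rfl⟩
        refine ⟨Subgroup.inclusion hPQ x, x.2, ?_⟩
        exact hψe _ (hψ₀T _))
  refine ⟨χ, hχ, fun x hx => ?_⟩
  have e1 : ψ (Subgroup.inclusion hPQ x) =
      ((α ⟨ψ₀ (Subgroup.inclusion hPQ x), hψ₀T _⟩ : T) : Ω) := hψe _ _
  have h1 : ((α ⟨((⟨ψ₀ (Subgroup.inclusion hPQ x), ⟨x, rfl⟩⟩ :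
      (ψ₀.comp (Subgroup.inclusion hPQ)).range) : Ω), hψ₀T _⟩ : T) : Ω) ∈ (P.subgroupOf Q).map ψ := by
    have : ((α ⟨ψ₀ (Subgroup.inclusion hPQ x), hψ₀T _⟩ : T) : Ω) ∈ (P.subgroupOf Q).map ψ := e1 ▸ hx
    exact this
  have h2 := hχe ⟨ψ₀ (Subgroup.inclusion hPQ x), ⟨x, rfl⟩⟩ h1
  have e2 : (⟨ψ (Subgroup.inclusion hPQ x), hx⟩ : ↥((P.subgroupOf Q).map ψ)) =
      ⟨((α ⟨((⟨ψ₀ (Subgroup.inclusion hPQ x), ⟨x, rfl⟩⟩ :
      (ψ₀.comp (Subgroup.inclusion hPQ)).range) : Ω), hψ₀T _⟩ : T) : Ω), h1⟩ := Subtype.ext e1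
  rw [e2, h2, hψe _ (hψ₀T _)]
  congr 2
  apply Subtype.ext
  exact hval x

/-- under strong invariance, `Aut_E(R)` is normalized by `Aut_F(R)` -/
theorem conj_mem_autGroup_of_strongInv {E : FusionSystem T} {F : FusionSystem S} (hTS : T ≤ S)
    (hsi : StrongInv E F) {R : Subgroup Ω} (hRT : R ≤ T) {a b : MulAut R} (ha : a ∈ F.autGroup R)
    (hb : b ∈ E.autGroup R) : a * b * a⁻¹ ∈ E.autGroup R := by
  have hRS : R ≤ S := hRT.trans hTS
  have haF := (mem_autGroup_iff F hRS).1 ha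
  have hbE := (mem_autGroup_iff E hRT).1 hb
  obtain ⟨χ, hχ, hχe⟩ := hsi R R le_rfl hRT _ hbE (fun x => (b x).2) _ haF
  have heq : (R.subgroupOf R).map (R.subtype.comp a.toMonoidHom) = R := by
    ext y
    constructor
    · rintro ⟨x, _, rfl⟩
      exact (a x).2
    · intro hy
      exact ⟨a.symm ⟨y, hy⟩, Subgroup.mem_subgroupOf.2 (a.symm ⟨y, hy⟩).2, by simp⟩
  obtain ⟨χ', hχ', hχ'e⟩ := hom_of_eq E heq hχ
  rw [mem_autGroup_iff E hRT]
  have : R.subtype.comp (a * b * a⁻¹).toMonoidHom = χ' := by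
    ext y
    have hy1 : ((a (a⁻¹ y) : R) : Ω) ∈ (R.subgroupOf R).map (R.subtype.comp a.toMonoidHom) := by
      rw [heq]
      exact (a (a⁻¹ y)).2
    have h1 := hχe (a⁻¹ y) hy1
    have h2 := hχ'e _ hy1 (a (a⁻¹ y)).2
    have e1 : a (a⁻¹ y) = y := MulAut.apply_inv_self _ a y
    have h3 : χ' y = χ' ⟨((a (a⁻¹ y) : R) : Ω), (a (a⁻¹ y)).2⟩ := by
      congr 1
      exact e1.symm
    rw [h3, h2]
    exact h1.symm
  rw [this]
  exact hχ'

/-- extension of a map along receptivity to a subgroup of the extender -/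
theorem exists_hom_of_receptive_le (F : FusionSystem S) {R M : Subgroup Ω}
    (hrec : F.IsReceptive R) {α : MulAut R} (hα : α ∈ F.autGroup R) (hRM : R ≤ M)
    (hnorm : ∀ g ∈ M, g ∈ S ∧ g ∈ Subgroup.normalizer (R : Set Ω) ∧
      ∃ h ∈ S, ∀ (x : R) (hx : g * (x : Ω) * g⁻¹ ∈ R),
      ((α ⟨g * x * g⁻¹, hx⟩ : R) : Ω) = h * (α x : R) * h⁻¹) :
    ∃ ψ ∈ F.Hom M, ∀ x : R, ψ (Subgroup.inclusion hRM x) = (α x : R) := by
  have hRS : R ≤ S := hrec.1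
  have hφ : R.subtype.comp α.toMonoidHom ∈ F.Hom R := (mem_autGroup_iff F hRS).1 hα
  have hφr : (R.subtype.comp α.toMonoidHom).range = R := by
    ext y
    constructor
    · rintro ⟨x, rfl⟩
      exact (α x).2
    · intro hy
      exact ⟨α.symm ⟨y, hy⟩, by simp⟩
  obtain ⟨ψ, hψ, hψe⟩ := hrec.2 R _ hφ hφr
  have hMle : M ≤ FusionSystem.extender S R (R.subtype.comp α.toMonoidHom) := by
    intro g hg
    apply Subgroup.subset_closure
    obtain ⟨h1, h2, h, hh, hx⟩ := hnorm g hg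
    exact ⟨h1, h2, h, hh, fun x hx' => hx x hx'⟩
  refine ⟨ψ.comp (Subgroup.inclusion hMle), restrict_mem F hMle hψ, fun x => ?_⟩
  exact hψe x x.2 _

theorem good_congr {E : FusionSystem T} {F : FusionSystem S} {P : Subgroup Ω} {φ φ' : P →* Ω}
    (h : Good E F P φ) (he : ∀ x, φ' x = φ x) : Good E F P φ' := by
  have : φ' = φ := MonoidHom.ext he
  rw [this]
  exact h

/-- (A): automorphisms of a fully automized receptive proper subgroup of `T` are good -/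
theorem aut_good_of_fa_rec [Finite S] {p : ℕ} [Fact p.Prime] (hS : IsPGroup p S)
    {E : FusionSystem T} {F : FusionSystem S} (hTS : T ≤ S) (hT : F.StronglyClosed T)
    (hsi : StrongInv E F) {R : Subgroup Ω} (hRT : R ≤ T) (hne : R ≠ T)
    (hfa : F.IsFullyAutomized p R) (hrec : F.IsReceptive R)
    (IH : ∀ P' : Subgroup Ω, P' ≤ T → Nat.card R < Nat.card P' → ∀ φ ∈ F.Hom P', Good E F P' φ)
    {δ : MulAut R} (hδ : δ ∈ F.autGroup R) : Good E F R (R.subtype.comp δ.toMonoidHom) := by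
  have hinv := invCond_of_strongInv hTS hsi
  have hRS : R ≤ S := hRT.trans hTS
  haveI : Finite T := finite_of_le hTS
  haveI : Finite R := finite_of_le hRS
  have hTp : IsPGroup p T := hS.to_le hTS
  obtain ⟨_, Sy, hSy⟩ := hfa
  -- K₁
  have hT₀Sy : (autInducedBy T R).subgroupOf (F.autGroup R) ≤ (Sy : Subgroup (F.autGroup R)) := by
    rw [hSy]
    intro x hx
    rw [Subgroup.mem_subgroupOf] at hx ⊢
    exact autInducedBy_mono hTS R hx
  have hK₁E : ∀ κ ∈ Subgroup.normalClosure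
      (((autInducedBy T R).subgroupOf (F.autGroup R) : Subgroup (F.autGroup R)) : Set (F.autGroup R)),
      (κ : MulAut R) ∈ E.autGroup R := by
    have hle : Subgroup.normalClosure
        (((autInducedBy T R).subgroupOf (F.autGroup R) : Subgroup (F.autGroup R)) : Set (F.autGroup R)) ≤
        (E.autGroup R).subgroupOf (F.autGroup R) := by
      unfold Subgroup.normalClosure
      rw [Subgroup.closure_le]
      intro c hc
      rw [Group.mem_conjugatesOfSet_iff] at hc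
      obtain ⟨b, hb, hbc⟩ := hc
      rw [isConj_iff] at hbc
      obtain ⟨a, rfl⟩ := hbc
      rw [SetLike.mem_coe, Subgroup.mem_subgroupOf]
      have hb' : (b : MulAut R) ∈ autInducedBy T R := Subgroup.mem_subgroupOf.1 hb
      have hbE : (b : MulAut R) ∈ E.autGroup R := autInducedBy_le_autGroup E hRT (by
        have := autInducedBy_mono (le_refl T) R hb'
        exact this)
      exact conj_mem_autGroup_of_strongInv hTS hsi hRT a.2 hbE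
    intro κ hκ
    exact Subgroup.mem_subgroupOf.1 (hle hκ)
  haveI : (Subgroup.normalClosure
      (((autInducedBy T R).subgroupOf (F.autGroup R) : Subgroup (F.autGroup R)) : Set (F.autGroup R))).Normal :=
    Subgroup.normalClosure_normal
  obtain ⟨κ, hκ, ν, hδκν, hν⟩ := exists_mul_normalizer_of_normal Sy (Subgroup.normalClosure
      (((autInducedBy T R).subgroupOf (F.autGroup R) : Subgroup (F.autGroup R)) : Set (F.autGroup R)))
      ⟨δ, hδ⟩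
  -- ν extends to N_T(R)
  have hRN : R ≤ FusionSystem.normalizerIn T R := le_normalizerIn hRT
  have hnorm : ∀ g ∈ FusionSystem.normalizerIn T R, g ∈ S ∧ g ∈ Subgroup.normalizer (R : Set Ω) ∧
      ∃ h ∈ S, ∀ (x : R) (hx : g * (x : Ω) * g⁻¹ ∈ R),
      (((ν : MulAut R) ⟨g * x * g⁻¹, hx⟩ : R) : Ω) = h * ((ν : MulAut R) x : R) * h⁻¹ := by
    intro g hg
    refine ⟨hTS hg.1, hg.2, ?_⟩
    have hcg : R.normalizerMonoidHom ⟨g, hg.2⟩ ∈ autInducedBy T R := by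
      rw [autInducedBy_eq_map]
      exact ⟨⟨g, hg.2⟩, hg.1, rfl⟩
    have hcgA : R.normalizerMonoidHom ⟨g, hg.2⟩ ∈ F.autGroup R :=
      autInducedBy_le_autGroup F hRS (autInducedBy_mono hTS R hcg)
    have hcgT : (⟨_, hcgA⟩ : F.autGroup R) ∈ (autInducedBy T R).subgroupOf (F.autGroup R) := by
      rw [Subgroup.mem_subgroupOf]
      exact hcg
    have h3 : ν * (⟨_, hcgA⟩ : F.autGroup R) * ν⁻¹ ∈ (Sy : Subgroup (F.autGroup R)) :=
      (hν _ ⟨hT₀Sy hcgT, Subgroup.subset_normalClosure hcgT⟩).1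
    rw [hSy, Subgroup.mem_subgroupOf, autInducedBy_eq_map] at h3
    obtain ⟨h, hhS, hh⟩ := h3
    refine ⟨h, hhS, fun x hx => ?_⟩
    have h4 : R.normalizerMonoidHom h ((ν : MulAut R) x) =
        (ν : MulAut R) (R.normalizerMonoidHom ⟨g, hg.2⟩ x) := by
      rw [hh]
      show ((ν : MulAut R) * (R.normalizerMonoidHom ⟨g, hg.2⟩) * (ν : MulAut R)⁻¹)
        ((ν : MulAut R) x) = _
      rw [MulAut.mul_apply, MulAut.mul_apply, MulAut.inv_apply_self]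
    have h5 := congrArg (fun z : R => (z : Ω)) h4
    exact h5.symm
  obtain ⟨ψ, hψ, hψe⟩ := exists_hom_of_receptive_le F hrec ν.2 hRN hnorm
  have hNne : FusionSystem.normalizerIn T R ≠ R := normalizerIn_ne_self hTp hRT hne
  have := finite_normalizerIn (S := T) R
  have hNT : FusionSystem.normalizerIn T R ≤ T := inf_le_left
  have hcardlt : Nat.card R < Nat.card (FusionSystem.normalizerIn T R) := by
    rcases Nat.lt_or_ge (Nat.card R) (Nat.card (FusionSystem.normalizerIn T R)) with h | h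
    · exact h
    · exact absurd (Subgroup.eq_of_le_of_card_ge hRN h).symm hNne
  have hψg := IH _ hNT hcardlt ψ hψ
  have hνg : Good E F R (R.subtype.comp (ν : MulAut R).toMonoidHom) :=
    good_congr (good_restrict hψg hRN) (fun x => (hψe x).symm)
  have hκg : Good E F R (R.subtype.comp (κ : MulAut R).toMonoidHom) :=
    good_of_mem F ((mem_autGroup_iff E hRT).1 (hK₁E κ hκ))
  apply good_comp hinv hνg hκg (fun x => ((ν : MulAut R) x).2)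
  intro x
  have e : δ = (κ : MulAut R) * (ν : MulAut R) := by
    have := congrArg (fun z : F.autGroup R => (z : MulAut R)) hδκν
    exact this
  rw [e]
  rfl

/-- (B): maps from proper subgroups of `T` onto fully automized receptive subgroups are good -/
theorem good_of_range_fa_rec [Finite S] {p : ℕ} [Fact p.Prime] (hS : IsPGroup p S)
    {E : FusionSystem T} {F : FusionSystem S} (hTS : T ≤ S) (hT : F.StronglyClosed T)
    (hsi : StrongInv E F) {P₁ R : Subgroup Ω} (hP₁T : P₁ ≤ T) (hne : P₁ ≠ T)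
    (hfa : F.IsFullyAutomized p R) (hrec : F.IsReceptive R)
    (IH : ∀ P' : Subgroup Ω, P' ≤ T → Nat.card P₁ < Nat.card P' → ∀ φ ∈ F.Hom P', Good E F P' φ)
    {ψ : P₁ →* Ω} (hψ : ψ ∈ F.Hom P₁) (hr : ψ.range = R) : Good E F P₁ ψ := by
  have hinv := invCond_of_strongInv hTS hsi
  have hP₁S : P₁ ≤ S := hP₁T.trans hTS
  haveI : Finite T := finite_of_le hTS
  haveI : Finite P₁ := finite_of_le hP₁S
  have hTp : IsPGroup p T := hS.to_le hTS
  have hRS : R ≤ S := hrec.1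
  haveI : Finite R := finite_of_le hRS
  have hRT : R ≤ T := by
    rw [← hr]
    rintro _ ⟨x, rfl⟩
    exact hT.2 P₁ hP₁T ψ hψ x
  have hcard : Nat.card P₁ = Nat.card R := card_eq_of_isConj F ⟨ψ, hψ, hr⟩
  have hRne : R ≠ T := by
    intro h
    apply hne
    have h1 : Nat.card T ≤ Nat.card P₁ := by rw [hcard, h]
    exact Subgroup.eq_of_le_of_card_ge hP₁T h1
  obtain ⟨ρ, hρ, hρN, hρR, hρmap⟩ := exists_hom_normalizer p hS F R P₁ hfa hrec ⟨ψ, hψ, hr⟩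
  have hNle : FusionSystem.normalizerIn T P₁ ≤ FusionSystem.normalizerIn S P₁ :=
    fun x hx => ⟨hTS hx.1, hx.2⟩
  have hP₁N : P₁ ≤ FusionSystem.normalizerIn T P₁ := le_normalizerIn hP₁T
  have hNne : FusionSystem.normalizerIn T P₁ ≠ P₁ := normalizerIn_ne_self hTp hP₁T hne
  have := finite_normalizerIn (S := T) P₁
  have hNT : FusionSystem.normalizerIn T P₁ ≤ T := inf_le_left
  have hcardlt : Nat.card P₁ < Nat.card (FusionSystem.normalizerIn T P₁) := by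
    rcases Nat.lt_or_ge (Nat.card P₁) (Nat.card (FusionSystem.normalizerIn T P₁)) with h | h
    · exact h
    · exact absurd (Subgroup.eq_of_le_of_card_ge hP₁N h).symm hNne
  have hρT := restrict_mem F hNle hρ
  have hρTg := IH _ hNT hcardlt _ hρT
  have hρ₁g := good_restrict hρTg hP₁N
  have hρ₁ := restrict_mem F hP₁N hρT
  have hr₁ : ((ρ.comp (Subgroup.inclusion hNle)).comp (Subgroup.inclusion hP₁N)).range = R := by
    rw [← hρmap]
    ext y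
    constructor
    · rintro ⟨x, rfl⟩
      exact ⟨⟨x.1, hNle (hP₁N x.2)⟩, x.2, rfl⟩
    · rintro ⟨x, hx, rfl⟩
      exact ⟨⟨x.1, hx⟩, rfl⟩
  obtain ⟨σ, hσ, hσe⟩ := exists_inv_iso F hρ₁ hr₁
  have hσg : Good E F R σ := good_inv hinv hρ₁g hr₁ hσe
  have hσP₁ : ∀ y : R, σ y ∈ P₁ := by
    intro y
    have hy : (y : Ω) ∈ ((ρ.comp (Subgroup.inclusion hNle)).comp (Subgroup.inclusion hP₁N)).range :=
      hr₁.ge y.2
    obtain ⟨x, hx⟩ := hy
    have hxR : ((ρ.comp (Subgroup.inclusion hNle)).comp (Subgroup.inclusion hP₁N)) x ∈ R := hx ▸ y.2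
    have ey : y = ⟨_, hxR⟩ := Subtype.ext hx.symm
    rw [ey, hσe]
    exact x.2
  have hδ₀ := F.comp_mem hσ hψ hσP₁
  have hδ₀R : ∀ y : R, (ψ.comp (σ.codRestrict P₁ hσP₁)) y ∈ R := fun y => hr.le ⟨_, rfl⟩
  obtain ⟨δ, hδ, hδe⟩ := exists_aut_of_hom F hδ₀ hδ₀R
  have hδg := aut_good_of_fa_rec hS hTS hT hsi hRT hRne hfa hrec
    (fun P' hP' hlt => IH P' hP' (hcard ▸ hlt)) hδ
  have hδ₀g : Good E F R (ψ.comp (σ.codRestrict P₁ hσP₁)) := good_congr hδg (fun x => (hδe x).symm)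
  have hρ₁R : ∀ x : P₁, ((ρ.comp (Subgroup.inclusion hNle)).comp (Subgroup.inclusion hP₁N)) x ∈ R :=
    fun x => hr₁.le ⟨x, rfl⟩
  apply good_comp hinv hρ₁g hδ₀g hρ₁R
  intro x
  show ψ x = ψ ⟨σ ⟨_, hρ₁R x⟩, _⟩
  congr 1
  apply Subtype.ext
  exact (hσe x (hρ₁R x)).symm

/-- (C): strong invariance implies the Frattini condition -/
theorem frattiniCond_of_strongInv_aux [Finite S] (p : ℕ) [Fact p.Prime] (hS : IsPGroup p S)
    {E : FusionSystem T} {F : FusionSystem S} (hF : F.IsSaturated p) (hTS : T ≤ S)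
    (hT : F.StronglyClosed T) (hsi : StrongInv E F) (k : ℕ) :
    ∀ P : Subgroup Ω, P ≤ T → Nat.card T - Nat.card P = k → ∀ φ ∈ F.Hom P, Good E F P φ := by
  induction k using Nat.strong_induction_on with
  | _ k ih =>
    intro P hPT hk φ hφ
    have hinv := invCond_of_strongInv hTS hsi
    have : Finite T := finite_of_le hTS
    have hPS : P ≤ S := hPT.trans hTS
    have : Finite P := finite_of_le hPS
    by_cases hne : P = T
    · subst hne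
      have hval : ∀ x : P, φ x ∈ P := fun x => hT.2 P le_rfl φ hφ x
      obtain ⟨α, hα, hαe⟩ := exists_aut_of_hom F hφ hval
      exact ⟨α, hα, P.subtype, subtype_mem E le_rfl, fun x hx => (hαe x).symm⟩
    · have IH : ∀ P' : Subgroup Ω, P' ≤ T → Nat.card P < Nat.card P' → ∀ φ ∈ F.Hom P',
          Good E F P' φ := by
        intro P' hP' hlt φ' hφ'
        have hle : Nat.card P' ≤ Nat.card T := Subgroup.card_le_of_le hP'
        exact ih (Nat.card T - Nat.card P') (by omega) P' hP' rfl φ' hφ'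
      obtain ⟨R, hPR, hRfn⟩ := exists_fullyNormalized_conj F hPS
      have hsat := (Cfsg.Agent.S5077.result p hS F).1 hF
      have hRfa := (hsat.1 R hRfn).2
      have hRrec := hsat.2 R (hsat.1 R hRfn).1
      have hPP' : F.IsConj P φ.range := ⟨φ, hφ, rfl⟩
      have hP'T : φ.range ≤ T := by
        rintro _ ⟨x, rfl⟩
        exact hT.2 P hPT φ hφ x
      obtain ⟨ψ₁, hψ₁, hr₁⟩ := isConj_trans F (isConj_symm F hPP') hPR
      have hcard : Nat.card P = Nat.card φ.range := card_eq_of_isConj F hPP'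
      have hne' : φ.range ≠ T := by
        intro h
        apply hne
        have h1 : Nat.card T ≤ Nat.card P := by rw [hcard, h]
        exact Subgroup.eq_of_le_of_card_ge hPT h1
      have hψ₁g := good_of_range_fa_rec hS hTS hT hsi hP'T hne' hRfa hRrec
        (fun P' hP' hlt => IH P' hP' (hcard ▸ hlt)) hψ₁ hr₁
      have hφr : ∀ x : P, φ x ∈ φ.range := fun x => ⟨x, rfl⟩
      have hψ₂ := F.comp_mem hφ hψ₁ hφr
      have hr₂ : (ψ₁.comp (φ.codRestrict φ.range hφr)).range = R := by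
        rw [← hr₁]
        ext y
        constructor
        · rintro ⟨x, rfl⟩
          exact ⟨_, rfl⟩
        · rintro ⟨⟨_, x, rfl⟩, rfl⟩
          exact ⟨x, rfl⟩
      have hψ₂g := good_of_range_fa_rec hS hTS hT hsi hPT hne hRfa hRrec IH hψ₂ hr₂
      obtain ⟨σ₁, hσ₁, hσ₁e⟩ := exists_inv_iso F hψ₁ hr₁
      have hσ₁g : Good E F R σ₁ := good_inv hinv hψ₁g hr₁ hσ₁e
      have hψ₂R : ∀ x : P, (ψ₁.comp (φ.codRestrict φ.range hφr)) x ∈ R := fun x => hr₂.le ⟨x, rfl⟩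
      apply good_comp hinv hψ₂g hσ₁g hψ₂R
      intro x
      exact (hσ₁e ⟨φ x, hφr x⟩ (hψ₂R x)).symm

theorem frattiniCond_of_strongInv [Finite S] (p : ℕ) [Fact p.Prime] (hS : IsPGroup p S)
    {E : FusionSystem T} {F : FusionSystem S} (hF : F.IsSaturated p)
    (hT : F.StronglyClosed T) (hsi : StrongInv E F) : FrattiniCond E F :=
  fun P hPT φ hφ => frattiniCond_of_strongInv_aux p hS hF hT.1 hT hsi _ P hPT rfl φ hφ

end Cfsg.Agent.Lib.Helper29
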