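import Cfsg.Agent.Lib.Helper29.FusionAlperin

/-!
Alperin's fusion theorem with a lower bound on the orders of the subgroups involved.
-/
set_option autoImplicit false

namespace Cfsg.Agent.Lib.Helper29

open Cfsg

variable {Ω : Type*} [Group Ω] {S : Subgroup Ω}

/-- the induction step of Alperin's theorem: automorphisms of a fully automized receptive proper
subgroup lie in `E`, provided all `F`-maps on larger subgroups do. -/
theorem autGroup_le_of_IH' [Finite S] {p : ℕ} [Fact p.Prime] (hS : IsPGroup p S) (F E : FusionSystem S)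
    {R : Subgroup Ω} (hE : F.IsEssential p R → F.autGroup R ≤ E.autGroup R) (hRne : R ≠ S) (hRfa : F.IsFullyAutomized p R) (hRrec : F.IsReceptive R)
    (IH : ∀ P' : Subgroup Ω, P' ≤ S → Nat.card R < Nat.card P' → F.Hom P' ⊆ E.Hom P') :
    F.autGroup R ≤ E.autGroup R := by
  have hRS : R ≤ S := hRrec.1
  have hRfn := fullyNormalized_of_fa_rec hS F hRfa hRrec
  haveI : Finite R := finite_of_le hRS
  by_cases hess : F.IsEssential p R
  · exact hE hess
  -- extension criterion
  have hK : ∀ α ∈ F.autGroup R,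
      (∃ g ∈ FusionSystem.extender S R (R.subtype.comp α.toMonoidHom), g ∉ R) → α ∈ E.autGroup R := by
    rintro α hα ⟨g, hgE, hgR⟩
    have hφ : R.subtype.comp α.toMonoidHom ∈ F.Hom R := (mem_autGroup_iff F hRS).1 hα
    obtain ⟨ψ, hψ, hψe⟩ := hRrec.2 R _ hφ (range_subtype_comp_aut α)
    have hle : R ≤ FusionSystem.extender S R (R.subtype.comp α.toMonoidHom) := le_extender F hφ
    have hES : FusionSystem.extender S R (R.subtype.comp α.toMonoidHom) ≤ S := extender_le _ _
    haveI : Finite (FusionSystem.extender S R (R.subtype.comp α.toMonoidHom)) := finite_of_le hES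
    have hcard : Nat.card R < Nat.card (FusionSystem.extender S R (R.subtype.comp α.toMonoidHom)) := by
      rcases (Subgroup.card_le_of_le hle).lt_or_eq with h | h
      · exact h
      · exfalso
        have := Subgroup.eq_of_le_of_card_ge hle h.ge
        rw [← this] at hgE
        exact hgR hgE
    have hψE := IH _ hES hcard hψ
    have h1 := restrict_mem E hle hψE
    rw [mem_autGroup_iff E hRS]
    have h2 : ψ.comp (Subgroup.inclusion hle) = R.subtype.comp α.toMonoidHom := by
      ext x
      exact hψe x x.2 (hle x.2)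
    rwa [h2] at h1
  by_cases hcen : F.IsCentric R
  swap
  · have hnot : ¬ FusionSystem.centralizerIn S R ≤ R := fun h => hcen (centric_of_receptive F hRrec h)
    obtain ⟨c, hc, hcR⟩ := SetLike.not_le_iff_exists.1 hnot
    intro α hα
    exact hK α hα ⟨c, centralizerIn_le_extender R _ hc, hcR⟩
  · have hCR : FusionSystem.centralizerIn S R ≤ R := hcen.2 R (isConj_refl F hRS)
    by_contra hnot
    apply hess
    have hIA : Inn R ≤ F.autGroup R := inn_le_autGroup F hRS
    have hIE : Inn R ≤ E.autGroup R := inn_le_autGroup E hRS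
    have hSA : autInducedBy S R ≤ F.autGroup R := autInducedBy_le_autGroup F hRS
    have hIT : Inn R ≤ autInducedBy S R := by
      rintro _ ⟨r, rfl⟩
      exact Subgroup.subset_closure ⟨r.1, hRS r.2, fun x => rfl⟩
    obtain ⟨_, T, hT⟩ := hRfa
    have hN : ((Inn R).subgroupOf (F.autGroup R)).Normal := inferInstance
    refine ⟨hcen, hRfn, hN, ((E.autGroup R).subgroupOf (F.autGroup R)).map
      (QuotientGroup.mk' ((Inn R).subgroupOf (F.autGroup R))), ?_⟩
    have hIleT : (Inn R).subgroupOf (F.autGroup R) ≤ (T : Subgroup (F.autGroup R)) := by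
      rw [hT]
      intro a ha
      exact hIT ha
    -- membership in the image of T
    have hmemT : ∀ a : F.autGroup R, QuotientGroup.mk' ((Inn R).subgroupOf (F.autGroup R)) a ∈
        (T : Subgroup (F.autGroup R)).map (QuotientGroup.mk' ((Inn R).subgroupOf (F.autGroup R))) →
        (a : MulAut R) ∈ autInducedBy S R := by
      intro a ha
      have h1 : a ∈ ((T : Subgroup (F.autGroup R)).map
          (QuotientGroup.mk' ((Inn R).subgroupOf (F.autGroup R)))).comap
          (QuotientGroup.mk' ((Inn R).subgroupOf (F.autGroup R))) := ha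
      rw [Subgroup.comap_map_eq, QuotientGroup.ker_mk', sup_eq_left.2 hIleT, hT] at h1
      exact h1
    -- elements of N_S(R) outside R give nontrivial elements
    have hnontriv : ∀ (g : Ω) (hgS : g ∈ S) (hgN : g ∈ Subgroup.normalizer (R : Set Ω)), g ∉ R →
        R.normalizerMonoidHom ⟨g, hgN⟩ ∉ Inn R :=
      fun g hgS hgN hgR h => hgR (mem_of_conj_mem_inn hRS hCR hgS hgN h)
    set P' : Sylow p (F.autGroup R ⧸ (Inn R).subgroupOf (F.autGroup R)) :=
      T.mapSurjective (QuotientGroup.mk'_surjective _) with hP'def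
    have hP'coe : (P' : Subgroup (F.autGroup R ⧸ (Inn R).subgroupOf (F.autGroup R))) =
        (T : Subgroup (F.autGroup R)).map (QuotientGroup.mk' ((Inn R).subgroupOf (F.autGroup R))) :=
      Sylow.coe_mapSurjective _ _
    refine ⟨?_, ?_, P', ?_⟩
    · -- p divides |Out_F(R)|
      have hNne := normalizerIn_ne_self hS hRS hRne
      have hRN := le_normalizerIn hRS
      obtain ⟨g, hg, hgR⟩ : ∃ g ∈ FusionSystem.normalizerIn S R, g ∉ R := by
        by_contra hcon
        push Not at hcon
        exact hNne (le_antisymm hcon hRN)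
      have hcg : R.normalizerMonoidHom ⟨g, hg.2⟩ ∈ autInducedBy S R :=
        Subgroup.subset_closure ⟨g, hg.1, fun x => rfl⟩
      set t : F.autGroup R := ⟨R.normalizerMonoidHom ⟨g, hg.2⟩, hSA hcg⟩ with ht
      have htT : t ∈ (T : Subgroup (F.autGroup R)) := by rw [hT]; exact hcg
      have hmk : QuotientGroup.mk' ((Inn R).subgroupOf (F.autGroup R)) t ≠ 1 := by
        intro h
        rw [QuotientGroup.mk'_apply, QuotientGroup.eq_one_iff] at h
        exact hnontriv g hg.1 hg.2 hgR h
      have hP'ne : (P' : Subgroup (F.autGroup R ⧸ (Inn R).subgroupOf (F.autGroup R))) ≠ ⊥ := by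
        intro h
        have h1 : QuotientGroup.mk' ((Inn R).subgroupOf (F.autGroup R)) t ∈
            (P' : Subgroup (F.autGroup R ⧸ (Inn R).subgroupOf (F.autGroup R))) := by
          rw [hP'coe]
          exact ⟨t, htT, rfl⟩
        rw [h, Subgroup.mem_bot] at h1
        exact hmk h1
      obtain ⟨n, hn⟩ := IsPGroup.iff_card.1 P'.isPGroup'
      have hn0 : n ≠ 0 := by
        rintro rfl
        rw [pow_zero] at hn
        exact hP'ne (Subgroup.card_eq_one.1 hn)
      have h1 : p ∣ Nat.card (P' : Subgroup (F.autGroup R ⧸ (Inn R).subgroupOf (F.autGroup R))) := by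
        rw [hn]; exact dvd_pow_self p hn0
      exact h1.trans (Subgroup.card_subgroup_dvd_card _)
    · -- the image of H is proper
      intro htop
      apply hnot
      intro α hα
      have h1 : QuotientGroup.mk' ((Inn R).subgroupOf (F.autGroup R)) ⟨α, hα⟩ ∈
          ((E.autGroup R).subgroupOf (F.autGroup R)).map
            (QuotientGroup.mk' ((Inn R).subgroupOf (F.autGroup R))) := by
        rw [htop]; trivial
      have h2 : (⟨α, hα⟩ : F.autGroup R) ∈ (((E.autGroup R).subgroupOf (F.autGroup R)).map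
          (QuotientGroup.mk' ((Inn R).subgroupOf (F.autGroup R)))).comap
          (QuotientGroup.mk' ((Inn R).subgroupOf (F.autGroup R))) := h1
      have hIH : (Inn R).subgroupOf (F.autGroup R) ≤ (E.autGroup R).subgroupOf (F.autGroup R) :=
        fun a ha => hIE ha
      rw [Subgroup.comap_map_eq, QuotientGroup.ker_mk', sup_eq_left.2 hIH] at h2
      exact h2
    · -- the 1-generated core lies in the image of H
      unfold kGeneratedCore
      apply iSup_le
      rintro ⟨U, hUT, hUrank⟩
      intro abar habar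
      obtain ⟨a, rfl⟩ := QuotientGroup.mk'_surjective _ abar
      refine ⟨a, ?_, rfl⟩
      show (a : MulAut R) ∈ E.autGroup R
      have hUne : U ≠ ⊥ := by
        rintro rfl
        apply hUrank
        intro B _ _
        have : Nat.card B = 1 := by
          have h1 : Subsingleton (⊥ : Subgroup (F.autGroup R ⧸ (Inn R).subgroupOf (F.autGroup R))) :=
            inferInstance
          have : Subsingleton B := inferInstance
          exact Nat.card_unique
        rw [this]
        exact Nat.one_le_pow _ _ (Fact.out : p.Prime).pos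
      obtain ⟨⟨ubar, hubar⟩, hu⟩ := Subgroup.ne_bot_iff_exists_ne_one.1 hUne
      have hubar1 : ubar ≠ 1 := fun h => hu (Subtype.ext h)
      have hubarP : ubar ∈ (P' : Subgroup (F.autGroup R ⧸ (Inn R).subgroupOf (F.autGroup R))) :=
        hUT hubar
      rw [hP'coe] at hubarP
      obtain ⟨t, htT, rfl⟩ := hubarP
      rw [SetLike.mem_coe, hT, Subgroup.mem_subgroupOf, autInducedBy_eq_map] at htT
      obtain ⟨n, hn, hnt⟩ := htT
      rw [SetLike.mem_coe, Subgroup.mem_subgroupOf] at hn
      have hgR : (n : Ω) ∉ R := by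
        intro hgR
        apply hubar1
        rw [QuotientGroup.mk'_apply, QuotientGroup.eq_one_iff]
        show (t : MulAut R) ∈ Inn R
        rw [← hnt]
        refine ⟨⟨n.1, hgR⟩, ?_⟩
        ext x
        rfl
      apply hK a.1 a.2 ⟨n.1, ?_, hgR⟩
      -- conjugate of t by a lies in T
      have h1 : QuotientGroup.mk' ((Inn R).subgroupOf (F.autGroup R)) (a * t * a⁻¹) ∈ U := by
        have := (Subgroup.mem_normalizer_iff.1 habar
          (QuotientGroup.mk' ((Inn R).subgroupOf (F.autGroup R)) t)).1 hubar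
        simpa using this
      have h2 := hmemT (a * t * a⁻¹) (hP'coe ▸ hUT h1)
      rw [autInducedBy_eq_map] at h2
      obtain ⟨m, hm, hma⟩ := h2
      rw [SetLike.mem_coe, Subgroup.mem_subgroupOf] at hm
      apply Subgroup.subset_closure
      refine ⟨hn, n.2, m.1, hm, ?_⟩
      intro x hx
      have h3 : ((R.normalizerMonoidHom m ((a : MulAut R) x) : R) : Ω) =
          ((((a * t * a⁻¹ : F.autGroup R) : MulAut R) ((a : MulAut R) x) : R) : Ω) := by
        rw [hma]
      rw [normalizerMonoidHom_apply_coe] at h3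
      show (((a : MulAut R) ⟨(n : Ω) * x * (n : Ω)⁻¹, hx⟩ : R) : Ω) =
        (m : Ω) * (((a : MulAut R) x : R) : Ω) * (m : Ω)⁻¹
      rw [h3]
      have h4 : ((a * t * a⁻¹ : F.autGroup R) : MulAut R) ((a : MulAut R) x) =
          (a : MulAut R) ((t : MulAut R) x) := by
        simp [Subgroup.coe_mul, MulAut.mul_apply]
      rw [h4, ← hnt]
      rfl


/-- **Alperin–Goldschmidt fusion theorem** for saturated fusion systems. -/
theorem alperin_aux_filtered [Finite S] (p : ℕ) [Fact p.Prime] (hS : IsPGroup p S) (F : FusionSystem S)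
    (hF : F.IsSaturated p) (E : FusionSystem S)
    (m : ℕ)
    (hE : ∀ P : Subgroup Ω, m < Nat.card P → (P = S ∨ F.IsEssential p P) →
      F.autGroup P ≤ E.autGroup P) (k : ℕ) :
    ∀ P : Subgroup Ω, P ≤ S → m < Nat.card P → Nat.card S - Nat.card P = k →
      F.Hom P ⊆ E.Hom P := by
  induction k using Nat.strong_induction_on with
  | _ k ih =>
    intro P hPS hmP hk φ hφ
    obtain ⟨R, hPR, hRfa, hRrec⟩ := hF P hPS
    have hRS : R ≤ S := hRrec.1
    haveI : Finite R := finite_of_le hRS
    haveI : Finite P := finite_of_le hPS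
    have hcardPR : Nat.card P = Nat.card R := card_eq_of_isConj F hPR
    have IH : ∀ P' : Subgroup Ω, P' ≤ S → Nat.card R < Nat.card P' → F.Hom P' ⊆ E.Hom P' := by
      intro P' hP'S hlt
      have hle : Nat.card P' ≤ Nat.card S := Subgroup.card_le_of_le hP'S
      exact ih (Nat.card S - Nat.card P') (by omega) P' hP'S (by omega) rfl
    have hAut : F.autGroup R ≤ E.autGroup R := by
      by_cases hRne : R = S
      · exact hE R (hcardPR ▸ hmP) (Or.inl hRne)
      · exact autGroup_le_of_IH' hS F E (fun hess => hE R (hcardPR ▸ hmP) (Or.inr hess)) hRne hRfa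
          hRrec IH
    have hconj : ∀ Q : Subgroup Ω, F.IsConj Q R →
        ∃ θ : Q →* Ω, θ ∈ F.Hom Q ∧ θ ∈ E.Hom Q ∧ θ.range = R := by
      intro Q hQR
      have hQS := isConj_le_left F hQR
      by_cases hQ : Q = S
      · have hRQ : R = Q := by
          rw [hQ]
          apply Subgroup.eq_of_le_of_card_ge hRS
          rw [← hQ, card_eq_of_isConj F hQR]
        exact ⟨Q.subtype, subtype_mem F hQS, subtype_mem E hQS, by rw [Subgroup.range_subtype, hRQ]⟩
      · obtain ⟨θ, hθ, hθN, hθQ, hmap⟩ := exists_hom_normalizer p hS F R Q hRfa hRrec hQR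
        have hNS : FusionSystem.normalizerIn S Q ≤ S := inf_le_left
        have hQN : Q ≤ FusionSystem.normalizerIn S Q := le_normalizerIn hQS
        haveI : Finite (FusionSystem.normalizerIn S Q) := finite_of_le hNS
        have hlt : Nat.card Q < Nat.card (FusionSystem.normalizerIn S Q) := by
          rcases (Subgroup.card_le_of_le hQN).lt_or_eq with h | h
          · exact h
          · exfalso
            exact normalizerIn_ne_self hS hQS hQ (Subgroup.eq_of_le_of_card_ge hQN h.ge).symm
        have hθE := IH _ hNS (by rw [← card_eq_of_isConj F hQR]; exact hlt) hθ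
        refine ⟨θ.comp (Subgroup.inclusion hQN), restrict_mem F hQN hθ, restrict_mem E hQN hθE, ?_⟩
        ext y
        constructor
        · rintro ⟨x, rfl⟩
          exact theta_mem hmap x x.2 _
        · intro hy
          obtain ⟨x, hx, hx', rfl⟩ := theta_surj hmap hy
          exact ⟨⟨x, hx⟩, rfl⟩
    obtain ⟨θ, hθF, hθE, hθr⟩ := hconj P hPR
    have hP₁R : F.IsConj φ.range R := isConj_trans F (isConj_symm F ⟨φ, hφ, rfl⟩) hPR
    obtain ⟨θ₁, hθ₁F, hθ₁E, hθ₁r⟩ := hconj φ.range hP₁R
    obtain ⟨θi, hθiF, hθi⟩ := exists_inv_iso F hθF hθr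
    obtain ⟨θ₁i, hθ₁iE, hθ₁i⟩ := exists_inv_iso E hθ₁E hθ₁r
    have hθR : ∀ x : P, θ x ∈ R := fun x => hθr ▸ ⟨x, rfl⟩
    have hθ₁R : ∀ z : φ.range, θ₁ z ∈ R := fun z => hθ₁r ▸ ⟨z, rfl⟩
    -- θi maps R into P
    have hθiP : ∀ y : R, θi y ∈ P := by
      intro y
      have hy : (y : Ω) ∈ θ.range := hθr ▸ y.2
      obtain ⟨x, hx⟩ := hy
      have : y = ⟨θ x, hθR x⟩ := Subtype.ext hx.symm
      rw [this, hθi]
      exact x.2
    have hθi' : ∀ x : P, (⟨θi ⟨θ x, hθR x⟩, hθiP _⟩ : P) = x := fun x => Subtype.ext (hθi x _)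
    -- χ = θ₁ ∘ φ ∘ θi : R → R
    have s1 : φ.comp (θi.codRestrict P hθiP) ∈ F.Hom R := F.comp_mem hθiF hφ hθiP
    have hs1 : ∀ y : R, (φ.comp (θi.codRestrict P hθiP)) y ∈ φ.range := fun y => ⟨_, rfl⟩
    have s2 := F.comp_mem s1 hθ₁F hs1
    have hs2R : ∀ y : R, (θ₁.comp ((φ.comp (θi.codRestrict P hθiP)).codRestrict φ.range hs1)) y ∈ R :=
      fun y => hθ₁R _
    obtain ⟨α, hα, hαv⟩ := exists_aut_of_hom F s2 hs2R
    have hαE : R.subtype.comp α.toMonoidHom ∈ E.Hom R := (mem_autGroup_iff E hRS).1 (hAut hα)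
    -- φ = θ₁i ∘ α ∘ θ
    have t1 : (R.subtype.comp α.toMonoidHom).comp (θ.codRestrict R hθR) ∈ E.Hom P :=
      E.comp_mem hθE hαE hθR
    have ht1 : ∀ x : P, ((R.subtype.comp α.toMonoidHom).comp (θ.codRestrict R hθR)) x ∈ R :=
      fun x => (α ⟨θ x, hθR x⟩).2
    apply comp_mem' E t1 hθ₁iE ht1
    intro x
    -- φ x = θ₁i ⟨α ⟨θ x⟩⟩
    have e1 : ((α ⟨θ x, hθR x⟩ : R) : Ω) = θ₁ ⟨φ x, ⟨x, rfl⟩⟩ := by
      rw [hαv]
      show θ₁ ⟨φ ⟨θi ⟨θ x, hθR x⟩, hθiP _⟩, _⟩ = θ₁ ⟨φ x, _⟩
      congr 2
      rw [hθi' x]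
    have e2 := hθ₁i ⟨φ x, ⟨x, rfl⟩⟩ (hθ₁R _)
    refine e2.symm.trans ?_
    congr 1
    exact Subtype.ext e1.symm

end Cfsg.Agent.Lib.Helper29
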