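import Cfsg.Agent.Lib.Helper29.FusionRealized
import Cfsg.Agent.Lib.Helper29.FusionEssential
import Mathlib.GroupTheory.SemidirectProduct

/-!
The fusion system over `Q` of restrictions of a group of automorphisms of `Q` containing `Inn(Q)`,
and its saturation when it is `Inn(Q)` extended by a `p'`-group.
-/
set_option autoImplicit false

namespace Cfsg.Agent.Lib.Helper29
open Cfsg

variable {Ω : Type*} [Group Ω]

/-- restrictions of the elements of `K ≤ Aut(Q)`, `Inn(Q) ≤ K`, as a fusion system over `Q` -/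
def autSystem (Q : Subgroup Ω) (K : Subgroup (MulAut Q)) (hK : Inn Q ≤ K) : FusionSystem Q where
  Hom P := {φ | ∃ hP : P ≤ Q, ∃ κ ∈ K, ∀ x : P, φ x = ((κ ⟨x, hP x.2⟩ : Q) : Ω)}
  le_of_mem := by
    rintro P φ ⟨hP, κ, _, h⟩
    exact ⟨hP, fun x => by rw [h x]; exact (κ _).2⟩
  injective_of_mem := by
    rintro P φ ⟨hP, κ, _, h⟩ a b hab
    rw [h a, h b] at hab
    have h1 := κ.injective (Subtype.ext hab)
    have h2 : (a : Ω) = b := congrArg (fun z : Q => (z : Ω)) h1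
    exact Subtype.ext h2
  conj_mem := by
    intro P g hP hg
    exact ⟨hP, MulAut.conj (⟨g, hg⟩ : Q), hK ⟨_, rfl⟩, fun x => rfl⟩
  comp_mem := by
    rintro P P' φ ψ ⟨hP, κ₁, hκ₁, h₁⟩ ⟨hP', κ₂, hκ₂, h₂⟩ h
    refine ⟨hP, κ₂ * κ₁, K.mul_mem hκ₂ hκ₁, fun x => ?_⟩
    show ψ ⟨φ x, h x⟩ = _
    rw [h₂]
    show _ = ((κ₂ (κ₁ ⟨x, hP x.2⟩) : Q) : Ω)
    congr 2
    exact Subtype.ext (h₁ x)
  inv_mem := by
    rintro P φ ⟨hP, κ, hκ, h⟩
    have hr : φ.range ≤ Q := by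
      rintro _ ⟨x, rfl⟩
      rw [h x]
      exact (κ _).2
    refine ⟨(Q.subtype.comp (κ⁻¹).toMonoidHom).comp (Subgroup.inclusion hr),
      ⟨hr, κ⁻¹, K.inv_mem hκ, fun y => rfl⟩, fun x => ?_⟩
    show ((κ⁻¹ ⟨φ x, _⟩ : Q) : Ω) = x
    have e : (⟨φ x, hr ⟨x, rfl⟩⟩ : Q) = κ ⟨x, hP x.2⟩ := Subtype.ext (h x)
    rw [e, MulAut.inv_apply_self]

theorem mem_autSystem {Q : Subgroup Ω} {K : Subgroup (MulAut Q)} {hK : Inn Q ≤ K} {P : Subgroup Ω}
    {φ : P →* Ω} : φ ∈ (autSystem Q K hK).Hom P ↔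
      ∃ hP : P ≤ Q, ∃ κ ∈ K, ∀ x : P, φ x = ((κ ⟨x, hP x.2⟩ : Q) : Ω) := Iff.rfl

/-- `Inn(Q)` is normal in `Aut(Q)` -/
theorem inn_normal (G : Type*) [Group G] : (Inn G).Normal := by
  constructor
  rintro _ ⟨g, rfl⟩ α
  refine ⟨α g, ?_⟩
  ext x
  simp [MulAut.conj_apply]

/-- elements of `Inn(Q) ⊔ K₀` are products -/
theorem mem_inn_sup {G : Type*} [Group G] {K₀ : Subgroup (MulAut G)} {κ : MulAut G}
    (h : κ ∈ Inn G ⊔ K₀) : ∃ s : G, ∃ k ∈ K₀, κ = MulAut.conj s * k := by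
  haveI := inn_normal G
  rw [← SetLike.mem_coe, Subgroup.normal_mul] at h
  obtain ⟨_, ⟨s, rfl⟩, k, hk, rfl⟩ := h
  exact ⟨s, k, hk, rfl⟩

section realized

variable {Q : Subgroup Ω} (K₀ : Subgroup (MulAut Q))

theorem semidirect_conj (s : Q) (k : K₀) (n : Q) :
    (⟨s, k⟩ : Q ⋊[K₀.subtype] K₀) * SemidirectProduct.inl n * (⟨s, k⟩ : Q ⋊[K₀.subtype] K₀)⁻¹ =
      SemidirectProduct.inl (s * (k : MulAut Q) n * s⁻¹) := by
  ext <;> simp

theorem autSystem_realized :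
    (autSystem Q (Inn Q ⊔ K₀) le_sup_left).IsRealizedBy
      (SemidirectProduct.inl : Q →* Q ⋊[K₀.subtype] K₀) := by
  refine ⟨SemidirectProduct.inl_injective, fun P hP φ hφ => ?_⟩
  rw [mem_autSystem]
  constructor
  · rintro ⟨_, κ, hκ, h⟩
    obtain ⟨s, k, hk, rfl⟩ := mem_inn_sup hκ
    refine ⟨⟨s, ⟨k, hk⟩⟩, fun x => ?_⟩
    rw [semidirect_conj]
    congr 1
    apply Subtype.ext
    show φ x = _
    rw [h x]
    rfl
  · rintro ⟨⟨s, k⟩, h⟩
    refine ⟨hP, MulAut.conj s * (k : MulAut Q), Subgroup.mul_mem _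
      (Subgroup.mem_sup_left ⟨s, rfl⟩) (Subgroup.mem_sup_right k.2), fun x => ?_⟩
    have h1 := h x
    rw [semidirect_conj] at h1
    have h2 := SemidirectProduct.inl_injective h1
    have h3 := congrArg Subtype.val h2
    exact h3

theorem autSystem_saturated [Finite Q] {p : ℕ} [Fact p.Prime] (hQ : IsPGroup p Q)
    (hK₀ : (Nat.card K₀).Coprime p) :
    (autSystem Q (Inn Q ⊔ K₀) le_sup_left).IsSaturated p := by
  have hfinK : Finite K₀ := by
    apply Nat.finite_of_card_ne_zero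
    intro h0
    rw [h0] at hK₀
    have : p = 1 := by simpa using hK₀
    exact (Fact.out : p.Prime).one_lt.ne' this
  haveI : Finite (Q ⋊[K₀.subtype] K₀) := Finite.of_equiv _ SemidirectProduct.equivProd.symm
  have hP1 : IsPGroup p (SemidirectProduct.inl : Q →* Q ⋊[K₀.subtype] K₀).range :=
    hQ.of_surjective (SemidirectProduct.inl : Q →* Q ⋊[K₀.subtype] K₀).rangeRestrict
      (MonoidHom.rangeRestrict_surjective _)
  have hidx : (SemidirectProduct.inl : Q →* Q ⋊[K₀.subtype] K₀).range.index = Nat.card K₀ := by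
    rw [SemidirectProduct.range_inl_eq_ker_rightHom, Subgroup.index_ker,
      MonoidHom.range_eq_top.2 SemidirectProduct.rightHom_surjective]
    exact Nat.card_congr Subgroup.topEquiv.toEquiv
  have hP2 : ¬ p ∣ (SemidirectProduct.inl : Q →* Q ⋊[K₀.subtype] K₀).range.index := by
    rw [hidx]
    intro hd
    have := Nat.Coprime.eq_one_of_dvd hK₀.symm hd
    exact (Fact.out : p.Prime).one_lt.ne' this
  exact saturated_of_realized (autSystem_realized K₀) p (hP1.toSylow hP2) rfl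

end realized

section sub

variable {S : Subgroup Ω}

theorem autSystem_subsystem {F : FusionSystem S} {Q : Subgroup Ω} (hQ : Q ≤ S) {K : Subgroup (MulAut Q)}
    {hK : Inn Q ≤ K} (hKF : K ≤ F.autGroup Q) : (autSystem Q K hK).IsSubsystemOf F := by
  rintro P φ ⟨hP, κ, hκ, h⟩
  have h1 : Q.subtype.comp κ.toMonoidHom ∈ F.Hom Q := (mem_autGroup_iff F hQ).1 (hKF hκ)
  have h2 := restrict_mem F hP h1
  have e : φ = (Q.subtype.comp κ.toMonoidHom).comp (Subgroup.inclusion hP) := by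
    ext x
    exact h x
  rw [e]
  exact h2

theorem autSystem_inner {Q : Subgroup Ω} {K : Subgroup (MulAut Q)} {hK : Inn Q ≤ K}
    (h : (autSystem Q K hK).Hom Q = (innerFusionSystem Q).Hom Q) : K ≤ Inn Q := by
  intro α hα
  have h1 : Q.subtype.comp α.toMonoidHom ∈ (autSystem Q K hK).Hom Q := ⟨le_rfl, α, hα, fun x => rfl⟩
  rw [h] at h1
  obtain ⟨_, g, hg, hge⟩ := h1
  refine ⟨⟨g, hg⟩, ?_⟩
  ext x
  exact (hge x).symm

theorem not_mem_inn_of_orderOf {G : Type*} [Group G] {p q : ℕ} [Fact p.Prime] (hG : IsPGroup p G)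
    (hq : q.Prime) (hqp : q ≠ p) {α : MulAut G} (hα : orderOf α = q) : α ∉ Inn G := by
  rintro ⟨g, rfl⟩
  have h1 : orderOf (MulAut.conj g) ∣ orderOf g := orderOf_map_dvd _ g
  obtain ⟨k, hk⟩ := IsPGroup.iff_orderOf.1 hG g
  rw [hα, hk] at h1
  have h2 := hq.dvd_of_dvd_pow h1
  exact hqp ((Nat.prime_dvd_prime_iff_eq hq Fact.out).1 h2)

end sub

section misc

theorem exists_prime_order_of_not_isPGroup {A : Type*} [Group A] [Finite A] {p : ℕ} [Fact p.Prime]
    (h : ¬ IsPGroup p A) : ∃ (q : ℕ) (a : A), q.Prime ∧ q ≠ p ∧ orderOf a = q := by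
  by_contra hcon
  push_neg at hcon
  apply h
  rw [IsPGroup.iff_card]
  refine ⟨_, Nat.eq_prime_pow_of_unique_prime_dvd Nat.card_pos.ne' (fun {d} hd hdvd => ?_)⟩
  by_contra hdp
  haveI := Fact.mk hd
  letI := Fintype.ofFinite A
  obtain ⟨a, ha⟩ := exists_prime_orderOf_dvd_card (G := A) d (by
    rw [← Nat.card_eq_fintype_card]
    exact hdvd)
  exact hcon d a hd hdp ha

/-- a `p'`-automorphism of prime order `q` of a `p`-group acts nontrivially on `[S, α]` -/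
theorem aut_eq_one_of_fix_commutators {G : Type*} [Group G] {p q : ℕ} [Fact p.Prime] (hG : IsPGroup p G)
    (hq : q.Prime) (hqp : q ≠ p) {α : MulAut G} (hα : α ^ q = 1)
    (hfix : ∀ x : G, α (x⁻¹ * α x) = x⁻¹ * α x) : α = 1 := by
  ext x
  show α x = x
  have h1 : ∀ n : ℕ, (α ^ n) x = x * (x⁻¹ * α x) ^ n := by
    intro n
    induction n with
    | zero => simp
    | succ n ih =>
      rw [pow_succ', MulAut.mul_apply, ih, map_mul, map_pow, hfix, pow_succ', ← mul_assoc x,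
        mul_inv_cancel_left]
  have h2 := h1 q
  rw [hα] at h2
  have h3 : (x⁻¹ * α x) ^ q = 1 := by
    have : x = x * (x⁻¹ * α x) ^ q := h2
    exact (mul_left_cancel (a := x) (by rw [mul_one]; exact this)).symm
  obtain ⟨k, hk⟩ := IsPGroup.iff_orderOf.1 hG (x⁻¹ * α x)
  have h4 : orderOf (x⁻¹ * α x) ∣ q := orderOf_dvd_of_pow_eq_one h3
  have h5 : orderOf (x⁻¹ * α x) = 1 := by
    rcases (Nat.dvd_prime hq).1 h4 with h | h
    · exact h
    · exfalso
      rw [hk] at h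
      rcases k with _ | k
      · rw [pow_zero] at h
        exact hq.one_lt.ne h
      · have : p ∣ q := by rw [← h]; exact dvd_pow_self p (Nat.succ_ne_zero k)
        exact hqp ((Nat.prime_dvd_prime_iff_eq Fact.out hq).1 this).symm
  rw [orderOf_eq_one_iff] at h5
  calc α x = x * (x⁻¹ * α x) := by group
    _ = x := by rw [h5, mul_one]

end misc

end Cfsg.Agent.Lib.Helper29
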