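import Cfsg.Prelude.Def_LieExceptional
import Mathlib.GroupTheory.DoubleCoset

set_option autoImplicit false
set_option linter.unusedSectionVars false
set_option linter.unusedVariables false
open Cfsg

namespace Cfsg.Agent.Lib.Helper29.BN

variable {G : Type*} [Group G] (P : Cfsg.BNPair G)

/-- `T = B ⊓ N` -/
def T : Subgroup G := P.B ⊓ P.N

theorem T_le_B : T P ≤ P.B := inf_le_left
theorem T_le_N : T P ≤ P.N := inf_le_right

theorem T_conj {n t : G} (hn : n ∈ P.N) (ht : t ∈ T P) : n * t * n⁻¹ ∈ T P :=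
  ⟨P.conj_mem n hn t ht, P.N.mul_mem (P.N.mul_mem hn ht.2) (P.N.inv_mem hn)⟩

theorem T_conj' {n t : G} (hn : n ∈ P.N) (ht : t ∈ T P) : n⁻¹ * t * n ∈ T P := by
  have := T_conj P (P.N.inv_mem hn) ht
  rwa [inv_inv] at this

/-- `n` and `n'` have the same image in `W = N / T`. -/
def Rel (n n' : G) : Prop := n⁻¹ * n' ∈ T P

theorem Rel.refl (n : G) : Rel P n n := by
  unfold Rel; rw [inv_mul_cancel]; exact (T P).one_mem

theorem Rel.symm {n n' : G} (h : Rel P n n') : Rel P n' n := by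
  unfold Rel at *
  have := (T P).inv_mem h
  rwa [mul_inv_rev, inv_inv] at this

theorem Rel.trans {a b c : G} (h : Rel P a b) (h' : Rel P b c) : Rel P a c := by
  unfold Rel at *
  have := (T P).mul_mem h h'
  rwa [mul_assoc, mul_inv_cancel_left] at this

theorem Rel.mul_left {n n' : G} (m : G) (h : Rel P n n') : Rel P (m * n) (m * n') := by
  unfold Rel at *
  rwa [mul_inv_rev, mul_assoc, inv_mul_cancel_left]

theorem Rel.mul_right {n n' m : G} (hm : m ∈ P.N) (h : Rel P n n') : Rel P (n * m) (n' * m) := by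
  unfold Rel at *
  have := T_conj' P hm h
  have e : (n * m)⁻¹ * (n' * m) = m⁻¹ * (n⁻¹ * n') * m := by group
  rwa [e]

theorem Rel.mem_N {n n' : G} (h : Rel P n n') (hn : n ∈ P.N) : n' ∈ P.N := by
  have := P.N.mul_mem hn (T_le_N P h)
  rwa [mul_inv_cancel_left] at this

theorem rel_of_mem_B {n n' : G} (hn : n ∈ P.N) (hn' : n' ∈ P.N) (h : n⁻¹ * n' ∈ P.B) : Rel P n n' :=
  ⟨h, P.N.mul_mem (P.N.inv_mem hn) hn'⟩

theorem Rel.mem_B {n n' : G} (h : Rel P n n') : n⁻¹ * n' ∈ P.B := h.1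

theorem rel_mul_T {n t : G} (ht : t ∈ T P) : Rel P n (n * t) := by
  unfold Rel; rwa [inv_mul_cancel_left]

theorem Rel.exists_eq {n n' : G} (h : Rel P n n') : ∃ t ∈ T P, n' = n * t :=
  ⟨n⁻¹ * n', h, by group⟩

theorem sq_mem_T {s : G} (hs : s ∈ P.S) : s * s ∈ T P :=
  ⟨P.sq_mem s hs, P.N.mul_mem (P.subset hs) (P.subset hs)⟩

/-- `s s n ~ n` -/
theorem rel_sq_mul {s n : G} (hs : s ∈ P.S) (hn : n ∈ P.N) : Rel P (s * (s * n)) n := by
  unfold Rel
  have := T_conj' P hn ((T P).inv_mem (sq_mem_T P hs))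
  have e : (s * (s * n))⁻¹ * n = n⁻¹ * (s * s)⁻¹ * n := by group
  rwa [e]

/-- `s⁻¹ n ~ s n` -/
theorem rel_inv_mul {s n : G} (hs : s ∈ P.S) (hn : n ∈ P.N) : Rel P (s⁻¹ * n) (s * n) := by
  unfold Rel
  have := T_conj' P hn (sq_mem_T P hs)
  have e : (s⁻¹ * n)⁻¹ * (s * n) = n⁻¹ * (s * s) * n := by group
  rwa [e]

/-- `n s s ~ n` -/
theorem rel_mul_sq {s n : G} (hs : s ∈ P.S) : Rel P (n * s * s) n := by
  unfold Rel
  have e : (n * s * s)⁻¹ * n = (s * s)⁻¹ := by group
  rw [e]; exact (T P).inv_mem (sq_mem_T P hs)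

/-- `n s⁻¹ ~ n s` -/
theorem rel_mul_inv {s n : G} (hs : s ∈ P.S) : Rel P (n * s⁻¹) (n * s) := by
  unfold Rel
  have e : (n * s⁻¹)⁻¹ * (n * s) = s * s := by group
  rw [e]; exact sq_mem_T P hs

/-! ### Words -/

/-- a word in the alphabet `Y` -/
def IsWord (Y : Set G) (l : List G) : Prop := ∀ x ∈ l, x ∈ Y

theorem isWord_nil (Y : Set G) : IsWord Y ([] : List G) := by
  intro x hx; simp at hx

theorem IsWord.cons {Y : Set G} {y : G} {l : List G} (hy : y ∈ Y) (hl : IsWord Y l) : IsWord Y (y :: l) := by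
  intro x hx
  rcases List.mem_cons.1 hx with rfl | h
  · exact hy
  · exact hl x h

theorem IsWord.append {Y : Set G} {l l' : List G} (hl : IsWord Y l) (hl' : IsWord Y l') :
    IsWord Y (l ++ l') := by
  intro x hx
  rcases List.mem_append.1 hx with h | h
  · exact hl x h
  · exact hl' x h

theorem IsWord.of_cons {Y : Set G} {y : G} {l : List G} (h : IsWord Y (y :: l)) : y ∈ Y ∧ IsWord Y l :=
  ⟨h y (List.mem_cons_self), fun x hx => h x (List.mem_cons_of_mem _ hx)⟩

theorem IsWord.of_append {Y : Set G} {l l' : List G} (h : IsWord Y (l ++ l')) : IsWord Y l ∧ IsWord Y l' :=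
  ⟨fun x hx => h x (List.mem_append_left _ hx), fun x hx => h x (List.mem_append_right _ hx)⟩

theorem IsWord.mono {Y Y' : Set G} (h : Y ⊆ Y') {l : List G} (hl : IsWord Y l) : IsWord Y' l :=
  fun x hx => h (hl x hx)

theorem IsWord.prod_mem_N {Y : Set G} (hY : Y ⊆ P.S) {l : List G} (hl : IsWord Y l) : l.prod ∈ P.N := by
  apply Subgroup.list_prod_mem
  intro x hx
  exact P.subset (hY (hl x hx))

theorem IsWord.prod_mem_closure {Y : Set G} {l : List G} (hl : IsWord Y l) : l.prod ∈ Subgroup.closure Y := by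
  apply Subgroup.list_prod_mem
  intro x hx
  exact Subgroup.subset_closure (hl x hx)

/-- `n` is represented (modulo `T`) by a word in `Y`. -/
def Rep (Y : Set G) (n : G) : Prop := ∃ l : List G, IsWord Y l ∧ Rel P n l.prod

theorem Rep.mem_N {Y : Set G} (hY : Y ⊆ P.S) {n : G} (h : Rep P Y n) : n ∈ P.N := by
  obtain ⟨l, hl, hr⟩ := h
  exact hr.symm.mem_N P (hl.prod_mem_N P hY)

theorem Rep.congr {Y : Set G} {n n' : G} (h : Rel P n n') (hn : Rep P Y n) : Rep P Y n' := by
  obtain ⟨l, hl, hr⟩ := hn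
  exact ⟨l, hl, h.symm.trans P hr⟩

theorem Rep.mono {Y Y' : Set G} (h : Y ⊆ Y') {n : G} (hn : Rep P Y n) : Rep P Y' n := by
  obtain ⟨l, hl, hr⟩ := hn
  exact ⟨l, hl.mono h, hr⟩

theorem rep_word {Y : Set G} {l : List G} (hl : IsWord Y l) : Rep P Y l.prod := ⟨l, hl, Rel.refl P _⟩

theorem rep_one (Y : Set G) : Rep P Y 1 := ⟨[], isWord_nil Y, by simpa using Rel.refl P 1⟩

theorem Rep.mul_left {Y : Set G} {y n : G} (hy : y ∈ Y) (hn : Rep P Y n) : Rep P Y (y * n) := by
  obtain ⟨l, hl, hr⟩ := hn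
  exact ⟨y :: l, hl.cons hy, by rw [List.prod_cons]; exact hr.mul_left P y⟩

theorem Rep.mul_right {Y : Set G} (hY : Y ⊆ P.S) {y n : G} (hy : y ∈ Y) (hn : Rep P Y n) :
    Rep P Y (n * y) := by
  obtain ⟨l, hl, hr⟩ := hn
  refine ⟨l ++ [y], hl.append ((isWord_nil Y).cons hy), ?_⟩
  rw [List.prod_append, List.prod_singleton]
  exact hr.mul_right P (P.subset (hY hy))

/-- The length of `n` with respect to the alphabet `Y`. -/
noncomputable def len (Y : Set G) (n : G) : ℕ :=
  sInf {k | ∃ l : List G, IsWord Y l ∧ l.length = k ∧ Rel P n l.prod}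

theorem len_le {Y : Set G} {n : G} {l : List G} (hl : IsWord Y l) (hr : Rel P n l.prod) :
    len P Y n ≤ l.length :=
  Nat.sInf_le ⟨l, hl, rfl, hr⟩

theorem exists_reduced {Y : Set G} {n : G} (h : Rep P Y n) :
    ∃ l : List G, IsWord Y l ∧ l.length = len P Y n ∧ Rel P n l.prod := by
  have hne : {k | ∃ l : List G, IsWord Y l ∧ l.length = k ∧ Rel P n l.prod}.Nonempty := by
    obtain ⟨l, hl, hr⟩ := h
    exact ⟨l.length, l, hl, rfl, hr⟩
  exact Nat.sInf_mem hne

theorem len_congr {Y : Set G} {n n' : G} (h : Rel P n n') : len P Y n = len P Y n' := by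
  unfold len
  congr 1
  ext k
  constructor
  · rintro ⟨l, hl, hk, hr⟩
    exact ⟨l, hl, hk, h.symm.trans P hr⟩
  · rintro ⟨l, hl, hk, hr⟩
    exact ⟨l, hl, hk, h.trans P hr⟩

theorem len_mul_left_le {Y : Set G} {y n : G} (hy : y ∈ Y) (hn : Rep P Y n) :
    len P Y (y * n) ≤ len P Y n + 1 := by
  obtain ⟨l, hl, hlen, hr⟩ := exists_reduced P hn
  have := len_le P (hl.cons hy) (show Rel P (y * n) (y :: l).prod by
    rw [List.prod_cons]; exact hr.mul_left P y)
  rw [List.length_cons, hlen] at this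
  exact this

theorem len_le_mul_left {Y : Set G} (hY : Y ⊆ P.S) {y n : G} (hy : y ∈ Y) (hn : Rep P Y n) :
    len P Y n ≤ len P Y (y * n) + 1 := by
  have h1 := len_mul_left_le P hy (hn.mul_left P hy)
  have h2 : len P Y (y * (y * n)) = len P Y n :=
    len_congr P (rel_sq_mul P (hY hy) (hn.mem_N P hY))
  rwa [h2] at h1

theorem len_mul_right_le {Y : Set G} (hY : Y ⊆ P.S) {y n : G} (hy : y ∈ Y) (hn : Rep P Y n) :
    len P Y (n * y) ≤ len P Y n + 1 := by
  obtain ⟨l, hl, hlen, hr⟩ := exists_reduced P hn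
  have := len_le P (hl.append ((isWord_nil Y).cons hy)) (show Rel P (n * y) (l ++ [y]).prod by
    rw [List.prod_append, List.prod_singleton]; exact hr.mul_right P (P.subset (hY hy)))
  rw [List.length_append, List.length_singleton, hlen] at this
  exact this

theorem len_le_mul_right {Y : Set G} (hY : Y ⊆ P.S) {y n : G} (hy : y ∈ Y) (hn : Rep P Y n) :
    len P Y n ≤ len P Y (n * y) + 1 := by
  have h1 := len_mul_right_le P hY hy (hn.mul_right P hY hy)
  have h2 : len P Y (n * y * y) = len P Y n := len_congr P (rel_mul_sq P (hY hy))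
  rwa [h2] at h1

theorem len_eq_zero {Y : Set G} {n : G} (hn : Rep P Y n) : len P Y n = 0 ↔ n ∈ T P := by
  constructor
  · intro h
    obtain ⟨l, hl, hlen, hr⟩ := exists_reduced P hn
    rw [h, List.length_eq_zero_iff] at hlen
    subst hlen
    have := hr.symm
    unfold Rel at this
    simpa using this
  · intro h
    have : Rel P n ([] : List G).prod := by
      unfold Rel
      simpa using (T P).inv_mem h
    have := len_le P (isWord_nil Y) this
    simpa using this

theorem len_one (Y : Set G) : len P Y 1 = 0 := (len_eq_zero P (rep_one P Y)).2 (T P).one_mem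

/-- split off the first letter of a reduced word -/
theorem exists_first {Y : Set G} (hY : Y ⊆ P.S) {n : G} {q : ℕ} (hn : Rep P Y n) (hq : len P Y n = q + 1) :
    ∃ y ∈ Y, ∃ n' : G, Rep P Y n' ∧ Rel P n (y * n') ∧ len P Y n' = q := by
  obtain ⟨l, hl, hlen, hr⟩ := exists_reduced P hn
  rw [hq] at hlen
  match l, hl, hlen, hr with
  | [], _, hlen, _ => simp at hlen
  | y :: l', hl, hlen, hr =>
    obtain ⟨hy, hl'⟩ := hl.of_cons
    refine ⟨y, hy, l'.prod, rep_word P hl', by rwa [List.prod_cons] at hr, ?_⟩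
    have h1 : len P Y l'.prod ≤ q := by
      have := len_le P hl' (Rel.refl P l'.prod)
      simp only [List.length_cons, Nat.add_right_cancel_iff] at hlen
      omega
    have h2 : len P Y n ≤ len P Y l'.prod + 1 := by
      rw [List.prod_cons] at hr
      rw [len_congr P hr]
      exact len_mul_left_le P hy (rep_word P hl')
    omega

/-- split off the last letter of a reduced word -/
theorem exists_last {Y : Set G} (hY : Y ⊆ P.S) {n : G} {q : ℕ} (hn : Rep P Y n) (hq : len P Y n = q + 1) :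
    ∃ y ∈ Y, ∃ n' : G, Rep P Y n' ∧ Rel P n (n' * y) ∧ len P Y n' = q := by
  obtain ⟨l, hl, hlen, hr⟩ := exists_reduced P hn
  rw [hq] at hlen
  rcases List.eq_nil_or_concat l with rfl | ⟨l', y, rfl⟩
  · simp at hlen
  · rw [List.concat_eq_append] at hl hlen hr
    obtain ⟨hl', hy'⟩ := hl.of_append
    have hy : y ∈ Y := hy' y (List.mem_singleton.2 rfl)
    rw [List.prod_append, List.prod_singleton] at hr
    refine ⟨y, hy, l'.prod, rep_word P hl', hr, ?_⟩
    have h1 : len P Y l'.prod ≤ q := by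
      have := len_le P hl' (Rel.refl P l'.prod)
      simp only [List.length_append, List.length_singleton, Nat.add_right_cancel_iff] at hlen
      omega
    have h2 : len P Y n ≤ len P Y l'.prod + 1 := by
      rw [len_congr P hr]
      exact len_mul_right_le P hY hy (rep_word P hl')
    omega

end Cfsg.Agent.Lib.Helper29.BN
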