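import Cfsg.Agent.Lib.Helper29.BNBasic

set_option autoImplicit false
set_option linter.unusedSectionVars false
set_option linter.unusedVariables false
open Cfsg

namespace Cfsg.Agent.Lib.Helper29.BN

variable {G : Type*} [Group G] (P : Cfsg.BNPair G)

/-- the double coset `B n B` -/
def C (n : G) : Set G := DoubleCoset.doubleCoset n (P.B : Set G) P.B

theorem mem_C {n g : G} : g ∈ C P n ↔ ∃ b ∈ P.B, ∃ b' ∈ P.B, g = b * n * b' := by
  unfold C
  rw [DoubleCoset.mem_doubleCoset]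
  rfl

theorem self_mem_C (n : G) : n ∈ C P n := (mem_C P).2 ⟨1, P.B.one_mem, 1, P.B.one_mem, by simp⟩

theorem C_eq_of_mem {n g : G} (h : g ∈ C P n) : C P g = C P n :=
  DoubleCoset.doubleCoset_eq_of_mem h

theorem C_congr {n n' : G} (h : Rel P n n') : C P n = C P n' := by
  symm
  apply C_eq_of_mem
  obtain ⟨t, ht, rfl⟩ := h.exists_eq
  exact (mem_C P).2 ⟨1, P.B.one_mem, t, T_le_B P ht, by simp⟩

theorem B_mul_mem_C {n g b : G} (hb : b ∈ P.B) (h : g ∈ C P n) : b * g ∈ C P n := by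
  obtain ⟨b₁, hb₁, b₂, hb₂, rfl⟩ := (mem_C P).1 h
  exact (mem_C P).2 ⟨b * b₁, P.B.mul_mem hb hb₁, b₂, hb₂, by group⟩

theorem mem_C_mul_B {n g b : G} (hb : b ∈ P.B) (h : g ∈ C P n) : g * b ∈ C P n := by
  obtain ⟨b₁, hb₁, b₂, hb₂, rfl⟩ := (mem_C P).1 h
  exact (mem_C P).2 ⟨b₁, hb₁, b₂ * b, P.B.mul_mem hb₂ hb, by group⟩

theorem inv_mem_C {n g : G} (h : g ∈ C P n) : g⁻¹ ∈ C P n⁻¹ := by
  obtain ⟨b₁, hb₁, b₂, hb₂, rfl⟩ := (mem_C P).1 h
  exact (mem_C P).2 ⟨b₂⁻¹, P.B.inv_mem hb₂, b₁⁻¹, P.B.inv_mem hb₁, by group⟩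

theorem mem_C_of_mem_B {n g : G} (hn : n ∈ P.B) : g ∈ C P n ↔ g ∈ P.B := by
  rw [mem_C]
  constructor
  · rintro ⟨b₁, hb₁, b₂, hb₂, rfl⟩
    exact P.B.mul_mem (P.B.mul_mem hb₁ hn) hb₂
  · intro hg
    exact ⟨g * n⁻¹, P.B.mul_mem hg (P.B.inv_mem hn), 1, P.B.one_mem, by group⟩

/-- two double cosets which meet are equal -/
theorem C_eq_of_meet {n n' g : G} (h : g ∈ C P n) (h' : g ∈ C P n') : C P n = C P n' := by
  rw [← C_eq_of_mem P h, C_eq_of_mem P h']

theorem left_ax {s n b : G} (hs : s ∈ P.S) (hn : n ∈ P.N) (hb : b ∈ P.B) :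
    s * b * n ∈ C P (s * n) ∨ s * b * n ∈ C P n := P.mul_mem_union s hs n hn b hb

theorem right_ax {s n b : G} (hs : s ∈ P.S) (hn : n ∈ P.N) (hb : b ∈ P.B) :
    n * b * s ∈ C P (n * s) ∨ n * b * s ∈ C P n := by
  -- (n b s)⁻¹ = s⁻¹ b⁻¹ n⁻¹ = s ((ss)⁻¹ b⁻¹) n⁻¹
  have h := left_ax P hs (P.N.inv_mem hn) (P.B.mul_mem (P.B.inv_mem (P.sq_mem s hs)) (P.B.inv_mem hb))
  have e : s * ((s * s)⁻¹ * b⁻¹) * n⁻¹ = (n * b * s)⁻¹ := by group
  rw [e] at h
  rcases h with h | h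
  · left
    have h1 := inv_mem_C P h
    rw [inv_inv] at h1
    have e2 : (s * n⁻¹)⁻¹ = n * s⁻¹ := by group
    rw [e2, C_congr P (rel_mul_inv P hs)] at h1
    exact h1
  · right
    have h1 := inv_mem_C P h
    rwa [inv_inv, inv_inv] at h1

theorem s_not_mem_B {s : G} (hs : s ∈ P.S) : s ∉ P.B := by
  intro hsB
  apply P.conj_ne s hs
  ext g
  constructor
  · rintro ⟨b, hb, rfl⟩
    exact P.B.mul_mem (P.B.mul_mem hsB hb) hsB
  · intro hg
    exact ⟨s⁻¹ * g * s⁻¹, P.B.mul_mem (P.B.mul_mem (P.B.inv_mem hsB) hg) (P.B.inv_mem hsB), by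
      show s * (s⁻¹ * g * s⁻¹) * s = g
      group⟩

theorem exists_conj_not_mem {s : G} (hs : s ∈ P.S) : ∃ b ∈ P.B, s * b * s ∉ P.B := by
  by_contra hcon
  push Not at hcon
  apply P.conj_ne s hs
  ext g
  constructor
  · rintro ⟨b, hb, rfl⟩
    exact hcon b hb
  · intro hg
    -- g = s (s⁻¹ g s⁻¹) s and s⁻¹ g s⁻¹ = (ss)⁻¹ (s g' s) ... with g' chosen suitably
    -- s⁻¹ g s⁻¹ = (s s)⁻¹ * (s * (g * (s*s)⁻¹) * s)
    have h1 : s * (g * (s * s)⁻¹) * s ∈ P.B :=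
      hcon _ (P.B.mul_mem hg (P.B.inv_mem (P.sq_mem s hs)))
    refine ⟨(s * s)⁻¹ * (s * (g * (s * s)⁻¹) * s), P.B.mul_mem (P.B.inv_mem (P.sq_mem s hs)) h1, ?_⟩
    show s * ((s * s)⁻¹ * (s * (g * (s * s)⁻¹) * s)) * s = g
    group

theorem s_not_mem_T {s : G} (hs : s ∈ P.S) : s ∉ T P := fun h => s_not_mem_B P hs (T_le_B P h)

/-- `s b s ∈ B s B` for a suitable `b`. -/
theorem exists_conj_mem_C {s : G} (hs : s ∈ P.S) : ∃ b ∈ P.B, s * b * s ∈ C P s := by
  obtain ⟨b, hb, hnot⟩ := exists_conj_not_mem P hs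
  refine ⟨b, hb, ?_⟩
  rcases left_ax P hs (P.subset hs) hb with h | h
  · exfalso
    exact hnot ((mem_C_of_mem_B P (P.sq_mem s hs)).1 h)
  · exact h

/-- if `s n ~ n` then contradiction -/
theorem not_rel_mul_left {s n : G} (hs : s ∈ P.S) (hn : n ∈ P.N) : ¬ Rel P (s * n) n := by
  intro h
  unfold Rel at h
  have h1 := T_conj P hn h
  have e : n * ((s * n)⁻¹ * n) * n⁻¹ = s⁻¹ := by group
  rw [e] at h1
  exact s_not_mem_T P hs (by simpa using (T P).inv_mem h1)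

/-! ### Bruhat uniqueness -/

theorem bruhat_aux (q : ℕ) : ∀ n n' : G, n ∈ P.N → n' ∈ P.N → Rep P P.S n → Rep P P.S n' →
    len P P.S n = q → q ≤ len P P.S n' → C P n = C P n' → Rel P n n' := by
  induction q with
  | zero =>
    intro n n' hn hn' hr hr' hq _ hC
    have hnT : n ∈ T P := (len_eq_zero P hr).1 hq
    have h1 : n' ∈ C P n := by rw [hC]; exact self_mem_C P n'
    have h2 : n' ∈ P.B := (mem_C_of_mem_B P (T_le_B P hnT)).1 h1
    exact (T P).mul_mem ((T P).inv_mem hnT) ⟨h2, hn'⟩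
  | succ q ih =>
    intro n n' hn hn' hr hr' hq hle hC
    obtain ⟨s, hs, n'', hr'', hrel, hq''⟩ := exists_first P (subset_refl _) hr hq
    have hn'' : n'' ∈ P.N := hr''.mem_N P (subset_refl _)
    -- s n'' ∈ C n'
    have h1 : s * n'' ∈ C P n' := by
      rw [← hC, C_congr P hrel]; exact self_mem_C P _
    obtain ⟨b₁, hb₁, b₂, hb₂, h1e⟩ := (mem_C P).1 h1
    -- n'' = s ((ss)⁻¹ b₁) n' b₂
    have h2 : n'' = (s * ((s * s)⁻¹ * b₁) * n') * b₂ := by
      have : n'' = s⁻¹ * (s * n'') := by group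
      rw [this, h1e]; group
    have h3 := left_ax P hs hn' (P.B.mul_mem (P.B.inv_mem (P.sq_mem s hs)) hb₁)
    rcases h3 with h3 | h3
    · -- C n'' = C (s n')
      have h4 : n'' ∈ C P (s * n') := by rw [h2]; exact mem_C_mul_B P hb₂ h3
      have h5 : C P n'' = C P (s * n') := C_eq_of_mem P h4
      have hlen : q ≤ len P P.S (s * n') := by
        have := len_le_mul_left P (subset_refl _) hs hr'
        omega
      have h6 := ih n'' (s * n') hn'' (P.N.mul_mem (P.subset hs) hn') hr'' (hr'.mul_left P hs) hq'' hlen h5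
      -- n ~ s n'' ~ s s n' ~ n'
      exact (hrel.trans P (h6.mul_left P s)).trans P (rel_sq_mul P hs hn')
    · -- C n'' = C n' : impossible
      exfalso
      have h4 : n'' ∈ C P n' := by rw [h2]; exact mem_C_mul_B P hb₂ h3
      have h5 : C P n'' = C P n' := C_eq_of_mem P h4
      have h6 := ih n'' n' hn'' hn' hr'' hr' hq'' (by omega) h5
      have := len_congr P (Y := P.S) h6
      omega

/-- every element of `N` is represented by a word in `S` -/
theorem rep_of_mem_N {n : G} (hn : n ∈ P.N) : Rep P P.S n := by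
  -- the set of representable elements of N is a subgroup containing S and T
  have key : ∀ x ∈ Subgroup.closure (P.S ∪ (T P : Set G)), Rep P P.S x ∧ Rep P P.S x⁻¹ := by
    intro x hx
    induction hx using Subgroup.closure_induction with
    | mem x hx =>
      rcases hx with hx | hx
      · refine ⟨⟨[x], (isWord_nil _).cons hx, by simpa using Rel.refl P x⟩, ?_⟩
        refine ⟨[x], (isWord_nil _).cons hx, ?_⟩
        have := rel_inv_mul P hx P.N.one_mem
        simpa using this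
      · refine ⟨⟨[], isWord_nil _, ?_⟩, ⟨[], isWord_nil _, ?_⟩⟩
        · unfold Rel; simpa using (T P).inv_mem hx
        · unfold Rel; simpa using hx
    | one => simpa using rep_one P P.S
    | mul x y _ _ hx hy =>
      obtain ⟨⟨l₁, hl₁, hr₁⟩, ⟨l₁', hl₁', hr₁'⟩⟩ := hx
      obtain ⟨⟨l₂, hl₂, hr₂⟩, ⟨l₂', hl₂', hr₂'⟩⟩ := hy
      constructor
      · refine ⟨l₁ ++ l₂, hl₁.append hl₂, ?_⟩
        rw [List.prod_append]
        exact (hr₂.mul_left P x).trans P (hr₁.mul_right P (hl₂.prod_mem_N P (subset_refl _)))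
      · refine ⟨l₂' ++ l₁', hl₂'.append hl₁', ?_⟩
        rw [List.prod_append, mul_inv_rev]
        exact (hr₁'.mul_left P y⁻¹).trans P (hr₂'.mul_right P (hl₁'.prod_mem_N P (subset_refl _)))
    | inv x _ hx => exact ⟨hx.2, by simpa using hx.1⟩
  have hcl : Subgroup.closure (P.S ∪ (T P : Set G)) = P.N := by
    rw [Subgroup.closure_union, Subgroup.closure_eq]
    exact P.closure_sup
  rw [← hcl] at hn
  exact (key n hn).1

/-- **Bruhat uniqueness**: for `n, n' ∈ N`, `B n B = B n' B` implies `n ~ n'`. -/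
theorem bruhat {n n' : G} (hn : n ∈ P.N) (hn' : n' ∈ P.N) (h : C P n = C P n') : Rel P n n' := by
  have hr := rep_of_mem_N P hn
  have hr' := rep_of_mem_N P hn'
  rcases le_total (len P P.S n) (len P P.S n') with hle | hle
  · exact bruhat_aux P _ n n' hn hn' hr hr' rfl hle h
  · exact (bruhat_aux P _ n' n hn' hn hr' hr rfl hle h.symm).symm

end Cfsg.Agent.Lib.Helper29.BN
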