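import Cfsg.Agent.Lib.Helper29.BNBruhat
import Cfsg.Agent.S0308
import Cfsg.Agent.S0310

set_option autoImplicit false
set_option linter.unusedSectionVars false
set_option linter.unusedVariables false
open Cfsg

namespace Cfsg.Agent.Lib.Helper29.BN

variable {G : Type*} [Group G] (P : Cfsg.BNPair G)

/-- If `ℓ(n) ≤ ℓ(s n)` then `s B n ⊆ B s n B`. -/
theorem R2_aux {Y : Set G} (hY : Y ⊆ P.S) (q : ℕ) : ∀ s ∈ Y, ∀ n : G, Rep P Y n → len P Y n = q →
    len P Y n ≤ len P Y (s * n) → ∀ b ∈ P.B, s * b * n ∈ C P (s * n) := by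
  induction q with
  | zero =>
    intro s hs n hr hq _ b hb
    have hnT : n ∈ T P := (len_eq_zero P hr).1 hq
    have e : s * b * n = 1 * (s * n) * (n⁻¹ * b * n) := by group
    rw [e]
    exact (mem_C P).2 ⟨1, P.B.one_mem, n⁻¹ * b * n,
      P.B.mul_mem (P.B.mul_mem (P.B.inv_mem (T_le_B P hnT)) hb) (T_le_B P hnT), rfl⟩
  | succ q ih =>
    intro s hs n hr hq hle b hb
    obtain ⟨y, hy, n', hr', hrel, hq'⟩ := exists_last P hY hr hq
    have hn' : n' ∈ P.N := hr'.mem_N P hY
    have hn : n ∈ P.N := hr.mem_N P hY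
    have hsS : s ∈ P.S := hY hs
    have hyS : y ∈ P.S := hY hy
    have hrel2 : Rel P (s * n) (s * n' * y) := by rw [mul_assoc]; exact hrel.mul_left P s
    have h1 : len P Y (s * n) ≤ len P Y (s * n') + 1 := by
      rw [len_congr P hrel2]
      exact len_mul_right_le P hY hy (hr'.mul_left P hs)
    have h2 : len P Y n' ≤ len P Y (s * n') := by omega
    have h3 := ih s hs n' hr' hq' h2 b hb
    obtain ⟨b₁, hb₁, b₂, hb₂, h3e⟩ := (mem_C P).1 h3
    obtain ⟨t, ht, hnt⟩ := hrel.exists_eq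
    have hsn' : s * n' ∈ P.N := P.N.mul_mem (P.subset hsS) hn'
    -- s b n = b₁ ((s n') b₂ y) t⁻¹
    have e : s * b * n = b₁ * (s * n' * b₂ * y) * t⁻¹ := by
      have : n = n' * y * t⁻¹ := by rw [hnt]; group
      calc s * b * n = (s * b * n') * y * t⁻¹ := by rw [this]; group
        _ = b₁ * (s * n' * b₂ * y) * t⁻¹ := by rw [h3e]; group
    rcases right_ax P hyS hsn' hb₂ with h4 | h4
    · rw [e, C_congr P hrel2]
      exact mem_C_mul_B P (P.B.inv_mem (T_le_B P ht)) (B_mul_mem_C P hb₁ h4)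
    · have h5 : s * b * n ∈ C P (s * n') := by
        rw [e]
        exact mem_C_mul_B P (P.B.inv_mem (T_le_B P ht)) (B_mul_mem_C P hb₁ h4)
      rcases left_ax P hsS hn hb with h6 | h6
      · exact h6
      · exfalso
        have h7 : C P n = C P (s * n') := C_eq_of_meet P h6 h5
        have h8 : Rel P n (s * n') := bruhat P hn hsn' h7
        have h9 : Rel P (s * n) n' := (h8.mul_left P s).trans P (rel_sq_mul P hsS hn')
        have := len_congr P (Y := Y) h9
        omega

theorem R2 {Y : Set G} (hY : Y ⊆ P.S) {s n b : G} (hs : s ∈ Y) (hr : Rep P Y n)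
    (hle : len P Y n ≤ len P Y (s * n)) (hb : b ∈ P.B) : s * b * n ∈ C P (s * n) :=
  R2_aux P hY _ s hs n hr rfl hle b hb

/-- If `ℓ(s n) ≤ ℓ(n)` then `s B n` meets `B n B` and `ℓ(s n) < ℓ(n)`. -/
theorem R3 {Y : Set G} (hY : Y ⊆ P.S) {s n : G} (hs : s ∈ Y) (hr : Rep P Y n)
    (hle : len P Y (s * n) ≤ len P Y n) :
    (∃ b ∈ P.B, s * b * n ∈ C P n) ∧ len P Y (s * n) < len P Y n := by
  have hsS : s ∈ P.S := hY hs
  have hn : n ∈ P.N := hr.mem_N P hY
  have hr' : Rep P Y (s * n) := hr.mul_left P hs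
  have hrel : Rel P (s * (s * n)) n := rel_sq_mul P hsS hn
  have hle' : len P Y (s * n) ≤ len P Y (s * (s * n)) := by rw [len_congr P hrel]; exact hle
  obtain ⟨b₀, hb₀, h0⟩ := exists_conj_mem_C P hsS
  obtain ⟨b₁, hb₁, b₂, hb₂, h0e⟩ := (mem_C P).1 h0
  have h1 : s * b₀ * (s * n) ∈ C P n := by
    have := R2 P hY hs hr' hle' hb₀
    rwa [C_congr P hrel] at this
  have h2 : s * b₂ * n ∈ C P n := by
    have e : s * b₂ * n = b₁⁻¹ * (s * b₀ * (s * n)) := by
      have : s * b₀ * (s * n) = (s * b₀ * s) * n := by group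
      rw [this, h0e]; group
    rw [e]
    exact B_mul_mem_C P (P.B.inv_mem hb₁) h1
  refine ⟨⟨b₂, hb₂, h2⟩, ?_⟩
  by_contra hcon
  push Not at hcon
  have h3 := R2 P hY hs hr hcon hb₂
  have h4 : C P (s * n) = C P n := C_eq_of_meet P h3 h2
  exact not_rel_mul_left P hsS hn (bruhat P (P.N.mul_mem (P.subset hsS) hn) hn h4)

/-- the length with respect to `Y ⊆ S` agrees with the length with respect to `S` -/
theorem len_eq_aux {Y : Set G} (hY : Y ⊆ P.S) (q : ℕ) : ∀ n : G, Rep P Y n → len P Y n = q →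
    len P P.S n = q := by
  induction q with
  | zero =>
    intro n hr hq
    exact (len_eq_zero P (hr.mono P hY)).2 ((len_eq_zero P hr).1 hq)
  | succ q ih =>
    intro n hr hq
    obtain ⟨y, hy, n', hr', hrel, hq'⟩ := exists_first P hY hr hq
    have hn' : n' ∈ P.N := hr'.mem_N P hY
    have hyS : y ∈ P.S := hY hy
    have ih' := ih n' hr' hq'
    have hrS' : Rep P P.S n' := hr'.mono P hY
    have hup : len P P.S n ≤ q + 1 := by
      rw [len_congr P hrel, ← ih']
      exact len_mul_left_le P hyS hrS'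
    have hlow : q < len P P.S n := by
      by_contra hcon
      push Not at hcon
      have h1 : len P P.S (y * n') ≤ len P P.S n' := by
        rw [← len_congr P hrel, ih']; exact hcon
      obtain ⟨⟨b, hb, h2⟩, _⟩ := R3 P (subset_refl _) hyS hrS' h1
      have h3 : len P Y n' ≤ len P Y (y * n') := by
        rw [← len_congr P hrel, hq, hq']; omega
      have h4 := R2 P hY hy hr' h3 hb
      have h5 : C P (y * n') = C P n' := C_eq_of_meet P h4 h2
      exact not_rel_mul_left P hyS hn' (bruhat P (P.N.mul_mem (P.subset hyS) hn') hn' h5)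
    omega

theorem len_eq {Y : Set G} (hY : Y ⊆ P.S) {n : G} (hr : Rep P Y n) : len P Y n = len P P.S n :=
  (len_eq_aux P hY _ n hr rfl).symm

/-- elements of the subgroup generated by `Y` are represented by words in `Y` -/
theorem rep_of_mem_closure {Y : Set G} (hY : Y ⊆ P.S) {n : G} (hn : n ∈ Subgroup.closure Y) :
    Rep P Y n := by
  have key : ∀ x ∈ Subgroup.closure Y, Rep P Y x ∧ Rep P Y x⁻¹ := by
    intro x hx
    induction hx using Subgroup.closure_induction with
    | mem x hx =>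
      refine ⟨⟨[x], (isWord_nil _).cons hx, by simpa using Rel.refl P x⟩, ?_⟩
      refine ⟨[x], (isWord_nil _).cons hx, ?_⟩
      have := rel_inv_mul P (hY hx) P.N.one_mem
      simpa using this
    | one => simpa using rep_one P Y
    | mul x y _ _ hx hy =>
      obtain ⟨⟨l₁, hl₁, hr₁⟩, ⟨l₁', hl₁', hr₁'⟩⟩ := hx
      obtain ⟨⟨l₂, hl₂, hr₂⟩, ⟨l₂', hl₂', hr₂'⟩⟩ := hy
      constructor
      · refine ⟨l₁ ++ l₂, hl₁.append hl₂, ?_⟩
        rw [List.prod_append]
        exact (hr₂.mul_left P x).trans P (hr₁.mul_right P (hl₂.prod_mem_N P hY))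
      · refine ⟨l₂' ++ l₁', hl₂'.append hl₁', ?_⟩
        rw [List.prod_append, mul_inv_rev]
        exact (hr₁'.mul_left P y⁻¹).trans P (hr₂'.mul_right P (hl₁'.prod_mem_N P hY))
    | inv x _ hx => exact ⟨hx.2, by simpa using hx.1⟩
  exact (key n hn).1

theorem B_le_parabolic (J : Set G) : P.B ≤ P.parabolic J := le_sup_left

theorem closure_le_parabolic (J : Set G) : Subgroup.closure J ≤ P.parabolic J := le_sup_right

theorem subset_parabolic (J : Set G) : J ⊆ P.parabolic J :=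
  fun x hx => closure_le_parabolic P J (Subgroup.subset_closure hx)

theorem parabolic_mono {J K : Set G} (h : J ⊆ K) : P.parabolic J ≤ P.parabolic K :=
  sup_le_sup_left (Subgroup.closure_mono h) _

theorem T_le_parabolic (J : Set G) : T P ≤ P.parabolic J := (T_le_B P).trans (B_le_parabolic P J)

theorem mem_parabolic_iff {J : Set G} (hJ : J ⊆ P.S) {g : G} :
    g ∈ P.parabolic J ↔ ∃ n ∈ Subgroup.closure J, g ∈ C P n :=
  Cfsg.Agent.S0310.result P hJ g

theorem exists_mem_C (g : G) : ∃ n ∈ P.N, g ∈ C P n := Cfsg.Agent.S0308.result P g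

/-- if `B n B` meets a subgroup containing `B`, then `n` lies in it -/
theorem mem_of_C_meet {M : Subgroup G} (hM : P.B ≤ M) {n g : G} (hg : g ∈ C P n) (hgM : g ∈ M) :
    n ∈ M := by
  obtain ⟨b₁, hb₁, b₂, hb₂, rfl⟩ := (mem_C P).1 hg
  have : n = b₁⁻¹ * (b₁ * n * b₂) * b₂⁻¹ := by group
  rw [this]
  exact M.mul_mem (M.mul_mem (M.inv_mem (hM hb₁)) hgM) (M.inv_mem (hM hb₂))

theorem mem_of_rel {M : Subgroup G} (hM : P.B ≤ M) {n n' : G} (h : Rel P n n') (hn : n ∈ M) :
    n' ∈ M := by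
  obtain ⟨t, ht, rfl⟩ := h.exists_eq
  exact M.mul_mem hn (hM (T_le_B P ht))

/-- an element of `N` in `P_J` is represented by a word in `J` -/
theorem rep_of_mem_parabolic {J : Set G} (hJ : J ⊆ P.S) {n : G} (hn : n ∈ P.N)
    (h : n ∈ P.parabolic J) : Rep P J n := by
  obtain ⟨m, hm, hnm⟩ := (mem_parabolic_iff P hJ).1 h
  have hmN : m ∈ P.N := (rep_of_mem_closure P hJ hm).mem_N P hJ
  have h1 : C P n = C P m := C_eq_of_mem P hnm
  exact (rep_of_mem_closure P hJ hm).congr P (bruhat P hn hmN h1).symm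

theorem len_S_eq_one {s : G} (hs : s ∈ P.S) : len P P.S s = 1 := by
  have h1 : len P P.S s ≤ 1 := by
    have := len_le P (Y := P.S) (l := [s]) ((isWord_nil _).cons hs) (by simpa using Rel.refl P s)
    simpa using this
  have h2 : len P P.S s ≠ 0 := by
    intro h
    exact s_not_mem_T P hs
      ((len_eq_zero P ⟨[s], (isWord_nil _).cons hs, by simpa using Rel.refl P s⟩).1 h)
  omega

/-- an element of length one is a distinguished generator modulo `T` -/
theorem exists_rel_of_len_one {Y : Set G} (hY : Y ⊆ P.S) {n : G} (hr : Rep P Y n)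
    (h : len P Y n = 1) : ∃ y ∈ Y, Rel P n y := by
  obtain ⟨y, hy, n', hr', hrel, hq'⟩ := exists_first P hY hr (q := 0) (by simpa using h)
  have hn'T : n' ∈ T P := (len_eq_zero P hr').1 hq'
  exact ⟨y, hy, hrel.trans P (rel_mul_T P hn'T).symm⟩

/-- **Key**: `S ∩ P_J = J`. -/
theorem mem_of_mem_parabolic {J : Set G} (hJ : J ⊆ P.S) {s : G} (hs : s ∈ P.S)
    (h : s ∈ P.parabolic J) : s ∈ J := by
  have hr : Rep P J s := rep_of_mem_parabolic P hJ (P.subset hs) h
  have h1 : len P J s = 1 := by rw [len_eq P hJ hr]; exact len_S_eq_one P hs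
  obtain ⟨y, hy, hrel⟩ := exists_rel_of_len_one P hJ hr h1
  have : s = y := P.inj s hs y (hJ hy) hrel.1
  rw [this]; exact hy

theorem S_inter_parabolic {J : Set G} (hJ : J ⊆ P.S) : P.S ∩ (P.parabolic J : Set G) = J := by
  ext s
  constructor
  · rintro ⟨hs, h⟩
    exact mem_of_mem_parabolic P hJ hs h
  · intro h
    exact ⟨hJ h, subset_parabolic P J h⟩

/-- every element of `N ∩ M` lies in `P_{S ∩ M}` when `B ≤ M`. -/
theorem mem_parabolic_of_mem_aux (M : Subgroup G) (hM : P.B ≤ M) (q : ℕ) :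
    ∀ n ∈ P.N, n ∈ M → len P P.S n = q → n ∈ P.parabolic (P.S ∩ (M : Set G)) := by
  induction q with
  | zero =>
    intro n hn _ hq
    exact T_le_parabolic P _ ((len_eq_zero P (rep_of_mem_N P hn)).1 hq)
  | succ q ih =>
    intro n hn hnM hq
    have hr := rep_of_mem_N P hn
    obtain ⟨s, hs, n', hr', hrel, hq'⟩ := exists_first P (subset_refl _) hr hq
    have hn' : n' ∈ P.N := hr'.mem_N P (subset_refl _)
    -- len (s n) = q < q + 1
    have h1 : Rel P (s * n) n' := (hrel.mul_left P s).trans P (rel_sq_mul P hs hn')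
    have h2 : len P P.S (s * n) ≤ len P P.S n := by rw [len_congr P h1, hq', hq]; omega
    obtain ⟨⟨b, hb, h3⟩, _⟩ := R3 P (subset_refl _) hs hr h2
    obtain ⟨b₁, hb₁, b₂, hb₂, h3e⟩ := (mem_C P).1 h3
    have hsM : s ∈ M := by
      have : s = b₁ * n * b₂ * n⁻¹ * b⁻¹ := by
        have : s = (s * b * n) * n⁻¹ * b⁻¹ := by group
        rw [this, h3e]
      rw [this]
      exact M.mul_mem (M.mul_mem (M.mul_mem (M.mul_mem (hM hb₁) hnM) (hM hb₂)) (M.inv_mem hnM))
        (M.inv_mem (hM hb))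
    have hn'M : n' ∈ M := by
      have h4 : s * n ∈ M := M.mul_mem hsM hnM
      exact mem_of_rel P hM h1 h4
    have h5 := ih n' hn' hn'M hq'
    have h6 : s ∈ P.parabolic (P.S ∩ (M : Set G)) := subset_parabolic P _ ⟨hs, hsM⟩
    have h7 : s * n' ∈ P.parabolic (P.S ∩ (M : Set G)) := Subgroup.mul_mem _ h6 h5
    exact mem_of_rel P (B_le_parabolic P _) hrel.symm h7

/-- every subgroup containing `B` is the standard parabolic `P_{S ∩ M}`. -/
theorem eq_parabolic_of_B_le (M : Subgroup G) (hM : P.B ≤ M) :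
    M = P.parabolic (P.S ∩ (M : Set G)) := by
  apply le_antisymm
  · intro g hg
    obtain ⟨n, hn, hgn⟩ := exists_mem_C P g
    have hnM : n ∈ M := mem_of_C_meet P hM hgn hg
    have h1 := mem_parabolic_of_mem_aux P M hM _ n hn hnM rfl
    obtain ⟨b₁, hb₁, b₂, hb₂, rfl⟩ := (mem_C P).1 hgn
    exact Subgroup.mul_mem _ (Subgroup.mul_mem _ (B_le_parabolic P _ hb₁) h1) (B_le_parabolic P _ hb₂)
  · apply sup_le hM
    rw [Subgroup.closure_le]
    exact fun s hs => hs.2

end Cfsg.Agent.Lib.Helper29.BN
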