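import Cfsg.Agent.Lib.Helper29.BNLength

set_option autoImplicit false
set_option linter.unusedSectionVars false
set_option linter.unusedVariables false
open Cfsg

namespace Cfsg.Agent.Lib.Helper29.BN

variable {G : Type*} [Group G] (P : Cfsg.BNPair G)

theorem mem_of_conj_B_le_aux (q : ℕ) : ∀ (M : Subgroup G), P.B ≤ M → ∀ n ∈ P.N,
    (∀ b ∈ P.B, n * b * n⁻¹ ∈ M) → len P P.S n = q → n ∈ M := by
  induction q with
  | zero =>
    intro M hM n hn _ hq
    exact hM (T_le_B P ((len_eq_zero P (rep_of_mem_N P hn)).1 hq))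
  | succ q ih =>
    intro M hM n hn hconj hq
    have hr := rep_of_mem_N P hn
    obtain ⟨s, hs, n', hr', hrel, hq'⟩ := exists_first P (subset_refl _) hr hq
    have hn' : n' ∈ P.N := hr'.mem_N P (subset_refl _)
    have h1 : Rel P (s * n) n' := (hrel.mul_left P s).trans P (rel_sq_mul P hs hn')
    have h2 : len P P.S (s * n) ≤ len P P.S n := by rw [len_congr P h1, hq', hq]; omega
    obtain ⟨⟨b, hb, h3⟩, _⟩ := R3 P (subset_refl _) hs hr h2
    obtain ⟨b₁, hb₁, b₂, hb₂, h3e⟩ := (mem_C P).1 h3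
    have hsM : s ∈ M := by
      have : s = b₁ * (n * b₂ * n⁻¹) * b⁻¹ := by
        have : s = (s * b * n) * n⁻¹ * b⁻¹ := by group
        rw [this, h3e]; group
      rw [this]
      exact M.mul_mem (M.mul_mem (hM hb₁) (hconj b₂ hb₂)) (M.inv_mem (hM hb))
    obtain ⟨t, ht, hnt⟩ := h1.exists_eq
    -- n' = s n t
    have hn'M : n' ∈ M := by
      apply ih M hM n' hn' _ hq'
      intro b' hb'
      have e : n' * b' * n'⁻¹ = s * (n * (t * b' * t⁻¹) * n⁻¹) * s⁻¹ := by rw [hnt]; group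
      rw [e]
      exact M.mul_mem (M.mul_mem hsM (hconj _ (P.B.mul_mem (P.B.mul_mem (T_le_B P ht) hb')
        (P.B.inv_mem (T_le_B P ht))))) (M.inv_mem hsM)
    have e : n = s⁻¹ * n' * t⁻¹ := by rw [hnt]; group
    rw [e]
    exact M.mul_mem (M.mul_mem (M.inv_mem hsM) hn'M) (M.inv_mem (hM (T_le_B P ht)))

/-- if `M ≥ B` contains `n B n⁻¹` for some `n ∈ N`, then `n ∈ M`. -/
theorem mem_of_conj_B_le (M : Subgroup G) (hM : P.B ≤ M) {n : G} (hn : n ∈ P.N)
    (h : ∀ b ∈ P.B, n * b * n⁻¹ ∈ M) : n ∈ M :=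
  mem_of_conj_B_le_aux P _ M hM n hn h rfl

/-- if `M ≥ B` contains `g B g⁻¹`, then `g ∈ M`. -/
theorem mem_of_conj_B_le' (M : Subgroup G) (hM : P.B ≤ M) {g : G}
    (h : ∀ b ∈ P.B, g * b * g⁻¹ ∈ M) : g ∈ M := by
  obtain ⟨n, hn, hgn⟩ := exists_mem_C P g
  obtain ⟨b₁, hb₁, b₂, hb₂, rfl⟩ := (mem_C P).1 hgn
  have hnM : n ∈ M := by
    apply mem_of_conj_B_le P M hM hn
    intro b hb
    have e : n * b * n⁻¹ = b₁⁻¹ * ((b₁ * n * b₂) * (b₂⁻¹ * b * b₂) * (b₁ * n * b₂)⁻¹) * b₁ := by group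
    rw [e]
    exact M.mul_mem (M.mul_mem (M.inv_mem (hM hb₁))
      (h _ (P.B.mul_mem (P.B.mul_mem (P.B.inv_mem hb₂) hb) hb₂))) (hM hb₁)
  exact M.mul_mem (M.mul_mem (hM hb₁) hnM) (hM hb₂)

/-- `P_{s} = B ∪ B s B`. -/
theorem parabolic_singleton {s : G} (hs : s ∈ P.S) :
    (P.parabolic {s} : Set G) = (P.B : Set G) ∪ C P s := by
  ext g
  constructor
  · intro hg
    have hJ : ({s} : Set G) ⊆ P.S := by
      intro x hx; rw [Set.mem_singleton_iff] at hx; rw [hx]; exact hs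
    refine Cfsg.Agent.S0310.mem_of_closed_parabolic P hJ ((P.B : Set G) ∪ C P s)
      (Or.inl P.B.one_mem) ?_ ?_ g hg
    · rintro b hb t (ht | ht)
      · exact Or.inl (P.B.mul_mem hb ht)
      · exact Or.inr (B_mul_mem_C P hb ht)
    · rintro x hx t (ht | ht)
      · rw [Set.mem_singleton_iff] at hx
        subst hx
        right
        exact (mem_C P).2 ⟨1, P.B.one_mem, t, ht, by group⟩
      · rw [Set.mem_singleton_iff] at hx
        subst hx
        obtain ⟨b₁, hb₁, b₂, hb₂, rfl⟩ := (mem_C P).1 ht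
        have e : x * (b₁ * x * b₂) = (x * b₁ * x) * b₂ := by group
        rw [e]
        rcases left_ax P hs (P.subset hs) hb₁ with h | h
        · left
          exact P.B.mul_mem ((mem_C_of_mem_B P (P.sq_mem x hs)).1 h) hb₂
        · right
          exact mem_C_mul_B P hb₂ h
  · rintro (hg | hg)
    · exact B_le_parabolic P _ hg
    · obtain ⟨b₁, hb₁, b₂, hb₂, rfl⟩ := (mem_C P).1 hg
      exact Subgroup.mul_mem _ (Subgroup.mul_mem _ (B_le_parabolic P _ hb₁)
        (subset_parabolic P _ (Set.mem_singleton s))) (B_le_parabolic P _ hb₂)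

theorem parabolic_empty : P.parabolic ∅ = P.B := by
  unfold Cfsg.BNPair.parabolic
  rw [Subgroup.closure_empty, sup_bot_eq]

theorem parabolic_S : P.parabolic P.S = ⊤ := by
  rw [eq_top_iff, ← P.sup_eq_top]
  apply sup_le (B_le_parabolic P _)
  rw [← P.closure_sup]
  exact sup_le (closure_le_parabolic P _) (inf_le_left.trans (B_le_parabolic P _))

end Cfsg.Agent.Lib.Helper29.BN
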