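import Cfsg.Agent.Lib.Helper29.BNParabolic
import Mathlib.GroupTheory.Solvable

set_option autoImplicit false
set_option linter.unusedSectionVars false
set_option linter.unusedVariables false
open Cfsg

namespace Cfsg.Agent.Lib.Helper29.BN

variable {G : Type*} [Group G] (P : Cfsg.BNPair G)

theorem len_pair_le {s₁ s₂ : G} (hs₁ : s₁ ∈ P.S) (hs₂ : s₂ ∈ P.S) : len P P.S (s₁ * s₂) ≤ 2 := by
  have := len_le P (Y := P.S) (l := [s₁, s₂]) ((isWord_nil _).cons hs₂ |>.cons hs₁)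
    (by simpa using Rel.refl P (s₁ * s₂))
  simpa using this

/-- Bourbaki IV §2 no. 7 Lemma 2: if `H` is normal and `B H = P_J`, then the elements of `J`
commute (modulo `T`) with the elements of `S \ J`. -/
theorem commute_of_normal (H : Subgroup G) [hH : H.Normal] {s₁ s₂ : G} (hs₁ : s₁ ∈ P.S) (hs₂ : s₂ ∈ P.S)
    (h₁ : s₁ ∈ P.B ⊔ H) (h₂ : s₂ ∉ P.B ⊔ H) : s₁ * s₂ * s₁⁻¹ * s₂⁻¹ ∈ P.B := by
  have hM : P.B ≤ P.B ⊔ H := le_sup_left
  have hne : s₁ ≠ s₂ := fun h => h₂ (h ▸ h₁)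
  have hn₁ : s₁ ∈ P.N := P.subset hs₁
  have hn₂ : s₂ ∈ P.N := P.subset hs₂
  have h12 : s₁ * s₂ ∈ P.N := P.N.mul_mem hn₁ hn₂
  -- s₁ = b h
  have h1' : s₁ ∈ ((P.B ⊔ H : Subgroup G) : Set G) := h₁
  rw [Subgroup.mul_normal, Set.mem_mul] at h1'
  obtain ⟨b, hb, h, hh, hbh⟩ := h1'
  have hconj : s₂ * h * s₂⁻¹ ∈ H := hH.conj_mem h hh s₂
  set x := s₂ * b⁻¹ * (s₁ * s₂) with hx
  have hxM : x ∈ P.B ⊔ H := by
    have e : x = (s₂ * h * s₂⁻¹) * (s₂ * s₂) := by rw [hx, ← hbh]; group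
    rw [e]
    exact Subgroup.mul_mem _ (Subgroup.mem_sup_right hconj) (hM (P.sq_mem s₂ hs₂))
  rcases left_ax P hs₂ h12 (P.B.inv_mem hb) with hc | hc
  swap
  · exfalso
    have h3 : s₁ * s₂ ∈ P.B ⊔ H := mem_of_C_meet P hM hc hxM
    apply h₂
    have e : s₂ = s₁⁻¹ * (s₁ * s₂) := by group
    rw [e]
    exact Subgroup.mul_mem _ (Subgroup.inv_mem _ h₁) h3
  set m := s₂ * (s₁ * s₂) with hm
  have hmM : m ∈ P.B ⊔ H := mem_of_C_meet P hM hc hxM
  have hmN : m ∈ P.N := P.N.mul_mem hn₂ h12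
  have hrm := rep_of_mem_N P hmN
  rcases le_or_gt (len P P.S (s₁ * s₂)) (len P P.S m) with hl | hl
  · exfalso
    have hrel : Rel P (s₂ * m) (s₁ * s₂) := rel_sq_mul P hs₂ h12
    have hle : len P P.S (s₂ * m) ≤ len P P.S m := by rw [len_congr P hrel]; exact hl
    obtain ⟨⟨b', hb', h3⟩, _⟩ := R3 P (subset_refl _) hs₂ hrm hle
    obtain ⟨b₁, hb₁, b₂, hb₂, h3e⟩ := (mem_C P).1 h3
    apply h₂
    have e : s₂ = b₁ * m * b₂ * m⁻¹ * b'⁻¹ := by
      have : s₂ = (s₂ * b' * m) * m⁻¹ * b'⁻¹ := by group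
      rw [this, h3e]
    rw [e]
    exact Subgroup.mul_mem _ (Subgroup.mul_mem _ (Subgroup.mul_mem _ (Subgroup.mul_mem _ (hM hb₁) hmM)
      (hM hb₂)) (Subgroup.inv_mem _ hmM)) (Subgroup.inv_mem _ (hM hb'))
  · have hl2 := len_pair_le P hs₁ hs₂
    have hl1 : len P P.S m = 0 ∨ len P P.S m = 1 := by omega
    rcases hl1 with hl0 | hl1
    · exfalso
      have hmT : m ∈ T P := (len_eq_zero P hrm).1 hl0
      apply s_not_mem_T P hs₁
      have e : s₁ = (s₂⁻¹ * m * s₂) * (s₂ * s₂)⁻¹ := by rw [hm]; group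
      rw [e]
      exact (T P).mul_mem (T_conj' P hn₂ hmT) ((T P).inv_mem (sq_mem_T P hs₂))
    · obtain ⟨s, hs, hrel⟩ := exists_rel_of_len_one P (subset_refl _) hrm hl1
      obtain ⟨t, ht, hst⟩ := hrel.exists_eq
      have hJ : ({s₂, s} : Set G) ⊆ P.S := by
        intro y hy
        rcases hy with rfl | hy
        · exact hs₂
        · rw [Set.mem_singleton_iff] at hy; rw [hy]; exact hs
      have hs₁P : s₁ ∈ P.parabolic {s₂, s} := by
        have e : s₁ = s₂⁻¹ * s * t⁻¹ * s₂⁻¹ := by rw [hst, hm]; group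
        rw [e]
        have a1 : s₂ ∈ P.parabolic {s₂, s} := subset_parabolic P _ (Set.mem_insert _ _)
        have a2 : s ∈ P.parabolic {s₂, s} :=
          subset_parabolic P _ (Set.mem_insert_of_mem _ (Set.mem_singleton _))
        exact Subgroup.mul_mem _ (Subgroup.mul_mem _ (Subgroup.mul_mem _ (Subgroup.inv_mem _ a1) a2)
          (Subgroup.inv_mem _ (T_le_parabolic P _ ht))) (Subgroup.inv_mem _ a1)
      have hmem := mem_of_mem_parabolic P hJ hs₁ hs₁P
      have hs1s : s₁ = s := by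
        rcases hmem with h | h
        · exact absurd h hne
        · exact h
      rw [← hs1s] at hrel
      -- t₀ = m⁻¹ s₁ ∈ T
      have ht₀ : m⁻¹ * s₁ ∈ T P := hrel
      have e : s₁ * s₂ * s₁⁻¹ * s₂⁻¹ = ((s₁ * s₂) * (m⁻¹ * s₁)⁻¹ * (s₁ * s₂)⁻¹) * (s₂ * s₂)⁻¹ := by
        rw [hm]; group
      rw [e]
      exact T_le_B P ((T P).mul_mem (T_conj P h12 ((T P).inv_mem ht₀)) ((T P).inv_mem (sq_mem_T P hs₂)))

/-- Tits' simplicity criterion. -/
theorem tits_simple [Nontrivial G] (hirr : P.Irreducible) (hsolv : Group.IsSolvable P.B)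
    (hperf : commutator G = ⊤) (hcore : P.B.normalCore = ⊥) : IsSimpleGroup G := by
  refine ⟨fun H hH => ?_⟩
  have hM : P.B ≤ P.B ⊔ H := le_sup_left
  have hpar := eq_parabolic_of_B_le P (P.B ⊔ H) hM
  set J := P.S ∩ ((P.B ⊔ H : Subgroup G) : Set G) with hJ
  have hJS : J ⊆ P.S := Set.inter_subset_left
  have hcomm : ∀ s ∈ J, ∀ s' ∈ P.S \ J, s * s' * s⁻¹ * s'⁻¹ ∈ P.B := by
    intro s hs s' hs'
    apply commute_of_normal P H hs.1 hs'.1 hs.2
    intro h
    exact hs'.2 ⟨hs'.1, h⟩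
  have hcases : J = ∅ ∨ J = P.S := by
    by_contra hcon
    push Not at hcon
    have hne1 : J.Nonempty := hcon.1
    have hne2 : (P.S \ J).Nonempty := by
      rw [Set.nonempty_iff_ne_empty]
      intro he
      apply hcon.2
      apply Set.Subset.antisymm hJS
      rw [Set.sdiff_eq_empty] at he
      exact he
    obtain ⟨s, hs, s', hs', hnot⟩ := hirr J hJS hne1 hne2
    exact hnot (hcomm s hs s' hs')
  rcases hcases with h0 | h1
  · left
    rw [h0, parabolic_empty] at hpar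
    have hHB : H ≤ P.B := by rw [← hpar]; exact le_sup_right
    have : H ≤ P.B.normalCore := (Subgroup.normal_le_normalCore).2 hHB
    rw [hcore] at this
    exact le_bot_iff.1 this
  · right
    rw [h1, parabolic_S] at hpar
    -- B ⊔ H = ⊤
    by_contra hne
    have hsurj : Function.Surjective ((QuotientGroup.mk' H).comp P.B.subtype) := by
      intro x
      obtain ⟨g, rfl⟩ := QuotientGroup.mk'_surjective H x
      have hg : g ∈ ((P.B ⊔ H : Subgroup G) : Set G) := by rw [hpar]; trivial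
      rw [Subgroup.mul_normal, Set.mem_mul] at hg
      obtain ⟨b, hb, h, hh, rfl⟩ := hg
      refine ⟨⟨b, hb⟩, ?_⟩
      simp only [MonoidHom.coe_comp, Function.comp_apply, Subgroup.subtype_apply,
        QuotientGroup.mk'_apply]
      rw [QuotientGroup.eq]
      simpa using hh
    have := hsolv
    have hsolvQ : Group.IsSolvable (G ⧸ H) := Group.isSolvable_of_surjective hsurj
    have hnt : Nontrivial (G ⧸ H) := by
      obtain ⟨g, hg⟩ : ∃ g : G, g ∉ H := by
        by_contra hall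
        push Not at hall
        exact hne (eq_top_iff.2 fun g _ => hall g)
      refine ⟨⟨(g : G ⧸ H), 1, ?_⟩⟩
      intro h
      exact hg ((QuotientGroup.eq_one_iff g).1 h)
    have hlt := Group.IsSolvable.commutator_lt_top_of_nontrivial (G ⧸ H)
    have hperfQ : commutator (G ⧸ H) = ⊤ := by
      rw [commutator_def, ← Subgroup.map_top_of_surjective (QuotientGroup.mk' H)
        (QuotientGroup.mk'_surjective H), ← Subgroup.map_commutator, ← commutator_def, hperf]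
    rw [hperfQ] at hlt
    exact lt_irrefl _ hlt

end Cfsg.Agent.Lib.Helper29.BN
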