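import Cfsg.Agent.Lib.Helper29.FactorMorphism

set_option autoImplicit false
open Cfsg

namespace Cfsg.Agent.Lib.Helper29

variable {Ω : Type*} [Group Ω] {S : Subgroup Ω} {Ω' : Type*} [Group Ω']

theorem preimageAlong_le (θ : S →* Ω') (P' : Subgroup Ω') : FusionSystem.preimageAlong θ P' ≤ S := by
  intro x hx
  exact (mem_preimageAlong.1 hx).1

/-- the defining set of maps of the factor system -/
def factorHom (F : FusionSystem S) (θ : S →* Ω') (S' P' : Subgroup Ω') : Set (P' →* Ω') :=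
  {φ' | P' ≤ S' ∧ ∃ φ ∈ F.Hom (FusionSystem.preimageAlong θ P'), FusionSystem.InducedAlong θ φ φ'}

section

variable (F : FusionSystem S) {S₀ : Subgroup Ω} (hS₀ : F.StronglyClosed S₀) (θ : S →* Ω')
  (hker : ∀ s : S, θ s = 1 ↔ (s : Ω) ∈ S₀) {S' : Subgroup Ω'} (hrange : θ.range = S')

include hrange in
theorem exists_preimage_of_mem {P' : Subgroup Ω'} (hP' : P' ≤ S') (y : P') :
    ∃ x : FusionSystem.preimageAlong θ P', θ ⟨x, preimageAlong_le θ P' x.2⟩ = y := by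
  have hy : (y : Ω') ∈ θ.range := hrange.ge (hP' y.2)
  obtain ⟨s, hs⟩ := hy
  refine ⟨⟨s, mem_preimageAlong.2 ⟨s.2, ?_⟩⟩, hs⟩
  rw [hs]
  exact y.2

include hS₀ hker in
theorem induced_injective {P : Subgroup Ω} {φ : P →* Ω} (hφ : φ ∈ F.Hom P) (x : P)
    (h : θ ⟨φ x, (F.le_of_mem hφ).2 x⟩ = 1) : θ ⟨x, (F.le_of_mem hφ).1 x.2⟩ = 1 := by
  have h1 : φ x ∈ S₀ := (hker _).1 h
  obtain ⟨ψ, hψ, hψe⟩ := F.inv_mem hφ
  have h2 := stronglyClosed_hom_mem F hS₀ hψ ⟨φ x, ⟨x, rfl⟩⟩ h1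
  rw [hψe] at h2
  exact (hker _).2 h2

end

/-- the factor system along `θ` -/
def factorSys [Finite S] (F : FusionSystem S) {S₀ : Subgroup Ω} (hS₀ : F.StronglyClosed S₀) (θ : S →* Ω')
    (hker : ∀ s : S, θ s = 1 ↔ (s : Ω) ∈ S₀) {S' : Subgroup Ω'} (hrange : θ.range = S') :
    FusionSystem S' where
  Hom P' := factorHom F θ S' P'
  le_of_mem := by
    rintro P' φ' ⟨hP', φ, hφ, hPS, hφS, hθP', hind⟩
    refine ⟨hP', fun y => ?_⟩
    obtain ⟨x, hx⟩ := exists_preimage_of_mem θ hrange hP' y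
    have e : y = ⟨θ ⟨x, hPS x.2⟩, hθP' x⟩ := Subtype.ext hx.symm
    rw [e, hind]
    exact hrange.le ⟨_, rfl⟩
  injective_of_mem := by
    rintro P' φ' ⟨hP', φ, hφ, hPS, hφS, hθP', hind⟩
    rw [injective_iff_map_eq_one]
    intro y hy
    obtain ⟨x, hx⟩ := exists_preimage_of_mem θ hrange hP' y
    have e : y = ⟨θ ⟨x, hPS x.2⟩, hθP' x⟩ := Subtype.ext hx.symm
    rw [e, hind] at hy
    have h1 := induced_injective F hS₀ θ hker hφ x hy
    rw [e]
    exact Subtype.ext h1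
  conj_mem := by
    intro P' g' hP' hg'
    have hg'r : g' ∈ θ.range := hrange.ge hg'
    obtain ⟨s, rfl⟩ := hg'r
    have hA := preimageAlong_le θ P'
    refine ⟨hP', conjHom _ (s : Ω), F.conj_mem hA s.2, hA, fun x => ?_, fun x => ?_, fun x => ?_⟩
    · exact S.mul_mem (S.mul_mem s.2 (hA x.2)) (S.inv_mem s.2)
    · exact (mem_preimageAlong.1 x.2).2
    · show θ s * θ ⟨x, hA x.2⟩ * (θ s)⁻¹ = θ ⟨(s : Ω) * x * (s : Ω)⁻¹, _⟩
      rw [← map_inv, ← map_mul, ← map_mul]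
      rfl
  comp_mem := by
    rintro P' Q' φ' ψ' ⟨hP', φ, hφ, hPS, hφS, hθP', hind⟩ ⟨hQ', ψ, hψ, hQS, hψS, hθQ', hind'⟩ h
    have hφB : ∀ x, φ x ∈ FusionSystem.preimageAlong θ Q' := by
      intro x
      refine mem_preimageAlong.2 ⟨hφS x, ?_⟩
      rw [← hind x]
      exact h _
    refine ⟨hP', ψ.comp (φ.codRestrict _ hφB), F.comp_mem hφ hψ hφB, hPS, fun x => hψS _, hθP',
      fun x => ?_⟩
    show ψ' ⟨φ' ⟨θ ⟨x, hPS x.2⟩, hθP' x⟩, h _⟩ = θ ⟨ψ ⟨φ x, hφB x⟩, hψS _⟩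
    rw [← hind' ⟨φ x, hφB x⟩]
    congr 1
    exact Subtype.ext (hind x)
  inv_mem := by
    rintro P' φ' ⟨hP', φ, hφ, hPS, hφS, hθP', hind⟩
    have hinj : Function.Injective φ' := by
      rw [injective_iff_map_eq_one]
      intro y hy
      obtain ⟨x, hx⟩ := exists_preimage_of_mem θ hrange hP' y
      have e : y = ⟨θ ⟨x, hPS x.2⟩, hθP' x⟩ := Subtype.ext hx.symm
      rw [e, hind] at hy
      have h1 := induced_injective F hS₀ θ hker hφ x hy
      rw [e]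
      exact Subtype.ext h1
    have hS₀S := hS₀.1
    have hfinS₀ : Finite S₀ := finite_of_le hS₀S
    have hS₀A : S₀ ≤ FusionSystem.preimageAlong θ P' := by
      intro x hx
      refine mem_preimageAlong.2 ⟨hS₀S hx, ?_⟩
      rw [(hker ⟨x, hS₀S hx⟩).2 hx]
      exact P'.one_mem
    -- `φ` maps `S₀` onto `S₀`
    have hsurj : ∀ t : S₀, ∃ t' : S₀, φ ⟨t', hS₀A t'.2⟩ = t := by
      let f : S₀ → S₀ := fun t' => ⟨φ ⟨t', hS₀A t'.2⟩, stronglyClosed_hom_mem F hS₀ hφ _ t'.2⟩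
      have hfinj : Function.Injective f := by
        intro a b hab
        have h1 : φ ⟨a, hS₀A a.2⟩ = φ ⟨b, hS₀A b.2⟩ := congrArg Subtype.val hab
        have h2 := F.injective_of_mem hφ h1
        exact Subtype.ext (congrArg (fun z : ↥(FusionSystem.preimageAlong θ P') => (z : Ω)) h2)
      have hfsurj := Finite.injective_iff_surjective.1 hfinj
      intro t
      obtain ⟨t', ht'⟩ := hfsurj t
      exact ⟨t', congrArg Subtype.val ht'⟩
    have hA₂ : FusionSystem.preimageAlong θ φ'.range = φ.range := by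
      apply le_antisymm
      · intro s hs
        obtain ⟨hsS, hθs⟩ := mem_preimageAlong.1 hs
        obtain ⟨y, hy⟩ := hθs
        obtain ⟨x, hx⟩ := exists_preimage_of_mem θ hrange hP' y
        have e : y = ⟨θ ⟨x, hPS x.2⟩, hθP' x⟩ := Subtype.ext hx.symm
        rw [e, hind] at hy
        have h1 : θ (⟨φ x, hφS x⟩⁻¹ * ⟨s, hsS⟩) = 1 := by
          rw [map_mul, map_inv, hy, inv_mul_cancel]
        have h2 : (φ x)⁻¹ * s ∈ S₀ := (hker _).1 h1
        obtain ⟨t', ht'⟩ := hsurj ⟨_, h2⟩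
        refine ⟨x * ⟨t', hS₀A t'.2⟩, ?_⟩
        rw [map_mul, ht']
        show φ x * ((φ x)⁻¹ * s) = s
        group
      · rintro _ ⟨x, rfl⟩
        refine mem_preimageAlong.2 ⟨hφS x, ?_⟩
        rw [← hind x]
        exact ⟨_, rfl⟩
    obtain ⟨ψ, hψ, hψe⟩ := F.inv_mem hφ
    refine ⟨P'.subtype.comp (MonoidHom.ofInjective hinj).symm.toMonoidHom, ?_, fun y => ?_⟩
    · have hr'S : φ'.range ≤ S' := by
        rintro _ ⟨y, rfl⟩
        obtain ⟨x, hx⟩ := exists_preimage_of_mem θ hrange hP' y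
        have e : y = ⟨θ ⟨x, hPS x.2⟩, hθP' x⟩ := Subtype.ext hx.symm
        rw [e, hind]
        exact hrange.le ⟨_, rfl⟩
      refine ⟨hr'S, ψ.comp (Subgroup.inclusion hA₂.le), hom_cast_mem F hA₂ hψ,
        preimageAlong_le θ _, fun x => (F.le_of_mem hψ).2 _, fun x => (mem_preimageAlong.1 x.2).2,
        fun x => ?_⟩
      obtain ⟨a, ha⟩ := hA₂.le x.2
      have e1 : (⟨θ ⟨x, preimageAlong_le θ _ x.2⟩, (mem_preimageAlong.1 x.2).2⟩ : φ'.range) =
          MonoidHom.ofInjective hinj ⟨θ ⟨a, hPS a.2⟩, hθP' a⟩ := by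
        apply Subtype.ext
        show θ ⟨x, _⟩ = φ' ⟨θ ⟨a, hPS a.2⟩, hθP' a⟩
        rw [hind]
        congr 1
        exact Subtype.ext ha.symm
      have e2 : Subgroup.inclusion hA₂.le x = ⟨φ a, ⟨a, rfl⟩⟩ := Subtype.ext ha.symm
      show (((MonoidHom.ofInjective hinj).symm ⟨θ ⟨x, _⟩, _⟩ : P') : Ω') =
        θ ⟨ψ (Subgroup.inclusion hA₂.le x), _⟩
      rw [e1, MulEquiv.symm_apply_apply]
      show θ ⟨a, hPS a.2⟩ = θ ⟨ψ (Subgroup.inclusion hA₂.le x), _⟩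
      congr 1
      apply Subtype.ext
      show (a : Ω) = ψ (Subgroup.inclusion hA₂.le x)
      rw [e2, hψe]
    · show (((MonoidHom.ofInjective hinj).symm ⟨φ' y, ⟨y, rfl⟩⟩ : P') : Ω') = y
      have e : (⟨φ' y, ⟨y, rfl⟩⟩ : φ'.range) = MonoidHom.ofInjective hinj y := Subtype.ext rfl
      rw [e, MulEquiv.symm_apply_apply]

theorem factorSys_isFactorSystem [Finite S] (F : FusionSystem S) {S₀ : Subgroup Ω}
    (hS₀ : F.StronglyClosed S₀) (θ : S →* Ω') (hker : ∀ s : S, θ s = 1 ↔ (s : Ω) ∈ S₀)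
    {S' : Subgroup Ω'} (hrange : θ.range = S') :
    F.IsFactorSystem S₀ θ (factorSys F hS₀ θ hker hrange) :=
  ⟨hS₀.1, hker, hrange, fun _ _ => Iff.rfl⟩

end Cfsg.Agent.Lib.Helper29
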