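import Cfsg.Agent.Lib.Helper29.FactorMorphism
import Cfsg.Agent.Lib.Helper29.FusionHyp
import Cfsg.Agent.Lib.Helper1.FusionSup
import Cfsg.Agent.Lib.Helper29.FactorSystemExists

/-!
The centre of the factor system of a saturated fusion system `F` with `hyp(F) = S` by its centre is trivial
(the analogue of Grün's lemma).
-/

set_option autoImplicit false
open Cfsg

namespace Cfsg.Agent.Lib.Helper29

variable {Ω : Type*} [Group Ω] {S : Subgroup Ω} {Ω' : Type*} [Group Ω'] {S' : Subgroup Ω'}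

/-- maps of a fusion system fix the elements of a central subgroup -/
theorem central_fix (F : FusionSystem S) {Q : Subgroup Ω} (hQ : F.IsCentral Q) {P : Subgroup Ω}
    {φ : P →* Ω} (hφ : φ ∈ F.Hom P) (x : P) (hx : (x : Ω) ∈ Q) : φ x = x := by
  obtain ⟨ψ, -, hψP, hψQ⟩ := hQ.2 P φ hφ
  have h1 := hψP x
  have h2 := hψQ ⟨x, hx⟩
  have e : Subgroup.inclusion (le_sup_left : P ≤ P ⊔ Q) x =
      Subgroup.inclusion (le_sup_right : Q ≤ P ⊔ Q) ⟨x, hx⟩ := Subtype.ext rfl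
  rw [← h1, e, h2]

theorem stronglyClosed_of_isCentral (F : FusionSystem S) {Q : Subgroup Ω} (hQ : F.IsCentral Q) :
    F.StronglyClosed Q := by
  refine ⟨hQ.1, fun R hR φ hφ x => ?_⟩
  rw [central_fix F hQ hφ x (hR x.2)]
  exact hR x.2

theorem isCentral_le_centralizer (F : FusionSystem S) {Q : Subgroup Ω} (hQ : F.IsCentral Q) :
    Q ≤ Subgroup.centralizer (S : Set Ω) :=
  le_trans (le_sSup hQ) (FusionSystem.center_le_centralizer F)

/-- two elements differing by central elements have the same commutator -/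
theorem comm_mul_central {a b u v : Ω} (hua : Commute u a) (hub : Commute u b) (huv : Commute u v)
    (hva : Commute v a) (hvb : Commute v b) :
    (a * u) * (b * v) * (a * u)⁻¹ * (b * v)⁻¹ = a * b * a⁻¹ * b⁻¹ := by
  have h1 : (a * u) * (b * v) * (a * u)⁻¹ = a * (b * v) * a⁻¹ := by
    have hubv : Commute u (b * v) := hub.mul_right huv
    rw [mul_inv_rev, mul_assoc a u, hubv.eq, mul_assoc a, mul_assoc (b * v), ← mul_assoc u,
      mul_inv_cancel, one_mul, ← mul_assoc]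
  rw [h1, mul_inv_rev]
  have h2 : a * (b * v) * a⁻¹ = a * b * a⁻¹ * v := by
    have : Commute v a⁻¹ := hva.inv_right
    calc a * (b * v) * a⁻¹ = a * b * (v * a⁻¹) := by group
      _ = a * b * (a⁻¹ * v) := by rw [this.eq]
      _ = a * b * a⁻¹ * v := by group
  rw [h2]
  group

theorem commute_of_mem_centralizer {u a : Ω} (hu : u ∈ Subgroup.centralizer (S : Set Ω)) (ha : a ∈ S) :
    Commute u a :=
  ((Subgroup.mem_centralizer_iff.1 hu) a ha).symm

section factor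

variable (F : FusionSystem S) (E : FusionSystem S') {θ : S →* Ω'} {Z : Subgroup Ω}

/-- maps of `F` fix lifts of central elements of the image system modulo the kernel -/
theorem theta_hom_eq (hsm : F.IsSurjectiveMorphism E θ) {Q' : Subgroup Ω'} (hQ' : E.IsCentral Q')
    (z : S) (hz : θ z ∈ Q') {P : Subgroup Ω} {φ : P →* Ω} (hφ : φ ∈ F.Hom P) (hzP : (z : Ω) ∈ P)
    (hφz : φ ⟨z, hzP⟩ ∈ S) : θ ⟨φ ⟨z, hzP⟩, hφz⟩ = θ z := by
  obtain ⟨φ', hφ', hP, hφS, hP', hind⟩ := hsm.1.2 P φ hφ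
  have h1 := hind ⟨z, hzP⟩
  have h2 := central_fix E hQ' hφ' ⟨θ ⟨z, hP hzP⟩, hP' ⟨z, hzP⟩⟩ hz
  rw [← h1]
  exact h2

/-- conjugation of a lift `z` of a central element of the image system by `x` and by `φ x` agree -/
theorem conj_hom_eq (hZ : F.IsCentral Z) (hker : ∀ s : S, θ s = 1 ↔ (s : Ω) ∈ Z)
    (hsm : F.IsSurjectiveMorphism E θ) {Q' : Subgroup Ω'} (hQ' : E.IsCentral Q')
    (z : S) (hz : θ z ∈ Q') {P : Subgroup Ω} {φ : P →* Ω} (hφ : φ ∈ F.Hom P) (x : P) :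
    φ x * (z : Ω) * (φ x)⁻¹ * (z : Ω)⁻¹ = (x : Ω) * (z : Ω) * (x : Ω)⁻¹ * (z : Ω)⁻¹ := by
  obtain ⟨φ', hφ', hP, hφS, hP', hind⟩ := hsm.1.2 P φ hφ
  obtain ⟨ψ', hψ', hψ'P, hψ'Q⟩ := hQ'.2 _ φ' hφ'
  have hle : FusionSystem.imageAlong θ P ⊔ Q' ≤ S' := sup_le (E.le_of_mem hφ').1 hQ'.1
  obtain ⟨ψ, hψ, hR, hψS, hR', hind2⟩ := hsm.2.2 _ hle ψ' hψ'
  have hZc := isCentral_le_centralizer F hZ
  have hQ'c := isCentral_le_centralizer E hQ'
  have hxR : (x : Ω) ∈ FusionSystem.preimageAlong θ (FusionSystem.imageAlong θ P ⊔ Q') :=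
    mem_preimageAlong.2 ⟨hP x.2, Subgroup.mem_sup_left (hP' x)⟩
  have hzR : (z : Ω) ∈ FusionSystem.preimageAlong θ (FusionSystem.imageAlong θ P ⊔ Q') :=
    mem_preimageAlong.2 ⟨z.2, Subgroup.mem_sup_right hz⟩
  have e1 : θ ⟨ψ ⟨x, hxR⟩, hψS _⟩ = θ ⟨φ x, hφS x⟩ := by
    rw [← hind2 ⟨x, hxR⟩, ← hind x, ← hψ'P ⟨θ ⟨x, hP x.2⟩, hP' x⟩]
    rfl
  have e2 : θ ⟨ψ ⟨z, hzR⟩, hψS _⟩ = θ z := by
    rw [← hind2 ⟨z, hzR⟩]
    exact hψ'Q ⟨θ z, hz⟩
  have hu : (φ x)⁻¹ * ψ ⟨x, hxR⟩ ∈ Z := by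
    apply (hker ⟨_, S.mul_mem (S.inv_mem (hφS x)) (hψS ⟨x, hxR⟩)⟩).1
    have e : (⟨(φ x)⁻¹ * ψ ⟨x, hxR⟩, S.mul_mem (S.inv_mem (hφS x)) (hψS ⟨x, hxR⟩)⟩ : S) =
        (⟨φ x, hφS x⟩ : S)⁻¹ * ⟨ψ ⟨x, hxR⟩, hψS _⟩ := rfl
    rw [e, map_mul, map_inv, e1, inv_mul_cancel]
  have hv : (z : Ω)⁻¹ * ψ ⟨z, hzR⟩ ∈ Z := by
    apply (hker ⟨_, S.mul_mem (S.inv_mem z.2) (hψS ⟨z, hzR⟩)⟩).1
    have e : (⟨(z : Ω)⁻¹ * ψ ⟨z, hzR⟩, S.mul_mem (S.inv_mem z.2) (hψS ⟨z, hzR⟩)⟩ : S) =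
        z⁻¹ * ⟨ψ ⟨z, hzR⟩, hψS _⟩ := rfl
    rw [e, map_mul, map_inv, e2, inv_mul_cancel]
  have hxS : (x : Ω) ∈ S := hP x.2
  have hcS : (x : Ω) * (z : Ω) * (x : Ω)⁻¹ * (z : Ω)⁻¹ ∈ S :=
    S.mul_mem (S.mul_mem (S.mul_mem hxS z.2) (S.inv_mem hxS)) (S.inv_mem z.2)
  have hc : (x : Ω) * (z : Ω) * (x : Ω)⁻¹ * (z : Ω)⁻¹ ∈ Z := by
    apply (hker ⟨_, hcS⟩).1
    have e : (⟨(x : Ω) * (z : Ω) * (x : Ω)⁻¹ * (z : Ω)⁻¹, hcS⟩ : S) =
        ⟨x, hxS⟩ * z * (⟨x, hxS⟩ : S)⁻¹ * z⁻¹ := rfl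
    rw [e, map_mul, map_mul, map_mul, map_inv, map_inv]
    have hcomm : Commute (θ z) (θ ⟨x, hxS⟩) :=
      commute_of_mem_centralizer (hQ'c hz) (hsm.1.1 _)
    rw [← hcomm.eq]
    group
  have hcR : (x : Ω) * (z : Ω) * (x : Ω)⁻¹ * (z : Ω)⁻¹ ∈
      FusionSystem.preimageAlong θ (FusionSystem.imageAlong θ P ⊔ Q') :=
    Subgroup.mul_mem _ (Subgroup.mul_mem _ (Subgroup.mul_mem _ hxR hzR) (Subgroup.inv_mem _ hxR))
      (Subgroup.inv_mem _ hzR)
  have hfix := central_fix F hZ hψ ⟨_, hcR⟩ hc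
  have e : (⟨(x : Ω) * (z : Ω) * (x : Ω)⁻¹ * (z : Ω)⁻¹, hcR⟩ :
      ↥(FusionSystem.preimageAlong θ (FusionSystem.imageAlong θ P ⊔ Q'))) =
      ⟨x, hxR⟩ * ⟨z, hzR⟩ * (⟨x, hxR⟩)⁻¹ * (⟨z, hzR⟩)⁻¹ := rfl
  rw [e, map_mul, map_mul, map_mul, map_inv, map_inv] at hfix
  have ex : ψ ⟨x, hxR⟩ = φ x * ((φ x)⁻¹ * ψ ⟨x, hxR⟩) := by group
  have ez : ψ ⟨z, hzR⟩ = (z : Ω) * ((z : Ω)⁻¹ * ψ ⟨z, hzR⟩) := by group
  rw [ex, ez] at hfix
  rw [comm_mul_central (commute_of_mem_centralizer (hZc hu) (hφS x))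
    (commute_of_mem_centralizer (hZc hu) z.2)
    (commute_of_mem_centralizer (hZc hu) (hZ.1 hv))
    (commute_of_mem_centralizer (hZc hv) (hφS x))
    (commute_of_mem_centralizer (hZc hv) z.2)] at hfix
  exact hfix

end factor

/-- an automorphism of order prime to `p` fixing `x` modulo a subgroup it fixes elementwise, in a `p`-group,
fixes `x` -/
theorem aut_fix_of_coprime {p : ℕ} [Fact p.Prime] {P : Subgroup Ω} (hP : IsPGroup p P) (β : MulAut P)
    {n : ℕ} (hn : β ^ n = 1) (hcop : Nat.Coprime n p) (X : P) (hc : β (X⁻¹ * β X) = X⁻¹ * β X) :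
    β X = X := by
  set c : P := X⁻¹ * β X with hcdef
  have hpow : ∀ k : ℕ, (β ^ k) X = X * c ^ k := by
    intro k
    induction k with
    | zero => simp
    | succ k ih =>
      rw [pow_succ', MulAut.mul_apply, ih, map_mul, map_pow, hc, pow_succ', ← mul_assoc, hcdef]
      group
  have h1 := hpow n
  rw [hn, MulAut.one_apply] at h1
  have hcn : c ^ n = 1 := by
    have : X * 1 = X * c ^ n := by rw [mul_one]; exact h1
    exact (mul_left_cancel this).symm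
  obtain ⟨m, hm⟩ := hP c
  have hd1 : orderOf c ∣ n := orderOf_dvd_of_pow_eq_one hcn
  have hd2 : orderOf c ∣ p ^ m := orderOf_dvd_of_pow_eq_one hm
  have hcop' : Nat.Coprime (orderOf c) (p ^ m) :=
    Nat.Coprime.coprime_dvd_left hd1 (Nat.Coprime.pow_right m hcop)
  have h1' : orderOf c = 1 := Nat.Coprime.eq_one_of_dvd hcop' hd2
  have hc1 : c = 1 := orderOf_eq_one_iff.1 h1'
  have : X⁻¹ * β X = 1 := hc1
  calc β X = X * (X⁻¹ * β X) := by group
    _ = X := by rw [this, mul_one]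

/-- the analogue of Grün's lemma: if `hyp(F) = S` then the factor system `F/Z(F)` has trivial centre -/
theorem center_factor_eq_bot [Finite S] (p : ℕ) [Fact p.Prime] (hS : IsPGroup p S) (F : FusionSystem S)
    (hF : F.IsSaturated p) (hperf : F.hyperfocalSubgroup p = S) {θ : S →* Ω'} (E : FusionSystem S')
    (hE : F.IsFactorSystem F.center θ E) : E.center = ⊥ := by
  have hZ : F.IsCentral F.center := Cfsg.Agent.Lib.Helper1.isCentral_center F
  have hsm := factorSystem_surjectiveMorphism p hS F hF _ (stronglyClosed_of_isCentral F hZ) θ E hE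
  obtain ⟨hZS, hker, hrange, hhom⟩ := hE
  show sSup {Q' : Subgroup Ω' | E.IsCentral Q'} = ⊥
  rw [sSup_eq_bot]
  intro Q' hQ'
  have hQ' : E.IsCentral Q' := hQ'
  have hQS : FusionSystem.preimageAlong θ Q' ≤ S := preimageAlong_le θ Q'
  -- the preimage of `Q'` is central in `S`
  have hQc : FusionSystem.preimageAlong θ Q' ≤ Subgroup.centralizer (S : Set Ω) := by
    intro z hzQ
    obtain ⟨hzS, hz⟩ := mem_preimageAlong.1 hzQ
    have hfoc : F.focalSubgroup ≤ Subgroup.centralizer {z} := by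
      unfold FusionSystem.focalSubgroup
      rw [Subgroup.closure_le]
      rintro _ ⟨P, φ, x, hφ, rfl⟩
      have h := conj_hom_eq F E hZ hker hsm hQ' ⟨z, hzS⟩ hz hφ x
      rw [SetLike.mem_coe, Subgroup.mem_centralizer_iff]
      intro w hw
      rw [Set.mem_singleton_iff] at hw
      subst hw
      have h' : φ x * w * (φ x)⁻¹ = (x : Ω) * w * (x : Ω)⁻¹ := mul_right_cancel h
      calc w * ((x : Ω)⁻¹ * φ x) = (x : Ω)⁻¹ * ((x : Ω) * w * (x : Ω)⁻¹) * φ x := by group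
        _ = (x : Ω)⁻¹ * (φ x * w * (φ x)⁻¹) * φ x := by rw [h']
        _ = (x : Ω)⁻¹ * φ x * w := by group
    have hSle : S ≤ Subgroup.centralizer {z} := by
      have h1 : F.hyperfocalSubgroup p ≤ F.focalSubgroup := by
        rw [focal_eq_hyperfocal_sup p hS F hF]
        exact le_sup_left
      rw [hperf] at h1
      exact le_trans h1 hfoc
    rw [Subgroup.mem_centralizer_iff]
    intro s hs
    exact ((Subgroup.mem_centralizer_iff.1 (hSle hs)) z rfl).symm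
  -- the preimage of `Q'` is central in `F`
  have hQcen : F.IsCentral (FusionSystem.preimageAlong θ Q') := by
    apply isCentral_of_aut p hS F hF
    intro P hP
    have hPfn : F.IsFullyNormalized P := by
      rcases hP with rfl | hP
      · exact fullyNormalized_top F
      · exact hP.2.1
    have hPS : P ≤ S := hPfn.1
    have hQP : FusionSystem.preimageAlong θ Q' ≤ P := by
      rcases hP with rfl | hP
      · exact hQS
      · have h1 := hP.1.2 P (isConj_refl F hPS)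
        intro q hq
        exact h1 ⟨hQS hq, Subgroup.centralizer_le hPS (hQc hq)⟩
    refine ⟨hQP, fun α hα x hxQ hxP => ?_⟩
    have hPp : IsPGroup p P := hS.of_injective (Subgroup.inclusion hPS) (Subgroup.inclusion_injective hPS)
    obtain ⟨hxS, hxθ⟩ := mem_preimageAlong.1 hxQ
    -- elements of `O^p(Aut_F(P))` fix `x`
    have key : ∀ b : F.autGroup P, b ∈ pResidual p (F.autGroup P) →
        (b : MulAut P) ⟨x, hxP⟩ = ⟨x, hxP⟩ := by
      intro b hb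
      unfold pResidual at hb
      induction hb using Subgroup.closure_induction with
      | mem g hg =>
        have hg : Nat.Coprime (orderOf g) p := hg
        have hgF : P.subtype.comp (g : MulAut P).toMonoidHom ∈ F.Hom P := (mem_autGroup_iff F hPS).1 g.2
        have hgn : (g : MulAut P) ^ orderOf g = 1 := by
          have := pow_orderOf_eq_one g
          exact_mod_cast congrArg Subtype.val this
        apply aut_fix_of_coprime hPp (g : MulAut P) hgn hg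
        -- the quotient `x⁻¹ g(x)` lies in the centre of `F`
        have hgx : (((g : MulAut P) ⟨x, hxP⟩ : P) : Ω) ∈ S := hPS ((g : MulAut P) ⟨x, hxP⟩).2
        have h1 : θ ⟨(((g : MulAut P) ⟨x, hxP⟩ : P) : Ω), hgx⟩ = θ ⟨x, hxS⟩ :=
          theta_hom_eq F E hsm hQ' ⟨x, hxS⟩ hxθ hgF hxP hgx
        have hcZ : x⁻¹ * (((g : MulAut P) ⟨x, hxP⟩ : P) : Ω) ∈ F.center := by
          apply (hker ⟨_, S.mul_mem (S.inv_mem hxS) hgx⟩).1
          have e : (⟨x⁻¹ * (((g : MulAut P) ⟨x, hxP⟩ : P) : Ω), S.mul_mem (S.inv_mem hxS) hgx⟩ : S) =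
              (⟨x, hxS⟩ : S)⁻¹ * ⟨(((g : MulAut P) ⟨x, hxP⟩ : P) : Ω), hgx⟩ := rfl
          rw [e, map_mul, map_inv, h1, inv_mul_cancel]
        have h2 := central_fix F hZ hgF ((⟨x, hxP⟩ : P)⁻¹ * (g : MulAut P) ⟨x, hxP⟩) hcZ
        exact Subtype.ext h2
      | one => rfl
      | mul a b _ _ ha hb =>
        show (a : MulAut P) ((b : MulAut P) ⟨x, hxP⟩) = ⟨x, hxP⟩
        rw [hb, ha]
      | inv a _ ha =>
        show (a : MulAut P)⁻¹ ⟨x, hxP⟩ = ⟨x, hxP⟩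
        rw [MulAut.inv_apply, MulEquiv.symm_apply_eq]
        exact ha.symm
    obtain ⟨hUS, R, hR⟩ := (((Cfsg.Agent.S5077.result p hS F).1 hF).1 P hPfn).2
    have : Finite P := finite_of_le hPS
    obtain ⟨b, hb, s, hs, hbs⟩ := exists_mul_pResidual_sylow p R ⟨α, hα⟩
    rw [← SetLike.mem_coe, hR, SetLike.mem_coe, Subgroup.mem_subgroupOf, autInducedBy_eq_map] at hs
    obtain ⟨n, hn, hns⟩ := hs
    have hnS : (n : Ω) ∈ S := hn
    have hα' : α = (b : MulAut P) * (s : MulAut P) := congrArg Subtype.val hbs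
    have hsx : (((s : MulAut P) ⟨x, hxP⟩ : P) : Ω) = (n : Ω) * x * (n : Ω)⁻¹ := by
      rw [← hns]
      rfl
    have hsx' : (s : MulAut P) ⟨x, hxP⟩ = ⟨x, hxP⟩ := by
      apply Subtype.ext
      rw [hsx]
      have hc := (Subgroup.mem_centralizer_iff.1 (hQc hxQ)) (n : Ω) hnS
      show (n : Ω) * x * (n : Ω)⁻¹ = x
      rw [hc]
      group
    rw [hα', MulAut.mul_apply, hsx', key b hb]
  -- conclude
  have hQle : FusionSystem.preimageAlong θ Q' ≤ F.center := le_sSup hQcen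
  rw [Subgroup.eq_bot_iff_forall]
  intro y hy
  have hyS' : y ∈ S' := hQ'.1 hy
  rw [← hrange] at hyS'
  obtain ⟨z, rfl⟩ := hyS'
  have hzQ : (z : Ω) ∈ FusionSystem.preimageAlong θ Q' := mem_preimageAlong.2 ⟨z.2, hy⟩
  exact (hker z).2 (hQle hzQ)

end Cfsg.Agent.Lib.Helper29
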