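import Cfsg.Agent.Lib.Helper29.BisetTransfer
import Cfsg.Agent.Lib.Helper29.SecondCenter
import Cfsg.Agent.Lib.Helper1.FusionSup

/-!
The transfer homomorphism of a fusion-stable virtual biset.
-/
set_option autoImplicit false
open Cfsg

namespace Cfsg.Agent.Lib.Helper29

variable {Ω : Type*} [Group Ω] {S : Subgroup Ω} {A : Type*} [CommGroup A]

/-- the transfer along the virtual biset of a family of homomorphisms -/
noncomputable def btr [Finite S] (F : FusionSystem S) (m : Subgroup (S × S) → ℤ)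
    (ϕ : ∀ H : Subgroup (S × S), (dataOf F H).P →* A) : S →* A :=
  ∏ᶠ H : Subgroup (S × S), (MonoidHom.transfer (ϕ H)) ^ m H

theorem btr_apply [Finite S] (F : FusionSystem S) (m : Subgroup (S × S) → ℤ)
    (ϕ : ∀ H : Subgroup (S × S), (dataOf F H).P →* A) (e : S) :
    btr F m ϕ e = ∏ᶠ H : Subgroup (S × S), (MonoidHom.transfer (ϕ H) e) ^ m H := by
  classical
  letI : Fintype (Subgroup (S × S)) := Fintype.ofFinite _
  unfold btr
  rw [finprod_eq_prod_of_fintype, finprod_eq_prod_of_fintype, MonoidHom.finsetProd_apply]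
  apply Finset.prod_congr rfl
  intro H _
  rw [MonoidHom.zpow_apply]

/-- the transfer of a homomorphism defined on `S` -/
noncomputable def btrHom [Finite S] (F : FusionSystem S) (m : Subgroup (S × S) → ℤ) (ε : S →* A) : S →* A :=
  btr F m (fun H => ε.comp (dataOf F H).hom)

theorem btrHom_apply [Finite S] (F : FusionSystem S) (m : Subgroup (S × S) → ℤ) (ε : S →* A) (e : S) :
    btrHom F m ε e = Trχ F m ε e := by
  unfold btrHom Trχ
  rw [btr_apply]
  apply finprod_congr
  intro H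
  rw [(dataOf F H).transfer_eq_trOrb (ε.comp (dataOf F H).hom) ε (fun y => rfl) e]

theorem hom_class (ε : S →* A) (a z : S) : ε (a⁻¹ * z * a) = ε z := by
  rw [map_mul, map_mul, map_inv, mul_comm (ε a)⁻¹, mul_assoc, inv_mul_cancel, mul_one]

theorem btrHom_eq_of_isConjElt [Finite S] (F : FusionSystem S) (m : Subgroup (S × S) → ℤ)
    (h1 : ∀ H, m H ≠ 0 → TwGood F H)
    (h2 : ∀ K K', TwGood F K → TwGood F K' → pr2 K' = pr2 K → fmark m K = fmark m K')
    (ε : S →* A) {e e' : S} (hc : F.IsConjElt (e : Ω) (e' : Ω)) : btrHom F m ε e = btrHom F m ε e' := by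
  rw [btrHom_apply, btrHom_apply]
  exact Trχ_eq_of_isConjElt F m h1 h2 ε (hom_class ε) hc

/-- the transfer kills the focal subgroup -/
theorem btrHom_focal [Finite S] (F : FusionSystem S) (m : Subgroup (S × S) → ℤ)
    (h1 : ∀ H, m H ≠ 0 → TwGood F H)
    (h2 : ∀ K K', TwGood F K → TwGood F K' → pr2 K' = pr2 K → fmark m K = fmark m K')
    (ε : S →* A) (z : S) (hz : (z : Ω) ∈ F.focalSubgroup) : btrHom F m ε z = 1 := by
  have hle : F.focalSubgroup ≤ (btrHom F m ε).ker.map S.subtype := by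
    unfold FusionSystem.focalSubgroup
    rw [Subgroup.closure_le]
    rintro _ ⟨P, φ, x, hφ, rfl⟩
    have hxS : (x : Ω) ∈ S := (F.le_of_mem hφ).1 x.2
    have hφS : φ x ∈ S := (F.le_of_mem hφ).2 x
    have hc : F.IsConjElt (x : Ω) (φ x) := by
      have hle : Subgroup.zpowers (x : Ω) ≤ P := by
        rw [Subgroup.zpowers_le]
        exact x.2
      exact ⟨φ.comp (Subgroup.inclusion hle), restrict_mem F hle hφ, rfl⟩
    have h3 := btrHom_eq_of_isConjElt F m h1 h2 ε (e := ⟨x, hxS⟩) (e' := ⟨φ x, hφS⟩) hc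
    refine ⟨⟨x, hxS⟩⁻¹ * ⟨φ x, hφS⟩, ?_, rfl⟩
    rw [SetLike.mem_coe, MonoidHom.mem_ker, map_mul, map_inv, h3, inv_mul_cancel]
  obtain ⟨y, hy, hyz⟩ := hle hz
  have : y = z := Subtype.ext hyz
  rw [← this]
  exact hy

/-- the value of the transfer on an element of the centre of the system -/
theorem btrHom_central [Finite S] (F : FusionSystem S) (m : Subgroup (S × S) → ℤ)
    (h1 : ∀ H, m H ≠ 0 → TwGood F H) (ε : S →* A) (z : S) (hz : (z : Ω) ∈ F.center) :
    btrHom F m ε z = ε z ^ bisetDeg m := by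
  classical
  letI : Fintype (Subgroup (S × S)) := Fintype.ofFinite _
  have hcen : F.IsCentral F.center := Cfsg.Agent.Lib.Helper1.isCentral_center F
  have hzc : ∀ a : S, a⁻¹ * z * a = z := by
    intro a
    have h3 := isCentral_le_centralizer F hcen hz
    rw [Subgroup.mem_centralizer_iff] at h3
    apply Subtype.ext
    have h4 := h3 (a : Ω) a.2
    show (a : Ω)⁻¹ * z * a = z
    rw [mul_assoc, ← h4, ← mul_assoc, inv_mul_cancel, one_mul]
  unfold btrHom
  rw [btr_apply, finprod_eq_prod_of_fintype]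
  unfold bisetDeg
  rw [finsum_eq_sum_of_fintype, ← prod_zpow_eq_zpow_sum]
  apply Finset.prod_congr rfl
  intro H _
  by_cases hm : m H = 0
  · rw [hm, zero_mul, zpow_zero, zpow_zero]
  · have hgood := h1 H hm
    obtain ⟨P₀, φ, hφ, hH, hD⟩ := dataOf_spec F hgood
    have key : ∀ (k : ℕ) (g₀ : S), g₀⁻¹ * z ^ k * g₀ ∈ (dataOf F H).P → g₀⁻¹ * z ^ k * g₀ = z ^ k := by
      intro k g₀ _
      rw [← TwData.inv_conj_pow, hzc]
    rw [MonoidHom.transfer_eq_pow _ z key]
    have hmem : z ^ (dataOf F H).P.index ∈ (dataOf F H).P := MonoidHom.transfer_eq_pow_aux z key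
    have hfix' : ∀ D : TwData S, D = twData F hφ → ∀ y : S, y ∈ D.P → (y : Ω) ∈ F.center → D.f y = y := by
      rintro D rfl y hy hyc
      have hy' : (y : Ω) ∈ P₀ := hy
      apply Subtype.ext
      rw [twData_f_of_mem F hφ hy']
      exact central_fix F hcen hφ ⟨y, hy'⟩ hyc
    have hfix : (dataOf F H).f (z ^ (dataOf F H).P.index) = z ^ (dataOf F H).P.index := by
      apply hfix' _ hD _ hmem
      rw [Subgroup.coe_pow]
      exact Subgroup.pow_mem _ hz _
    show ε ((dataOf F H).f (z ^ (dataOf F H).P.index)) ^ m H = _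
    rw [hfix, map_pow, mul_comm, zpow_mul]
    congr 1
    unfold idxS
    rw [dataOf_P F hgood, zpow_natCast]

end Cfsg.Agent.Lib.Helper29
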