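import Cfsg.Agent.Lib.Helper29.BisetTw

/-!
The congruence between fixed-point counts of twisted diagonals in the same class.
-/
set_option autoImplicit false
open Cfsg

namespace Cfsg.Agent.Lib.Helper29

variable {Ω : Type*} [Group Ω] {S : Subgroup Ω}

/-- data for comparing the twisted diagonal of `(D, ψ)` with that of `(D', ψ')` -/
structure CgCtx (F : FusionSystem S) where
  D : Subgroup Ω
  ψ : D →* Ω
  hψ : ψ ∈ F.Hom D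
  D' : Subgroup Ω
  ψ' : D' →* Ω
  hψ' : ψ' ∈ F.Hom D'
  E : Subgroup Ω
  ρ : E →* Ω
  hρ : ρ ∈ F.Hom E
  hDE : D ≤ E
  hρD : ∀ (x : Ω) (hx : x ∈ D), ∃ h' : ρ ⟨x, hDE hx⟩ ∈ D', ψ' ⟨ρ ⟨x, hDE hx⟩, h'⟩ = ψ ⟨x, hx⟩
  hNE : ∀ g ∈ Subgroup.normalizer ((Tw S D ψ : Subgroup (S × S)) : Set (S × S)), ((g.1 : S) : Ω) ∈ E
  hcard : Nat.card D' ≤ Nat.card D

namespace CgCtx

variable {F : FusionSystem S} (C : CgCtx F)

/-- pairs whose first coordinate lies in the domain of `ρ` -/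
def ΓE : Subgroup (S × S) := C.E.comap (S.subtype.comp (MonoidHom.fst S S))

theorem mem_ΓE {x : S × S} : x ∈ C.ΓE ↔ ((x.1 : S) : Ω) ∈ C.E := Iff.rfl

/-- apply `ρ` to the first coordinate -/
def Ψ : C.ΓE →* S × S where
  toFun x := (⟨C.ρ ⟨((x.1.1 : S) : Ω), x.2⟩, (F.le_of_mem C.hρ).2 _⟩, x.1.2)
  map_one' := by
    apply Prod.ext
    · apply Subtype.ext
      show C.ρ ⟨((1 : S) : Ω), _⟩ = 1
      have : (⟨((1 : S) : Ω), C.E.one_mem⟩ : C.E) = 1 := rfl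
      rw [this, map_one]
    · rfl
  map_mul' := by
    intro x y
    apply Prod.ext
    · apply Subtype.ext
      show C.ρ ⟨(((x * y : C.ΓE).1.1 : S) : Ω), _⟩ = C.ρ ⟨((x.1.1 : S) : Ω), x.2⟩ * C.ρ ⟨((y.1.1 : S) : Ω), y.2⟩
      rw [← map_mul]
      rfl
    · rfl

theorem Ψ_fst (x : C.ΓE) : (((C.Ψ x).1 : S) : Ω) = C.ρ ⟨((x.1.1 : S) : Ω), x.2⟩ := rfl

theorem Ψ_snd (x : C.ΓE) : (C.Ψ x).2 = x.1.2 := rfl

theorem Ψ_injective : Function.Injective C.Ψ := by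
  intro x y h
  have h1 : C.ρ ⟨((x.1.1 : S) : Ω), x.2⟩ = C.ρ ⟨((y.1.1 : S) : Ω), y.2⟩ := by
    rw [← C.Ψ_fst, ← C.Ψ_fst, h]
  have h2 := F.injective_of_mem C.hρ h1
  have h3 : ((x.1.1 : S) : Ω) = ((y.1.1 : S) : Ω) := congrArg (fun z : C.E => (z : Ω)) h2
  have h4 : x.1.2 = y.1.2 := by rw [← C.Ψ_snd, ← C.Ψ_snd, h]
  exact Subtype.ext (Prod.ext (Subtype.ext h3) h4)

/-- the image of a subgroup under `Ψ` -/
def im (K : Subgroup (S × S)) : Subgroup (S × S) := (K.subgroupOf C.ΓE).map C.Ψ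

theorem mem_im {K : Subgroup (S × S)} {y : S × S} :
    y ∈ C.im K ↔ ∃ (x : S × S) (_ : x ∈ K) (hE : x ∈ C.ΓE), C.Ψ ⟨x, hE⟩ = y := by
  constructor
  · rintro ⟨x, hx, rfl⟩
    exact ⟨x.1, hx, x.2, rfl⟩
  · rintro ⟨x, hx, hE, rfl⟩
    exact ⟨⟨x, hE⟩, hx, rfl⟩

theorem card_im [Finite S] {K : Subgroup (S × S)} (hK : K ≤ C.ΓE) : Nat.card (C.im K) = Nat.card K := by
  unfold im
  rw [Nat.card_congr ((K.subgroupOf C.ΓE).equivMapOfInjective C.Ψ C.Ψ_injective).symm.toEquiv]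
  exact Nat.card_congr (Subgroup.subgroupOfEquivOfLe hK).toEquiv

theorem pr2_im {K : Subgroup (S × S)} (hK : K ≤ C.ΓE) : pr2 (C.im K) = pr2 K := by
  ext u
  rw [mem_pr2, mem_pr2]
  constructor
  · rintro ⟨y, hy, rfl⟩
    obtain ⟨x, hx, hE, rfl⟩ := C.mem_im.1 hy
    exact ⟨x, hx, rfl⟩
  · rintro ⟨x, hx, rfl⟩
    exact ⟨C.Ψ ⟨x, hK hx⟩, C.mem_im.2 ⟨x, hx, hK hx, rfl⟩, rfl⟩

theorem im_mono {K K' : Subgroup (S × S)} (h : K ≤ K') : C.im K ≤ C.im K' := by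
  intro y hy
  obtain ⟨x, hx, hE, rfl⟩ := C.mem_im.1 hy
  exact C.mem_im.2 ⟨x, h hx, hE, rfl⟩

theorem im_sup {K K' : Subgroup (S × S)} (hK : K ≤ C.ΓE) (hK' : K' ≤ C.ΓE) :
    C.im (K ⊔ K') = C.im K ⊔ C.im K' := by
  unfold im
  rw [Subgroup.subgroupOf_sup hK hK', Subgroup.map_sup]

theorem im_zpowers {g : S × S} (hg : g ∈ C.ΓE) :
    C.im (Subgroup.zpowers g) = Subgroup.zpowers (C.Ψ ⟨g, hg⟩) := by
  ext y
  rw [C.mem_im, Subgroup.mem_zpowers_iff]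
  constructor
  · rintro ⟨x, hx, hE, rfl⟩
    obtain ⟨n, rfl⟩ := Subgroup.mem_zpowers_iff.1 hx
    refine ⟨n, ?_⟩
    rw [← map_zpow]
    rfl
  · rintro ⟨n, rfl⟩
    refine ⟨g ^ n, Subgroup.zpow_mem_zpowers g n, C.ΓE.zpow_mem hg n, ?_⟩
    rw [← map_zpow]
    rfl

/-- the two twisted diagonals -/
def Δ : Subgroup (S × S) := Tw S C.D C.ψ
def Δ' : Subgroup (S × S) := Tw S C.D' C.ψ'

theorem Δ_le : C.Δ ≤ C.ΓE := by
  intro x hx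
  obtain ⟨h, _⟩ := hx
  exact C.hDE h

theorem im_Δ_le : C.im C.Δ ≤ C.Δ' := by
  intro y hy
  obtain ⟨x, hx, hE, rfl⟩ := C.mem_im.1 hy
  obtain ⟨h1, h2⟩ := hx
  obtain ⟨h3, h4⟩ := C.hρD _ h1
  exact ⟨h3, h4.trans h2⟩

theorem im_Δ [Finite S] : C.im C.Δ = C.Δ' := by
  apply Subgroup.eq_of_le_of_card_ge C.im_Δ_le
  rw [C.card_im C.Δ_le]
  show Nat.card (Tw S C.D' C.ψ') ≤ Nat.card (Tw S C.D C.ψ)
  rw [card_Tw F C.hψ', card_Tw F C.hψ]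
  exact C.hcard

theorem N_le : Subgroup.normalizer ((C.Δ : Subgroup (S × S)) : Set (S × S)) ≤ C.ΓE :=
  fun g hg => C.hNE g hg

theorem im_N_le [Finite S] : C.im (Subgroup.normalizer ((C.Δ : Subgroup (S × S)) : Set (S × S))) ≤
    Subgroup.normalizer ((C.Δ' : Subgroup (S × S)) : Set (S × S)) := by
  intro y hy
  obtain ⟨g, hg, hE, rfl⟩ := C.mem_im.1 hy
  apply mem_normalizer_of_cjs_le
  intro z hz
  rw [mem_cjs, ← C.im_Δ] at hz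
  obtain ⟨x, hx, hxE, hxz⟩ := C.mem_im.1 hz
  have h1 : g * x * g⁻¹ ∈ C.Δ := ((Subgroup.mem_normalizer_iff.1 hg) x).1 hx
  rw [← C.im_Δ]
  refine C.mem_im.2 ⟨g * x * g⁻¹, h1, C.Δ_le h1, ?_⟩
  have h2 : (⟨g * x * g⁻¹, C.Δ_le h1⟩ : C.ΓE) = ⟨g, hE⟩ * ⟨x, hxE⟩ * ⟨g, hE⟩⁻¹ := rfl
  rw [h2, map_mul, map_mul, map_inv, hxz]
  group

theorem good_im {K : Subgroup (S × S)} (hK : K ≤ C.ΓE) (hg : TwGood F K) : TwGood F (C.im K) := by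
  obtain ⟨P, φ, hφ, rfl⟩ := hg
  have hPE : P ≤ C.E := by
    intro u hu
    have : (⟨⟨u, (F.le_of_mem hφ).1 hu⟩, ⟨φ ⟨u, hu⟩, (F.le_of_mem hφ).2 _⟩⟩ : S × S) ∈ Tw S P φ :=
      ⟨hu, rfl⟩
    exact hK this
  set ρP : P →* Ω := C.ρ.comp (Subgroup.inclusion hPE) with hρP
  have hρPm : ρP ∈ F.Hom P := restrict_mem F hPE C.hρ
  obtain ⟨ι, hι, hιv⟩ := F.inv_mem hρPm
  have hιP : ∀ y : ρP.range, ι y ∈ P := by
    rintro ⟨_, ⟨x, rfl⟩⟩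
    rw [hιv x]
    exact x.2
  have hθ := F.comp_mem hι hφ hιP
  refine good_of_subgraph F hθ ?_
  intro y hy
  obtain ⟨x, hx, hE, rfl⟩ := C.mem_im.1 hy
  obtain ⟨h1, h2⟩ := hx
  have h3 : (((C.Ψ ⟨x, hE⟩).1 : S) : Ω) = ρP ⟨x.1, h1⟩ := rfl
  refine ⟨⟨⟨x.1, h1⟩, h3.symm⟩, ?_⟩
  show φ ⟨ι ⟨(((C.Ψ ⟨x, hE⟩).1 : S) : Ω), _⟩, _⟩ = ((C.Ψ ⟨x, hE⟩).2 : Ω)
  have h4 : ι ⟨(((C.Ψ ⟨x, hE⟩).1 : S) : Ω), ⟨⟨x.1, h1⟩, h3.symm⟩⟩ = ((⟨x.1, h1⟩ : P) : Ω) := by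
    have e1 : (⟨(((C.Ψ ⟨x, hE⟩).1 : S) : Ω), ⟨⟨x.1, h1⟩, h3.symm⟩⟩ : ρP.range) =
        ⟨ρP ⟨x.1, h1⟩, ⟨_, rfl⟩⟩ := Subtype.ext h3
    rw [e1]
    exact hιv _
  rw [C.Ψ_snd]
  rw [← h2]
  congr 1
  exact Subtype.ext h4

theorem good_of_good_im {K : Subgroup (S × S)} (hK : K ≤ C.ΓE) (hg : TwGood F (C.im K)) : TwGood F K := by
  obtain ⟨P, φ, hφ, hP⟩ := hg
  have hP1 : pr1 K ≤ C.E := by
    intro u hu
    obtain ⟨x, hx, rfl⟩ := mem_pr1.1 hu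
    exact hK hx
  set ρ1 : pr1 K →* Ω := C.ρ.comp (Subgroup.inclusion hP1) with hρ1
  have hρ1m : ρ1 ∈ F.Hom (pr1 K) := restrict_mem F hP1 C.hρ
  have hmem : ∀ (x : S × S) (hx : x ∈ K), ∃ h : (((C.Ψ ⟨x, hK hx⟩).1 : S) : Ω) ∈ P,
      φ ⟨(((C.Ψ ⟨x, hK hx⟩).1 : S) : Ω), h⟩ = ((C.Ψ ⟨x, hK hx⟩).2 : Ω) := by
    intro x hx
    have : C.Ψ ⟨x, hK hx⟩ ∈ C.im K := C.mem_im.2 ⟨x, hx, hK hx, rfl⟩
    rw [hP] at this
    exact this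
  have hρ1P : ∀ u : pr1 K, ρ1 u ∈ P := by
    rintro ⟨u, hu⟩
    obtain ⟨x, hx, rfl⟩ := mem_pr1.1 hu
    exact (hmem x hx).1
  have hθ := F.comp_mem hρ1m hφ hρ1P
  refine good_of_subgraph F hθ ?_
  intro x hx
  refine ⟨mem_pr1.2 ⟨x, hx, rfl⟩, ?_⟩
  obtain ⟨h1, h2⟩ := hmem x hx
  rw [C.Ψ_snd] at h2
  rw [← h2]
  rfl

end CgCtx

namespace CgCtx

variable {Ω : Type*} [Group Ω] {S : Subgroup Ω} {F : FusionSystem S} (C : CgCtx F)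

theorem card_Δ : Nat.card C.Δ = Nat.card C.D := card_Tw F C.hψ

theorem term_of_mem [Finite S] (m : Subgroup (S × S) → ℤ) {g : S × S} (hg : g ∈ C.Δ) :
    fmark m (C.Δ ⊔ Subgroup.zpowers g) - fmark m (C.Δ' ⊔ Subgroup.zpowers (C.Ψ ⟨g, C.Δ_le hg⟩)) =
      fmark m C.Δ - fmark m C.Δ' := by
  have h1 : C.Δ ⊔ Subgroup.zpowers g = C.Δ := sup_eq_left.2 ((Subgroup.zpowers_le).2 hg)
  have h2 : C.Ψ ⟨g, C.Δ_le hg⟩ ∈ C.Δ' := by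
    rw [← C.im_Δ]
    exact C.mem_im.2 ⟨g, hg, C.Δ_le hg, rfl⟩
  have h3 : C.Δ' ⊔ Subgroup.zpowers (C.Ψ ⟨g, C.Δ_le hg⟩) = C.Δ' := sup_eq_left.2 ((Subgroup.zpowers_le).2 h2)
  rw [h1, h3]

theorem term_of_not_mem [Finite S] (m : Subgroup (S × S) → ℤ) (hm : ∀ H, m H ≠ 0 → TwGood F H)
    (hst : ∀ K K', TwGood F K → TwGood F K' → pr2 K' = pr2 K → Nat.card C.D < Nat.card K →
      fmark m K = fmark m K')
    {g : S × S} (hgN : g ∈ Subgroup.normalizer ((C.Δ : Subgroup (S × S)) : Set (S × S))) (hg : g ∉ C.Δ) :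
    fmark m (C.Δ ⊔ Subgroup.zpowers g) - fmark m (C.Δ' ⊔ Subgroup.zpowers (C.Ψ ⟨g, C.N_le hgN⟩)) = 0 := by
  set K := C.Δ ⊔ Subgroup.zpowers g with hK
  have hzE : Subgroup.zpowers g ≤ C.ΓE := (Subgroup.zpowers_le).2 (C.N_le hgN)
  have hKE : K ≤ C.ΓE := sup_le C.Δ_le hzE
  have him : C.im K = C.Δ' ⊔ Subgroup.zpowers (C.Ψ ⟨g, C.N_le hgN⟩) := by
    rw [hK, C.im_sup C.Δ_le hzE, C.im_Δ, C.im_zpowers (C.N_le hgN)]
  rw [← him]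
  have hlt : Nat.card C.D < Nat.card K := by
    rw [← C.card_Δ]
    by_contra hle
    have hle' : Nat.card K ≤ Nat.card C.Δ := by omega
    have : C.Δ = K := Subgroup.eq_of_le_of_card_ge le_sup_left hle'
    apply hg
    rw [this]
    exact (le_sup_right : Subgroup.zpowers g ≤ K) (Subgroup.mem_zpowers g)
  by_cases hgood : TwGood F K
  · rw [hst K (C.im K) hgood (C.good_im hKE hgood) (C.pr2_im hKE) hlt, sub_self]
  · have h2 : ¬ TwGood F (C.im K) := fun h => hgood (C.good_of_good_im hKE h)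
    rw [fmark_eq_zero_of_not_good F hm hgood, fmark_eq_zero_of_not_good F hm h2, sub_self]

theorem congr_main [Finite S] (m : Subgroup (S × S) → ℤ) (hm : ∀ H, m H ≠ 0 → TwGood F H)
    (hst : ∀ K K', TwGood F K → TwGood F K' → pr2 K' = pr2 K → Nat.card C.D < Nat.card K →
      fmark m K = fmark m K') :
    wgt C.Δ ∣ fmark m C.Δ - fmark m C.Δ' := by
  classical
  set N := Subgroup.normalizer ((C.Δ : Subgroup (S × S)) : Set (S × S)) with hN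
  set N₁ := C.im N with hN₁
  have hA := burnside_fmark m C.Δ N le_rfl
  have hB := burnside_fmark m C.Δ' N₁ C.im_N_le
  have hcN : Nat.card N₁ = Nat.card N := C.card_im C.N_le
  -- the bijection between `N` and `N₁`
  let e : N ≃ N₁ :=
    Equiv.ofBijective (fun g => ⟨C.Ψ ⟨g.1, C.N_le g.2⟩, C.mem_im.2 ⟨g.1, g.2, C.N_le g.2, rfl⟩⟩) (by
      constructor
      · intro g g' h
        have h1 : C.Ψ ⟨g.1, C.N_le g.2⟩ = C.Ψ ⟨g'.1, C.N_le g'.2⟩ := congrArg Subtype.val h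
        have h2 := C.Ψ_injective h1
        exact Subtype.ext (congrArg (fun z : C.ΓE => (z : S × S)) h2)
      · rintro ⟨y, hy⟩
        obtain ⟨x, hx, hE, rfl⟩ := C.mem_im.1 hy
        exact ⟨⟨x, hx⟩, rfl⟩)
  have hB' : (∑ᶠ g' : N₁, fmark m (C.Δ' ⊔ Subgroup.zpowers (g' : S × S))) =
      ∑ᶠ g : N, fmark m (C.Δ' ⊔ Subgroup.zpowers (C.Ψ ⟨g.1, C.N_le g.2⟩)) := by
    rw [← finsum_comp_equiv e]
    rfl
  rw [hB', hcN] at hB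
  have hsub := dvd_sub hA hB
  rw [← finsum_sub_distrib (Set.toFinite _) (Set.toFinite _)] at hsub
  letI : Fintype N := Fintype.ofFinite _
  rw [finsum_eq_sum_of_fintype] at hsub
  have hterm : ∀ g : N, fmark m (C.Δ ⊔ Subgroup.zpowers (g : S × S)) -
      fmark m (C.Δ' ⊔ Subgroup.zpowers (C.Ψ ⟨g.1, C.N_le g.2⟩)) =
      if (g : S × S) ∈ C.Δ then fmark m C.Δ - fmark m C.Δ' else 0 := by
    intro g
    split_ifs with hg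
    · exact C.term_of_mem m hg
    · exact C.term_of_not_mem m hm hst g.2 hg
  rw [Finset.sum_congr rfl (fun g _ => hterm g), Finset.sum_ite, Finset.sum_const_zero, add_zero,
    Finset.sum_const, nsmul_eq_mul] at hsub
  have hcount : (Finset.univ.filter (fun g : N => (g : S × S) ∈ C.Δ)).card = Nat.card C.Δ := by
    rw [← Fintype.card_subtype, ← Nat.card_eq_fintype_card]
    have hle : C.Δ ≤ N := Subgroup.le_normalizer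
    refine Nat.card_congr ?_
    exact ⟨fun g => ⟨g.1.1, g.2⟩, fun x => ⟨⟨x.1, hle x.2⟩, x.2⟩, fun g => rfl, fun x => rfl⟩
  rw [hcount] at hsub
  have hw := wgt_mul_card C.Δ
  rw [← hw] at hsub
  have hne : (Nat.card C.Δ : ℤ) ≠ 0 := by
    have : Nat.card C.Δ ≠ 0 := Nat.card_pos.ne'
    exact_mod_cast this
  rw [mul_comm (wgt C.Δ)] at hsub
  exact (mul_dvd_mul_iff_left hne).1 hsub

end CgCtx


end Cfsg.Agent.Lib.Helper29
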