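import Cfsg.Agent.Lib.Helper29.BisetFix

/-!
Counting lemmas for coset spaces: points, orbits of cyclic groups and fixed points, towards the
invariance of the transfer of a fusion-stable biset.
-/
set_option autoImplicit false

namespace Cfsg.Agent.Lib.Helper29

section CosetCount
variable {α : Type*} [Group α]

/-- splitting a right-invariant subset of a group along the cosets of a subgroup -/
noncomputable def cosetEquiv (s : Subgroup α) (Q : α → Prop) (hQ : ∀ a, ∀ h ∈ s, Q (a * h) ↔ Q a) :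
    {a : α // Q a} ≃ {y : α ⧸ s // Q y.out} × s where
  toFun a := (⟨(a.1 : α ⧸ s), by
      obtain ⟨h, hh⟩ := QuotientGroup.mk_out_eq_mul s a.1
      rw [hh]
      exact (hQ _ _ h.2).2 a.2⟩,
    ⟨((a.1 : α ⧸ s)).out⁻¹ * a.1, by
      rw [← QuotientGroup.eq]
      exact QuotientGroup.out_eq' _⟩)
  invFun z := ⟨z.1.1.out * z.2.1, (hQ _ _ z.2.2).2 z.1.2⟩
  left_inv a := by
    apply Subtype.ext
    show ((a.1 : α ⧸ s)).out * (((a.1 : α ⧸ s)).out⁻¹ * a.1) = a.1
    group
  right_inv z := by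
    obtain ⟨⟨y, hy⟩, ⟨h, hh⟩⟩ := z
    have e1 : ((y.out * h : α) : α ⧸ s) = y := by
      rw [QuotientGroup.mk_mul_of_mem _ hh]
      exact QuotientGroup.out_eq' y
    apply Prod.ext
    · apply Subtype.ext
      exact e1
    · apply Subtype.ext
      show (((y.out * h : α) : α ⧸ s)).out⁻¹ * (y.out * h) = h
      rw [e1]
      group

theorem coset_count [Finite α] (s : Subgroup α) (Q : α → Prop) (hQ : ∀ a, ∀ h ∈ s, Q (a * h) ↔ Q a) :
    Nat.card {a : α // Q a} = Nat.card {y : α ⧸ s // Q y.out} * Nat.card s := by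
  rw [Nat.card_congr (cosetEquiv s Q hQ), Nat.card_prod]

end CosetCount


section OrbitCount
variable {G : Type*} [Group G] {X : Type*} [MulAction G X]

/-- an invariant set of points of period `r` has `r` times as many points as orbits -/
theorem card_invariant_eq [Finite X] (e : G) (A : Set X) (r : ℕ)
    (hA : ∀ x x', MulAction.orbitRel (Subgroup.zpowers e) X x x' → (x ∈ A → x' ∈ A))
    (hr : ∀ x ∈ A, Function.minimalPeriod (e • ·) x = r) :
    Nat.card A = r * Nat.card {q : Quotient (MulAction.orbitRel (Subgroup.zpowers e) X) // q.out ∈ A} := by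
  classical
  letI : Fintype X := Fintype.ofFinite _
  letI : Fintype (Quotient (MulAction.orbitRel (Subgroup.zpowers e) X)) := Fintype.ofFinite _
  set π : A → Quotient (MulAction.orbitRel (Subgroup.zpowers e) X) := fun x => Quotient.mk _ x.1 with hπ
  rw [← Nat.card_congr (Equiv.sigmaFiberEquiv π), Nat.card_sigma]
  have hfib : ∀ q : Quotient (MulAction.orbitRel (Subgroup.zpowers e) X),
      Nat.card {x : A // π x = q} = if q.out ∈ A then r else 0 := by
    intro q
    split_ifs with hq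
    · have e1 : {x : A // π x = q} ≃ MulAction.orbit (Subgroup.zpowers e) q.out := by
        refine ⟨fun x => ⟨x.1.1, ?_⟩, fun y => ⟨⟨y.1, ?_⟩, ?_⟩, fun x => rfl, fun y => rfl⟩
        · have h1 : π x.1 = q := x.2
          have h2 : Quotient.mk (MulAction.orbitRel (Subgroup.zpowers e) X) x.1.1 =
              Quotient.mk _ q.out := by rw [Quotient.out_eq]; exact h1
          exact Quotient.exact h2
        · have h1 : MulAction.orbitRel (Subgroup.zpowers e) X y.1 q.out := y.2
          exact hA _ _ ((MulAction.orbitRel (Subgroup.zpowers e) X).symm h1) hq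
        · have h1 : MulAction.orbitRel (Subgroup.zpowers e) X y.1 q.out := y.2
          show Quotient.mk _ y.1 = q
          exact (Quotient.sound h1).trans (Quotient.out_eq q)
      rw [Nat.card_congr e1]
      letI : Fintype (MulAction.orbit (Subgroup.zpowers e) q.out) := Fintype.ofFinite _
      rw [Nat.card_eq_fintype_card, ← MulAction.minimalPeriod_eq_card]
      exact hr _ hq
    · haveI : IsEmpty {x : A // π x = q} := by
        constructor
        rintro ⟨x, hx⟩
        apply hq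
        have h2 : Quotient.mk (MulAction.orbitRel (Subgroup.zpowers e) X) x.1 =
            Quotient.mk _ q.out := by rw [Quotient.out_eq]; exact hx
        exact hA _ _ (Quotient.exact h2) x.2
      exact Nat.card_of_isEmpty
  rw [Finset.sum_congr rfl (fun q _ => hfib q), Finset.sum_ite, Finset.sum_const, Finset.sum_const_zero,
    add_zero, smul_eq_mul, mul_comm, Nat.card_eq_fintype_card, Fintype.card_subtype]

end OrbitCount


/-- a subgroup `P`, a map `f` multiplicative on `P`, and its graph `H` -/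
structure TwData (G : Type*) [Group G] where
  P : Subgroup G
  f : G → G
  f_mul : ∀ y ∈ P, ∀ z ∈ P, f (y * z) = f y * f z
  H : Subgroup (G × G)
  mem_H : ∀ x : G × G, x ∈ H ↔ x.1 ∈ P ∧ f x.1 = x.2

namespace TwData
variable {G : Type*} [Group G] (D : TwData G)

theorem f_one : D.f 1 = 1 := by
  have := D.f_mul 1 D.P.one_mem 1 D.P.one_mem
  rw [mul_one] at this
  exact (mul_eq_left.1 this.symm)

theorem f_inv {y : G} (hy : y ∈ D.P) : D.f y⁻¹ = (D.f y)⁻¹ := by
  have := D.f_mul y hy y⁻¹ (D.P.inv_mem hy)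
  rw [mul_inv_cancel, D.f_one] at this
  exact (eq_inv_of_mul_eq_one_right this.symm)

theorem f_pow {y : G} (hy : y ∈ D.P) (n : ℕ) : D.f (y ^ n) = D.f y ^ n := by
  induction n with
  | zero => rw [pow_zero, pow_zero, D.f_one]
  | succ n ih => rw [pow_succ, pow_succ, D.f_mul _ (D.P.pow_mem hy n) _ hy, ih]

theorem f_conj {y p : G} (hy : y ∈ D.P) (hp : p ∈ D.P) : D.f (p⁻¹ * y * p) = (D.f p)⁻¹ * D.f y * D.f p := by
  rw [D.f_mul _ (D.P.mul_mem (D.P.inv_mem hp) hy) _ hp, D.f_mul _ (D.P.inv_mem hp) _ hy, D.f_inv hp]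

theorem inv_conj_pow (a g : G) (n : ℕ) : (a⁻¹ * g * a) ^ n = a⁻¹ * g ^ n * a := by
  induction n with
  | zero => simp
  | succ n ih => rw [pow_succ, ih, pow_succ]; group

/-- `u` fixes the coset `x` iff the conjugate of `u` by a representative lies in `P` -/
theorem smul_eq_iff (u : G) (x : G ⧸ D.P) : u • x = x ↔ x.out⁻¹ * u * x.out ∈ D.P := by
  conv_lhs => rw [← QuotientGroup.out_eq' x]
  rw [MulAction.Quotient.smul_mk, QuotientGroup.eq, smul_eq_mul]
  constructor
  · intro h
    have := D.P.inv_mem h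
    have e : (((u * x.out)⁻¹ * x.out)⁻¹ : G) = x.out⁻¹ * u * x.out := by group
    rwa [e] at this
  · intro h
    have := D.P.inv_mem h
    have e : ((x.out⁻¹ * u * x.out)⁻¹ : G) = (u * x.out)⁻¹ * x.out := by group
    rwa [e] at this

/-- number of cosets fixed by `u` with a given value of the class function -/
noncomputable def FXc {A : Type*} (u : G) (χ : G → A) (b : A) : ℕ :=
  Nat.card {x : G ⧸ D.P // u • x = x ∧ χ (D.f (x.out⁻¹ * u * x.out)) = b}

/-- number of cosets of period `r` under `e` with a given value of the class function -/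
noncomputable def PTc {A : Type*} (e : G) (r : ℕ) (χ : G → A) (b : A) : ℕ :=
  Nat.card {x : G ⧸ D.P // Function.minimalPeriod (e • ·) x = r ∧ χ (D.f (x.out⁻¹ * e ^ r * x.out)) = b}

/-- number of orbits of length `r` under `e` with a given value of the class function -/
noncomputable def OCc {A : Type*} (e : G) (r : ℕ) (χ : G → A) (b : A) : ℕ :=
  Nat.card {q : Quotient (MulAction.orbitRel (Subgroup.zpowers e) (G ⧸ D.P)) //
    Function.minimalPeriod (e • ·) q.out = r ∧ χ (D.f (q.out.out⁻¹ * e ^ r * q.out.out)) = b}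

theorem pow_smul_eq_iff (e : G) (s : ℕ) (x : G ⧸ D.P) :
    e ^ s • x = x ↔ Function.minimalPeriod (e • ·) x ∣ s := by
  rw [← Function.isPeriodicPt_iff_minimalPeriod_dvd]
  unfold Function.IsPeriodicPt Function.IsFixedPt
  rw [smul_iterate]

theorem FXc_eq_sum [Finite G] {A : Type*} (e : G) (s : ℕ) (hs : 0 < s) (χ : G → A) (b : A) :
    D.FXc (e ^ s) χ b = ∑ r ∈ s.divisors, D.PTc e r (fun y => χ (y ^ (s / r))) b := by
  classical
  letI : Fintype (G ⧸ D.P) := Fintype.ofFinite _
  unfold FXc PTc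
  rw [Nat.card_eq_fintype_card, Fintype.card_subtype]
  rw [Finset.card_eq_sum_card_fiberwise (f := fun x => Function.minimalPeriod (e • ·) x) (t := s.divisors)]
  · apply Finset.sum_congr rfl
    intro r hr
    rw [Nat.card_eq_fintype_card, Fintype.card_subtype]
    congr 1
    ext x
    simp only [Finset.mem_filter, Finset.mem_univ, true_and]
    have hrs : r ∣ s := Nat.dvd_of_mem_divisors hr
    constructor
    · rintro ⟨⟨h1, h2⟩, h3⟩
      refine ⟨h3, ?_⟩
      have h4 : e ^ r • x = x := (D.pow_smul_eq_iff e r x).2 (h3 ▸ dvd_rfl)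
      have h5 := (D.smul_eq_iff _ x).1 h4
      rw [← D.f_pow h5, inv_conj_pow, ← pow_mul, Nat.mul_div_cancel' hrs]
      exact h2
    · rintro ⟨h3, h2⟩
      have h4 : e ^ r • x = x := (D.pow_smul_eq_iff e r x).2 (h3 ▸ dvd_rfl)
      have h5 := (D.smul_eq_iff _ x).1 h4
      refine ⟨⟨(D.pow_smul_eq_iff e s x).2 (h3 ▸ hrs), ?_⟩, h3⟩
      rw [← D.f_pow h5, inv_conj_pow, ← pow_mul, Nat.mul_div_cancel' hrs] at h2
      exact h2
  · intro x hx
    have hx' : e ^ s • x = x ∧ χ (D.f ((Quotient.out x)⁻¹ * e ^ s * Quotient.out x)) = b := by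
      simpa using hx
    show Function.minimalPeriod (e • ·) x ∈ (↑s.divisors : Set ℕ)
    rw [Finset.mem_coe, Nat.mem_divisors]
    exact ⟨(D.pow_smul_eq_iff e s x).1 hx'.1, hs.ne'⟩

end TwData


namespace TwData
variable {G : Type*} [Group G] (D : TwData G)

theorem minimalPeriod_smul_of_commute (e z : G) (hz : Commute z e) (x : G ⧸ D.P) :
    Function.minimalPeriod (e • ·) (z • x) = Function.minimalPeriod (e • ·) x := by
  rw [Function.minimalPeriod_eq_minimalPeriod_iff]
  intro n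
  unfold Function.IsPeriodicPt Function.IsFixedPt
  rw [smul_iterate]
  show e ^ n • z • x = z • x ↔ e ^ n • x = x
  rw [smul_smul, ← (hz.pow_right n).eq, ← smul_smul]
  exact smul_left_cancel_iff z

theorem value_smul_of_commute {A : Type*} (χ : G → A) (hχ : ∀ a z, χ (a⁻¹ * z * a) = χ z)
    (u z : G) (hz : Commute z u) (x : G ⧸ D.P) (hx : u • x = x) :
    χ (D.f ((z • x).out⁻¹ * u * (z • x).out)) = χ (D.f (x.out⁻¹ * u * x.out)) := by
  have hy := (D.smul_eq_iff u x).1 hx
  have h1 : (((z * x.out : G) : G ⧸ D.P)) = ((z • x).out : G ⧸ D.P) := by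
    rw [QuotientGroup.out_eq']
    conv_rhs => rw [← QuotientGroup.out_eq' x]
    rfl
  rw [QuotientGroup.eq] at h1
  set p := (z * x.out)⁻¹ * (z • x).out with hp
  have h2 : (z • x).out = z * x.out * p := by rw [hp]; group
  have h3 : (z • x).out⁻¹ * u * (z • x).out = p⁻¹ * (x.out⁻¹ * u * x.out) * p := by
    rw [h2]
    have : (z * x.out * p)⁻¹ * u * (z * x.out * p) = p⁻¹ * (x.out⁻¹ * (z⁻¹ * u * z) * x.out) * p := by group
    rw [this]
    have h4 : z⁻¹ * u * z = u := by
      rw [mul_assoc, ← hz.eq, ← mul_assoc, inv_mul_cancel, one_mul]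
    rw [h4]
  rw [h3, D.f_conj hy h1, hχ]

theorem PTc_eq_mul_OCc [Finite G] {A : Type*} (e : G) (r : ℕ) (χ : G → A)
    (hχ : ∀ a z, χ (a⁻¹ * z * a) = χ z) (b : A) : D.PTc e r χ b = r * D.OCc e r χ b := by
  set A' : Set (G ⧸ D.P) := {x | Function.minimalPeriod (e • ·) x = r ∧ χ (D.f (x.out⁻¹ * e ^ r * x.out)) = b}
    with hA'
  have key : ∀ z : G, Commute z e → ∀ x, x ∈ A' → z • x ∈ A' := by
    intro z hz x hx
    obtain ⟨h1, h2⟩ := hx
    refine ⟨(D.minimalPeriod_smul_of_commute e z hz x).trans h1, ?_⟩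
    have h4 : e ^ r • x = x := (D.pow_smul_eq_iff e r x).2 (h1 ▸ dvd_rfl)
    rw [D.value_smul_of_commute χ hχ (e ^ r) z (hz.pow_right r) x h4]
    exact h2
  have := card_invariant_eq (X := G ⧸ D.P) e A' r (by
    intro x x' hrel hx
    rw [MulAction.orbitRel_apply] at hrel
    obtain ⟨⟨z, hz⟩, hzx⟩ := hrel
    have hzx' : z • x' = x := hzx
    have h5 : x' = z⁻¹ • x := by rw [← hzx', inv_smul_smul]
    rw [h5]
    apply key _ _ x hx
    obtain ⟨k, rfl⟩ := Subgroup.mem_zpowers_iff.1 hz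
    exact ((Commute.refl e).zpow_left k).inv_left) (fun x hx => hx.1)
  exact this

end TwData


section FixElt
variable {Γ : Type*} [Group Γ]

theorem mem_fixedPoints_zpowers_iff (g : Γ) (H : Subgroup Γ) (y : Γ ⧸ H) :
    y ∈ MulAction.fixedPoints (Subgroup.zpowers g) (Γ ⧸ H) ↔ y.out⁻¹ * g * y.out ∈ H := by
  rw [mem_fixedPoints_iff_le_stabilizer, Subgroup.zpowers_le]
  conv_lhs => rw [← QuotientGroup.out_eq' y]
  rw [stabilizer_mk, mem_cjs]

theorem card_fixedPoints_zpowers_mul [Finite Γ] (g : Γ) (H : Subgroup Γ) :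
    Nat.card (MulAction.fixedPoints (Subgroup.zpowers g) (Γ ⧸ H)) * Nat.card H =
      Nat.card {γ : Γ // γ⁻¹ * g * γ ∈ H} := by
  have h1 := coset_count H (fun γ => γ⁻¹ * g * γ ∈ H) (by
    intro a h hh
    have e : (a * h)⁻¹ * g * (a * h) = h⁻¹ * (a⁻¹ * g * a) * h := by group
    rw [e]
    constructor
    · intro h2
      have := H.mul_mem (H.mul_mem hh h2) (H.inv_mem hh)
      have e2 : h * (h⁻¹ * (a⁻¹ * g * a) * h) * h⁻¹ = a⁻¹ * g * a := by group
      rwa [e2] at this
    · intro h2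
      exact H.mul_mem (H.mul_mem (H.inv_mem hh) h2) hh)
  rw [h1]
  congr 1
  exact Nat.card_congr (Equiv.subtypeEquivRight (fun y => mem_fixedPoints_zpowers_iff g H y))

end FixElt

namespace TwData
variable {G : Type*} [Group G] (D : TwData G)

theorem card_H : Nat.card D.H = Nat.card D.P := by
  refine Nat.card_congr ⟨fun x => ⟨x.1.1, ((D.mem_H x.1).1 x.2).1⟩,
    fun y => ⟨(y.1, D.f y.1), (D.mem_H _).2 ⟨y.2, rfl⟩⟩, ?_, ?_⟩
  · intro x
    apply Subtype.ext
    apply Prod.ext
    · rfl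
    · exact ((D.mem_H x.1).1 x.2).2
  · intro y
    rfl

open Classical in
theorem sum_fixc_eq [Finite G] {A : Type*} (u : G) (χ : G → A) (hχ : ∀ a z, χ (a⁻¹ * z * a) = χ z) (b : A) :
    ∑ᶠ h : G, (if χ h = b then fixc (Subgroup.zpowers ((u, h) : G × G)) D.H else 0) =
      (Nat.card G : ℤ) * (D.FXc u χ b : ℤ) := by
  letI : Fintype G := Fintype.ofFinite _
  rw [finsum_eq_sum_of_fintype]
  have hχ' : ∀ a z, χ (a * z * a⁻¹) = χ z := by
    intro a z
    have := hχ a⁻¹ z
    rwa [inv_inv] at this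
  -- the counting relation
  let R : G → G × G → Prop := fun h γ => χ h = b ∧ γ⁻¹ * (u, h) * γ ∈ D.H
  let Q' : G → Prop := fun a => a⁻¹ * u * a ∈ D.P ∧ χ (D.f (a⁻¹ * u * a)) = b
  have hR : ∀ h (γ : G × G), γ⁻¹ * (u, h) * γ ∈ D.H ↔
      γ.1⁻¹ * u * γ.1 ∈ D.P ∧ D.f (γ.1⁻¹ * u * γ.1) = γ.2⁻¹ * h * γ.2 := by
    intro h γ
    rw [D.mem_H]
    rfl
  have e1 : ∀ h : G, (if χ h = b then Nat.card (MulAction.fixedPoints (Subgroup.zpowers ((u, h) : G × G))
      ((G × G) ⧸ D.H)) else 0) * Nat.card D.H = Nat.card {γ : G × G // R h γ} := by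
    intro h
    split_ifs with hh
    · rw [card_fixedPoints_zpowers_mul]
      exact Nat.card_congr (Equiv.subtypeEquivRight (fun γ => ⟨fun h1 => ⟨hh, h1⟩, fun h1 => h1.2⟩))
    · rw [zero_mul]
      haveI : IsEmpty {γ : G × G // R h γ} := ⟨fun γ => hh γ.2.1⟩
      exact Nat.card_of_isEmpty.symm
  have e2 : ∑ h : G, Nat.card {γ : G × G // R h γ} = Nat.card {γ : G × G // Q' γ.1} := by
    rw [← Nat.card_sigma, ← Nat.card_congr (Equiv.subtypeProdEquivSigmaSubtype R)]
    refine Nat.card_congr ⟨fun p => ⟨p.1.2, ?_⟩, fun γ => ⟨(γ.1.2 * D.f (γ.1.1⁻¹ * u * γ.1.1) * γ.1.2⁻¹, γ.1), ?_⟩,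
      ?_, ?_⟩
    · obtain ⟨h1, h2⟩ := p.2
      obtain ⟨h3, h4⟩ := (hR _ _).1 h2
      refine ⟨h3, ?_⟩
      rw [h4, hχ]
      exact h1
    · obtain ⟨h3, h4⟩ := γ.2
      refine ⟨?_, (hR _ _).2 ⟨h3, ?_⟩⟩
      · show χ (γ.1.2 * D.f (γ.1.1⁻¹ * u * γ.1.1) * γ.1.2⁻¹) = b
        rw [hχ']
        exact h4
      · show D.f (γ.1.1⁻¹ * u * γ.1.1) = γ.1.2⁻¹ * (γ.1.2 * D.f (γ.1.1⁻¹ * u * γ.1.1) * γ.1.2⁻¹) * γ.1.2
        group
    · intro p
      obtain ⟨h1, h2⟩ := p.2
      obtain ⟨h3, h4⟩ := (hR _ _).1 h2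
      apply Subtype.ext
      apply Prod.ext
      · show p.1.2.2 * D.f (p.1.2.1⁻¹ * u * p.1.2.1) * p.1.2.2⁻¹ = p.1.1
        rw [h4]
        group
      · rfl
    · intro γ
      rfl
  have e3 : Nat.card {γ : G × G // Q' γ.1} = Nat.card {a : G // Q' a} * Nat.card G := by
    rw [Nat.card_congr (Equiv.prodSubtypeFstEquivSubtypeProd (p := Q')), Nat.card_prod]
  have e4 : Nat.card {a : G // Q' a} = D.FXc u χ b * Nat.card D.P := by
    rw [coset_count D.P Q']
    · congr 1
      unfold FXc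
      refine Nat.card_congr (Equiv.subtypeEquivRight (fun x => ?_))
      show (x.out⁻¹ * u * x.out ∈ D.P ∧ _) ↔ _
      rw [D.smul_eq_iff]
    · intro a h hh
      have e : (a * h)⁻¹ * u * (a * h) = h⁻¹ * (a⁻¹ * u * a) * h := by group
      show ((a * h)⁻¹ * u * (a * h) ∈ D.P ∧ χ (D.f ((a * h)⁻¹ * u * (a * h))) = b) ↔
        (a⁻¹ * u * a ∈ D.P ∧ χ (D.f (a⁻¹ * u * a)) = b)
      rw [e]
      constructor
      · rintro ⟨h1, h2⟩
        have h3 : a⁻¹ * u * a ∈ D.P := by
          have := D.P.mul_mem (D.P.mul_mem hh h1) (D.P.inv_mem hh)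
          have e2 : h * (h⁻¹ * (a⁻¹ * u * a) * h) * h⁻¹ = a⁻¹ * u * a := by group
          rwa [e2] at this
        refine ⟨h3, ?_⟩
        rw [D.f_conj h3 hh, hχ] at h2
        exact h2
      · rintro ⟨h1, h2⟩
        refine ⟨D.P.mul_mem (D.P.mul_mem (D.P.inv_mem hh) h1) hh, ?_⟩
        rw [D.f_conj h1 hh, hχ]
        exact h2
  have hne : (Nat.card D.H : ℤ) ≠ 0 := by
    have : Nat.card D.H ≠ 0 := Nat.card_pos.ne'
    exact_mod_cast this
  apply mul_right_cancel₀ hne
  have e5 : (∑ h : G, (if χ h = b then fixc (Subgroup.zpowers ((u, h) : G × G)) D.H else 0)) * (Nat.card D.H : ℤ) =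
      ((∑ h : G, (if χ h = b then Nat.card (MulAction.fixedPoints (Subgroup.zpowers ((u, h) : G × G))
        ((G × G) ⧸ D.H)) else 0) * Nat.card D.H : ℕ) : ℤ) := by
    push_cast
    rw [Finset.sum_mul]
    apply Finset.sum_congr rfl
    intro h _
    unfold fixc
    split_ifs <;> simp
  rw [e5, Finset.sum_congr rfl (fun h _ => e1 h), e2, e3, e4, D.card_H]
  push_cast
  ring

end TwData


namespace TwData
variable {G : Type*} [Group G] (D : TwData G)

theorem isPeriodicPt_orderOf [Finite G] (e : G) (x : G ⧸ D.P) :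
    Function.IsPeriodicPt (e • ·) (orderOf e) x := by
  unfold Function.IsPeriodicPt Function.IsFixedPt
  rw [smul_iterate, pow_orderOf_eq_one]
  exact one_smul _ x

theorem minimalPeriod_pos [Finite G] (e : G) (x : G ⧸ D.P) : 0 < Function.minimalPeriod (e • ·) x :=
  (D.isPeriodicPt_orderOf e x).minimalPeriod_pos (orderOf_pos e)

theorem minimalPeriod_le_card [Finite G] (e : G) (x : G ⧸ D.P) :
    Function.minimalPeriod (e • ·) x ≤ Nat.card G :=
  ((D.isPeriodicPt_orderOf e x).minimalPeriod_le (orderOf_pos e)).trans orderOf_le_card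

/-- number of orbits under `e` with a given value of the class function -/
noncomputable def ORc {A : Type*} (e : G) (χ : G → A) (b : A) : ℕ :=
  Nat.card {q : Quotient (MulAction.orbitRel (Subgroup.zpowers e) (G ⧸ D.P)) //
    χ (D.f (q.out.out⁻¹ * e ^ Function.minimalPeriod (e • ·) q.out * q.out.out)) = b}

theorem ORc_eq_sum [Finite G] {A : Type*} (e : G) (χ : G → A) (b : A) :
    D.ORc e χ b = ∑ r ∈ Finset.Icc 1 (Nat.card G), D.OCc e r χ b := by
  classical
  letI : Fintype (Quotient (MulAction.orbitRel (Subgroup.zpowers e) (G ⧸ D.P))) := Fintype.ofFinite _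
  unfold ORc OCc
  rw [Nat.card_eq_fintype_card, Fintype.card_subtype]
  rw [Finset.card_eq_sum_card_fiberwise
    (f := fun q : Quotient (MulAction.orbitRel (Subgroup.zpowers e) (G ⧸ D.P)) =>
      Function.minimalPeriod (e • ·) q.out) (t := Finset.Icc 1 (Nat.card G))]
  · apply Finset.sum_congr rfl
    intro r _
    rw [Nat.card_eq_fintype_card, Fintype.card_subtype]
    congr 1
    ext q
    simp only [Finset.mem_filter, Finset.mem_univ, true_and]
    constructor
    · rintro ⟨h1, h2⟩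
      refine ⟨h2, ?_⟩
      rw [← h2]
      exact h1
    · rintro ⟨h2, h1⟩
      refine ⟨?_, h2⟩
      rw [h2]
      exact h1
  · intro q _
    show Function.minimalPeriod (e • ·) q.out ∈ (↑(Finset.Icc 1 (Nat.card G)) : Set ℕ)
    rw [Finset.mem_coe, Finset.mem_Icc]
    exact ⟨D.minimalPeriod_pos e _, D.minimalPeriod_le_card e _⟩

end TwData

end Cfsg.Agent.Lib.Helper29
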