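import Cfsg.Agent.Lib.Helper29.BisetTop
import Cfsg.Agent.Lib.Helper29.BisetCount

/-!
The counting data attached to the orbits of a fusion-stable virtual biset, and the stability
of the fixed point counts of cyclic subgroups.
-/
set_option autoImplicit false
open Cfsg

namespace Cfsg.Agent.Lib.Helper29

variable {Ω : Type*} [Group Ω] {S : Subgroup Ω}

open Classical in
/-- the counting data of the twisted diagonal of a map of the system -/
noncomputable def twData (F : FusionSystem S) {P₀ : Subgroup Ω} {φ : P₀ →* Ω} (hφ : φ ∈ F.Hom P₀) :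
    TwData S where
  P := P₀.subgroupOf S
  f y := if h : (y : Ω) ∈ P₀ then ⟨φ ⟨y, h⟩, (F.le_of_mem hφ).2 _⟩ else 1
  f_mul := by
    intro y hy z hz
    have hy' : (y : Ω) ∈ P₀ := hy
    have hz' : (z : Ω) ∈ P₀ := hz
    have hyz : ((y * z : S) : Ω) ∈ P₀ := P₀.mul_mem hy' hz'
    rw [dif_pos hy', dif_pos hz', dif_pos hyz]
    apply Subtype.ext
    show φ ⟨((y * z : S) : Ω), hyz⟩ = φ ⟨y, hy'⟩ * φ ⟨z, hz'⟩
    rw [← map_mul]
    rfl
  H := Tw S P₀ φ
  mem_H := by
    intro x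
    rw [mem_Tw]
    constructor
    · rintro ⟨h, hx⟩
      refine ⟨h, ?_⟩
      rw [dif_pos h]
      exact Subtype.ext hx
    · rintro ⟨h, hx⟩
      have h' : ((x.1 : S) : Ω) ∈ P₀ := h
      refine ⟨h', ?_⟩
      rw [dif_pos h'] at hx
      exact congrArg Subtype.val hx

theorem twData_f_of_mem (F : FusionSystem S) {P₀ : Subgroup Ω} {φ : P₀ →* Ω} (hφ : φ ∈ F.Hom P₀) {y : S}
    (h : (y : Ω) ∈ P₀) : (((twData F hφ).f y : S) : Ω) = φ ⟨y, h⟩ := by
  unfold twData
  simp only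
  rw [dif_pos h]

/-- the trivial counting data -/
def trivData (G : Type*) [Group G] : TwData G where
  P := ⊥
  f _ := 1
  f_mul := by intros; simp
  H := ⊥
  mem_H := by
    intro x
    rw [Subgroup.mem_bot, Subgroup.mem_bot]
    constructor
    · rintro rfl
      exact ⟨rfl, rfl⟩
    · rintro ⟨h1, h2⟩
      exact Prod.ext h1 h2.symm

open Classical in
/-- the counting data of a subgroup of `S × S` -/
noncomputable def dataOf (F : FusionSystem S) (H : Subgroup (S × S)) : TwData S :=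
  if h : TwGood F H then twData F (Classical.choose_spec (Classical.choose_spec h)).1 else trivData S

theorem dataOf_H (F : FusionSystem S) {H : Subgroup (S × S)} (h : TwGood F H) : (dataOf F H).H = H := by
  unfold dataOf
  rw [dif_pos h]
  exact (Classical.choose_spec (Classical.choose_spec h)).2.symm

theorem dataOf_spec (F : FusionSystem S) {H : Subgroup (S × S)} (h : TwGood F H) :
    ∃ (P₀ : Subgroup Ω) (φ : P₀ →* Ω) (hφ : φ ∈ F.Hom P₀), H = Tw S P₀ φ ∧ dataOf F H = twData F hφ := by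
  refine ⟨_, _, (Classical.choose_spec (Classical.choose_spec h)).1,
    (Classical.choose_spec (Classical.choose_spec h)).2, ?_⟩
  unfold dataOf
  rw [dif_pos h]

theorem dataOf_P (F : FusionSystem S) {H : Subgroup (S × S)} (h : TwGood F H) :
    (dataOf F H).P = (pr1 H).subgroupOf S := by
  obtain ⟨P₀, φ, hφ, hH, hD⟩ := dataOf_spec F h
  rw [hD, hH, pr1_Tw F hφ]
  rfl

/-! ### conjugacy of elements -/

theorem isConjElt_symm (F : FusionSystem S) {x y : Ω} (h : F.IsConjElt x y) : F.IsConjElt y x := by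
  obtain ⟨φ, hφ, hxy⟩ := h
  obtain ⟨ψ, hψ, hψv⟩ := F.inv_mem hφ
  have hr : Subgroup.zpowers y ≤ φ.range := by
    rw [Subgroup.zpowers_le]
    exact ⟨⟨x, Subgroup.mem_zpowers x⟩, hxy⟩
  refine ⟨ψ.comp (Subgroup.inclusion hr), restrict_mem F hr hψ, ?_⟩
  have e : (Subgroup.inclusion hr ⟨y, Subgroup.mem_zpowers y⟩ : φ.range) =
      ⟨φ ⟨x, Subgroup.mem_zpowers x⟩, ⟨_, rfl⟩⟩ := Subtype.ext hxy.symm
  show ψ (Subgroup.inclusion hr ⟨y, Subgroup.mem_zpowers y⟩) = x
  rw [e, hψv]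

theorem isConjElt_pow (F : FusionSystem S) {x y : Ω} (h : F.IsConjElt x y) (n : ℕ) :
    F.IsConjElt (x ^ n) (y ^ n) := by
  obtain ⟨φ, hφ, hxy⟩ := h
  have hle : Subgroup.zpowers (x ^ n) ≤ Subgroup.zpowers x := by
    rw [Subgroup.zpowers_le]
    exact Subgroup.pow_mem _ (Subgroup.mem_zpowers x) n
  refine ⟨φ.comp (Subgroup.inclusion hle), restrict_mem F hle hφ, ?_⟩
  have e : (Subgroup.inclusion hle ⟨x ^ n, Subgroup.mem_zpowers _⟩ : Subgroup.zpowers x) =
      (⟨x, Subgroup.mem_zpowers x⟩ : Subgroup.zpowers x) ^ n := Subtype.ext rfl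
  show φ (Subgroup.inclusion hle ⟨x ^ n, Subgroup.mem_zpowers _⟩) = y ^ n
  rw [e, map_pow, hxy]

theorem isConjElt_trans (F : FusionSystem S) {x y z : Ω} (h : F.IsConjElt x y) (h' : F.IsConjElt y z) :
    F.IsConjElt x z := by
  obtain ⟨φ, hφ, hxy⟩ := h
  obtain ⟨ψ, hψ, hyz⟩ := h'
  have hmem : ∀ u : Subgroup.zpowers x, φ u ∈ Subgroup.zpowers y := by
    rintro ⟨u, hu⟩
    obtain ⟨k, rfl⟩ := Subgroup.mem_zpowers_iff.1 hu
    have e : (⟨x ^ k, hu⟩ : Subgroup.zpowers x) = (⟨x, Subgroup.mem_zpowers x⟩ : Subgroup.zpowers x) ^ k :=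
      Subtype.ext rfl
    rw [e, map_zpow, hxy]
    exact Subgroup.zpow_mem_zpowers y k
  refine ⟨_, F.comp_mem hφ hψ hmem, ?_⟩
  show ψ ⟨φ ⟨x, Subgroup.mem_zpowers x⟩, _⟩ = z
  rw [← hyz]
  congr 1
  exact Subtype.ext hxy

/-- the cyclic subgroup generated by `(u, h)` is good iff `u` and `h` are conjugate in the system -/
theorem good_zpowers_iff (F : FusionSystem S) (u h : S) :
    TwGood F (Subgroup.zpowers ((u, h) : S × S)) ↔ F.IsConjElt (u : Ω) (h : Ω) := by
  constructor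
  · rintro ⟨P₀, φ, hφ, hK⟩
    have hmem : ((u, h) : S × S) ∈ Tw S P₀ φ := by
      rw [← hK]
      exact Subgroup.mem_zpowers _
    obtain ⟨hu, huh⟩ := hmem
    have hle : Subgroup.zpowers (u : Ω) ≤ P₀ := by
      rw [Subgroup.zpowers_le]
      exact hu
    exact ⟨φ.comp (Subgroup.inclusion hle), restrict_mem F hle hφ, huh⟩
  · rintro ⟨θ, hθ, hθu⟩
    refine good_of_subgraph F hθ ?_
    intro x hx
    obtain ⟨k, rfl⟩ := Subgroup.mem_zpowers_iff.1 hx
    have h1 : ((((u, h) : S × S) ^ k).1 : Ω) = (u : Ω) ^ k := by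
      show (((u ^ k : S)) : Ω) = _
      rw [Subgroup.coe_zpow]
    have h2 : ((((u, h) : S × S) ^ k).2 : Ω) = (h : Ω) ^ k := by
      show (((h ^ k : S)) : Ω) = _
      rw [Subgroup.coe_zpow]
    have hmem : ((((u, h) : S × S) ^ k).1 : Ω) ∈ Subgroup.zpowers (u : Ω) := by
      rw [h1]
      exact Subgroup.zpow_mem_zpowers _ k
    refine ⟨hmem, ?_⟩
    have e : (⟨((((u, h) : S × S) ^ k).1 : Ω), hmem⟩ : Subgroup.zpowers (u : Ω)) =
        (⟨u, Subgroup.mem_zpowers _⟩ : Subgroup.zpowers (u : Ω)) ^ k := Subtype.ext h1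
    rw [e, map_zpow, hθu, h2]

theorem pr2_zpowers (u h : S) : pr2 (Subgroup.zpowers ((u, h) : S × S)) = Subgroup.zpowers (h : Ω) := by
  ext y
  rw [mem_pr2]
  constructor
  · rintro ⟨x, hx, rfl⟩
    obtain ⟨k, rfl⟩ := Subgroup.mem_zpowers_iff.1 hx
    have h2 : ((((u, h) : S × S) ^ k).2 : Ω) = (h : Ω) ^ k := by
      show (((h ^ k : S)) : Ω) = _
      rw [Subgroup.coe_zpow]
    rw [h2]
    exact Subgroup.zpow_mem_zpowers _ k
  · intro hy
    obtain ⟨k, rfl⟩ := Subgroup.mem_zpowers_iff.1 hy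
    refine ⟨((u, h) : S × S) ^ k, Subgroup.zpow_mem_zpowers _ k, ?_⟩
    show (((h ^ k : S)) : Ω) = _
    rw [Subgroup.coe_zpow]

/-- stability of the fixed point counts of cyclic subgroups -/
theorem fmark_zpowers_eq [Finite S] (F : FusionSystem S) (m : Subgroup (S × S) → ℤ)
    (h1 : ∀ H, m H ≠ 0 → TwGood F H)
    (h2 : ∀ K K', TwGood F K → TwGood F K' → pr2 K' = pr2 K → fmark m K = fmark m K')
    {u u' : S} (hc : F.IsConjElt (u : Ω) (u' : Ω)) (h : S) :
    fmark m (Subgroup.zpowers ((u, h) : S × S)) = fmark m (Subgroup.zpowers ((u', h) : S × S)) := by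
  by_cases hg : TwGood F (Subgroup.zpowers ((u, h) : S × S))
  · have hg' : TwGood F (Subgroup.zpowers ((u', h) : S × S)) := by
      rw [good_zpowers_iff] at hg ⊢
      exact isConjElt_trans F (isConjElt_symm F hc) hg
    apply h2 _ _ hg hg'
    rw [pr2_zpowers, pr2_zpowers]
  · have hg' : ¬ TwGood F (Subgroup.zpowers ((u', h) : S × S)) := by
      intro hg'
      apply hg
      rw [good_zpowers_iff] at hg' ⊢
      exact isConjElt_trans F hc hg'
    rw [fmark_eq_zero_of_not_good F h1 hg, fmark_eq_zero_of_not_good F h1 hg']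

end Cfsg.Agent.Lib.Helper29
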