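import Mathlib

/-!
Fixed-point counts of subgroups on coset spaces (table of marks), for the construction of
fusion-stable virtual bisets.
-/
set_option autoImplicit false

namespace Cfsg.Agent.Lib.Helper29

section Fixc
variable {Γ : Type*} [Group Γ]

/-- the conjugate `g K g⁻¹` -/
def cjs (g : Γ) (K : Subgroup Γ) : Subgroup Γ := K.map (MulAut.conj g).toMonoidHom

theorem mem_cjs {g : Γ} {K : Subgroup Γ} {x : Γ} : x ∈ cjs g K ↔ g⁻¹ * x * g ∈ K := by
  constructor
  · rintro ⟨k, hk, rfl⟩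
    simpa [mul_assoc] using hk
  · intro h
    exact ⟨g⁻¹ * x * g, h, by simp [mul_assoc]⟩

theorem cjs_one (K : Subgroup Γ) : cjs 1 K = K := by
  ext x; simp [mem_cjs]

theorem cjs_mul (g h : Γ) (K : Subgroup Γ) : cjs (g * h) K = cjs g (cjs h K) := by
  ext x; simp [mem_cjs, mul_assoc]

theorem cjs_mono (g : Γ) {K K' : Subgroup Γ} (h : K ≤ K') : cjs g K ≤ cjs g K' :=
  Subgroup.map_mono h

theorem cjs_inv_cjs (g : Γ) (K : Subgroup Γ) : cjs g⁻¹ (cjs g K) = K := by
  rw [← cjs_mul]; simp [cjs_one]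

theorem cjs_cjs_inv (g : Γ) (K : Subgroup Γ) : cjs g (cjs g⁻¹ K) = K := by
  rw [← cjs_mul]; simp [cjs_one]

theorem card_cjs (g : Γ) (K : Subgroup Γ) : Nat.card (cjs g K) = Nat.card K :=
  Nat.card_congr (K.equivMapOfInjective _ (MulAut.conj g).injective).symm.toEquiv

theorem le_cjs_iff (g : Γ) (K H : Subgroup Γ) : K ≤ cjs g H ↔ cjs g⁻¹ K ≤ H := by
  constructor
  · intro h
    have := cjs_mono g⁻¹ h
    rwa [cjs_inv_cjs] at this
  · intro h
    have := cjs_mono g h
    rwa [cjs_cjs_inv] at this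

theorem stabilizer_mk (g : Γ) (H : Subgroup Γ) :
    MulAction.stabilizer Γ ((g : Γ ⧸ H)) = cjs g H := by
  have h1 : ((g : Γ ⧸ H)) = g • ((1 : Γ) : Γ ⧸ H) := by
    rw [MulAction.Quotient.smul_mk, smul_eq_mul, mul_one]
  rw [h1, MulAction.stabilizer_smul_eq_stabilizer_map_conj, MulAction.stabilizer_quotient]
  rfl

theorem mem_fixedPoints_iff_le_stabilizer (K H : Subgroup Γ) (y : Γ ⧸ H) :
    y ∈ MulAction.fixedPoints K (Γ ⧸ H) ↔ K ≤ MulAction.stabilizer Γ y := by
  rw [MulAction.mem_fixedPoints]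
  constructor
  · intro h k hk
    exact h ⟨k, hk⟩
  · intro h k
    exact h k.2

/-- number of fixed points of `K` on `Γ ⧸ H` -/
noncomputable def fixc (K H : Subgroup Γ) : ℤ := (Nat.card (MulAction.fixedPoints K (Γ ⧸ H)) : ℤ)

theorem fixc_nonneg (K H : Subgroup Γ) : 0 ≤ fixc K H := Int.natCast_nonneg _

theorem exists_le_cjs_of_fixc_ne_zero {K H : Subgroup Γ} (h : fixc K H ≠ 0) : ∃ g : Γ, K ≤ cjs g H := by
  unfold fixc at h
  have h1 : Nat.card (MulAction.fixedPoints K (Γ ⧸ H)) ≠ 0 := by exact_mod_cast h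
  have h2 : Nonempty (MulAction.fixedPoints K (Γ ⧸ H)) := by
    by_contra hne
    rw [not_nonempty_iff] at hne
    exact h1 Nat.card_of_isEmpty
  obtain ⟨⟨y, hy⟩⟩ := h2
  induction y using QuotientGroup.induction_on with
  | H g =>
    refine ⟨g, ?_⟩
    rw [← stabilizer_mk]
    exact (mem_fixedPoints_iff_le_stabilizer K H _).1 hy

theorem fixc_cjs_left (a : Γ) (K H : Subgroup Γ) : fixc (cjs a K) H = fixc K H := by
  unfold fixc
  congr 1
  refine Nat.card_congr ?_
  refine ⟨fun y => ⟨a⁻¹ • y.1, ?_⟩, fun y => ⟨a • y.1, ?_⟩, ?_, ?_⟩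
  · rw [mem_fixedPoints_iff_le_stabilizer, MulAction.stabilizer_smul_eq_stabilizer_map_conj]
    have := (mem_fixedPoints_iff_le_stabilizer _ _ _).1 y.2
    have h2 := cjs_mono a⁻¹ this
    rwa [cjs_inv_cjs] at h2
  · rw [mem_fixedPoints_iff_le_stabilizer, MulAction.stabilizer_smul_eq_stabilizer_map_conj]
    have := (mem_fixedPoints_iff_le_stabilizer _ _ _).1 y.2
    exact cjs_mono a this
  · intro y; simp
  · intro y; simp

theorem fixc_eq_zero_of_card_lt [Finite Γ] {K H : Subgroup Γ} (h : Nat.card H < Nat.card K) :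
    fixc K H = 0 := by
  by_contra hne
  obtain ⟨g, hg⟩ := exists_le_cjs_of_fixc_ne_zero hne
  have := Subgroup.card_le_of_le hg
  rw [card_cjs] at this
  omega

theorem eq_cjs_of_fixc_ne_zero [Finite Γ] {K H : Subgroup Γ} (hc : Nat.card K = Nat.card H)
    (hne : fixc K H ≠ 0) : ∃ g : Γ, K = cjs g H := by
  obtain ⟨g, hg⟩ := exists_le_cjs_of_fixc_ne_zero hne
  refine ⟨g, Subgroup.eq_of_le_of_card_ge hg ?_⟩
  rw [card_cjs, hc]

end Fixc

section Fixc2
variable {Γ : Type*} [Group Γ]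

theorem cjs_eq_self_of_mem_normalizer {K : Subgroup Γ} {n : Γ} (hn : n ∈ Subgroup.normalizer (K : Set Γ)) :
    cjs n K = K := by
  ext x
  rw [mem_cjs]
  have h1 := (Subgroup.mem_normalizer_iff.1 hn) (n⁻¹ * x * n)
  rw [h1]
  simp [mul_assoc]

theorem fixc_self_mul_card [Finite Γ] (H : Subgroup Γ) :
    fixc H H * (Nat.card H : ℤ) = (Nat.card (Subgroup.normalizer (H : Set Γ)) : ℤ) := by
  unfold fixc
  rw [Nat.card_congr (Sylow.fixedPointsMulLeftCosetsEquivQuotient H)]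
  have h1 := Subgroup.card_eq_card_quotient_mul_card_subgroup
    (H.comap (Subgroup.normalizer (H : Set Γ)).subtype)
  have h2 : Nat.card (H.comap (Subgroup.normalizer (H : Set Γ)).subtype) = Nat.card H := by
    have : H.comap (Subgroup.normalizer (H : Set Γ)).subtype = H.subgroupOf (Subgroup.normalizer (H : Set Γ)) := rfl
    rw [this]
    exact Nat.card_congr (Subgroup.subgroupOfEquivOfLe Subgroup.le_normalizer).toEquiv
  rw [h2] at h1
  rw [h1]
  push_cast
  rfl

theorem fixc_cjs_self_mul_card [Finite Γ] (g : Γ) (H : Subgroup Γ) :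
    fixc (cjs g H) H * (Nat.card H : ℤ) = (Nat.card (Subgroup.normalizer (H : Set Γ)) : ℤ) := by
  rw [fixc_cjs_left, fixc_self_mul_card]

theorem fixedPoints_sup_zpowers (K H : Subgroup Γ) (g : Γ) (y : Γ ⧸ H) :
    y ∈ MulAction.fixedPoints (K ⊔ Subgroup.zpowers g : Subgroup Γ) (Γ ⧸ H) ↔
      y ∈ MulAction.fixedPoints K (Γ ⧸ H) ∧ g • y = y := by
  rw [mem_fixedPoints_iff_le_stabilizer, mem_fixedPoints_iff_le_stabilizer, sup_le_iff,
    Subgroup.zpowers_le, MulAction.mem_stabilizer_iff]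

/-- the fixed points of `K`, as a set with an action of a subgroup of the normalizer of `K` -/
def fixSub (K H N₀ : Subgroup Γ) (hN : N₀ ≤ Subgroup.normalizer (K : Set Γ)) : SubMulAction N₀ (Γ ⧸ H) where
  carrier := MulAction.fixedPoints K (Γ ⧸ H)
  smul_mem' := by
    intro n y hy
    rw [mem_fixedPoints_iff_le_stabilizer] at hy ⊢
    have h1 : (n • y : Γ ⧸ H) = (n : Γ) • y := rfl
    rw [h1, MulAction.stabilizer_smul_eq_stabilizer_map_conj]
    have h2 := cjs_mono (n : Γ) hy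
    rw [cjs_eq_self_of_mem_normalizer (hN n.2)] at h2
    exact h2

theorem burnside_dvd [Finite Γ] (K H N₀ : Subgroup Γ) (hN : N₀ ≤ Subgroup.normalizer (K : Set Γ)) :
    (Nat.card N₀ : ℤ) ∣ ∑ᶠ g : N₀, fixc (K ⊔ Subgroup.zpowers (g : Γ)) H := by
  classical
  letI : Fintype N₀ := Fintype.ofFinite _
  letI : Fintype (Γ ⧸ H) := Fintype.ofFinite _
  set Y := fixSub K H N₀ hN with hY
  letI : Fintype Y := Fintype.ofFinite _
  letI : ∀ g : N₀, Fintype (MulAction.fixedBy Y g) := fun g => Fintype.ofFinite _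
  letI : Fintype (Quotient (MulAction.orbitRel N₀ Y)) := Fintype.ofFinite _
  have hB := MulAction.sum_card_fixedBy_eq_card_orbits_mul_card_group N₀ Y
  rw [finsum_eq_sum_of_fintype]
  have h1 : ∀ g : N₀, fixc (K ⊔ Subgroup.zpowers (g : Γ)) H = (Fintype.card (MulAction.fixedBy Y g) : ℤ) := by
    intro g
    unfold fixc
    rw [← Nat.card_eq_fintype_card]
    congr 1
    refine Nat.card_congr ?_
    refine ⟨fun y => ⟨⟨y.1, ((fixedPoints_sup_zpowers K H g y.1).1 y.2).1⟩, ?_⟩,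
      fun y => ⟨y.1.1, (fixedPoints_sup_zpowers K H g y.1.1).2 ⟨y.1.2, ?_⟩⟩, ?_, ?_⟩
    · rw [MulAction.mem_fixedBy]
      apply Subtype.ext
      exact ((fixedPoints_sup_zpowers K H g y.1).1 y.2).2
    · have := y.2
      rw [MulAction.mem_fixedBy] at this
      exact congrArg Subtype.val this
    · intro y; rfl
    · intro y; rfl
  rw [Finset.sum_congr rfl (fun g _ => h1 g)]
  have h2 : (∑ g : N₀, (Fintype.card (MulAction.fixedBy Y g) : ℤ)) =
      ((∑ g : N₀, Fintype.card (MulAction.fixedBy Y g) : ℕ) : ℤ) := by push_cast; rfl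
  rw [h2, hB, Nat.card_eq_fintype_card]
  push_cast
  exact Dvd.intro_left _ rfl

end Fixc2


section NormCjs
variable {Γ : Type*} [Group Γ]

theorem mem_normalizer_of_cjs_eq {K : Subgroup Γ} {n : Γ} (h : cjs n K = K) :
    n ∈ Subgroup.normalizer (K : Set Γ) := by
  rw [Subgroup.mem_normalizer_iff]
  intro x
  constructor
  · intro hx
    have : n * x * n⁻¹ ∈ cjs n K := by
      rw [mem_cjs]
      have : n⁻¹ * (n * x * n⁻¹) * n = x := by group
      rwa [this]
    rwa [h] at this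
  · intro hx
    have : n * x * n⁻¹ ∈ cjs n K := by rwa [h]
    rw [mem_cjs] at this
    have h2 : n⁻¹ * (n * x * n⁻¹) * n = x := by group
    rwa [h2] at this

theorem mem_normalizer_of_cjs_le [Finite Γ] {K : Subgroup Γ} {n : Γ} (h : cjs n K ≤ K) :
    n ∈ Subgroup.normalizer (K : Set Γ) :=
  mem_normalizer_of_cjs_eq (Subgroup.eq_of_le_of_card_ge h (by rw [card_cjs]))

end NormCjs


end Cfsg.Agent.Lib.Helper29
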