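import Cfsg.Agent.Lib.Helper29.BisetFix

/-!
Abstract stabilisation of a virtual `Γ`-set: level-by-level correction of fixed-point counts.
-/
set_option autoImplicit false

namespace Cfsg.Agent.Lib.Helper29

section Induct
variable {Γ : Type*} [Group Γ]

/-- the total fixed point count of the virtual `Γ`-set `m` -/
noncomputable def fmark (m : Subgroup Γ → ℤ) (K : Subgroup Γ) : ℤ := ∑ᶠ H : Subgroup Γ, m H * fixc K H

/-- the weight `|N(H)/H|` -/
noncomputable def wgt (H : Subgroup Γ) : ℤ := fixc H H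

theorem wgt_mul_card [Finite Γ] (H : Subgroup Γ) :
    wgt H * (Nat.card H : ℤ) = (Nat.card (Subgroup.normalizer (H : Set Γ)) : ℤ) := fixc_self_mul_card H

theorem wgt_ne_zero [Finite Γ] (H : Subgroup Γ) : wgt H ≠ 0 := by
  intro h
  have := wgt_mul_card H
  rw [h, zero_mul] at this
  have h2 : Nat.card (Subgroup.normalizer (H : Set Γ)) ≠ 0 := Nat.card_pos.ne'
  exact h2 (by exact_mod_cast this.symm)

theorem fixc_cjs_eq_wgt (g : Γ) (H : Subgroup Γ) : fixc (cjs g H) H = wgt H := fixc_cjs_left g H H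

theorem fmark_cjs (m : Subgroup Γ → ℤ) (g : Γ) (K : Subgroup Γ) : fmark m (cjs g K) = fmark m K := by
  unfold fmark
  exact finsum_congr (fun H => by rw [fixc_cjs_left])

theorem fmark_add [Finite Γ] (m d : Subgroup Γ → ℤ) (K : Subgroup Γ) :
    fmark (fun H => m H + d H) K = fmark m K + fmark d K := by
  unfold fmark
  rw [← finsum_add_distrib (Set.toFinite _) (Set.toFinite _)]
  exact finsum_congr (fun H => by ring)

/-- conjugacy of subgroups as a setoid -/
def cjSetoid (Γ : Type*) [Group Γ] : Setoid (Subgroup Γ) where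
  r K K' := ∃ g : Γ, K' = cjs g K
  iseqv := {
    refl := fun K => ⟨1, (cjs_one K).symm⟩
    symm := by
      rintro K K' ⟨g, rfl⟩
      exact ⟨g⁻¹, (cjs_inv_cjs g K).symm⟩
    trans := by
      rintro K K' K'' ⟨g, rfl⟩ ⟨h, rfl⟩
      exact ⟨h * g, (cjs_mul h g K).symm⟩ }

/-- a chosen representative of the conjugacy class of a subgroup -/
noncomputable def classRep (K : Subgroup Γ) : Subgroup Γ := (Quotient.mk (cjSetoid Γ) K).out

theorem classRep_spec (K : Subgroup Γ) : ∃ g : Γ, classRep K = cjs g K := by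
  have h : (cjSetoid Γ).r K (classRep K) :=
    (cjSetoid Γ).symm (Quotient.exact (Quotient.out_eq (Quotient.mk (cjSetoid Γ) K)))
  obtain ⟨g, hg⟩ := h
  exact ⟨g, hg⟩

theorem classRep_cjs (g : Γ) (K : Subgroup Γ) : classRep (cjs g K) = classRep K := by
  unfold classRep
  congr 1
  exact Quotient.sound ((cjSetoid Γ).symm ⟨g, rfl⟩)

theorem classRep_classRep (K : Subgroup Γ) : classRep (classRep K) = classRep K := by
  obtain ⟨g, hg⟩ := classRep_spec K
  rw [hg, classRep_cjs]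
  exact hg

/-- the data for the stabilisation procedure -/
structure StabCtx (Γ : Type*) [Group Γ] where
  Good : Subgroup Γ → Prop
  Rel : Subgroup Γ → Subgroup Γ → Prop
  rep : Subgroup Γ → Subgroup Γ
  good_cjs : ∀ g K, Good K → Good (cjs g K)
  rel_card : ∀ K K', Good K → Good K' → Rel K K' → Nat.card K = Nat.card K'
  rel_cjs : ∀ g K, Good K → Rel K (cjs g K)
  rel_rep : ∀ K, Good K → Rel K (rep K)
  good_rep : ∀ K, Good K → Good (rep K)
  rep_eq : ∀ K K', Good K → Good K' → Rel K K' → rep K = rep K'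

/-- stability above the order `k` -/
def StabCtx.StAbove (C : StabCtx Γ) (m : Subgroup Γ → ℤ) (k : ℕ) : Prop :=
  ∀ K K', C.Good K → C.Good K' → C.Rel K K' → k < Nat.card K → fmark m K = fmark m K'

/-- the congruence hypothesis -/
def StabCtx.Congr (C : StabCtx Γ) : Prop :=
  ∀ (m : Subgroup Γ → ℤ) (k : ℕ), (∀ H, m H ≠ 0 → C.Good H) → C.StAbove m k →
    ∀ Δ, C.Good Δ → Nat.card Δ = k → wgt Δ ∣ fmark m Δ - fmark m (C.rep Δ)

open Classical in
/-- the correction at level `k` -/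
noncomputable def StabCtx.delta (C : StabCtx Γ) (m : Subgroup Γ → ℤ) (k : ℕ) (H : Subgroup Γ) : ℤ :=
  if C.Good H ∧ Nat.card H = k ∧ classRep H = H then (fmark m (C.rep H) - fmark m H) / wgt H else 0

theorem StabCtx.delta_ne_zero (C : StabCtx Γ) {m : Subgroup Γ → ℤ} {k : ℕ} {H : Subgroup Γ}
    (h : C.delta m k H ≠ 0) : C.Good H ∧ Nat.card H = k ∧ classRep H = H ∧ fmark m (C.rep H) ≠ fmark m H := by
  unfold StabCtx.delta at h
  split_ifs at h with hc
  · refine ⟨hc.1, hc.2.1, hc.2.2, ?_⟩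
    intro heq
    rw [heq, sub_self, Int.zero_ediv] at h
    exact h rfl
  · exact absurd rfl h

theorem StabCtx.fmark_delta_of_lt [Finite Γ] (C : StabCtx Γ) (m : Subgroup Γ → ℤ) (k : ℕ) (K : Subgroup Γ)
    (hK : k < Nat.card K) : fmark (C.delta m k) K = 0 := by
  unfold fmark
  apply finsum_eq_zero_of_forall_eq_zero
  intro H
  by_cases hd : C.delta m k H = 0
  · rw [hd, zero_mul]
  · obtain ⟨_, hc, _, _⟩ := C.delta_ne_zero hd
    rw [fixc_eq_zero_of_card_lt (by omega), mul_zero]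

theorem StabCtx.fmark_delta_of_eq [Finite Γ] (C : StabCtx Γ) (hC : C.Congr) (m : Subgroup Γ → ℤ) (k : ℕ)
    (hm : ∀ H, m H ≠ 0 → C.Good H) (hst : C.StAbove m k) (K : Subgroup Γ) (hKg : C.Good K)
    (hK : Nat.card K = k) : fmark (C.delta m k) K = fmark m (C.rep K) - fmark m K := by
  obtain ⟨g, hg⟩ := classRep_spec K
  set H₀ := classRep K with hH₀
  have hH₀g : C.Good H₀ := by rw [hg]; exact C.good_cjs g K hKg
  have hH₀c : Nat.card H₀ = k := by rw [hg, card_cjs, hK]
  have hH₀r : classRep H₀ = H₀ := classRep_classRep K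
  have hrep : C.rep H₀ = C.rep K := by
    rw [hg]
    exact (C.rep_eq K (cjs g K) hKg (C.good_cjs g K hKg) (C.rel_cjs g K hKg)).symm
  have hfm : fmark m H₀ = fmark m K := by rw [hg, fmark_cjs]
  have hKH : K = cjs g⁻¹ H₀ := by rw [hg, cjs_inv_cjs]
  unfold fmark
  rw [finsum_eq_single _ H₀]
  · have hd : C.delta m k H₀ = (fmark m (C.rep H₀) - fmark m H₀) / wgt H₀ := by
      unfold StabCtx.delta
      rw [if_pos ⟨hH₀g, hH₀c, hH₀r⟩]
    have hdvd := hC m k hm hst H₀ hH₀g hH₀c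
    rw [hd, hKH, fixc_cjs_eq_wgt]
    have hdvd' : wgt H₀ ∣ fmark m (C.rep H₀) - fmark m H₀ := by
      have : fmark m (C.rep H₀) - fmark m H₀ = -(fmark m H₀ - fmark m (C.rep H₀)) := by ring
      rw [this]
      exact (dvd_neg).2 hdvd
    rw [Int.ediv_mul_cancel hdvd', hrep, hfm]
    unfold fmark
    rw [← hKH]
  · intro H hH
    by_cases hd : C.delta m k H = 0
    · rw [hd, zero_mul]
    · obtain ⟨_, hc, hr, _⟩ := C.delta_ne_zero hd
      by_cases hf : fixc K H = 0
      · rw [hf, mul_zero]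
      · exfalso
        obtain ⟨g', hg'⟩ := eq_cjs_of_fixc_ne_zero (hK.trans hc.symm) hf
        apply hH
        rw [← hr, hH₀, hg', classRep_cjs]

theorem StabCtx.step [Finite Γ] (C : StabCtx Γ) (hC : C.Congr) (m₀ m : Subgroup Γ → ℤ) (k : ℕ)
    (hm : ∀ H, m H ≠ 0 → C.Good H) (hst : C.StAbove m k)
    (hinv : ∀ H, m H ≠ m₀ H → C.Good H ∧ ¬ ∃ g, H = cjs g (C.rep H)) :
    ∃ m' : Subgroup Γ → ℤ, (∀ H, m' H ≠ 0 → C.Good H) ∧ C.StAbove m' (k - 1) ∧
      (∀ H, m' H ≠ m₀ H → C.Good H ∧ ¬ ∃ g, H = cjs g (C.rep H)) := by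
  refine ⟨fun H => m H + C.delta m k H, ?_, ?_, ?_⟩
  · intro H hH
    by_cases h1 : m H = 0
    · have : C.delta m k H ≠ 0 := by
        intro h2
        apply hH
        show m H + C.delta m k H = 0
        rw [h1, h2, add_zero]
      exact (C.delta_ne_zero this).1
    · exact hm H h1
  · intro K K' hK hK' hrel hlt
    rw [fmark_add, fmark_add]
    have hKK' : Nat.card K = Nat.card K' := C.rel_card K K' hK hK' hrel
    by_cases hk : k < Nat.card K
    · rw [C.fmark_delta_of_lt m k K hk, C.fmark_delta_of_lt m k K' (hKK' ▸ hk), hst K K' hK hK' hrel hk]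
    · have hKk : Nat.card K = k := by omega
      rw [C.fmark_delta_of_eq hC m k hm hst K hK hKk,
        C.fmark_delta_of_eq hC m k hm hst K' hK' (hKK' ▸ hKk), C.rep_eq K K' hK hK' hrel]
      ring
  · intro H hH
    by_cases h1 : m H = m₀ H
    · have hd : C.delta m k H ≠ 0 := by
        intro h2
        apply hH
        show m H + C.delta m k H = m₀ H
        rw [h2, add_zero, h1]
      obtain ⟨hg, _, _, hne⟩ := C.delta_ne_zero hd
      refine ⟨hg, ?_⟩
      rintro ⟨g, hg'⟩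
      apply hne
      have : fmark m H = fmark m (cjs g (C.rep H)) := congrArg (fmark m) hg'
      rw [this, fmark_cjs]
    · exact hinv H h1

end Induct

section Induct2
variable {Γ : Type*} [Group Γ]

theorem StabCtx.exists_stable [Finite Γ] (C : StabCtx Γ) (hC : C.Congr) (m₀ : Subgroup Γ → ℤ)
    (hm₀ : ∀ H, m₀ H ≠ 0 → C.Good H) :
    ∃ m : Subgroup Γ → ℤ, (∀ H, m H ≠ 0 → C.Good H) ∧
      (∀ K K', C.Good K → C.Good K' → C.Rel K K' → fmark m K = fmark m K') ∧
      (∀ H, m H ≠ m₀ H → C.Good H ∧ ¬ ∃ g, H = cjs g (C.rep H)) := by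
  have key : ∀ j : ℕ, ∃ m : Subgroup Γ → ℤ, (∀ H, m H ≠ 0 → C.Good H) ∧
      C.StAbove m (Nat.card Γ - j) ∧ (∀ H, m H ≠ m₀ H → C.Good H ∧ ¬ ∃ g, H = cjs g (C.rep H)) := by
    intro j
    induction j with
    | zero =>
      refine ⟨m₀, hm₀, ?_, fun H h => absurd rfl h⟩
      intro K K' _ _ _ hlt
      have := Subgroup.card_le_card_group K
      omega
    | succ j ih =>
      obtain ⟨m, h1, h2, h3⟩ := ih
      obtain ⟨m', h1', h2', h3'⟩ := C.step hC m₀ m _ h1 h2 h3
      refine ⟨m', h1', ?_, h3'⟩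
      have : Nat.card Γ - (j + 1) = Nat.card Γ - j - 1 := by omega
      rw [this]
      exact h2'
  obtain ⟨m, h1, h2, h3⟩ := key (Nat.card Γ)
  refine ⟨m, h1, ?_, h3⟩
  intro K K' hK hK' hrel
  apply h2 K K' hK hK' hrel
  rw [Nat.sub_self]
  exact Nat.card_pos

end Induct2


section Burnside
variable {Γ : Type*} [Group Γ]

theorem burnside_fmark [Finite Γ] (m : Subgroup Γ → ℤ) (K N₀ : Subgroup Γ)
    (hN : N₀ ≤ Subgroup.normalizer (K : Set Γ)) :
    (Nat.card N₀ : ℤ) ∣ ∑ᶠ g : N₀, fmark m (K ⊔ Subgroup.zpowers (g : Γ)) := by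
  classical
  letI : Fintype N₀ := Fintype.ofFinite _
  letI : Fintype (Subgroup Γ) := Fintype.ofFinite _
  rw [finsum_eq_sum_of_fintype]
  have h1 : ∀ g : N₀, fmark m (K ⊔ Subgroup.zpowers (g : Γ)) =
      ∑ H : Subgroup Γ, m H * fixc (K ⊔ Subgroup.zpowers (g : Γ)) H := by
    intro g
    unfold fmark
    rw [finsum_eq_sum_of_fintype]
  rw [Finset.sum_congr rfl (fun g _ => h1 g), Finset.sum_comm]
  apply Finset.dvd_sum
  intro H _
  rw [← Finset.mul_sum]
  apply Dvd.dvd.mul_left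
  have := burnside_dvd K H N₀ hN
  rwa [finsum_eq_sum_of_fintype] at this

end Burnside


end Cfsg.Agent.Lib.Helper29
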