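import Cfsg.Agent.Lib.Helper29.BisetData

/-!
Invariance of the orbit counts of a fusion-stable virtual biset under conjugacy of elements in the system.
-/
set_option autoImplicit false
open Cfsg

namespace Cfsg.Agent.Lib.Helper29

variable {Ω : Type*} [Group Ω] {S : Subgroup Ω}

/-- weighted sum over the orbit types -/
noncomputable def wsum (m : Subgroup (S × S) → ℤ) (c : Subgroup (S × S) → ℕ) : ℤ :=
  ∑ᶠ H : Subgroup (S × S), m H * (c H : ℤ)

theorem wsum_congr {m : Subgroup (S × S) → ℤ} {c c' : Subgroup (S × S) → ℕ}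
    (h : ∀ H, m H ≠ 0 → c H = c' H) : wsum m c = wsum m c' := by
  unfold wsum
  apply finsum_congr
  intro H
  by_cases hm : m H = 0
  · rw [hm, zero_mul, zero_mul]
  · rw [h H hm]

theorem wsum_sum [Finite S] {ι : Type*} (m : Subgroup (S × S) → ℤ) (t : Finset ι)
    (c : ι → Subgroup (S × S) → ℕ) :
    wsum m (fun H => ∑ r ∈ t, c r H) = ∑ r ∈ t, wsum m (c r) := by
  classical
  letI : Fintype (Subgroup (S × S)) := Fintype.ofFinite _
  unfold wsum
  rw [finsum_eq_sum_of_fintype]
  have : ∀ r, (∑ᶠ H : Subgroup (S × S), m H * (c r H : ℤ)) = ∑ H : Subgroup (S × S), m H * (c r H : ℤ) :=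
    fun r => finsum_eq_sum_of_fintype _
  rw [Finset.sum_congr rfl (fun r _ => this r), Finset.sum_comm]
  apply Finset.sum_congr rfl
  intro H _
  push_cast
  rw [Finset.mul_sum]

theorem wsum_mul [Finite S] (m : Subgroup (S × S) → ℤ) (k : ℕ) (c : Subgroup (S × S) → ℕ) :
    wsum m (fun H => k * c H) = (k : ℤ) * wsum m c := by
  classical
  letI : Fintype (Subgroup (S × S)) := Fintype.ofFinite _
  unfold wsum
  rw [finsum_eq_sum_of_fintype, finsum_eq_sum_of_fintype, Finset.mul_sum]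
  apply Finset.sum_congr rfl
  intro H _
  push_cast
  ring

section Counts
variable (F : FusionSystem S) (m : Subgroup (S × S) → ℤ) {A : Type*}

/-- weighted number of fixed cosets with a given value -/
noncomputable def FXm (u : S) (χ : S → A) (b : A) : ℤ := wsum m (fun H => (dataOf F H).FXc u χ b)

/-- weighted number of cosets of period `r` with a given value -/
noncomputable def PTm (e : S) (r : ℕ) (χ : S → A) (b : A) : ℤ := wsum m (fun H => (dataOf F H).PTc e r χ b)

/-- weighted number of orbits of length `r` with a given value -/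
noncomputable def OCm (e : S) (r : ℕ) (χ : S → A) (b : A) : ℤ := wsum m (fun H => (dataOf F H).OCc e r χ b)

/-- weighted number of orbits with a given value -/
noncomputable def ORm (e : S) (χ : S → A) (b : A) : ℤ := wsum m (fun H => (dataOf F H).ORc e χ b)

open Classical in
theorem sum_fmark_eq [Finite S] (h1 : ∀ H, m H ≠ 0 → TwGood F H) (u : S) (χ : S → A)
    (hχ : ∀ a z, χ (a⁻¹ * z * a) = χ z) (b : A) :
    ∑ᶠ h : S, (if χ h = b then fmark m (Subgroup.zpowers ((u, h) : S × S)) else 0) =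
      (Nat.card S : ℤ) * FXm F m u χ b := by
  letI : Fintype S := Fintype.ofFinite _
  letI : Fintype (Subgroup (S × S)) := Fintype.ofFinite _
  unfold FXm wsum fmark
  rw [finsum_eq_sum_of_fintype, finsum_eq_sum_of_fintype, Finset.mul_sum]
  have e1 : ∀ h : S, (if χ h = b then ∑ᶠ H : Subgroup (S × S), m H * fixc (Subgroup.zpowers ((u, h) : S × S)) H
      else 0) = ∑ H : Subgroup (S × S), m H * (if χ h = b then fixc (Subgroup.zpowers ((u, h) : S × S)) H else 0) := by
    intro h
    rw [finsum_eq_sum_of_fintype]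
    split_ifs
    · rfl
    · simp
  rw [Finset.sum_congr rfl (fun h _ => e1 h), Finset.sum_comm]
  apply Finset.sum_congr rfl
  intro H _
  rw [← Finset.mul_sum]
  by_cases hm : m H = 0
  · rw [hm, zero_mul, zero_mul, mul_zero]
  · have h3 := (dataOf F H).sum_fixc_eq u χ hχ b
    rw [finsum_eq_sum_of_fintype, dataOf_H F (h1 H hm)] at h3
    rw [h3]
    ring

theorem FXm_eq_of_isConjElt [Finite S] (h1 : ∀ H, m H ≠ 0 → TwGood F H)
    (h2 : ∀ K K', TwGood F K → TwGood F K' → pr2 K' = pr2 K → fmark m K = fmark m K')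
    {u u' : S} (hc : F.IsConjElt (u : Ω) (u' : Ω)) (χ : S → A) (hχ : ∀ a z, χ (a⁻¹ * z * a) = χ z) (b : A) :
    FXm F m u χ b = FXm F m u' χ b := by
  classical
  have e1 := sum_fmark_eq F m h1 u χ hχ b
  have e2 := sum_fmark_eq F m h1 u' χ hχ b
  have e3 : ∑ᶠ h : S, (if χ h = b then fmark m (Subgroup.zpowers ((u, h) : S × S)) else 0) =
      ∑ᶠ h : S, (if χ h = b then fmark m (Subgroup.zpowers ((u', h) : S × S)) else 0) := by
    apply finsum_congr
    intro h
    rw [fmark_zpowers_eq F m h1 h2 hc h]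
  rw [e3, e2] at e1
  have hne : (Nat.card S : ℤ) ≠ 0 := by
    have : Nat.card S ≠ 0 := Nat.card_pos.ne'
    exact_mod_cast this
  exact (mul_left_cancel₀ hne e1).symm

theorem FXm_pow_eq_sum [Finite S] (e : S) (s : ℕ) (hs : 0 < s) (χ : S → A) (b : A) :
    FXm F m (e ^ s) χ b = ∑ r ∈ s.divisors, PTm F m e r (fun y => χ (y ^ (s / r))) b := by
  unfold FXm PTm
  rw [← wsum_sum]
  apply wsum_congr
  intro H _
  exact (dataOf F H).FXc_eq_sum e s hs χ b

theorem PTm_eq_mul_OCm [Finite S] (e : S) (r : ℕ) (χ : S → A) (hχ : ∀ a z, χ (a⁻¹ * z * a) = χ z) (b : A) :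
    PTm F m e r χ b = (r : ℤ) * OCm F m e r χ b := by
  unfold PTm OCm
  rw [← wsum_mul]
  apply wsum_congr
  intro H _
  exact (dataOf F H).PTc_eq_mul_OCc e r χ hχ b

theorem ORm_eq_sum [Finite S] (e : S) (χ : S → A) (b : A) :
    ORm F m e χ b = ∑ r ∈ Finset.Icc 1 (Nat.card S), OCm F m e r χ b := by
  unfold ORm OCm
  rw [← wsum_sum]
  apply wsum_congr
  intro H _
  exact (dataOf F H).ORc_eq_sum e χ b

theorem PTm_eq_of_isConjElt [Finite S] (h1 : ∀ H, m H ≠ 0 → TwGood F H)
    (h2 : ∀ K K', TwGood F K → TwGood F K' → pr2 K' = pr2 K → fmark m K = fmark m K')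
    {e e' : S} (hc : F.IsConjElt (e : Ω) (e' : Ω)) (s : ℕ) :
    0 < s → ∀ (χ : S → A) (_ : ∀ a z, χ (a⁻¹ * z * a) = χ z) (b : A), PTm F m e s χ b = PTm F m e' s χ b := by
  induction s using Nat.strong_induction_on with
  | _ s ih =>
    intro hs χ hχ b
    have hcs : F.IsConjElt ((e ^ s : S) : Ω) ((e' ^ s : S) : Ω) := by
      rw [Subgroup.coe_pow, Subgroup.coe_pow]
      exact isConjElt_pow F hc s
    have e1 := FXm_eq_of_isConjElt F m h1 h2 hcs χ hχ b
    rw [FXm_pow_eq_sum F m e s hs, FXm_pow_eq_sum F m e' s hs,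
      ← Nat.cons_self_properDivisors hs.ne', Finset.sum_cons, Finset.sum_cons] at e1
    have e2 : ∑ r ∈ s.properDivisors, PTm F m e r (fun y => χ (y ^ (s / r))) b =
        ∑ r ∈ s.properDivisors, PTm F m e' r (fun y => χ (y ^ (s / r))) b := by
      apply Finset.sum_congr rfl
      intro r hr
      rw [Nat.mem_properDivisors] at hr
      apply ih r hr.2 (Nat.pos_of_dvd_of_pos hr.1 hs)
      intro a z
      show χ ((a⁻¹ * z * a) ^ (s / r)) = χ (z ^ (s / r))
      rw [TwData.inv_conj_pow, hχ]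
    rw [e2] at e1
    have e3 := add_right_cancel e1
    have e4 : (fun y : S => χ (y ^ (s / s))) = χ := by
      funext y
      rw [Nat.div_self hs, pow_one]
    rw [e4] at e3
    exact e3

theorem ORm_eq_of_isConjElt [Finite S] (h1 : ∀ H, m H ≠ 0 → TwGood F H)
    (h2 : ∀ K K', TwGood F K → TwGood F K' → pr2 K' = pr2 K → fmark m K = fmark m K')
    {e e' : S} (hc : F.IsConjElt (e : Ω) (e' : Ω)) (χ : S → A) (hχ : ∀ a z, χ (a⁻¹ * z * a) = χ z) (b : A) :
    ORm F m e χ b = ORm F m e' χ b := by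
  rw [ORm_eq_sum, ORm_eq_sum]
  apply Finset.sum_congr rfl
  intro r hr
  rw [Finset.mem_Icc] at hr
  have hr0 : 0 < r := hr.1
  have e1 := PTm_eq_of_isConjElt F m h1 h2 hc r hr0 χ hχ b
  rw [PTm_eq_mul_OCm F m e r χ hχ, PTm_eq_mul_OCm F m e' r χ hχ] at e1
  have hne : (r : ℤ) ≠ 0 := by exact_mod_cast hr0.ne'
  exact mul_left_cancel₀ hne e1

end Counts

end Cfsg.Agent.Lib.Helper29
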