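import Cfsg.Agent.Lib.Helper29.FusionAut

set_option autoImplicit false
open Cfsg

namespace Cfsg.Agent.Lib.Helper29

variable {Ω : Type*} [Group Ω] {S : Subgroup Ω}

theorem le_normalizerIn {P : Subgroup Ω} (hP : P ≤ S) : P ≤ FusionSystem.normalizerIn S P :=
  fun _ hx => ⟨hP hx, Subgroup.le_normalizer hx⟩

theorem finite_of_le [Finite S] {P : Subgroup Ω} (hP : P ≤ S) : Finite P :=
  Finite.of_injective (Subgroup.inclusion hP) (Subgroup.inclusion_injective hP)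

theorem isPGroup_autInducedBy {p : ℕ} (hS : IsPGroup p S) (Q : Subgroup Ω) :
    IsPGroup p (autInducedBy S Q) := by
  rw [autInducedBy_eq_map]
  exact (hS.comap_subtype).map _

/-- AKO Lemma I.2.6(c): if `P` is fully automized and receptive and `Q` is `F`-conjugate to `P`, there is
a map `N_S(Q) → N_S(P)` of the system carrying `Q` onto `P`. -/
theorem exists_hom_normalizer [Finite S] (p : ℕ) [Fact p.Prime] (hS : IsPGroup p S) (F : FusionSystem S)
    (P Q : Subgroup Ω) (h₁ : F.IsFullyAutomized p P) (h₂ : F.IsReceptive P) (hQ : F.IsConj Q P) :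
    ∃ φ ∈ F.Hom (FusionSystem.normalizerIn S Q),
      (∀ x, φ x ∈ FusionSystem.normalizerIn S P) ∧
      (∀ (x : Ω) (hx : x ∈ Q) (hx' : x ∈ FusionSystem.normalizerIn S Q), φ ⟨x, hx'⟩ ∈ P) ∧
      (Q.subgroupOf (FusionSystem.normalizerIn S Q)).map φ = P := by
  obtain ⟨φ₁, hφ₁, hr⟩ := hQ
  have hQS : Q ≤ S := le_of_hom_mem F hφ₁
  have hPS : P ≤ S := h₁.1
  set e := isoOfHom F hφ₁ hr with he
  obtain ⟨_, R, hR⟩ := h₁
  haveI : Finite P := finite_of_le hPS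
  set K := (autInducedBy S Q).map (MulAut.congr e).toMonoidHom with hK
  have hKA : K ≤ F.autGroup P := by
    rintro _ ⟨α, hα, rfl⟩
    exact congr_mem_autGroup F hφ₁ hr (autInducedBy_le_autGroup F hQS hα)
  have hKp : IsPGroup p K := (isPGroup_autInducedBy hS Q).map _
  have hKp' : IsPGroup p (K.subgroupOf (F.autGroup P)) := (isPGroup_subgroupOf_iff_of_le hKA).2 hKp
  obtain ⟨χ, hχ⟩ := exists_cj_le_sylow R hKp'
  have hχmem : P.subtype.comp (χ : MulAut P).toMonoidHom ∈ F.Hom P := (mem_autGroup_iff F hPS).1 χ.2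
  set φ₀ : Q →* Ω := P.subtype.comp ((χ : MulAut P).toMonoidHom.comp e.toMonoidHom) with hφ₀def
  have hφ₁P : ∀ x : Q, φ₁ x ∈ P := fun x => hr ▸ ⟨x, rfl⟩
  have hφ₀ : φ₀ ∈ F.Hom Q := by
    apply comp_mem' F hφ₁ hχmem hφ₁P
    intro x
    rfl
  have hr₀ : φ₀.range = P := by
    ext y
    constructor
    · rintro ⟨x, rfl⟩
      exact ((χ : MulAut P) (e x)).2
    · intro hy
      refine ⟨e.symm ((χ : MulAut P).symm ⟨y, hy⟩), ?_⟩
      simp [hφ₀def]
  have key : ∀ g ∈ FusionSystem.normalizerIn S Q, ∃ h ∈ S, ∀ (x : Q) (hx : g * (x : Ω) * g⁻¹ ∈ Q),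
      φ₀ ⟨g * x * g⁻¹, hx⟩ = h * φ₀ x * h⁻¹ := by
    intro g hg
    set α := Q.normalizerMonoidHom ⟨g, hg.2⟩ with hα
    have hαmem : α ∈ autInducedBy S Q := Subgroup.subset_closure ⟨g, hg.1, fun x => rfl⟩
    have hk : MulAut.congr e α ∈ K := ⟨α, hαmem, rfl⟩
    have hk' : (⟨MulAut.congr e α, hKA hk⟩ : F.autGroup P) ∈ K.subgroupOf (F.autGroup P) := hk
    have h3 := hχ (conj_mem_cj (g := χ) hk')
    rw [hR, Subgroup.mem_subgroupOf, autInducedBy_eq_map] at h3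
    obtain ⟨n, hn, hn'⟩ := h3
    refine ⟨n.1, hn, ?_⟩
    intro x hx
    have h4 : ∀ y : P, ((P.normalizerMonoidHom n y : P) : Ω) =
        (((χ : MulAut P) ((MulAut.congr e α) ((χ : MulAut P)⁻¹ y)) : P) : Ω) := by
      intro y
      rw [hn']
      rfl
    have h5 := h4 ((χ : MulAut P) (e x))
    rw [normalizerMonoidHom_apply_coe] at h5
    show (((χ : MulAut P) (e ⟨g * x * g⁻¹, hx⟩) : P) : Ω) = n.1 * (((χ : MulAut P) (e x) : P) : Ω) * n.1⁻¹
    rw [h5]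
    simp only [MulAut.inv_apply_self, MulAut.congr_apply, MulEquiv.trans_apply,
      MulEquiv.symm_apply_apply]
    rfl
  have hext : FusionSystem.extender S Q φ₀ = FusionSystem.normalizerIn S Q := by
    apply le_antisymm
    · unfold FusionSystem.extender
      rw [Subgroup.closure_le]
      rintro g ⟨hgS, hgN, _⟩
      exact ⟨hgS, hgN⟩
    · intro g hg
      exact Subgroup.subset_closure ⟨hg.1, hg.2, key g hg⟩
  obtain ⟨ψ, hψ, hψe⟩ := h₂.2 Q φ₀ hφ₀ hr₀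
  have hφmem := hom_cast_mem F hext.symm hψ
  set φ := ψ.comp (Subgroup.inclusion hext.symm.le) with hφdef
  have hφQ : ∀ (x : Ω) (hx : x ∈ Q) (hx' : x ∈ FusionSystem.normalizerIn S Q),
      φ ⟨x, hx'⟩ = φ₀ ⟨x, hx⟩ := by
    intro x hx hx'
    exact hψe x hx (hext.symm.le hx')
  have hφ₀P : ∀ x : Q, φ₀ x ∈ P := fun x => hr₀ ▸ ⟨x, rfl⟩
  have hQN : Q ≤ FusionSystem.normalizerIn S Q := le_normalizerIn hQS
  have hnorm1 : ∀ g : FusionSystem.normalizerIn S Q, ∀ y ∈ P, φ g * y * (φ g)⁻¹ ∈ P := by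
    intro g y hy
    rw [← hr₀] at hy
    obtain ⟨x, rfl⟩ := hy
    have hx : (g : Ω) * x * (g : Ω)⁻¹ ∈ Q := by
      have := (Subgroup.mem_normalizer_iff.1 g.2.2 (x : Ω)).1 x.2
      exact this
    have e1 : φ g * φ₀ x * (φ g)⁻¹ = φ₀ ⟨(g : Ω) * x * (g : Ω)⁻¹, hx⟩ := by
      rw [← hφQ x x.2 (hQN x.2), ← hφQ _ hx (hQN hx), ← map_inv, ← map_mul, ← map_mul]
      rfl
    rw [e1]
    exact hφ₀P _
  refine ⟨φ, hφmem, ?_, ?_, ?_⟩
  · intro g
    refine ⟨(F.le_of_mem hφmem).2 g, ?_⟩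
    show φ g ∈ Subgroup.normalizer (P : Set Ω)
    rw [Subgroup.mem_normalizer_iff]
    intro y
    constructor
    · exact hnorm1 g y
    · intro hy
      have := hnorm1 g⁻¹ _ hy
      rw [map_inv] at this
      have e2 : (φ g)⁻¹ * (φ g * y * (φ g)⁻¹) * (φ g)⁻¹⁻¹ = y := by group
      rwa [e2] at this
  · intro x hx hx'
    rw [hφQ x hx hx']
    exact hφ₀P _
  · ext y
    constructor
    · rintro ⟨x, hx, rfl⟩
      rw [SetLike.mem_coe, Subgroup.mem_subgroupOf] at hx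
      have : φ x = φ₀ ⟨x, hx⟩ := hφQ x hx x.2
      rw [this]
      exact hφ₀P _
    · intro hy
      rw [← hr₀] at hy
      obtain ⟨x, rfl⟩ := hy
      refine ⟨⟨x, hQN x.2⟩, ?_, hφQ x x.2 _⟩
      rw [SetLike.mem_coe, Subgroup.mem_subgroupOf]
      exact x.2

end Cfsg.Agent.Lib.Helper29
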