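import Cfsg.Agent.Lib.Helper29.BisetCongr
import Cfsg.Agent.Lib.Helper29.FusionNormalizer
import Cfsg.Agent.Lib.Helper29.FusionInner
import Cfsg.Agent.Lib.Helper29.FusionRS

/-!
Representatives of the classes of twisted diagonals and the congruence hypothesis.
-/
set_option autoImplicit false
open Cfsg

namespace Cfsg.Agent.Lib.Helper29

variable {Ω : Type*} [Group Ω] {S : Subgroup Ω}

/-- `(D', ψ')` is a good representative of the pairs with image `R₀` -/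
structure ValidRep (F : FusionSystem S) (R₀ D' : Subgroup Ω) (ψ' : D' →* Ω) : Prop where
  mem : ψ' ∈ F.Hom D'
  range : ψ'.range = R₀
  recv : F.IsReceptive D'
  extn : ∃ χ ∈ F.Hom (FusionSystem.normalizerIn S R₀),
    ∀ (r : Ω) (_ : r ∈ R₀) (hr' : r ∈ FusionSystem.normalizerIn S R₀),
      ∃ hD : χ ⟨r, hr'⟩ ∈ D', ψ' ⟨χ ⟨r, hr'⟩, hD⟩ = r

theorem exists_validRep [Finite S] (p : ℕ) [Fact p.Prime] (hS : IsPGroup p S) (F : FusionSystem S)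
    (hF : F.IsSaturated p) {R₀ : Subgroup Ω} (hR₀ : R₀ ≤ S) :
    ∃ (D' : Subgroup Ω) (ψ' : D' →* Ω), ValidRep F R₀ D' ψ' := by
  obtain ⟨Q, hRQ, hfa, hrec⟩ := hF R₀ hR₀
  obtain ⟨χ, hχ, hχN, hχQ, hmap⟩ := exists_hom_normalizer p hS F Q R₀ hfa hrec hRQ
  have hle : R₀ ≤ FusionSystem.normalizerIn S R₀ := le_normalizerIn hR₀
  set χ₀ : R₀ →* Ω := χ.comp (Subgroup.inclusion hle) with hχ₀
  have hχ₀m : χ₀ ∈ F.Hom R₀ := restrict_mem F hle hχ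
  have hrange : χ₀.range = Q := by
    rw [← hmap]
    ext y
    constructor
    · rintro ⟨x, rfl⟩
      exact ⟨⟨x.1, hle x.2⟩, x.2, rfl⟩
    · rintro ⟨x, hx, rfl⟩
      exact ⟨⟨x.1, hx⟩, rfl⟩
  obtain ⟨ι, hι, hιv⟩ := F.inv_mem hχ₀m
  refine ⟨χ₀.range, ι, hι, ?_, hrange ▸ hrec, χ, hχ, ?_⟩
  · ext y
    constructor
    · rintro ⟨⟨_, ⟨x, rfl⟩⟩, rfl⟩
      rw [hιv x]
      exact x.2
    · intro hy
      exact ⟨⟨χ₀ ⟨y, hy⟩, ⟨_, rfl⟩⟩, hιv ⟨y, hy⟩⟩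
  · intro r hr hr'
    have h1 : χ ⟨r, hr'⟩ = χ₀ ⟨r, hr⟩ := rfl
    refine ⟨⟨⟨r, hr⟩, h1.symm⟩, ?_⟩
    have e1 : (⟨χ ⟨r, hr'⟩, ⟨⟨r, hr⟩, h1.symm⟩⟩ : χ₀.range) = ⟨χ₀ ⟨r, hr⟩, ⟨_, rfl⟩⟩ := Subtype.ext h1
    rw [e1]
    exact hιv ⟨r, hr⟩

theorem validRep_top [Finite S] (F : FusionSystem S) : ValidRep F S S S.subtype := by
  refine ⟨subtype_mem F le_rfl, ?_, ⟨le_rfl, ?_⟩, ?_⟩
  · ext y
    constructor
    · rintro ⟨x, rfl⟩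
      exact x.2
    · intro hy
      exact ⟨⟨y, hy⟩, rfl⟩
  · intro P φ hφ hr
    have hPS : P ≤ S := (F.le_of_mem hφ).1
    haveI : Finite P := finite_of_le hPS
    have hcard : Nat.card S ≤ Nat.card P := by
      rw [← hr]
      exact (Nat.card_le_card_of_surjective (fun x : P => (⟨φ x, ⟨x, rfl⟩⟩ : φ.range))
        (by rintro ⟨_, ⟨x, rfl⟩⟩; exact ⟨x, rfl⟩))
    have hPeq : P = S := Subgroup.eq_of_le_of_card_ge hPS hcard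
    have hES : FusionSystem.extender S P φ ≤ S := by
      apply (Subgroup.closure_le _).2
      rintro g ⟨hg, _⟩
      exact hg
    have hE : FusionSystem.extender S P φ ≤ P := by
      intro g hg
      rw [hPeq]
      exact hES hg
    refine ⟨φ.comp (Subgroup.inclusion hE), restrict_mem F hE hφ, ?_⟩
    intro x hP hN
    rfl
  · refine ⟨(FusionSystem.normalizerIn S S).subtype, subtype_mem F inf_le_left, ?_⟩
    intro r hr hr'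
    exact ⟨hr, rfl⟩

/-- the comparison data built from a good representative -/
theorem exists_cgCtx [Finite S] (F : FusionSystem S) {D : Subgroup Ω} {ψ : D →* Ω} (hψ : ψ ∈ F.Hom D)
    {D' : Subgroup Ω} {ψ' : D' →* Ω} (hV : ValidRep F ψ.range D' ψ') :
    ∃ C : CgCtx F, C.Δ = Tw S D ψ ∧ C.Δ' = Tw S D' ψ' ∧ C.D = D := by
  obtain ⟨χ, hχ, hχv⟩ := hV.extn
  have hDS : D ≤ S := (F.le_of_mem hψ).1
  have hRS : ψ.range ≤ S := by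
    rintro _ ⟨x, rfl⟩
    exact (F.le_of_mem hψ).2 x
  have hRN : ψ.range ≤ FusionSystem.normalizerIn S ψ.range := le_normalizerIn hRS
  have hψN : ∀ x : D, ψ x ∈ FusionSystem.normalizerIn S ψ.range := fun x => hRN ⟨x, rfl⟩
  set η : D →* Ω := χ.comp (ψ.codRestrict _ hψN) with hη
  have hηm : η ∈ F.Hom D := F.comp_mem hψ hχ hψN
  have hηv : ∀ x : D, ∃ hD : η x ∈ D', ψ' ⟨η x, hD⟩ = ψ x := fun x => hχv (ψ x) ⟨x, rfl⟩ (hψN x)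
  have hηr : η.range = D' := by
    ext d
    constructor
    · rintro ⟨x, rfl⟩
      exact (hηv x).1
    · intro hd
      have h1 : ψ' ⟨d, hd⟩ ∈ ψ.range := by
        rw [← hV.range]
        exact ⟨_, rfl⟩
      obtain ⟨x, hx⟩ := h1
      obtain ⟨h2, h3⟩ := hηv x
      have h4 : ψ' ⟨η x, h2⟩ = ψ' ⟨d, hd⟩ := h3.trans hx
      have h5 := F.injective_of_mem hV.mem h4
      exact ⟨x, congrArg (fun z : D' => (z : Ω)) h5⟩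
  obtain ⟨ρ, hρ, hρv⟩ := hV.recv.2 D η hηm hηr
  have hDE : D ≤ FusionSystem.extender S D η := le_extender F hηm
  refine ⟨{ D := D, ψ := ψ, hψ := hψ, D' := D', ψ' := ψ', hψ' := hV.mem,
            E := FusionSystem.extender S D η, ρ := ρ, hρ := hρ, hDE := hDE,
            hρD := ?_, hNE := ?_, hcard := ?_ }, rfl, rfl, rfl⟩
  · intro x hx
    have h1 := hρv x hx (hDE hx)
    obtain ⟨h2, h3⟩ := hηv ⟨x, hx⟩
    refine ⟨h1 ▸ h2, ?_⟩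
    rw [← h3]
    congr 1
    exact Subtype.ext h1
  · intro g hg
    apply Subgroup.subset_closure
    have hnorm := Subgroup.mem_normalizer_iff.1 hg
    -- the action of `g` on the elements of the twisted diagonal
    have key : ∀ (x : Ω) (hx : x ∈ D), ∃ hx' : (g.1 : Ω) * x * (g.1 : Ω)⁻¹ ∈ D,
        ψ ⟨(g.1 : Ω) * x * (g.1 : Ω)⁻¹, hx'⟩ = (g.2 : Ω) * ψ ⟨x, hx⟩ * (g.2 : Ω)⁻¹ := by
      intro x hx
      have h1 : (⟨⟨x, hDS hx⟩, ⟨ψ ⟨x, hx⟩, hRS ⟨_, rfl⟩⟩⟩ : S × S) ∈ Tw S D ψ := ⟨hx, rfl⟩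
      have h2 := (hnorm _).1 h1
      obtain ⟨h3, h4⟩ := h2
      exact ⟨h3, h4⟩
    have key' : ∀ (x : Ω), (g.1 : Ω) * x * (g.1 : Ω)⁻¹ ∈ D → x ∈ D := by
      intro x hx
      set y := (g.1 : Ω) * x * (g.1 : Ω)⁻¹ with hy
      have h1 : (⟨⟨y, hDS hx⟩, ⟨ψ ⟨y, hx⟩, hRS ⟨_, rfl⟩⟩⟩ : S × S) ∈ Tw S D ψ := ⟨hx, rfl⟩
      have h2 : g * (g⁻¹ * (⟨⟨y, hDS hx⟩, ⟨ψ ⟨y, hx⟩, hRS ⟨_, rfl⟩⟩⟩ : S × S) * g) * g⁻¹ =
          (⟨⟨y, hDS hx⟩, ⟨ψ ⟨y, hx⟩, hRS ⟨_, rfl⟩⟩⟩ : S × S) := by group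
      have h3 := (hnorm (g⁻¹ * (⟨⟨y, hDS hx⟩, ⟨ψ ⟨y, hx⟩, hRS ⟨_, rfl⟩⟩⟩ : S × S) * g)).2 (by rw [h2]; exact h1)
      obtain ⟨h4, _⟩ := h3
      have h5 : (((g⁻¹ * (⟨⟨y, hDS hx⟩, ⟨ψ ⟨y, hx⟩, hRS ⟨_, rfl⟩⟩⟩ : S × S) * g).1 : S) : Ω) = x := by
        show (g.1 : Ω)⁻¹ * y * (g.1 : Ω) = x
        rw [hy]; group
      rwa [h5] at h4
    have hbN : (g.2 : Ω) ∈ FusionSystem.normalizerIn S ψ.range := by
      refine ⟨g.2.2, Subgroup.mem_normalizer_iff.2 ?_⟩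
      intro r
      constructor
      · rintro ⟨x, rfl⟩
        obtain ⟨h1, h2⟩ := key x x.2
        exact ⟨⟨_, h1⟩, h2⟩
      · rintro ⟨x, hx⟩
        -- apply `g⁻¹`
        have h1 : (⟨⟨x, hDS x.2⟩, ⟨ψ x, hRS ⟨_, rfl⟩⟩⟩ : S × S) ∈ Tw S D ψ := ⟨x.2, rfl⟩
        have h2 : g * (g⁻¹ * (⟨⟨x, hDS x.2⟩, ⟨ψ x, hRS ⟨_, rfl⟩⟩⟩ : S × S) * g) * g⁻¹ =
            (⟨⟨x, hDS x.2⟩, ⟨ψ x, hRS ⟨_, rfl⟩⟩⟩ : S × S) := by group
        have h3 := (hnorm (g⁻¹ * (⟨⟨x, hDS x.2⟩, ⟨ψ x, hRS ⟨_, rfl⟩⟩⟩ : S × S) * g)).2 (by rw [h2]; exact h1)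
        obtain ⟨h4, h5⟩ := h3
        refine ⟨⟨_, h4⟩, ?_⟩
        rw [h5]
        show (g.2 : Ω)⁻¹ * ψ x * (g.2 : Ω) = r
        rw [hx]; group
    refine ⟨g.1.2, ?_, χ ⟨g.2, hbN⟩, (F.le_of_mem hχ).2 _, ?_⟩
    · refine Subgroup.mem_normalizer_iff.2 ?_
      intro x
      exact ⟨fun hx => (key x hx).1, key' x⟩
    · intro x hx
      obtain ⟨h1, h2⟩ := key x x.2
      show χ ⟨ψ ⟨(g.1 : Ω) * x * (g.1 : Ω)⁻¹, hx⟩, _⟩ = χ ⟨g.2, hbN⟩ * χ ⟨ψ x, _⟩ * (χ ⟨g.2, hbN⟩)⁻¹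
      rw [← map_inv, ← map_mul, ← map_mul]
      congr 1
      apply Subtype.ext
      exact h2
  · rw [← hηr]
    haveI : Finite D := finite_of_le hDS
    exact Nat.card_le_card_of_surjective (fun x : D => (⟨η x, ⟨x, rfl⟩⟩ : η.range))
      (by rintro ⟨_, ⟨x, rfl⟩⟩; exact ⟨x, rfl⟩)

end Cfsg.Agent.Lib.Helper29
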