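import Cfsg.Agent.Lib.Helper29.BisetRep

/-!
Existence of a fusion-stable virtual biset for a saturated fusion system.
-/
set_option autoImplicit false
open Cfsg

namespace Cfsg.Agent.Lib.Helper29

section WgtMap
variable {Γ : Type*} [Group Γ]

theorem wgt_map_equiv [Finite Γ] (f : Γ ≃* Γ) (H : Subgroup Γ) : wgt (H.map f.toMonoidHom) = wgt H := by
  have h1 := wgt_mul_card (H.map f.toMonoidHom)
  have h2 := wgt_mul_card H
  have h3 : Nat.card (H.map f.toMonoidHom) = Nat.card H :=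
    Nat.card_congr (H.equivMapOfInjective _ f.injective).symm.toEquiv
  have h4 : Nat.card (Subgroup.normalizer ((H.map f.toMonoidHom : Subgroup Γ) : Set Γ)) =
      Nat.card (Subgroup.normalizer (H : Set Γ)) := by
    rw [← Subgroup.map_equiv_normalizer_eq]
    exact Nat.card_congr ((Subgroup.normalizer (H : Set Γ)).equivMapOfInjective _ f.injective).symm.toEquiv
  rw [h3, h4, ← h2] at h1
  have hne : (Nat.card H : ℤ) ≠ 0 := by
    have : Nat.card H ≠ 0 := Nat.card_pos.ne'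
    exact_mod_cast this
  exact mul_right_cancel₀ hne h1

theorem wgt_cjs [Finite Γ] (g : Γ) (H : Subgroup Γ) : wgt (cjs g H) = wgt H :=
  wgt_map_equiv (MulAut.conj g) H

end WgtMap

variable {Ω : Type*} [Group Ω] {S : Subgroup Ω}

/-- conjugacy of subgroups of the ambient group under `S` -/
def sSetoid (S : Subgroup Ω) : Setoid (Subgroup Ω) where
  r R R' := ∃ s ∈ S, R' = cjs s R
  iseqv := {
    refl := fun R => ⟨1, S.one_mem, (cjs_one R).symm⟩
    symm := by
      rintro R R' ⟨s, hs, rfl⟩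
      exact ⟨s⁻¹, S.inv_mem hs, (cjs_inv_cjs s R).symm⟩
    trans := by
      rintro R R' R'' ⟨s, hs, rfl⟩ ⟨t, ht, rfl⟩
      exact ⟨t * s, S.mul_mem ht hs, (cjs_mul t s R).symm⟩ }

/-- a representative of the `S`-class of a subgroup -/
noncomputable def rcl (S : Subgroup Ω) (R : Subgroup Ω) : Subgroup Ω := (Quotient.mk (sSetoid S) R).out

theorem rcl_spec (S : Subgroup Ω) (R : Subgroup Ω) : ∃ s ∈ S, rcl S R = cjs s R := by
  have h : (sSetoid S).r R (rcl S R) :=
    (sSetoid S).symm (Quotient.exact (Quotient.out_eq (Quotient.mk (sSetoid S) R)))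
  exact h

theorem rcl_cjs {s : Ω} (hs : s ∈ S) (R : Subgroup Ω) : rcl S (cjs s R) = rcl S R := by
  unfold rcl
  congr 1
  exact Quotient.sound ((sSetoid S).symm ⟨s, hs, rfl⟩)

theorem cjs_le_of_le {s : Ω} (hs : s ∈ S) {R : Subgroup Ω} (hR : R ≤ S) : cjs s R ≤ S := by
  intro x hx
  rw [mem_cjs] at hx
  have h1 := hR hx
  have h2 : x = s * (s⁻¹ * x * s) * s⁻¹ := by group
  rw [h2]
  exact S.mul_mem (S.mul_mem hs h1) (S.inv_mem hs)

theorem pr2_cjs (g : S × S) (K : Subgroup (S × S)) : pr2 (cjs g K) = cjs ((g.2 : S) : Ω) (pr2 K) := by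
  ext u
  rw [mem_pr2, mem_cjs, mem_pr2]
  constructor
  · rintro ⟨x, hx, rfl⟩
    rw [mem_cjs] at hx
    exact ⟨g⁻¹ * x * g, hx, rfl⟩
  · rintro ⟨y, hy, hyu⟩
    refine ⟨g * y * g⁻¹, ?_, ?_⟩
    · rw [mem_cjs]
      have : g⁻¹ * (g * y * g⁻¹) * g = y := by group
      rwa [this]
    · show ((g.2 : S) : Ω) * (y.2 : Ω) * ((g.2 : S) : Ω)⁻¹ = u
      rw [hyu]
      group

theorem card_pr2_of_good [Finite S] (F : FusionSystem S) {K : Subgroup (S × S)} (hK : TwGood F K) :
    Nat.card (pr2 K) = Nat.card K := by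
  obtain ⟨P, φ, hφ, rfl⟩ := hK
  rw [pr2_Tw F hφ, card_Tw F hφ]
  exact (Nat.card_congr (MonoidHom.ofInjective (F.injective_of_mem hφ)).toEquiv).symm

open Classical in
/-- the chosen representative twisted diagonal with second projection `R₀` -/
noncomputable def repTw (F : FusionSystem S) (R₀ : Subgroup Ω) : Subgroup (S × S) :=
  if R₀ = S then Tw S S S.subtype
  else if h : ∃ (D' : Subgroup Ω) (ψ' : D' →* Ω), ValidRep F R₀ D' ψ' then
    Tw S (Classical.choose h) (Classical.choose (Classical.choose_spec h)) else ⊥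

theorem repTw_top (F : FusionSystem S) : repTw F S = Tw S S S.subtype := by
  unfold repTw
  rw [if_pos rfl]

theorem repTw_spec [Finite S] (p : ℕ) [Fact p.Prime] (hS : IsPGroup p S) (F : FusionSystem S)
    (hF : F.IsSaturated p) {R₀ : Subgroup Ω} (hR₀ : R₀ ≤ S) :
    ∃ (D' : Subgroup Ω) (ψ' : D' →* Ω), ValidRep F R₀ D' ψ' ∧ repTw F R₀ = Tw S D' ψ' := by
  by_cases h : R₀ = S
  · rw [h]
    exact ⟨S, S.subtype, validRep_top F, repTw_top F⟩
  · have hex := exists_validRep p hS F hF hR₀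
    refine ⟨Classical.choose hex, Classical.choose (Classical.choose_spec hex),
      Classical.choose_spec (Classical.choose_spec hex), ?_⟩
    unfold repTw
    rw [if_neg h, dif_pos hex]

/-- the data for the stabilisation of bisets -/
noncomputable def stabCtx [Finite S] (p : ℕ) [Fact p.Prime] (hS : IsPGroup p S) (F : FusionSystem S)
    (hF : F.IsSaturated p) : StabCtx (S × S) where
  Good := TwGood F
  Rel K K' := ∃ s ∈ S, pr2 K' = cjs s (pr2 K)
  rep K := repTw F (rcl S (pr2 K))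
  good_cjs g K hK := hK.cjs F g
  rel_card := by
    rintro K K' hK hK' ⟨s, hs, h⟩
    rw [← card_pr2_of_good F hK, ← card_pr2_of_good F hK', h, card_cjs]
  rel_cjs g K _ := ⟨g.2, g.2.2, pr2_cjs g K⟩
  rel_rep := by
    intro K hK
    obtain ⟨s, hs, hs'⟩ := rcl_spec S (pr2 K)
    have hle : rcl S (pr2 K) ≤ S := by
      rw [hs']
      exact cjs_le_of_le hs (pr2_le K)
    obtain ⟨D', ψ', hV, hrep⟩ := repTw_spec p hS F hF hle
    refine ⟨s, hs, ?_⟩
    rw [hrep, pr2_Tw F hV.mem, hV.range, hs']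
  good_rep := by
    intro K hK
    obtain ⟨s, hs, hs'⟩ := rcl_spec S (pr2 K)
    have hle : rcl S (pr2 K) ≤ S := by
      rw [hs']
      exact cjs_le_of_le hs (pr2_le K)
    obtain ⟨D', ψ', hV, hrep⟩ := repTw_spec p hS F hF hle
    exact ⟨D', ψ', hV.mem, hrep⟩
  rep_eq := by
    rintro K K' _ _ ⟨s, hs, h⟩
    show repTw F (rcl S (pr2 K)) = repTw F (rcl S (pr2 K'))
    rw [h, rcl_cjs hs]


theorem stabCtx_congr [Finite S] (p : ℕ) [Fact p.Prime] (hS : IsPGroup p S) (F : FusionSystem S)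
    (hF : F.IsSaturated p) : (stabCtx p hS F hF).Congr := by
  intro m k hm hst Δ hΔ hk
  have hΔ' : TwGood F Δ := hΔ
  have hm' : ∀ H, m H ≠ 0 → TwGood F H := hm
  obtain ⟨s, hs, hs'⟩ := rcl_spec S (pr2 Δ)
  have hle : rcl S (pr2 Δ) ≤ S := by
    rw [hs']
    exact cjs_le_of_le hs (pr2_le Δ)
  obtain ⟨D', ψ', hV, hrep⟩ := repTw_spec p hS F hF hle
  set g : S × S := (1, ⟨s, hs⟩) with hg
  obtain ⟨D₁, ψ₁, hψ₁, hΔ₁⟩ := hΔ'.cjs F g
  have hR : ψ₁.range = rcl S (pr2 Δ) := by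
    rw [← pr2_Tw F hψ₁, ← hΔ₁, pr2_cjs, hs']
  have hV' : ValidRep F ψ₁.range D' ψ' := by rw [hR]; exact hV
  obtain ⟨C, hCΔ, hCΔ', hCD⟩ := exists_cgCtx F hψ₁ hV'
  have hcard : Nat.card C.D = k := by
    rw [hCD, ← card_Tw F hψ₁, ← hΔ₁, card_cjs, hk]
  have hst' : ∀ K K', TwGood F K → TwGood F K' → pr2 K' = pr2 K → Nat.card C.D < Nat.card K →
      fmark m K = fmark m K' := by
    intro K K' hK hK' hpr hlt
    refine hst K K' hK hK' ⟨1, S.one_mem, ?_⟩ (hcard ▸ hlt)
    rw [cjs_one]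
    exact hpr
  have hmain := C.congr_main m hm' hst'
  rw [hCΔ, hCΔ', ← hΔ₁, wgt_cjs, fmark_cjs, ← hrep] at hmain
  exact hmain

/-- **Existence of a fusion-stable virtual biset** (the multiplicities of the orbits). -/
theorem exists_stable_biset [Finite S] (p : ℕ) [Fact p.Prime] (hS : IsPGroup p S) (F : FusionSystem S)
    (hF : F.IsSaturated p) :
    ∃ m : Subgroup (S × S) → ℤ, (∀ H, m H ≠ 0 → TwGood F H) ∧
      (∀ K K', TwGood F K → TwGood F K' → pr2 K' = pr2 K → fmark m K = fmark m K') ∧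
      (m (Tw S S S.subtype) = 1) ∧
      (∀ H, TwGood F H → pr2 H = S → (∃ g, H = cjs g (Tw S S S.subtype)) → H ≠ Tw S S S.subtype → m H = 0) := by
  classical
  set m₀ : Subgroup (S × S) → ℤ := fun H => if H = Tw S S S.subtype then 1 else 0 with hm₀
  have hgood₀ : TwGood F (Tw S S S.subtype) := ⟨S, S.subtype, subtype_mem F le_rfl, rfl⟩
  obtain ⟨m, h1, h2, h3⟩ := (stabCtx p hS F hF).exists_stable (stabCtx_congr p hS F hF) m₀ (by
    intro H hH
    by_cases h : H = Tw S S S.subtype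
    · rw [h]; exact hgood₀
    · exfalso; apply hH; simp [hm₀, h])
  have hrepS : ∀ H, pr2 H = S → (stabCtx p hS F hF).rep H = Tw S S S.subtype := by
    intro H hH
    show repTw F (rcl S (pr2 H)) = _
    obtain ⟨s, hs, hs'⟩ := rcl_spec S (pr2 H)
    have : rcl S (pr2 H) = S := by
      rw [hs', hH]
      apply le_antisymm (cjs_le_of_le hs le_rfl)
      intro x hx
      rw [mem_cjs]
      exact S.mul_mem (S.mul_mem (S.inv_mem hs) hx) hs
    rw [this, repTw_top]
  have hprS : pr2 (Tw S S S.subtype) = S := by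
    rw [pr2_Tw F (subtype_mem F le_rfl)]
    ext y
    constructor
    · rintro ⟨x, rfl⟩
      exact x.2
    · intro hy
      exact ⟨⟨y, hy⟩, rfl⟩
  refine ⟨m, h1, ?_, ?_, ?_⟩
  · intro K K' hK hK' hpr
    exact h2 K K' hK hK' ⟨1, S.one_mem, by rw [cjs_one]; exact hpr⟩
  · by_contra hne
    have hne' : m (Tw S S S.subtype) ≠ m₀ (Tw S S S.subtype) := by
      simp only [hm₀, if_true]
      exact hne
    obtain ⟨_, h4⟩ := h3 _ hne'
    apply h4
    rw [hrepS _ hprS]
    exact ⟨1, (cjs_one _).symm⟩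
  · intro H hH hpr hconj hne
    by_contra hmH
    have hne' : m H ≠ m₀ H := by
      simp only [hm₀, if_neg hne]
      exact hmH
    obtain ⟨_, h4⟩ := h3 _ hne'
    apply h4
    rw [hrepS _ hpr]
    exact hconj

end Cfsg.Agent.Lib.Helper29
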