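import Cfsg.Agent.Lib.Helper29.SurjMorphism2
import Cfsg.Agent.Lib.Helper29.FusionHyp

set_option autoImplicit false
open Cfsg

namespace Cfsg.Agent.Lib.Helper29

section generic

variable {G H : Type*} [Group G] [Group H]

theorem map_mem_pResidual (p : ℕ) (Θ : G →* H) {g : G} (hg : g ∈ pResidual p G) :
    Θ g ∈ pResidual p H := by
  have hle : pResidual p G ≤ (pResidual p H).comap Θ := by
    unfold pResidual
    rw [Subgroup.closure_le]
    intro x hx
    apply Subgroup.subset_closure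
    exact Nat.Coprime.coprime_dvd_left (orderOf_map_dvd Θ x) hx
  exact hle hg

theorem pResidual_le_map_of_surjective [Finite G] (p : ℕ) [Fact p.Prime] (Θ : G →* H)
    (hΘ : Function.Surjective Θ) : pResidual p H ≤ (pResidual p G).map Θ := by
  unfold pResidual
  rw [Subgroup.closure_le]
  intro h hh
  obtain ⟨g₀, rfl⟩ := hΘ h
  obtain ⟨k, hk⟩ := exists_pow_mem_pResidual p g₀
  have hcop : Nat.Coprime (p ^ k) (orderOf (Θ g₀)) := (Nat.Coprime.pow_right k hh).symm
  obtain ⟨m, hm⟩ := exists_pow_eq_self_of_coprime hcop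
  refine ⟨(g₀ ^ (p ^ k)) ^ m, Subgroup.pow_mem _ hk m, ?_⟩
  rw [map_pow, map_pow]
  exact hm

end generic

variable {Ω : Type*} [Group Ω] {S : Subgroup Ω} {Ω' : Type*} [Group Ω'] {S' : Subgroup Ω'}

variable [Finite S] {F : FusionSystem S} {F' : FusionSystem S'} {α : S →* Ω'}

theorem autImageHom_mem (hα : F.IsMorphism F' α) {Q : Subgroup Ω} (hQS : Q ≤ S) (β : F.autGroup Q) :
    autImageHom hα hQS β ∈ F'.autGroup (FusionSystem.imageAlong α Q) := by
  rw [mem_autGroup_iff F' (imageAlong_le hα Q)]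
  have hβF := (mem_autGroup_iff F hQS).1 β.2
  obtain ⟨φ', hφ', hP, hφS, hP', hind⟩ := hα.2 Q _ hβF
  have : φ' = (FusionSystem.imageAlong α Q).subtype.comp (autImageHom hα hQS β).toMonoidHom := by
    ext y
    obtain ⟨x, rfl⟩ := projAlong_surjective α hQS y
    have h1 := hind x
    show φ' (projAlong α hQS x) = ((autImageHom hα hQS β (projAlong α hQS x) : _) : Ω')
    rw [autImageHom_apply]
    exact h1
  rw [← this]
  exact hφ'

/-- the induced map on automizers, with values in `Aut_{F'}` -/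
noncomputable def autImageHom' (hα : F.IsMorphism F' α) {Q : Subgroup Ω} (hQS : Q ≤ S) :
    ↥(F.autGroup Q) →* ↥(F'.autGroup (FusionSystem.imageAlong α Q)) :=
  (autImageHom hα hQS).codRestrict _ (autImageHom_mem hα hQS)

theorem autImageHom'_surjective (hα : F.IsSurjectiveMorphism F' α) {Q : Subgroup Ω} (hQS : Q ≤ S)
    (hKQ : kerSub α ≤ Q) : Function.Surjective (autImageHom' hα.1 hQS) := by
  intro β'
  have h1 : (β' : MulAut _) ∈ (autImageHom hα.1 hQS).range := by
    rw [← autGroup_image_eq_range hα hQS hKQ]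
    exact β'.2
  obtain ⟨β, hβ⟩ := h1
  exact ⟨β, Subtype.ext hβ⟩

/-- the hyperfocal subgroup of the image of a surjective morphism is the image of the hyperfocal
subgroup -/
theorem hyperfocal_image (p : ℕ) [Fact p.Prime] (hα : F.IsSurjectiveMorphism F' α) :
    F'.hyperfocalSubgroup p = ((F.hyperfocalSubgroup p).subgroupOf S).map α := by
  apply le_antisymm
  · unfold FusionSystem.hyperfocalSubgroup
    rw [Subgroup.closure_le]
    rintro _ ⟨P', β', x', hP'S', hβ', rfl⟩
    have hP'r : P' ≤ α.range := by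
      rw [hα.2.1]
      exact hP'S'
    have heq := imageAlong_preimageAlong α hP'r
    have hQS := preimageAlong_le α P'
    have hKQ := kerSub_le_preimageAlong α P'
    have hfinQ : Finite ↥(FusionSystem.preimageAlong α P') := finite_of_le hQS
    have key : ∀ (P'' : Subgroup Ω') (_ : P'' = FusionSystem.imageAlong α (FusionSystem.preimageAlong α P'))
        (β'' : F'.autGroup P'') (x'' : P''), β'' ∈ pResidual p (F'.autGroup P'') →
        (x'' : Ω')⁻¹ * (((β'' : MulAut P'') x'' : P'') : Ω') ∈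
          ((Subgroup.closure {y : Ω | ∃ (P : Subgroup Ω) (α : F.autGroup P) (x : P), P ≤ S ∧
            α ∈ pResidual p (F.autGroup P) ∧ y = (x : Ω)⁻¹ * ((α : MulAut P) x : P)}).subgroupOf S).map α := by
      rintro _ rfl β'' x'' hβ''
      have hsurj := autImageHom'_surjective hα hQS hKQ
      obtain ⟨β, hβ, hββ''⟩ := pResidual_le_map_of_surjective p _ hsurj hβ''
      obtain ⟨x, rfl⟩ := projAlong_surjective α hQS x''
      have hxS : (x : Ω)⁻¹ * (((β : MulAut _) x : ↥(FusionSystem.preimageAlong α P')) : Ω) ∈ S :=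
        S.mul_mem (S.inv_mem (hQS x.2)) (hQS ((β : MulAut _) x).2)
      refine ⟨⟨_, hxS⟩, ?_, ?_⟩
      · apply Subgroup.mem_subgroupOf.2
        apply Subgroup.subset_closure
        exact ⟨_, β, x, hQS, hβ, rfl⟩
      · have h1 : (⟨(x : Ω)⁻¹ * (((β : MulAut _) x : ↥(FusionSystem.preimageAlong α P')) : Ω), hxS⟩ : S) =
            ⟨x, hQS x.2⟩⁻¹ * ⟨((β : MulAut _) x : _), hQS ((β : MulAut _) x).2⟩ := Subtype.ext rfl
        rw [h1, map_mul, map_inv, ← hββ'']
        congr 1
        exact (autImageHom_apply hα.1 hQS β x).symm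
    exact key P' heq.symm β' x' hβ'
  · rw [Subgroup.map_le_iff_le_comap]
    intro s hs
    rw [Subgroup.mem_subgroupOf] at hs
    rw [Subgroup.mem_comap]
    have hgen : ∀ y ∈ F.hyperfocalSubgroup p, ∃ hy : y ∈ S, α ⟨y, hy⟩ ∈ F'.hyperfocalSubgroup p := by
      intro y hy
      unfold FusionSystem.hyperfocalSubgroup at hy
      induction hy using Subgroup.closure_induction with
      | mem y hy =>
        obtain ⟨P, β, x, hPS, hβ, rfl⟩ := hy
        have hxS : (x : Ω)⁻¹ * (((β : MulAut P) x : P) : Ω) ∈ S :=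
          S.mul_mem (S.inv_mem (hPS x.2)) (hPS ((β : MulAut P) x).2)
        refine ⟨hxS, ?_⟩
        apply Subgroup.subset_closure
        refine ⟨FusionSystem.imageAlong α P, autImageHom' hα.1 hPS β, projAlong α hPS x,
          imageAlong_le hα.1 P, map_mem_pResidual p _ hβ, ?_⟩
        have h1 : (⟨(x : Ω)⁻¹ * (((β : MulAut P) x : P) : Ω), hxS⟩ : S) =
            ⟨x, hPS x.2⟩⁻¹ * ⟨((β : MulAut P) x : P), hPS ((β : MulAut P) x).2⟩ := Subtype.ext rfl
        rw [h1, map_mul, map_inv]
        congr 1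
        exact (autImageHom_apply hα.1 hPS β x).symm
      | one => exact ⟨S.one_mem, by
          have : (⟨1, S.one_mem⟩ : S) = 1 := rfl
          rw [this, map_one]
          exact Subgroup.one_mem _⟩
      | mul a b _ _ iha ihb =>
        obtain ⟨ha, ha'⟩ := iha
        obtain ⟨hb, hb'⟩ := ihb
        refine ⟨S.mul_mem ha hb, ?_⟩
        have : (⟨a * b, S.mul_mem ha hb⟩ : S) = ⟨a, ha⟩ * ⟨b, hb⟩ := rfl
        rw [this, map_mul]
        exact Subgroup.mul_mem _ ha' hb'
      | inv a _ iha =>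
        obtain ⟨ha, ha'⟩ := iha
        refine ⟨S.inv_mem ha, ?_⟩
        have : (⟨a⁻¹, S.inv_mem ha⟩ : S) = ⟨a, ha⟩⁻¹ := rfl
        rw [this, map_inv]
        exact Subgroup.inv_mem _ ha'
    obtain ⟨_, h⟩ := hgen s hs
    exact h

end Cfsg.Agent.Lib.Helper29
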