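import Cfsg.Agent.Lib.Helper29.FusionTransport
import Cfsg.Agent.Lib.Helper29.FusionInvariant

set_option autoImplicit false
open Cfsg

namespace Cfsg.Agent.Lib.Helper29

variable {Ω : Type*} [Group Ω]

section restrict

/-- automorphisms of `R` preserving the subgroup `P` -/
def stabSub (R P : Subgroup Ω) : Subgroup (MulAut R) where
  carrier := {α | ∀ x : R, (x : Ω) ∈ P ↔ ((α x : R) : Ω) ∈ P}
  one_mem' := fun _ => Iff.rfl
  mul_mem' := fun ha hb x => (hb x).trans (ha _)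
  inv_mem' := by
    intro α ha x
    have h := ha (α⁻¹ x)
    rw [MulAut.apply_inv_self] at h
    exact h.symm

theorem mem_stabSub {R P : Subgroup Ω} {α : MulAut R} :
    α ∈ stabSub R P ↔ ∀ x : R, (x : Ω) ∈ P ↔ ((α x : R) : Ω) ∈ P := Iff.rfl

/-- restriction of an automorphism of `R` preserving `P ≤ R` to `P` -/
def resAut {R P : Subgroup Ω} (hPR : P ≤ R) : stabSub R P →* MulAut P where
  toFun α :=
    { toFun := fun x => ⟨((α : MulAut R) (Subgroup.inclusion hPR x) : R), (α.2 _).1 x.2⟩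
      invFun := fun x => ⟨(((α : MulAut R)⁻¹) (Subgroup.inclusion hPR x) : R),
        ((stabSub R P).inv_mem α.2 _).1 x.2⟩
      left_inv := by
        intro x
        apply Subtype.ext
        show ((((α : MulAut R)⁻¹) (Subgroup.inclusion hPR ⟨_, _⟩) : R) : Ω) = x
        have : (Subgroup.inclusion hPR ⟨(((α : MulAut R) (Subgroup.inclusion hPR x) : R) : Ω),
            (α.2 _).1 x.2⟩ : R) = (α : MulAut R) (Subgroup.inclusion hPR x) := Subtype.ext rfl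
        rw [this, MulAut.inv_apply_self]
        rfl
      right_inv := by
        intro x
        apply Subtype.ext
        show (((α : MulAut R) (Subgroup.inclusion hPR ⟨_, _⟩) : R) : Ω) = x
        have : (Subgroup.inclusion hPR ⟨((((α : MulAut R)⁻¹) (Subgroup.inclusion hPR x) : R) : Ω),
            ((stabSub R P).inv_mem α.2 _).1 x.2⟩ : R) = (α : MulAut R)⁻¹ (Subgroup.inclusion hPR x) :=
          Subtype.ext rfl
        rw [this, MulAut.apply_inv_self]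
        rfl
      map_mul' := by
        intro x y
        apply Subtype.ext
        show (((α : MulAut R) (Subgroup.inclusion hPR (x * y)) : R) : Ω) = _
        rw [map_mul, map_mul]
        rfl }
  map_one' := by
    ext x
    rfl
  map_mul' := by
    intro α β
    ext x
    rfl

theorem resAut_apply_coe {R P : Subgroup Ω} (hPR : P ≤ R) (α : stabSub R P) (x : P) :
    ((resAut hPR α x : P) : Ω) = (((α : MulAut R) (Subgroup.inclusion hPR x) : R) : Ω) := rfl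

/-- automorphisms of `R` whose restriction to `Q ≤ R` is an element of `K` -/
def admSub {R Q : Subgroup Ω} (K : Subgroup (MulAut Q)) (hQR : Q ≤ R) : Subgroup (MulAut R) :=
  (K.comap (resAut hQR)).map (stabSub R Q).subtype


theorem mem_admSub_iff {R Q : Subgroup Ω} {K : Subgroup (MulAut Q)} {hQR : Q ≤ R} {α : MulAut R} :
    α ∈ admSub K hQR ↔ ∃ κ ∈ K, ∀ x : Q, (((α (Subgroup.inclusion hQR x) : R) : Ω)) = (κ x : Q) := by
  constructor
  · rintro ⟨α', hK, rfl⟩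
    exact ⟨resAut hQR α', hK, fun x => rfl⟩
  · rintro ⟨κ, hκ, hval⟩
    have hstab : α ∈ stabSub R Q := by
      intro x
      constructor
      · intro hx
        have := hval ⟨x, hx⟩
        have e : Subgroup.inclusion hQR ⟨(x : Ω), hx⟩ = x := Subtype.ext rfl
        rw [e] at this
        rw [this]
        exact (κ ⟨x, hx⟩).2
      · intro hx
        have h1 := hval (κ⁻¹ ⟨_, hx⟩)
        rw [MulAut.apply_inv_self] at h1
        have h2 : α (Subgroup.inclusion hQR (κ⁻¹ ⟨_, hx⟩)) = α x := Subtype.ext h1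
        have h3 := α.injective h2
        rw [← h3]
        exact (κ⁻¹ ⟨_, hx⟩).2
    refine ⟨⟨α, hstab⟩, ?_, rfl⟩
    show resAut hQR ⟨α, hstab⟩ ∈ K
    have : resAut hQR ⟨α, hstab⟩ = κ := by
      ext x
      exact hval x
    rw [this]
    exact hκ

end restrict

variable {S : Subgroup Ω}

/-- the elements of `S` acting on `ψ₀(Q)` through `ψ₀ K ψ₀⁻¹` -/
def NKmark (S : Subgroup Ω) {Q : Subgroup Ω} (K : Subgroup (MulAut Q)) (ψ₀ : Q →* Ω) : Subgroup Ω :=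
  Subgroup.closure {s | s ∈ S ∧ ∃ κ ∈ K, ∀ x : Q, s * ψ₀ x * s⁻¹ = ψ₀ (κ x)}

/-- `E` over `N₀` is the `K`-normalizer system `N^K_F(Q)`, where moreover `Q` is "fully `K`-normalized"
in the form of the extension property `HQ`. -/
structure KNorm (F : FusionSystem S) (Q : Subgroup Ω) (K : Subgroup (MulAut Q)) (N₀ : Subgroup Ω)
    (E : FusionSystem N₀) : Prop where
  hQS : Q ≤ S
  mem_N₀ : ∀ g, g ∈ N₀ ↔ g ∈ S ∧ ∃ κ ∈ K, ∀ x : Q, g * x * g⁻¹ = ((κ x : Q) : Ω)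
  mem_hom : ∀ (P : Subgroup Ω) (φ : P →* Ω), φ ∈ E.Hom P ↔ φ ∈ F.Hom P ∧ P ≤ N₀ ∧ (∀ x, φ x ∈ N₀) ∧
    ∃ ψ ∈ F.Hom (P ⊔ Q), (∀ x : P, ψ (Subgroup.inclusion le_sup_left x) = φ x) ∧
      ∃ κ ∈ K, ∀ x : Q, ψ (Subgroup.inclusion le_sup_right x) = ((κ x : Q) : Ω)
  HQ : ∀ (ψ₀ : Q →* Ω), ψ₀ ∈ F.Hom Q →
    ∃ χ ∈ F.Hom (NKmark S K ψ₀ ⊔ ψ₀.range), ∃ κ ∈ K, ∀ x : Q,
      χ ⟨ψ₀ x, Subgroup.mem_sup_right ⟨x, rfl⟩⟩ = ((κ x : Q) : Ω)

namespace KNorm

variable {F : FusionSystem S} {Q : Subgroup Ω} {K : Subgroup (MulAut Q)} {N₀ : Subgroup Ω}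
  {E : FusionSystem N₀}

theorem N₀_le (h : KNorm F Q K N₀ E) : N₀ ≤ S := fun g hg => ((h.mem_N₀ g).1 hg).1

theorem N₀_le_normalizer (h : KNorm F Q K N₀ E) : N₀ ≤ Subgroup.normalizer (Q : Set Ω) := by
  intro g hg
  obtain ⟨_, κ, _, hκ⟩ := (h.mem_N₀ g).1 hg
  rw [Subgroup.mem_normalizer_iff]
  intro x
  constructor
  · intro hx
    rw [hκ ⟨x, hx⟩]
    exact (κ ⟨x, hx⟩).2
  · intro hx
    have h1 := hκ (κ⁻¹ ⟨_, hx⟩)
    rw [MulAut.apply_inv_self] at h1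
    have h2 : ((κ⁻¹ ⟨_, hx⟩ : Q) : Ω) = x := mul_left_cancel (mul_right_cancel h1)
    rw [← h2]
    exact (κ⁻¹ ⟨_, hx⟩).2

theorem sup_le_S (h : KNorm F Q K N₀ E) {P : Subgroup Ω} (hP : P ≤ N₀) : P ⊔ Q ≤ S :=
  sup_le (hP.trans h.N₀_le) h.hQS

end KNorm

/-- `Aut^K_F(P ⊔ Q)` stabilizing `P` -/
def AutK (F : FusionSystem S) {Q : Subgroup Ω} (K : Subgroup (MulAut Q)) (P : Subgroup Ω) :
    Subgroup (MulAut ↥(P ⊔ Q)) :=
  F.autGroup (P ⊔ Q) ⊓ stabSub (P ⊔ Q) P ⊓ admSub K le_sup_right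

/-- the automorphisms of `P ⊔ Q` induced by `N_{N₀}(P)` -/
def TK (N₀ Q P : Subgroup Ω) : Subgroup (MulAut ↥(P ⊔ Q)) :=
  autInducedBy (FusionSystem.normalizerIn N₀ P) (P ⊔ Q)

theorem mem_AutK {F : FusionSystem S} {Q : Subgroup Ω} {K : Subgroup (MulAut Q)} {P : Subgroup Ω}
    {α : MulAut ↥(P ⊔ Q)} : α ∈ AutK F K P ↔ α ∈ F.autGroup (P ⊔ Q) ∧
      (∀ x : ↥(P ⊔ Q), (x : Ω) ∈ P ↔ ((α x : ↥(P ⊔ Q)) : Ω) ∈ P) ∧
      ∃ κ ∈ K, ∀ x : Q, (((α (Subgroup.inclusion le_sup_right x) : ↥(P ⊔ Q)) : Ω)) = (κ x : Q) := by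
  unfold AutK
  rw [Subgroup.mem_inf, Subgroup.mem_inf, mem_admSub_iff, mem_stabSub, and_assoc]

theorem mem_TK {N₀ Q P : Subgroup Ω} {α : MulAut ↥(P ⊔ Q)} :
    α ∈ TK N₀ Q P ↔ ∃ n : Subgroup.normalizer ((P ⊔ Q : Subgroup Ω) : Set Ω),
      (n : Ω) ∈ FusionSystem.normalizerIn N₀ P ∧ (P ⊔ Q).normalizerMonoidHom n = α := by
  unfold TK
  rw [autInducedBy_eq_map]
  constructor
  · rintro ⟨n, hn, rfl⟩
    exact ⟨n, hn, rfl⟩
  · rintro ⟨n, hn, rfl⟩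
    exact ⟨n, hn, rfl⟩

theorem TK_le_AutK [Finite S] {F : FusionSystem S} {Q : Subgroup Ω} {K : Subgroup (MulAut Q)}
    {N₀ : Subgroup Ω} {E : FusionSystem N₀} (h : KNorm F Q K N₀ E) {P : Subgroup Ω} (hP : P ≤ N₀) :
    TK N₀ Q P ≤ AutK F K P := by
  intro α hα
  obtain ⟨n, hn, rfl⟩ := mem_TK.1 hα
  have hnN₀ : (n : Ω) ∈ N₀ := hn.1
  have hnP : (n : Ω) ∈ Subgroup.normalizer (P : Set Ω) := hn.2
  rw [mem_AutK]
  refine ⟨?_, ?_, ?_⟩
  · apply autInducedBy_le_autGroup F (h.sup_le_S hP)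
    rw [autInducedBy_eq_map]
    exact ⟨n, h.N₀_le hnN₀, rfl⟩
  · intro x
    exact Subgroup.mem_normalizer_iff.1 hnP x
  · obtain ⟨_, κ, hκ, hκe⟩ := (h.mem_N₀ n).1 hnN₀
    exact ⟨κ, hκ, fun x => hκe x⟩

end Cfsg.Agent.Lib.Helper29
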