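import Cfsg.Agent.Lib.Helper29.StronglyClosedExt3
import Cfsg.Agent.Lib.Helper29.HyperfocalFactor
import Cfsg.Agent.Lib.Helper29.KNormBasic

/-!
The hyperfocal subgroup acts on a strongly closed subgroup `T` through `O^p(Aut_F(T)) Inn(T)`.
-/

set_option autoImplicit false
open Cfsg

namespace Cfsg.Agent.Lib.Helper29

variable {Ω : Type*} [Group Ω] {S : Subgroup Ω}

section

variable (F : FusionSystem S) {T : Subgroup Ω} (hT : F.StronglyClosed T)

include hT in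
/-- automorphisms in `Aut_F(R)` stabilise a strongly closed subgroup -/
theorem autGroup_le_stabSub {R : Subgroup Ω} (hRS : R ≤ S) : F.autGroup R ≤ stabSub R T := by
  intro ψ hψ x
  have hψF := (mem_autGroup_iff F hRS).1 hψ
  constructor
  · intro hx
    exact stronglyClosed_hom_mem F hT hψF x hx
  · intro hx
    have hinv : ψ⁻¹ ∈ F.autGroup R := inv_mem hψ
    have h := stronglyClosed_hom_mem F hT ((mem_autGroup_iff F hRS).1 hinv) (ψ x) hx
    have e : (R.subtype.comp (ψ⁻¹ : MulAut R).toMonoidHom) (ψ x) = (x : Ω) := by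
      show (((ψ⁻¹ : MulAut R) (ψ x) : R) : Ω) = x
      rw [MulAut.inv_apply_self]
    rw [e] at h
    exact h

/-- restriction `Aut_F(R) → Aut_F(T)` for a strongly closed subgroup `T ≤ R` -/
def resT {R : Subgroup Ω} (hRS : R ≤ S) (hTR : T ≤ R) : F.autGroup R →* F.autGroup T :=
  ((resAut hTR).comp (Subgroup.inclusion (autGroup_le_stabSub F hT hRS))).codRestrict (F.autGroup T) (by
    intro ψ
    rw [mem_autGroup_iff F hT.1]
    have hψF := (mem_autGroup_iff F hRS).1 ψ.2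
    have e : T.subtype.comp (((resAut hTR).comp (Subgroup.inclusion (autGroup_le_stabSub F hT hRS))) ψ).toMonoidHom =
        (R.subtype.comp (ψ : MulAut R).toMonoidHom).comp (Subgroup.inclusion hTR) := by
      ext x
      rfl
    rw [e]
    exact restrict_mem F hTR hψF)

theorem resT_apply {R : Subgroup Ω} (hRS : R ≤ S) (hTR : T ≤ R) (ψ : F.autGroup R) (t : T) :
    (((resT F hT hRS hTR ψ : MulAut T) t : T) : Ω) = (((ψ : MulAut R) (Subgroup.inclusion hTR t) : R) : Ω) := rfl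

end

section

variable [Finite S] (p : ℕ) [Fact p.Prime] (F : FusionSystem S) {T : Subgroup Ω} (hT : F.StronglyClosed T)

include hT in
theorem mem_normalizer_of_stronglyClosed {x : Ω} (hx : x ∈ S) :
    x ∈ Subgroup.normalizer (T : Set Ω) := by
  have : Finite T := finite_of_le hT.1
  exact mem_normalizer_of_conj_le' (fun y hy => stronglyClosed_conj_mem F hT hx hy)

/-- conjugation by `x ∈ S` on the strongly closed `T`, as an element of `Aut_F(T)` -/
def conjT {x : Ω} (hx : x ∈ S) : F.autGroup T :=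
  ⟨T.normalizerMonoidHom ⟨x, mem_normalizer_of_stronglyClosed F hT hx⟩, by
    rw [mem_autGroup_iff F hT.1]
    have e : T.subtype.comp
        (T.normalizerMonoidHom ⟨x, mem_normalizer_of_stronglyClosed F hT hx⟩).toMonoidHom = conjHom T x := by
      ext t
      rfl
    rw [e]
    exact F.conj_mem hT.1 hx⟩

theorem conjT_apply {x : Ω} (hx : x ∈ S) (t : T) :
    (((conjT F hT hx : MulAut T) t : T) : Ω) = x * t * x⁻¹ := rfl

include hT in
/-- for `T ≤ R`, `ψ ∈ O^p(Aut_F(R))` and `x ∈ R`, the element `x⁻¹ ψ(x)` acts on `T` as an element of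
`O^p(Aut_F(T))` -/
theorem conj_quot_mem {R : Subgroup Ω} (hRS : R ≤ S) (hTR : T ≤ R) (ψ : F.autGroup R)
    (hψ : ψ ∈ pResidual p (F.autGroup R)) (x : R) :
    ∃ γ ∈ (pResidual p (F.autGroup T)).map (F.autGroup T).subtype, ∀ t : T,
      ((γ t : T) : Ω) = ((x : Ω)⁻¹ * ((ψ : MulAut R) x : R)) * t *
        ((x : Ω)⁻¹ * ((ψ : MulAut R) x : R))⁻¹ := by
  have hbres : resT F hT hRS hTR ψ ∈ pResidual p (F.autGroup T) := map_mem_pResidual p _ hψ
  generalize hb : resT F hT hRS hTR ψ = b at hbres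
  generalize ha : conjT F hT (hRS x.2) = a
  have hN : (pResidual p (F.autGroup T)).Normal := pResidual_normal' p
  have h1 : a⁻¹ * b * a ∈ pResidual p (F.autGroup T) := by
    have := hN.conj_mem b hbres a⁻¹
    rwa [inv_inv] at this
  have h2 : a⁻¹ * b * a * b⁻¹ ∈ pResidual p (F.autGroup T) :=
    Subgroup.mul_mem _ h1 (Subgroup.inv_mem _ hbres)
  refine ⟨((a⁻¹ * b * a * b⁻¹ : F.autGroup T) : MulAut T), ⟨_, h2, rfl⟩, fun t => ?_⟩
  obtain ⟨t₁, rfl⟩ : ∃ t₁ : T, (b : MulAut T) t₁ = t := ⟨(b : MulAut T)⁻¹ t, MulAut.apply_inv_self _ _ _⟩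
  have hg : ((a⁻¹ * b * a * b⁻¹ : F.autGroup T) : MulAut T) ((b : MulAut T) t₁) =
      (a : MulAut T)⁻¹ ((b : MulAut T) ((a : MulAut T) t₁)) := by
    simp only [Subgroup.coe_mul, Subgroup.coe_inv, MulAut.mul_apply, MulAut.inv_apply_self]
  rw [hg]
  have h3 : (((a : MulAut T) ((a : MulAut T)⁻¹ ((b : MulAut T) ((a : MulAut T) t₁))) : T) : Ω) =
      x * (((a : MulAut T)⁻¹ ((b : MulAut T) ((a : MulAut T) t₁)) : T) : Ω) * (x : Ω)⁻¹ := by
    rw [← ha]
    rfl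
  rw [MulAut.apply_inv_self] at h3
  have h4 : (((b : MulAut T) ((a : MulAut T) t₁) : T) : Ω) =
      (((ψ : MulAut R) x : R) : Ω) * (((b : MulAut T) t₁ : T) : Ω) * (((ψ : MulAut R) x : R) : Ω)⁻¹ := by
    rw [← hb, resT_apply, resT_apply]
    have e : Subgroup.inclusion hTR ((a : MulAut T) t₁) = x * Subgroup.inclusion hTR t₁ * x⁻¹ := by
      rw [← ha]
      exact Subtype.ext rfl
    rw [e, map_mul, map_mul, map_inv]
    rfl
  rw [h4] at h3
  calc ((((a : MulAut T)⁻¹ ((b : MulAut T) ((a : MulAut T) t₁)) : T)) : Ω)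
      = (x : Ω)⁻¹ * (x * (((a : MulAut T)⁻¹ ((b : MulAut T) ((a : MulAut T) t₁)) : T) : Ω) * (x : Ω)⁻¹) * x := by
        group
    _ = (x : Ω)⁻¹ * ((((ψ : MulAut R) x : R) : Ω) * (((b : MulAut T) t₁ : T) : Ω) *
          (((ψ : MulAut R) x : R) : Ω)⁻¹) * x := by rw [h3]
    _ = _ := by group

/-- pairs `(α, ψ)` in `Aut_F(P) × Aut_F(P T)` with `ψ ≡ α` modulo `T` on `P` -/
def modTSub {P : Subgroup Ω} (hPS : P ≤ S) : Subgroup (F.autGroup P × F.autGroup (P ⊔ T)) where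
  carrier := {e | ∀ x : P, (((e.1 : MulAut P) x : P) : Ω)⁻¹ *
    (((e.2 : MulAut ↥(P ⊔ T)) (Subgroup.inclusion le_sup_left x) : ↥(P ⊔ T)) : Ω) ∈ T}
  one_mem' := by
    intro x
    show (x : Ω)⁻¹ * (x : Ω) ∈ T
    rw [inv_mul_cancel]
    exact T.one_mem
  mul_mem' := by
    intro e f he hf x
    have hRS : P ⊔ T ≤ S := sup_le hPS hT.1
    have hst := autGroup_le_stabSub F hT hRS e.2.2
    set u : P := (f.1 : MulAut P) x with hu
    set τ : ↥(P ⊔ T) := (Subgroup.inclusion le_sup_left u)⁻¹ *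
      (f.2 : MulAut ↥(P ⊔ T)) (Subgroup.inclusion le_sup_left x) with hτ
    have hτT : (τ : Ω) ∈ T := hf x
    have hτ' : ((e.2 : MulAut ↥(P ⊔ T)) τ : Ω) ∈ T := (hst τ).1 hτT
    have e1 : (f.2 : MulAut ↥(P ⊔ T)) (Subgroup.inclusion le_sup_left x) =
        Subgroup.inclusion le_sup_left u * τ := by
      rw [hτ]
      group
    show (((e.1 : MulAut P) ((f.1 : MulAut P) x) : P) : Ω)⁻¹ *
      (((e.2 : MulAut ↥(P ⊔ T)) ((f.2 : MulAut ↥(P ⊔ T)) (Subgroup.inclusion le_sup_left x)) : ↥(P ⊔ T)) : Ω) ∈ T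
    rw [e1, map_mul, Subgroup.coe_mul, ← mul_assoc]
    exact T.mul_mem (he u) hτ'
  inv_mem' := by
    intro e he x
    have hRS : P ⊔ T ≤ S := sup_le hPS hT.1
    have hst := autGroup_le_stabSub F hT hRS (inv_mem e.2.2)
    set u : P := (e.1 : MulAut P)⁻¹ x with hu
    have hux : (e.1 : MulAut P) u = x := MulAut.apply_inv_self _ _ _
    set τ : ↥(P ⊔ T) := (Subgroup.inclusion le_sup_left x)⁻¹ *
      (e.2 : MulAut ↥(P ⊔ T)) (Subgroup.inclusion le_sup_left u) with hτ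
    have hτT : (τ : Ω) ∈ T := by
      have := he u
      rw [hux] at this
      exact this
    have hτ' : (((e.2 : MulAut ↥(P ⊔ T))⁻¹ τ : ↥(P ⊔ T)) : Ω) ∈ T := (hst τ).1 hτT
    have e1 : (e.2 : MulAut ↥(P ⊔ T))⁻¹ (Subgroup.inclusion le_sup_left x) =
        Subgroup.inclusion le_sup_left u * ((e.2 : MulAut ↥(P ⊔ T))⁻¹ τ)⁻¹ := by
      rw [hτ, map_mul, map_inv, MulAut.inv_apply_self]
      group
    show (((e.1 : MulAut P)⁻¹ x : P) : Ω)⁻¹ *
      ((((e.2 : MulAut ↥(P ⊔ T))⁻¹) (Subgroup.inclusion le_sup_left x) : ↥(P ⊔ T)) : Ω) ∈ T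
    rw [e1, Subgroup.coe_mul, ← mul_assoc]
    have : ((u : Ω))⁻¹ * ((Subgroup.inclusion (le_sup_left : P ≤ P ⊔ T) u : ↥(P ⊔ T)) : Ω) = 1 :=
      inv_mul_cancel _
    rw [this, one_mul, Subgroup.coe_inv]
    exact T.inv_mem hτ'

include hT in
/-- elements of `O^p(Aut_F(P))` extend, modulo `T`, to elements of `O^p(Aut_F(P T))` -/
theorem exists_pResidual_ext (hS : IsPGroup p S) (hF : F.IsSaturated p) {P : Subgroup Ω} (hPS : P ≤ S)
    (α : F.autGroup P) (hα : α ∈ pResidual p (F.autGroup P)) :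
    ∃ ψ : F.autGroup (P ⊔ T), ψ ∈ pResidual p (F.autGroup (P ⊔ T)) ∧
      ∀ x : P, (((α : MulAut P) x : P) : Ω)⁻¹ *
        (((ψ : MulAut ↥(P ⊔ T)) (Subgroup.inclusion le_sup_left x) : ↥(P ⊔ T)) : Ω) ∈ T := by
  have hRS : P ⊔ T ≤ S := sup_le hPS hT.1
  have hfinP : Finite P := finite_of_le hPS
  have hfinR : Finite ↥(P ⊔ T) := finite_of_le hRS
  have hsurj : Function.Surjective
      ((MonoidHom.fst (F.autGroup P) (F.autGroup (P ⊔ T))).comp (modTSub F hT hPS).subtype) := by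
    intro β
    have hβF := (mem_autGroup_iff F hPS).1 β.2
    obtain ⟨φh, hφh, hmod⟩ := extMod_of_stronglyClosed p hS F hF hT hβF
    have hval := extMod_val hT (Q := P) (fun x => ((β : MulAut P) x).2) hφh hmod
    have hval' : ∀ z, φh z ∈ P ⊔ T := hval
    obtain ⟨ψ, hψ, hψv⟩ := exists_aut_of_hom F hφh hval'
    refine ⟨⟨(β, ⟨ψ, hψ⟩), fun x => ?_⟩, rfl⟩
    show (((β : MulAut P) x : P) : Ω)⁻¹ * ((ψ (Subgroup.inclusion le_sup_left x) : ↥(P ⊔ T)) : Ω) ∈ T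
    rw [hψv]
    exact hmod x
  obtain ⟨e, he, heα⟩ := pResidual_le_map_of_surjective p _ hsurj hα
  refine ⟨((MonoidHom.snd (F.autGroup P) (F.autGroup (P ⊔ T))).comp (modTSub F hT hPS).subtype) e,
    map_mem_pResidual p _ he, fun x => ?_⟩
  have h := e.2 x
  have e1 : (e : F.autGroup P × F.autGroup (P ⊔ T)).1 = α := heα
  rw [e1] at h
  exact h

include hT in
/-- the hyperfocal subgroup acts on a strongly closed subgroup `T` through `O^p(Aut_F(T)) Inn(T)` -/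
theorem hyperfocal_automizer (hS : IsPGroup p S) (hF : F.IsSaturated p) :
    ∀ x ∈ F.hyperfocalSubgroup p, ∃ α ∈ ((pResidual p ↥(F.autGroup T)).map (F.autGroup T).subtype ⊔
      Inn ↥T : Subgroup (MulAut ↥T)), ∀ t : ↥T, ((α t : ↥T) : Ω) = x * (t : Ω) * x⁻¹ := by
  intro x hx
  unfold FusionSystem.hyperfocalSubgroup at hx
  induction hx using Subgroup.closure_induction with
  | mem y hy =>
    obtain ⟨P, α, x, hPS, hα, rfl⟩ := hy
    obtain ⟨ψ, hψ, hmod⟩ := exists_pResidual_ext p F hT hS hF hPS α hα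
    have hRS : P ⊔ T ≤ S := sup_le hPS hT.1
    obtain ⟨γ, hγ, hγv⟩ := conj_quot_mem p F hT hRS le_sup_right ψ hψ (Subgroup.inclusion le_sup_left x)
    set τ : Ω := (((α : MulAut P) x : P) : Ω)⁻¹ *
        (((ψ : MulAut ↥(P ⊔ T)) (Subgroup.inclusion le_sup_left x) : ↥(P ⊔ T)) : Ω) with hτ
    have hτT : τ ∈ T := hmod x
    refine ⟨γ * MulAut.conj (⟨τ, hτT⟩ : T)⁻¹, ?_, fun t => ?_⟩
    · exact Subgroup.mul_mem _ (Subgroup.mem_sup_left hγ) (Subgroup.mem_sup_right ⟨_, rfl⟩)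
    · rw [MulAut.mul_apply, hγv]
      show _ * (((⟨τ, hτT⟩ : T)⁻¹ * t * ((⟨τ, hτT⟩ : T)⁻¹)⁻¹ : T) : Ω) * _ = _
      have e1 : ((Subgroup.inclusion (le_sup_left : P ≤ P ⊔ T) x : ↥(P ⊔ T)) : Ω) = x := rfl
      have e2 : (((ψ : MulAut ↥(P ⊔ T)) (Subgroup.inclusion le_sup_left x) : ↥(P ⊔ T)) : Ω) =
          (((α : MulAut P) x : P) : Ω) * τ := by
        rw [hτ]
        group
      rw [e1, e2]
      simp only [Subgroup.coe_mul, Subgroup.coe_inv, inv_inv]
      group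
  | one =>
    refine ⟨1, Subgroup.one_mem _, fun t => ?_⟩
    simp
  | mul a b _ _ iha ihb =>
    obtain ⟨α, hα, hαv⟩ := iha
    obtain ⟨β, hβ, hβv⟩ := ihb
    refine ⟨α * β, Subgroup.mul_mem _ hα hβ, fun t => ?_⟩
    rw [MulAut.mul_apply, hαv, hβv]
    group
  | inv a _ iha =>
    obtain ⟨α, hα, hαv⟩ := iha
    refine ⟨α⁻¹, Subgroup.inv_mem _ hα, fun t => ?_⟩
    have h := hαv (α⁻¹ t)
    rw [MulAut.apply_inv_self] at h
    rw [h]
    group

end

end Cfsg.Agent.Lib.Helper29
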