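import Cfsg.Agent.Lib.Helper29.ResidualLimit
import Cfsg.Agent.Lib.Helper29.FusionHyp2
import Cfsg.Agent.Lib.Helper29.KNormBasic
import Cfsg.Agent.Lib.Helper29.HyperfocalAutomizer

/-!
A saturated subsystem of `p`-power index over a strongly closed subgroup has the same hyperfocal subgroup.
-/

set_option autoImplicit false
open Cfsg

namespace Cfsg.Agent.Lib.Helper29

section group

variable {G : Type*} [Group G]

theorem mul_pow_mem_coset {Q N : Subgroup G} (hnorm : ∀ q ∈ Q, ∀ n ∈ N, q * n * q⁻¹ ∈ N) {c d : G}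
    (hc : c ∈ Q) (hd : d ∈ N) (k : ℕ) : ∃ n ∈ N, (c * d) ^ k = c ^ k * n := by
  induction k with
  | zero => exact ⟨1, N.one_mem, by simp⟩
  | succ k ih =>
    obtain ⟨n, hn, hk⟩ := ih
    refine ⟨c⁻¹ * n * c⁻¹⁻¹ * d, N.mul_mem (hnorm _ (Q.inv_mem hc) n hn) hd, ?_⟩
    rw [pow_succ, hk, pow_succ]
    group

/-- a `p'`-automorphism `α` of a `p`-group with `x⁻¹ α(x) = c` fixed by `α` modulo an `α`-invariant
subgroup `N`, normal in a subgroup `Q ∋ c`, has `c ∈ N` -/
theorem mem_of_coprime_aut {p : ℕ} [Fact p.Prime] (hG : IsPGroup p G) (α : MulAut G) {m : ℕ}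
    (hm : α ^ m = 1) (hcop : Nat.Coprime m p) {Q N : Subgroup G}
    (hnorm : ∀ q ∈ Q, ∀ n ∈ N, q * n * q⁻¹ ∈ N) (hαN : ∀ n ∈ N, α n ∈ N)
    (x : G) (hc : x⁻¹ * α x ∈ Q) (hd : (x⁻¹ * α x)⁻¹ * α (x⁻¹ * α x) ∈ N) : x⁻¹ * α x ∈ N := by
  set c : G := x⁻¹ * α x with hcdef
  have hαc : α c = c * (c⁻¹ * α c) := by group
  have hpow : ∀ k : ℕ, ∃ n ∈ N, x⁻¹ * (α ^ k) x = c ^ k * n := by
    intro k
    induction k with
    | zero => exact ⟨1, N.one_mem, by simp⟩
    | succ k ih =>
      obtain ⟨n, hn, hk⟩ := ih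
      obtain ⟨n', hn', hk'⟩ := mul_pow_mem_coset hnorm hc hd k
      refine ⟨n' * α n, N.mul_mem hn' (hαN n hn), ?_⟩
      have h1 : (α ^ k) x = x * (c ^ k * n) := by rw [← hk]; group
      rw [pow_succ', MulAut.mul_apply, h1, map_mul, map_mul, map_pow, hαc, hk', pow_succ']
      have h2 : α x = x * c := by rw [hcdef]; group
      rw [h2]
      group
  obtain ⟨n, hn, hk⟩ := hpow m
  rw [hm, MulAut.one_apply, inv_mul_cancel] at hk
  have hcm : c ^ m ∈ N := by
    have : c ^ m = n⁻¹ := eq_inv_of_mul_eq_one_left hk.symm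
    rw [this]
    exact N.inv_mem hn
  obtain ⟨e, he⟩ := hG c
  have hd2 : orderOf c ∣ p ^ e := orderOf_dvd_of_pow_eq_one he
  have hcop' : Nat.Coprime m (orderOf c) :=
    Nat.Coprime.coprime_dvd_right hd2 (Nat.Coprime.pow_right e hcop)
  obtain ⟨j, hj⟩ := exists_pow_eq_self_of_coprime hcop'
  rw [← hj]
  exact N.pow_mem hcm j

end group

variable {Ω : Type*} [Group Ω] {S : Subgroup Ω}

/-- elements of order prime to `p` lie in `O^p` -/
theorem mem_pResidual_of_pow_eq_one {A : Type*} [Group A] {p m : ℕ} (hcop : Nat.Coprime m p) {a : A}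
    (ha : a ^ m = 1) : a ∈ pResidual p A := by
  apply Subgroup.subset_closure
  exact Nat.Coprime.coprime_dvd_left (orderOf_dvd_of_pow_eq_one ha) hcop

/-- the key step: a `p'`-element of `Aut_F(P)` moves elements of `P` within `hyp(E)` -/
theorem inv_mul_aut_mem_hyperfocal_sub [Finite S] (p : ℕ) [Fact p.Prime] (hS : IsPGroup p S)
    (F : FusionSystem S) {T : Subgroup Ω} (E : FusionSystem T) (hEs : E.IsSaturated p)
    (hidx : E.HasPPowerIndexIn F p) (hT : F.StronglyClosed T) {P : Subgroup Ω} (hPS : P ≤ S)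
    (g : F.autGroup P) {m : ℕ} (hgm : g ^ m = 1) (hcop : Nat.Coprime m p) (x : P) :
    (x : Ω)⁻¹ * (((g : MulAut P) x : P) : Ω) ∈ E.hyperfocalSubgroup p := by
  have hTS : T ≤ S := hT.1
  have hfinT : Finite T := finite_of_le hTS
  have hTp : IsPGroup p T := hS.to_le hTS
  have hfinP : Finite P := finite_of_le hPS
  have hPp : IsPGroup p P := hS.to_le hPS
  have hgF : P.subtype.comp (g : MulAut P).toMonoidHom ∈ F.Hom P := (mem_autGroup_iff F hPS).1 g.2
  have hgm' : (g : MulAut P) ^ m = 1 := by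
    have := congrArg Subtype.val hgm
    exact_mod_cast this
  have hHsc : E.StronglyClosed (E.hyperfocalSubgroup p) := hyperfocal_stronglyClosed p hTp E hEs
  have hHT : E.hyperfocalSubgroup p ≤ T := hyperfocal_le E p
  -- `g` stabilises `P ⊓ T`
  have hstab : (g : MulAut P) ∈ stabSub P (P ⊓ T) := by
    have h1 := autGroup_le_stabSub F hT hPS g.2
    intro y
    constructor
    · intro hy
      exact ⟨((g : MulAut P) y).2, (h1 y).1 hy.2⟩
    · intro hy
      exact ⟨y.2, (h1 y).2 hy.2⟩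
  have h1 := autGroup_le_stabSub F hT hPS g.2
  -- the restriction of `g` to `P ⊓ T`
  obtain ⟨β, hβ⟩ : ∃ β : MulAut ↥(P ⊓ T), β =
      resAut (inf_le_left : P ⊓ T ≤ P) ⟨(g : MulAut P), hstab⟩ := ⟨_, rfl⟩
  have hβv : ∀ y : ↥(P ⊓ T), ((β y : ↥(P ⊓ T)) : Ω) =
      (((g : MulAut P) (Subgroup.inclusion inf_le_left y) : P) : Ω) := by
    intro y
    rw [hβ]
    rfl
  have hβm : β ^ m = 1 := by
    rw [hβ, ← map_pow]
    have : (⟨(g : MulAut P), hstab⟩ : stabSub P (P ⊓ T)) ^ m = 1 := by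
      apply Subtype.ext
      rw [Subgroup.coe_pow]
      exact hgm'
    rw [this, map_one]
  have hβF : β ∈ F.autGroup (P ⊓ T) := by
    rw [mem_autGroup_iff F (inf_le_left.trans hPS)]
    have e : (P ⊓ T).subtype.comp β.toMonoidHom =
        (P.subtype.comp (g : MulAut P).toMonoidHom).comp (Subgroup.inclusion inf_le_left) := by
      ext y
      exact hβv y
    rw [e]
    exact restrict_mem F inf_le_left hgF
  have hβres : (⟨β, hβF⟩ : F.autGroup (P ⊓ T)) ∈ pResidual p (F.autGroup (P ⊓ T)) :=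
    mem_pResidual_of_pow_eq_one hcop (Subtype.ext (by rw [Subgroup.coe_pow]; exact hβm))
  have hβE : β ∈ E.autGroup (P ⊓ T) := hidx.2.2 (P ⊓ T) inf_le_right ⟨_, hβres, rfl⟩
  have hβresE : (⟨β, hβE⟩ : E.autGroup (P ⊓ T)) ∈ pResidual p (E.autGroup (P ⊓ T)) :=
    mem_pResidual_of_pow_eq_one hcop (Subtype.ext (by rw [Subgroup.coe_pow]; exact hβm))
  have hgen : ∀ y : ↥(P ⊓ T), (y : Ω)⁻¹ * ((β y : ↥(P ⊓ T)) : Ω) ∈ E.hyperfocalSubgroup p := by
    intro y
    apply Subgroup.subset_closure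
    exact ⟨P ⊓ T, ⟨β, hβE⟩, y, inf_le_right, hβresE, rfl⟩
  have key : x⁻¹ * (g : MulAut P) x ∈ (E.hyperfocalSubgroup p).subgroupOf P := by
    apply mem_of_coprime_aut (p := p) hPp (g : MulAut P) hgm' hcop (Q := T.subgroupOf P)
    · intro q hq n hn
      rw [Subgroup.mem_subgroupOf] at hq hn ⊢
      exact conj_mem_hyperfocal E p hq _ hn
    · intro n hn
      rw [Subgroup.mem_subgroupOf] at hn ⊢
      have hnT : (n : Ω) ∈ T := hHT hn
      have h2 := stronglyClosed_hom_mem E hHsc ((mem_autGroup_iff E inf_le_right).1 hβE)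
        ⟨n, ⟨n.2, hnT⟩⟩ hn
      have h3 : ((P ⊓ T).subtype.comp β.toMonoidHom) ⟨n, ⟨n.2, hnT⟩⟩ =
          (((g : MulAut P) n : P) : Ω) := hβv _
      rw [h3] at h2
      exact h2
    · rw [Subgroup.mem_subgroupOf]
      apply hidx.2.1
      apply Subgroup.subset_closure
      exact ⟨P, g, x, hPS, mem_pResidual_of_pow_eq_one hcop hgm, rfl⟩
    · rw [Subgroup.mem_subgroupOf]
      have hcT : ((x⁻¹ * (g : MulAut P) x : P) : Ω) ∈ T := by
        apply hidx.2.1
        apply Subgroup.subset_closure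
        exact ⟨P, g, x, hPS, mem_pResidual_of_pow_eq_one hcop hgm, rfl⟩
      have h2 := hgen ⟨_, ⟨(x⁻¹ * (g : MulAut P) x).2, hcT⟩⟩
      rw [hβv] at h2
      exact h2
  exact key

theorem hyperfocal_le_of_pPowerIndex [Finite S] (p : ℕ) [Fact p.Prime] (hS : IsPGroup p S)
    (F : FusionSystem S) {T : Subgroup Ω} (E : FusionSystem T) (hEs : E.IsSaturated p)
    (hidx : E.HasPPowerIndexIn F p) (hT : F.StronglyClosed T) :
    F.hyperfocalSubgroup p ≤ E.hyperfocalSubgroup p := by
  intro y hy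
  unfold FusionSystem.hyperfocalSubgroup at hy
  induction hy using Subgroup.closure_induction with
  | mem y hy =>
    obtain ⟨P, α, x, hPS, hα, rfl⟩ := hy
    have key : ∀ a : F.autGroup P, a ∈ pResidual p (F.autGroup P) → ∀ x : P,
        (x : Ω)⁻¹ * (((a : MulAut P) x : P) : Ω) ∈ E.hyperfocalSubgroup p := by
      intro a ha
      unfold pResidual at ha
      induction ha using Subgroup.closure_induction with
      | mem g hg =>
        intro x
        exact inv_mul_aut_mem_hyperfocal_sub p hS F E hEs hidx hT hPS g (pow_orderOf_eq_one g) hg x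
      | one =>
        intro x
        show (x : Ω)⁻¹ * (x : Ω) ∈ _
        rw [inv_mul_cancel]
        exact Subgroup.one_mem _
      | mul a b _ _ iha ihb =>
        intro x
        have h1 := ihb x
        have h2 := iha ((b : MulAut P) x)
        have e : (x : Ω)⁻¹ * ((((a * b : F.autGroup P) : MulAut P) x : P) : Ω) =
            ((x : Ω)⁻¹ * (((b : MulAut P) x : P) : Ω)) *
              ((((b : MulAut P) x : P) : Ω)⁻¹ * (((a : MulAut P) ((b : MulAut P) x) : P) : Ω)) := by
          rw [Subgroup.coe_mul, MulAut.mul_apply]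
          group
        rw [e]
        exact Subgroup.mul_mem _ h1 h2
      | inv a _ iha =>
        intro x
        have h1 := iha ((a : MulAut P)⁻¹ x)
        rw [MulAut.apply_inv_self] at h1
        have e : (x : Ω)⁻¹ * ((((a⁻¹ : F.autGroup P) : MulAut P) x : P) : Ω) =
            ((((a : MulAut P)⁻¹ x : P) : Ω)⁻¹ * (x : Ω))⁻¹ := by
          rw [Subgroup.coe_inv]
          group
        rw [e]
        exact Subgroup.inv_mem _ h1
    exact key α hα x
  | one => exact Subgroup.one_mem _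
  | mul a b _ _ iha ihb => exact Subgroup.mul_mem _ iha ihb
  | inv a _ iha => exact Subgroup.inv_mem _ iha

theorem autGroup_le_of_subsystem (F : FusionSystem S) {T : Subgroup Ω} (E : FusionSystem T)
    (hEF : E.IsSubsystemOf F) {P : Subgroup Ω} (hPT : P ≤ T) : E.autGroup P ≤ F.autGroup P := by
  have hTS : T ≤ S := (F.le_of_mem (hEF T (subtype_mem E le_rfl))).1
  intro β hβ
  rw [mem_autGroup_iff F (hPT.trans hTS)]
  exact hEF P ((mem_autGroup_iff E hPT).1 hβ)

theorem hyperfocal_le_of_subsystem (p : ℕ) (F : FusionSystem S) {T : Subgroup Ω} (E : FusionSystem T)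
    (hEF : E.IsSubsystemOf F) : E.hyperfocalSubgroup p ≤ F.hyperfocalSubgroup p := by
  have hTS : T ≤ S := (F.le_of_mem (hEF T (subtype_mem E le_rfl))).1
  intro y hy
  unfold FusionSystem.hyperfocalSubgroup at hy
  induction hy using Subgroup.closure_induction with
  | mem y hy =>
    obtain ⟨P, α, x, hPT, hα, rfl⟩ := hy
    apply Subgroup.subset_closure
    exact ⟨P, Subgroup.inclusion (autGroup_le_of_subsystem F E hEF hPT) α, x, hPT.trans hTS,
      map_mem_pResidual p _ hα, rfl⟩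
  | one => exact Subgroup.one_mem _
  | mul a b _ _ iha ihb => exact Subgroup.mul_mem _ iha ihb
  | inv a _ iha => exact Subgroup.inv_mem _ iha

theorem hyperfocal_eq_of_pPowerIndex [Finite S] (p : ℕ) [Fact p.Prime] (hS : IsPGroup p S)
    (F : FusionSystem S) {T : Subgroup Ω} (E : FusionSystem T) (hEs : E.IsSaturated p)
    (hidx : E.HasPPowerIndexIn F p) (hT : F.StronglyClosed T) :
    E.hyperfocalSubgroup p = F.hyperfocalSubgroup p :=
  le_antisymm (hyperfocal_le_of_subsystem p F E hidx.1) (hyperfocal_le_of_pPowerIndex p hS F E hEs hidx hT)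

end Cfsg.Agent.Lib.Helper29
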