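import Cfsg.Agent.Lib.Helper29.FusionHyp
import Cfsg.Agent.Lib.Helper29.FusionHyp2

/-!
Every map of a saturated fusion system agrees with a conjugation by an element of `S` modulo the
hyperfocal subgroup.
-/
set_option autoImplicit false

namespace Cfsg.Agent.Lib.Helper29
open Cfsg

variable {Ω : Type*} [Group Ω] {S : Subgroup Ω}

/-- the subsystem of maps that agree with a conjugation by an element of `S` modulo `T` -/
def innModSys (F : FusionSystem S) (T : Subgroup Ω) (hT : ∀ s ∈ S, ∀ t ∈ T, s * t * s⁻¹ ∈ T) :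
    FusionSystem S where
  Hom P := {φ | φ ∈ F.Hom P ∧ ∃ s ∈ S, ∀ x : P, (φ x)⁻¹ * (s * x * s⁻¹) ∈ T}
  le_of_mem h := F.le_of_mem h.1
  injective_of_mem h := F.injective_of_mem h.1
  conj_mem := by
    intro P g hP hg
    refine ⟨F.conj_mem hP hg, g, hg, fun x => ?_⟩
    show (g * (x : Ω) * g⁻¹)⁻¹ * (g * x * g⁻¹) ∈ T
    rw [inv_mul_cancel]
    exact T.one_mem
  comp_mem := by
    rintro P Q φ ψ ⟨hφ, s, hs, hφs⟩ ⟨hψ, r, hr, hψr⟩ h
    refine ⟨F.comp_mem hφ hψ h, r * s, S.mul_mem hr hs, fun x => ?_⟩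
    have h1 := hψr ⟨φ x, h x⟩
    have h2 := hT r hr _ (hφs x)
    have e : ((ψ.comp (φ.codRestrict Q h)) x)⁻¹ * (r * s * x * (r * s)⁻¹) =
        ((ψ ⟨φ x, h x⟩)⁻¹ * (r * φ x * r⁻¹)) * (r * ((φ x)⁻¹ * (s * x * s⁻¹)) * r⁻¹) := by
      show (ψ ⟨φ x, h x⟩)⁻¹ * (r * s * x * (r * s)⁻¹) = _
      group
    rw [e]
    exact T.mul_mem h1 h2
  inv_mem := by
    rintro P φ ⟨hφ, s, hs, hφs⟩
    obtain ⟨χ, hχ, hχinv⟩ := F.inv_mem hφ
    refine ⟨χ, ⟨hχ, s⁻¹, S.inv_mem hs, ?_⟩, hχinv⟩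
    rintro ⟨_, x, rfl⟩
    rw [hχinv x]
    have h1 := T.inv_mem (hφs x)
    have h2 := hT s⁻¹ (S.inv_mem hs) _ h1
    have e : (x : Ω)⁻¹ * (s⁻¹ * φ x * s⁻¹⁻¹) = s⁻¹ * ((φ x)⁻¹ * (s * x * s⁻¹))⁻¹ * s⁻¹⁻¹ := by group
    show (x : Ω)⁻¹ * (s⁻¹ * φ x * s⁻¹⁻¹) ∈ T
    rw [e]
    exact h2

/-- every map of a saturated system is a conjugation modulo the hyperfocal subgroup -/
theorem exists_conj_mod_hyp [Finite S] (p : ℕ) [Fact p.Prime] (hS : IsPGroup p S)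
    (F : FusionSystem S) (hF : F.IsSaturated p) {P : Subgroup Ω} {φ : P →* Ω} (hφ : φ ∈ F.Hom P) :
    ∃ s ∈ S, ∀ x : P, (φ x)⁻¹ * (s * x * s⁻¹) ∈ F.hyperfocalSubgroup p := by
  have hT : ∀ s ∈ S, ∀ t ∈ F.hyperfocalSubgroup p, s * t * s⁻¹ ∈ F.hyperfocalSubgroup p :=
    fun s hs t ht => conj_mem_hyperfocal F p hs t ht
  have hle : F ≤ innModSys F (F.hyperfocalSubgroup p) hT := by
    apply alperin p hS F hF
    intro U hU α hα
    have hUfn : F.IsFullyNormalized U := by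
      rcases hU with rfl | hU
      · exact fullyNormalized_top F
      · exact hU.2.1
    have hUS : U ≤ S := hUfn.1
    rw [mem_autGroup_iff _ hUS]
    refine ⟨(mem_autGroup_iff F hUS).1 hα, ?_⟩
    obtain ⟨_, R, hR⟩ := (((Cfsg.Agent.S5077.result p hS F).1 hF).1 U hUfn).2
    have : Finite U := finite_of_le hUS
    obtain ⟨b, hb, s, hs, hbs⟩ := exists_mul_pResidual_sylow p R ⟨α, hα⟩
    rw [← SetLike.mem_coe, hR, SetLike.mem_coe, Subgroup.mem_subgroupOf, autInducedBy_eq_map] at hs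
    obtain ⟨n, hn, hns⟩ := hs
    have hnS : (n : Ω) ∈ S := hn
    have hα' : α = (b : MulAut U) * (s : MulAut U) := congrArg Subtype.val hbs
    refine ⟨n, hnS, fun x => ?_⟩
    have hsx : (((s : MulAut U) x : U) : Ω) = (n : Ω) * x * (n : Ω)⁻¹ := by
      rw [← hns]
      rfl
    have hgen : (((s : MulAut U) x : U) : Ω)⁻¹ * (((b : MulAut U) ((s : MulAut U) x) : U) : Ω) ∈
        F.hyperfocalSubgroup p := by
      apply Subgroup.subset_closure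
      exact ⟨U, b, (s : MulAut U) x, hUS, hb, rfl⟩
    have e : ((U.subtype.comp α.toMonoidHom) x)⁻¹ * ((n : Ω) * x * (n : Ω)⁻¹) =
        ((((s : MulAut U) x : U) : Ω)⁻¹ * (((b : MulAut U) ((s : MulAut U) x) : U) : Ω))⁻¹ := by
      show (((α x : U)) : Ω)⁻¹ * ((n : Ω) * x * (n : Ω)⁻¹) = _
      rw [hα', MulAut.mul_apply, ← hsx]
      group
    rw [e]
    exact Subgroup.inv_mem _ hgen
  exact (hle P hφ).2

end Cfsg.Agent.Lib.Helper29
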