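import Cfsg.Agent.Lib.Helper29.PPISat

/-!
Existence of the saturated subsystems of `p`-power index over any `T ≥ hyp(F)` (AKO Theorem I.7.4).
-/
set_option autoImplicit false

universe u

namespace Cfsg.Agent.Lib.Helper29
open Cfsg
open scoped commutatorElement

variable {Ω : Type u} [Group Ω] {S : Subgroup Ω}

section main

variable [Finite S] {p : ℕ} [Fact p.Prime] {F : FusionSystem S}

/-- the index `p` step: the kernel of an invariant homomorphism onto a group of order `p` -/
theorem exists_pPowerIndex_step (hS : IsPGroup p S) (hF : F.IsSaturated p) {M : Subgroup Ω}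
    (hMS : M ≤ S) (hhyp : F.hyperfocalSubgroup p ≤ M) {C : Type*} [CommGroup C] (lam : S →* C)
    (hcard : Nat.card C = p) (hsurj : Function.Surjective lam)
    (hker : ∀ (x : Ω) (hx : x ∈ S), x ∈ M ↔ lam ⟨x, hx⟩ = 1) :
    ∃ E : FusionSystem M, E.IsSaturated p ∧ E.HasPPowerIndexIn F p ∧ F.StronglyClosed M := by
  have hC : IsPGroup p C := IsPGroup.of_card (n := 1) (by rw [hcard, pow_one])
  have hcomm : ⁅S, S⁆ ≤ M := by
    rw [Subgroup.commutator_le]
    intro a ha b hb
    have habS : ⁅a, b⁆ ∈ S := by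
      rw [commutatorElement_def]
      exact S.mul_mem (S.mul_mem (S.mul_mem ha hb) (S.inv_mem ha)) (S.inv_mem hb)
    rw [hker _ habS]
    have e : (⟨⁅a, b⁆, habS⟩ : S) = ⁅(⟨a, ha⟩ : S), ⟨b, hb⟩⁆ := rfl
    rw [e, map_commutatorElement, commutatorElement_eq_one_iff_commute]
    exact Commute.all _ _
  have hinv : LamInv F lam := by
    intro P φ hφ x
    have h1 : (x : Ω)⁻¹ * φ x ∈ M :=
      (sup_le hhyp hcomm) ((le_modSys_hyp p hS F hF P hφ).2 x)
    have hxS := (F.le_of_mem hφ).1 x.2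
    have hφS := (F.le_of_mem hφ).2 x
    have h2 := (hker _ (S.mul_mem (S.inv_mem hxS) hφS)).1 h1
    have e : (⟨(x : Ω)⁻¹ * φ x, S.mul_mem (S.inv_mem hxS) hφS⟩ : S) =
        (⟨x, hxS⟩ : S)⁻¹ * ⟨φ x, hφS⟩ := rfl
    rw [e, map_mul, map_inv, inv_mul_eq_one] at h2
    exact h2.symm
  obtain ⟨th, hth⟩ := exists_theta hS hF hC hinv
  have hctx : KerCtx p F lam M th := ⟨hinv, hth, hMS, hker, hsurj, hcard⟩
  obtain ⟨E, hE⟩ := hctx.exists_kerSys
  exact ⟨E, hctx.saturated hS hF hE, hctx.pPowerIndex hE hhyp, hctx.stronglyClosed⟩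

/-- a proper subgroup of a finite `p`-group lies in the kernel of a homomorphism onto a group of order `p` -/
theorem exists_index_p_hom (hS : IsPGroup p S) {T : Subgroup Ω} (hTS : T ≤ S) (hne : T ≠ S) :
    ∃ M : Subgroup Ω, T ≤ M ∧ M ≤ S ∧ M ≠ S ∧ ∃ (C : Type u) (_ : CommGroup C) (lam : S →* C),
      Nat.card C = p ∧ Function.Surjective lam ∧ ∀ (x : Ω) (hx : x ∈ S), x ∈ M ↔ lam ⟨x, hx⟩ = 1 := by
  -- a maximal proper subgroup containing `T`
  have hfin : {K : Subgroup Ω | T ≤ K ∧ K ≤ S ∧ K ≠ S}.Finite :=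
    (finite_subgroups_le S).subset (fun K hK => hK.2.1)
  have hnon : {K : Subgroup Ω | T ≤ K ∧ K ≤ S ∧ K ≠ S}.Nonempty := ⟨T, le_rfl, hTS, hne⟩
  obtain ⟨M, ⟨hTM, hMS, hMne⟩, hMmax⟩ :=
    Set.exists_max_image _ (fun K : Subgroup Ω => Nat.card K) hfin hnon
  have hmax : ∀ K : Subgroup Ω, M ≤ K → K ≤ S → K = M ∨ K = S := by
    intro K hMK hKS
    by_cases hK : K = S
    · exact Or.inr hK
    · left
      haveI : Finite K := finite_of_le hKS
      exact (Subgroup.eq_of_le_of_card_ge hMK (hMmax K ⟨hTM.trans hMK, hKS, hK⟩)).symm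
  -- `M` is normal in `S`
  have hnorm : ∀ s ∈ S, s ∈ Subgroup.normalizer (M : Set Ω) := by
    have h1 := normalizerIn_ne_self hS hMS hMne
    rcases hmax _ (le_normalizerIn hMS) inf_le_left with h2 | h2
    · exact absurd h2 h1
    · intro s hs
      have : s ∈ FusionSystem.normalizerIn S M := by rw [h2]; exact hs
      exact this.2
  haveI hN : (M.subgroupOf S).Normal := by
    refine ⟨fun n hn g => ?_⟩
    rw [Subgroup.mem_subgroupOf] at hn ⊢
    exact (Subgroup.mem_normalizer_iff.1 (hnorm g g.2) n).1 hn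
  have hCp : IsPGroup p (S ⧸ M.subgroupOf S) := hS.to_quotient _
  have hmk : ∀ s : S, (QuotientGroup.mk' (M.subgroupOf S) s = 1) ↔ (s : Ω) ∈ M := by
    intro s
    rw [QuotientGroup.mk'_apply, QuotientGroup.eq_one_iff, Subgroup.mem_subgroupOf]
  -- the quotient is nontrivial
  have hntr : ∃ q : S ⧸ M.subgroupOf S, q ≠ 1 := by
    by_contra hcon
    apply hMne
    apply le_antisymm hMS
    intro s hs
    have h1 : QuotientGroup.mk' (M.subgroupOf S) ⟨s, hs⟩ = 1 := by
      by_contra h2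
      exact hcon ⟨_, h2⟩
    exact (hmk _).1 h1
  obtain ⟨q, hq⟩ := hntr
  have hdvd : p ∣ Nat.card (S ⧸ M.subgroupOf S) := by
    obtain ⟨k, hk⟩ := IsPGroup.iff_card.1 hCp
    rcases Nat.eq_zero_or_pos k with rfl | hk0
    · exfalso
      rw [pow_zero] at hk
      haveI : Subsingleton (S ⧸ M.subgroupOf S) := (Nat.card_eq_one_iff_unique.1 hk).1
      exact hq (Subsingleton.elim _ _)
    · rw [hk]
      exact dvd_pow_self p hk0.ne'
  obtain ⟨c, hc⟩ := exists_prime_orderOf_dvd_card' (G := S ⧸ M.subgroupOf S) p hdvd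
  have hc1 : c ≠ 1 := by
    intro h1
    rw [h1, orderOf_one] at hc
    exact (Fact.out : p.Prime).one_lt.ne hc
  -- `⟨c⟩` is everything
  have hMK : M ≤ ((Subgroup.zpowers c).comap (QuotientGroup.mk' (M.subgroupOf S))).map S.subtype := by
    intro m hm
    refine ⟨⟨m, hMS hm⟩, ?_, rfl⟩
    show QuotientGroup.mk' (M.subgroupOf S) ⟨m, hMS hm⟩ ∈ Subgroup.zpowers c
    rw [(hmk ⟨m, hMS hm⟩).2 hm]
    exact Subgroup.one_mem _
  have hKS : ((Subgroup.zpowers c).comap (QuotientGroup.mk' (M.subgroupOf S))).map S.subtype ≤ S := by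
    rintro _ ⟨s, _, rfl⟩
    exact s.2
  have hKtop : ((Subgroup.zpowers c).comap (QuotientGroup.mk' (M.subgroupOf S))).map S.subtype = S := by
    rcases hmax _ hMK hKS with h2 | h2
    · exfalso
      obtain ⟨s, hs⟩ := QuotientGroup.mk'_surjective (M.subgroupOf S) c
      have hsK : (s : Ω) ∈ ((Subgroup.zpowers c).comap
          (QuotientGroup.mk' (M.subgroupOf S))).map S.subtype := by
        refine ⟨s, ?_, rfl⟩
        show QuotientGroup.mk' (M.subgroupOf S) s ∈ Subgroup.zpowers c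
        rw [hs]
        exact Subgroup.mem_zpowers c
      rw [h2] at hsK
      exact hc1 (hs ▸ (hmk s).2 hsK)
    · exact h2
  have hZtop : Subgroup.zpowers c = ⊤ := by
    rw [eq_top_iff]
    intro q' _
    obtain ⟨s, rfl⟩ := QuotientGroup.mk'_surjective (M.subgroupOf S) q'
    have hsK : (s : Ω) ∈ ((Subgroup.zpowers c).comap
        (QuotientGroup.mk' (M.subgroupOf S))).map S.subtype := by
      rw [hKtop]
      exact s.2
    obtain ⟨s', hs', hss'⟩ := hsK
    have : s' = s := Subtype.ext hss'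
    rw [this] at hs'
    exact hs'
  have hcard : Nat.card (S ⧸ M.subgroupOf S) = p := by
    rw [← hc, ← Nat.card_zpowers, hZtop, Subgroup.card_top]
  haveI hcyc : IsCyclic (S ⧸ M.subgroupOf S) := isCyclic_of_prime_card hcard
  refine ⟨M, hTM, hMS, hMne, S ⧸ M.subgroupOf S, IsCyclic.commGroup,
    QuotientGroup.mk' (M.subgroupOf S), hcard, QuotientGroup.mk'_surjective _, fun x hx => ?_⟩
  exact ((hmk ⟨x, hx⟩)).symm

/-- **AKO Theorem I.7.4 (existence)**: a saturated subsystem of `p`-power index over every `T ≥ hyp(F)` -/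
theorem exists_pPowerIndex_sat (n : ℕ) : ∀ (S : Subgroup Ω) [Finite S] (_ : IsPGroup p S)
    (F : FusionSystem S) (_ : F.IsSaturated p) (T : Subgroup Ω) (_ : T ≤ S)
    (_ : F.hyperfocalSubgroup p ≤ T), Nat.card S - Nat.card T = n →
    ∃ E : FusionSystem T, E.IsSaturated p ∧ E.HasPPowerIndexIn F p := by
  induction n using Nat.strong_induction_on with
  | _ n ih =>
    intro S _ hS F hF T hTS hT hn
    by_cases hTeq : T = S
    · subst hTeq
      exact ⟨F, hF, hasPPowerIndexIn_self p F⟩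
    · obtain ⟨M, hTM, hMS, hMne, C, instC, lam, hcard, hsurj, hker⟩ := exists_index_p_hom hS hTS hTeq
      obtain ⟨E, hEsat, hEidx, hMsc⟩ :=
        exists_pPowerIndex_step hS hF hMS (hT.trans hTM) lam hcard hsurj hker
      haveI : Finite M := finite_of_le hMS
      have hMp : IsPGroup p M := hS.to_le hMS
      have hhypE : E.hyperfocalSubgroup p ≤ T := (hyperfocal_le_of_subsystem p F E hEidx.1).trans hT
      have hlt : Nat.card M < Nat.card S := by
        by_contra hcon
        rw [not_lt] at hcon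
        exact hMne (Subgroup.eq_of_le_of_card_ge hMS hcon)
      haveI : Finite T := finite_of_le hTS
      have hTle : Nat.card T ≤ Nat.card M := Subgroup.card_le_of_le hTM
      obtain ⟨D, hDsat, hDidx⟩ := ih (Nat.card M - Nat.card T) (by omega) M hMp E hEsat T hTM hhypE rfl
      exact ⟨D, hDsat, pPowerIndex_trans p hS F E hEsat hEidx hMsc D hDidx⟩

end main

end Cfsg.Agent.Lib.Helper29
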