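import Cfsg.Agent.Lib.Helper29.BisetApp
import Cfsg.Agent.Lib.Helper29.InnMod
import Cfsg.Agent.Lib.Helper29.HyperfocalPPower
import Cfsg.Agent.Lib.Helper29.PPIMain

/-!
Extension of `S`-invariant linear characters of the hyperfocal subgroup (the core of Tate's theorem).
-/
set_option autoImplicit false
open Cfsg

namespace Cfsg.Agent.Lib.Helper29

variable {Ω : Type*} [Group Ω] {S : Subgroup Ω}

theorem dataOf_cases (F : FusionSystem S) (H : Subgroup (S × S)) :
    dataOf F H = trivData S ∨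
      ∃ (P₀ : Subgroup Ω) (φ : P₀ →* Ω) (hφ : φ ∈ F.Hom P₀), H = Tw S P₀ φ ∧ dataOf F H = twData F hφ := by
  by_cases h : TwGood F H
  · right
    exact dataOf_spec F h
  · left
    unfold dataOf
    rw [dif_neg h]

section Hyp
variable [Finite S] (p : ℕ) [Fact p.Prime] (hS : IsPGroup p S) (F : FusionSystem S) (hF : F.IsSaturated p)

include hS hF in
theorem exists_twist (H : Subgroup (S × S)) :
    ∃ s : S, ∀ y ∈ (dataOf F H).P,
      ((dataOf F H).f y)⁻¹ * (s * y * s⁻¹) ∈ (F.hyperfocalSubgroup p).subgroupOf S := by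
  rcases dataOf_cases F H with h | ⟨P₀, φ, hφ, _, hD⟩
  · rw [h]
    refine ⟨1, fun y hy => ?_⟩
    have hy1 : y = 1 := hy
    rw [hy1]
    show ((1 : S))⁻¹ * (1 * 1 * 1⁻¹) ∈ _
    simp
  · rw [hD]
    obtain ⟨s, hs, hsv⟩ := exists_conj_mod_hyp p hS F hF hφ
    refine ⟨⟨s, hs⟩, fun y hy => ?_⟩
    have hy' : (y : Ω) ∈ P₀ := hy
    rw [Subgroup.mem_subgroupOf]
    have e : ((((twData F hφ).f y)⁻¹ * (⟨s, hs⟩ * y * ⟨s, hs⟩⁻¹) : S) : Ω) =
        (φ ⟨y, hy'⟩)⁻¹ * (s * y * s⁻¹) := by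
      rw [Subgroup.coe_mul, Subgroup.coe_inv, twData_f_of_mem F hφ hy']
      rfl
    rw [e]
    exact hsv ⟨y, hy'⟩

include hS hF in
theorem f_mem_hyp (H : Subgroup (S × S)) (y : S) (hy : y ∈ (dataOf F H).P)
    (hyT : y ∈ (F.hyperfocalSubgroup p).subgroupOf S) :
    (dataOf F H).f y ∈ (F.hyperfocalSubgroup p).subgroupOf S := by
  rcases dataOf_cases F H with h | ⟨P₀, φ, hφ, _, hD⟩
  · rw [h]
    exact Subgroup.one_mem _
  · rw [hD] at hy ⊢
    have hy' : (y : Ω) ∈ P₀ := hy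
    rw [Subgroup.mem_subgroupOf, twData_f_of_mem F hφ hy']
    have hsc := hyperfocal_stronglyClosed p hS F hF
    have hyT' : (y : Ω) ∈ F.hyperfocalSubgroup p := hyT
    have hle : Subgroup.zpowers (y : Ω) ≤ P₀ := by
      rw [Subgroup.zpowers_le]
      exact hy'
    have hleT : Subgroup.zpowers (y : Ω) ≤ F.hyperfocalSubgroup p := by
      rw [Subgroup.zpowers_le]
      exact hyT'
    exact hsc.2 _ hleT _ (restrict_mem F hle hφ) ⟨y, Subgroup.mem_zpowers _⟩

end Hyp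

section MuFacts
variable {G : Type*} [Group G] {Z : Type*} [CommGroup Z] (T' : Subgroup G) (μ : G → Z)
  (hμ1 : ∀ x ∈ T', ∀ y ∈ T', μ (x * y) = μ x * μ y)

include hμ1 in
theorem mu_one : μ 1 = 1 := by
  have := hμ1 1 T'.one_mem 1 T'.one_mem
  rw [mul_one] at this
  exact mul_eq_left.1 this.symm

include hμ1 in
theorem mu_inv {x : G} (hx : x ∈ T') : μ x⁻¹ = (μ x)⁻¹ := by
  have := hμ1 x hx x⁻¹ (T'.inv_mem hx)
  rw [mul_inv_cancel, mu_one T' μ hμ1] at this
  exact eq_inv_of_mul_eq_one_right this.symm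

include hμ1 in
theorem mu_pow {x : G} (hx : x ∈ T') (n : ℕ) : μ (x ^ n) = μ x ^ n := by
  induction n with
  | zero => rw [pow_zero, pow_zero, mu_one T' μ hμ1]
  | succ n ih => rw [pow_succ, pow_succ, hμ1 _ (T'.pow_mem hx n) _ hx, ih]

end MuFacts


section Core
variable [Finite S] (p : ℕ) [Fact p.Prime] (hS : IsPGroup p S) (F : FusionSystem S) (hF : F.IsSaturated p)
  {Z : Type*} [CommGroup Z]

include hS hF in
/-- the transfer of the twisted character, evaluated on the hyperfocal subgroup -/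
theorem transfer_twist_eq (μ : S → Z)
    (hμ1 : ∀ x ∈ (F.hyperfocalSubgroup p).subgroupOf S, ∀ y ∈ (F.hyperfocalSubgroup p).subgroupOf S,
      μ (x * y) = μ x * μ y)
    (hμ2 : ∀ a z, μ (a⁻¹ * z * a) = μ z) (H : Subgroup (S × S)) (s : S) (ε : (dataOf F H).P →* Z)
    (hε : ∀ y : (dataOf F H).P, ε y = μ (((dataOf F H).f y)⁻¹ * (s * y * s⁻¹)))
    (t : S) (ht : t ∈ (F.hyperfocalSubgroup p).subgroupOf S) :
    MonoidHom.transfer ε t = ((dataOf F H).trOrb t μ)⁻¹ * μ t ^ (dataOf F H).P.index := by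
  classical
  set T' := (F.hyperfocalSubgroup p).subgroupOf S with hT'
  set D := dataOf F H with hD
  have hnorm : ∀ (a : S) (t : S), t ∈ T' → a * t * a⁻¹ ∈ T' := by
    intro a t ht
    rw [hT', Subgroup.mem_subgroupOf] at ht ⊢
    exact conj_mem_hyperfocal F p a.2 _ ht
  have hnorm' : ∀ (a : S) (t : S), t ∈ T' → a⁻¹ * t * a ∈ T' := by
    intro a t ht
    have := hnorm a⁻¹ t ht
    rwa [inv_inv] at this
  have hμ2' : ∀ a z, μ (a * z * a⁻¹) = μ z := by
    intro a z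
    have := hμ2 a⁻¹ z
    rwa [inv_inv] at this
  letI : Fintype (Quotient (MulAction.orbitRel (Subgroup.zpowers t) (S ⧸ D.P))) := Fintype.ofFinite _
  rw [MonoidHom.transfer_eq_prod_quotient_orbitRel_zpowers_quot]
  unfold TwData.trOrb
  rw [finprod_eq_prod_of_fintype, ← Finset.prod_inv_distrib, Subgroup.index_eq_sum_minimalPeriod D.P t,
    ← Finset.prod_pow_eq_pow_sum, ← Finset.prod_mul_distrib]
  apply Finset.prod_congr rfl
  intro q _
  set k := Function.minimalPeriod (t • ·) q.out with hk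
  set y : S := q.out.out⁻¹ * t ^ k * q.out.out with hy
  have hyP : y ∈ D.P := QuotientGroup.out_conj_pow_minimalPeriod_mem D.P t q.out
  have hyT : y ∈ T' := hnorm' _ _ (T'.pow_mem ht k)
  have hfT : D.f y ∈ T' := f_mem_hyp p hS F hF H y hyP hyT
  have e1 := hε ⟨y, hyP⟩
  rw [e1]
  show μ ((D.f y)⁻¹ * (s * y * s⁻¹)) = (μ (D.f y))⁻¹ * μ t ^ k
  rw [hμ1 _ (T'.inv_mem hfT) _ (hnorm _ _ hyT), mu_inv T' μ hμ1 hfT, hμ2', hy, hμ2, mu_pow T' μ hμ1 ht]

include hS hF in
/-- **The core of Tate's theorem**: an `S`-invariant character of the hyperfocal subgroup extends to `S`,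
up to a power prime to `p`. -/
theorem tate_core (μ : S → Z)
    (hμ1 : ∀ x ∈ (F.hyperfocalSubgroup p).subgroupOf S, ∀ y ∈ (F.hyperfocalSubgroup p).subgroupOf S,
      μ (x * y) = μ x * μ y)
    (hμ2 : ∀ a z, μ (a⁻¹ * z * a) = μ z) :
    ∃ (v : S →* Z) (n : ℤ), ¬ (p : ℤ) ∣ n ∧
      ∀ t ∈ (F.hyperfocalSubgroup p).subgroupOf S, v t = μ t ^ n := by
  classical
  set T' := (F.hyperfocalSubgroup p).subgroupOf S with hT'
  obtain ⟨m, h1, h2, h3⟩ := exists_stable_biset' p hS F hF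
  have hnorm : ∀ (a : S) (t : S), t ∈ T' → a * t * a⁻¹ ∈ T' := by
    intro a t ht
    rw [hT', Subgroup.mem_subgroupOf] at ht ⊢
    exact conj_mem_hyperfocal F p a.2 _ ht
  have hnorm' : ∀ (a : S) (t : S), t ∈ T' → a⁻¹ * t * a ∈ T' := by
    intro a t ht
    have := hnorm a⁻¹ t ht
    rwa [inv_inv] at this
  choose sH hsH using exists_twist p hS F hF
  have hεex : ∃ ε : ∀ H : Subgroup (S × S), (dataOf F H).P →* Z,
      ∀ H (y : (dataOf F H).P), ε H y = μ (((dataOf F H).f y)⁻¹ * (sH H * y * (sH H)⁻¹)) := by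
    refine ⟨fun H => MonoidHom.mk' (fun y => μ (((dataOf F H).f y)⁻¹ * (sH H * y * (sH H)⁻¹))) ?_,
      fun H y => rfl⟩
    intro y z
    have hc := hsH H y y.2
    have hd := hsH H z z.2
    have e : ((dataOf F H).f ((y * z : (dataOf F H).P) : S))⁻¹ *
        (sH H * ((y * z : (dataOf F H).P) : S) * (sH H)⁻¹) =
        (((dataOf F H).f z)⁻¹ * (((dataOf F H).f y)⁻¹ * (sH H * y * (sH H)⁻¹)) * ((dataOf F H).f z)) *
          (((dataOf F H).f z)⁻¹ * (sH H * z * (sH H)⁻¹)) := by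
      rw [Subgroup.coe_mul, (dataOf F H).f_mul _ y.2 _ z.2]
      group
    show μ (((dataOf F H).f ((y * z : (dataOf F H).P) : S))⁻¹ *
        (sH H * ((y * z : (dataOf F H).P) : S) * (sH H)⁻¹)) = _
    rw [e, hμ1 _ (hnorm' _ _ hc) _ hd, hμ2]
  obtain ⟨ε, hε⟩ := hεex
  refine ⟨btr F m ε, bisetDeg m, h3, ?_⟩
  -- the formula for the transfer on `T'`
  have hform : ∀ t ∈ T', btr F m ε t = (Trχ F m μ t)⁻¹ * μ t ^ bisetDeg m := by
    intro t ht
    letI : Fintype (Subgroup (S × S)) := Fintype.ofFinite _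
    rw [btr_apply]
    unfold Trχ bisetDeg
    rw [finprod_eq_prod_of_fintype, finprod_eq_prod_of_fintype, finsum_eq_sum_of_fintype,
      ← prod_zpow_eq_zpow_sum, ← Finset.prod_inv_distrib, ← Finset.prod_mul_distrib]
    apply Finset.prod_congr rfl
    intro H _
    rw [transfer_twist_eq p hS F hF μ hμ1 hμ2 H (sH H) (ε H) (hε H) t ht, mul_zpow, inv_zpow]
    congr 1
    by_cases hm : m H = 0
    · rw [hm, zero_mul, zpow_zero, zpow_zero]
    · rw [← zpow_natCast, ← zpow_mul, mul_comm]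
      congr 2
      unfold idxS
      rw [dataOf_P F (h1 H hm)]
  -- the correction term is a homomorphism on `T'`
  have hτex : ∃ τ : T' →* Z, ∀ t : T', τ t = Trχ F m μ (t : S) := by
    refine ⟨MonoidHom.mk' (fun t => Trχ F m μ (t : S)) ?_, fun t => rfl⟩
    intro x y
    have hx := hform x x.2
    have hy := hform y y.2
    have hxy := hform (x * y : T') (x * y : T').2
    have ex : Trχ F m μ (x : S) = μ x ^ bisetDeg m * (btr F m ε x)⁻¹ := by
      rw [hx]; simp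
    have ey : Trχ F m μ (y : S) = μ y ^ bisetDeg m * (btr F m ε y)⁻¹ := by
      rw [hy]; simp
    have exy : Trχ F m μ ((x * y : T') : S) = μ ((x * y : T') : S) ^ bisetDeg m *
        (btr F m ε ((x * y : T') : S))⁻¹ := by
      rw [hxy]; simp
    show Trχ F m μ ((x * y : T') : S) = Trχ F m μ (x : S) * Trχ F m μ (y : S)
    rw [exy, ex, ey, Subgroup.coe_mul, hμ1 _ x.2 _ y.2, map_mul, mul_zpow, mul_inv]
    exact mul_mul_mul_comm _ _ _ _
  obtain ⟨τ, hτ⟩ := hτex
  -- `τ` is trivial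
  have hsc := hyperfocal_stronglyClosed p hS F hF
  obtain ⟨E, hEsat, hEidx⟩ := exists_pPowerIndex_sat (p := p) (Nat.card S - Nat.card (F.hyperfocalSubgroup p)) S hS F hF
    (F.hyperfocalSubgroup p) (hyperfocal_le F p) le_rfl rfl
  have hEhyp : E.hyperfocalSubgroup p = F.hyperfocalSubgroup p :=
    hyperfocal_eq_of_pPowerIndex p hS F E hEsat hEidx hsc
  have hker : F.hyperfocalSubgroup p ≤ (τ.ker.map T'.subtype).map S.subtype := by
    rw [← hEhyp]
    unfold FusionSystem.hyperfocalSubgroup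
    rw [Subgroup.closure_le]
    rintro _ ⟨P, α, x, hPT, _, rfl⟩
    have hPS : P ≤ S := hPT.trans (hyperfocal_le F p)
    have hαE : P.subtype.comp (α : MulAut P).toMonoidHom ∈ E.Hom P := (mem_autGroup_iff E hPT).1 α.2
    have hαF : P.subtype.comp (α : MulAut P).toMonoidHom ∈ F.Hom P := hEidx.1 P hαE
    have hxT : (x : Ω) ∈ F.hyperfocalSubgroup p := hPT x.2
    have hαxT : (((α : MulAut P) x : P) : Ω) ∈ F.hyperfocalSubgroup p := hPT ((α : MulAut P) x).2
    set x' : T' := ⟨⟨x, hPS x.2⟩, hxT⟩ with hx'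
    set y' : T' := ⟨⟨((α : MulAut P) x : P), hPS ((α : MulAut P) x).2⟩, hαxT⟩ with hy'
    have hc : F.IsConjElt ((x' : S) : Ω) ((y' : S) : Ω) := by
      have hle : Subgroup.zpowers (x : Ω) ≤ P := by
        rw [Subgroup.zpowers_le]
        exact x.2
      exact ⟨(P.subtype.comp (α : MulAut P).toMonoidHom).comp (Subgroup.inclusion hle),
        restrict_mem F hle hαF, rfl⟩
    have hinv : τ x' = τ y' := by
      rw [hτ, hτ]
      exact Trχ_eq_of_isConjElt F m h1 h2 μ hμ2 hc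
    refine ⟨(x'⁻¹ * y' : T'), ⟨x'⁻¹ * y', ?_, rfl⟩, rfl⟩
    rw [SetLike.mem_coe, MonoidHom.mem_ker, map_mul, map_inv, hinv, inv_mul_cancel]
  intro t ht
  have htT : ((t : S) : Ω) ∈ F.hyperfocalSubgroup p := ht
  obtain ⟨_, ⟨t', ht', rfl⟩, htt⟩ := hker htT
  have heq : (t' : S) = t := Subtype.ext htt
  have h5 : τ t' = 1 := ht'
  rw [hτ, heq] at h5
  rw [hform t ht, h5, inv_one, one_mul]

end Core

end Cfsg.Agent.Lib.Helper29
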