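import Cfsg.Agent.Lib.Helper29.BisetApp
import Cfsg.Agent.Lib.Helper29.FusionRS
import Cfsg.Agent.Lib.Helper29.FusionHyp
import Cfsg.Agent.Lib.Helper29.FusionInner

/-!
A Thompson-type transfer argument for saturated fusion systems at the prime 2, using the transfer of a
fusion-stable virtual biset and a sign character.
-/
set_option autoImplicit false
open Cfsg

namespace Cfsg.Agent.Lib.Helper29

namespace TwData
variable {G : Type*} [Group G] (D : TwData G) {A : Type*} [CommGroup A]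

theorem trOrb_eq_prod' [Finite G] [DecidableEq A] (e : G) (χ : G → A) (B : Finset A) (hB : ∀ x, χ x ∈ B) :
    D.trOrb e χ = ∏ b ∈ B, b ^ D.ORc e χ b := by
  classical
  letI : Fintype (Quotient (MulAction.orbitRel (Subgroup.zpowers e) (G ⧸ D.P))) := Fintype.ofFinite _
  unfold trOrb
  rw [finprod_eq_prod_of_fintype]
  set g : Quotient (MulAction.orbitRel (Subgroup.zpowers e) (G ⧸ D.P)) → A := fun q =>
    χ (D.f (q.out.out⁻¹ * e ^ Function.minimalPeriod (e • ·) q.out * q.out.out)) with hg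
  have h1 := Finset.prod_comp (s := Finset.univ) (fun b : A => b) g
  rw [h1]
  have hsub : Finset.univ.image g ⊆ B := by
    intro b hb
    rw [Finset.mem_image] at hb
    obtain ⟨q, _, rfl⟩ := hb
    exact hB _
  have hcount : ∀ b : A, D.ORc e χ b = (Finset.univ.filter (fun q => g q = b)).card := by
    intro b
    unfold ORc
    rw [Nat.card_eq_fintype_card, Fintype.card_subtype]
  rw [Finset.prod_subset hsub]
  · apply Finset.prod_congr rfl
    intro b _
    rw [hcount]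
  · intro b _ hb
    have : (Finset.univ.filter (fun q => g q = b)).card = 0 := by
      rw [Finset.card_eq_zero, Finset.filter_eq_empty_iff]
      intro q _ hq
      apply hb
      rw [Finset.mem_image]
      exact ⟨q, Finset.mem_univ _, hq⟩
    rw [this, pow_zero]

/-- for an involution, the orbits with sign `-1` are the fixed points with sign `-1` -/
theorem ORc_neg_one_eq_FXc [Finite G] (e : G) (he : e ^ 2 = 1) (ε : G →* ℤˣ) :
    D.ORc e ε (-1) = D.FXc e ε (-1) := by
  unfold ORc FXc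
  have hper : ∀ x : G ⧸ D.P, Function.minimalPeriod (e • ·) x = 1 ∨ Function.minimalPeriod (e • ·) x = 2 := by
    intro x
    have h1 : Function.minimalPeriod (e • ·) x ∣ 2 := by
      rw [← D.pow_smul_eq_iff, he, one_smul]
    rcases (Nat.dvd_prime Nat.prime_two).1 h1 with h | h
    · exact Or.inl h
    · exact Or.inr h
  have hfix : ∀ x : G ⧸ D.P, e • x = x → (Quotient.mk (MulAction.orbitRel (Subgroup.zpowers e) (G ⧸ D.P)) x).out = x := by
    intro x hx
    have h1 : MulAction.orbitRel (Subgroup.zpowers e) (G ⧸ D.P)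
        (Quotient.mk (MulAction.orbitRel (Subgroup.zpowers e) (G ⧸ D.P)) x).out x :=
      Quotient.exact (Quotient.out_eq _)
    rw [MulAction.orbitRel_apply] at h1
    obtain ⟨⟨z, hz⟩, hzx⟩ := h1
    obtain ⟨k, rfl⟩ := Subgroup.mem_zpowers_iff.1 hz
    have h2 : (e ^ k) • x = x := by
      have : x ∈ MulAction.fixedBy (G ⧸ D.P) e := hx
      have h3 : Subgroup.zpowers e ≤ MulAction.stabilizer G x := by
        rw [Subgroup.zpowers_le]
        exact hx
      exact h3 (Subgroup.zpow_mem_zpowers e k)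
    rw [← hzx]
    exact h2
  refine Nat.card_congr ⟨fun q => ⟨q.1.out, ?_⟩, fun x => ⟨Quotient.mk _ x.1, ?_⟩, ?_, ?_⟩
  · have hq := q.2
    rcases hper q.1.out with h | h
    · rw [h, pow_one] at hq
      refine ⟨?_, hq⟩
      have := (D.pow_smul_eq_iff e 1 q.1.out).2 (by rw [h])
      rwa [pow_one] at this
    · exfalso
      rw [h, he, mul_one, inv_mul_cancel, D.f_one, map_one] at hq
      exact absurd hq (by decide)
  · have hx := x.2
    rw [hfix x.1 hx.1]
    have h1 : Function.minimalPeriod (e • ·) x.1 = 1 := by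
      rw [Function.minimalPeriod_eq_one_iff_isFixedPt]
      exact hx.1
    rw [h1, pow_one]
    exact hx.2
  · intro q
    apply Subtype.ext
    exact Quotient.out_eq _
  · intro x
    apply Subtype.ext
    exact hfix x.1 x.2.1

theorem FXc_add [Finite G] (e : G) (ε : G → ℤˣ) :
    D.FXc e ε 1 + D.FXc e ε (-1) = Nat.card {x : G ⧸ D.P // e • x = x} := by
  classical
  letI : Fintype (G ⧸ D.P) := Fintype.ofFinite _
  unfold FXc
  rw [Nat.card_eq_fintype_card, Nat.card_eq_fintype_card, Nat.card_eq_fintype_card,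
    Fintype.card_subtype, Fintype.card_subtype, Fintype.card_subtype]
  rw [Finset.card_eq_sum_card_fiberwise (f := fun x => ε (D.f (x.out⁻¹ * e * x.out)))
    (t := (Finset.univ : Finset ℤˣ)) (s := Finset.univ.filter (fun x : G ⧸ D.P => e • x = x))
    (fun x _ => Finset.mem_univ _)]
  rw [UnitsInt.univ, Finset.sum_pair (by decide), Finset.filter_filter, Finset.filter_filter]

theorem card_fixed_modEq [Finite G] (hG : IsPGroup 2 G) (e : G) :
    Nat.card {x : G ⧸ D.P // e • x = x} ≡ D.P.index [MOD 2] := by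
  have h1 := (hG.to_subgroup (Subgroup.zpowers e)).card_modEq_card_fixedPoints (G ⧸ D.P)
  rw [Subgroup.index_eq_card]
  refine (Nat.ModEq.trans h1 ?_).symm
  rw [Nat.card_congr (Equiv.subtypeEquivRight (fun y => ?_))]
  rw [mem_fixedPoints_zpowers_iff, D.smul_eq_iff]

end TwData

namespace TwData
variable {G : Type*} [Group G] (D : TwData G)

theorem hom_class' {A : Type*} [CommGroup A] (ε : G →* A) (a z : G) : ε (a⁻¹ * z * a) = ε z := by
  rw [map_mul, map_mul, map_inv, mul_comm (ε a)⁻¹, mul_assoc, inv_mul_cancel, mul_one]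

/-- the fixed points with sign `1`, as a set stable under a subgroup centralizing `e` -/
def signSub (e : G) (ε : G →* ℤˣ) (C : Subgroup G) (hC : ∀ c ∈ C, Commute c e) : SubMulAction C (G ⧸ D.P) where
  carrier := {x | e • x = x ∧ ε (D.f (x.out⁻¹ * e * x.out)) = 1}
  smul_mem' := by
    rintro ⟨c, hc⟩ x ⟨hx1, hx2⟩
    have hce := hC c hc
    refine ⟨?_, ?_⟩
    · show e • c • x = c • x
      rw [smul_smul, ← hce.eq, ← smul_smul, hx1]
    · show ε (D.f ((c • x).out⁻¹ * e * (c • x).out)) = 1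
      rw [D.value_smul_of_commute ε (hom_class' ε) e c hce x hx1]
      exact hx2

theorem even_FXc_one [Finite G] (hG : IsPGroup 2 G) (e : G) (ε : G →* ℤˣ) (C : Subgroup G)
    (hC : ∀ c ∈ C, Commute c e)
    (hnofix : ∀ a : G, (∀ c ∈ C, a⁻¹ * c * a ∈ D.P) → a⁻¹ * e * a ∈ D.P → ε (D.f (a⁻¹ * e * a)) ≠ 1) :
    Even (D.FXc e ε 1) := by
  have h1 := (hG.to_subgroup C).card_modEq_card_fixedPoints (D.signSub e ε C hC)
  have h2 : IsEmpty (MulAction.fixedPoints C (D.signSub e ε C hC)) := by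
    constructor
    rintro ⟨⟨x, hx1, hx2⟩, hfix⟩
    apply hnofix x.out _ ((D.smul_eq_iff e x).1 hx1) hx2
    intro c hc
    rw [← D.smul_eq_iff]
    have := hfix ⟨c, hc⟩
    exact congrArg Subtype.val this
  rw [Nat.card_eq_zero.2 (Or.inl h2)] at h1
  have h3 : D.FXc e ε 1 = Nat.card (D.signSub e ε C hC) := rfl
  rw [h3, Nat.even_iff]
  exact h1

end TwData

namespace TwData
variable {G : Type*} [Group G] (D : TwData G)

theorem ORc_neg_one_modEq [Finite G] (hG : IsPGroup 2 G) (e : G) (he : e ^ 2 = 1) (ε : G →* ℤˣ)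
    (C : Subgroup G) (hC : ∀ c ∈ C, Commute c e)
    (hnofix : ∀ a : G, (∀ c ∈ C, a⁻¹ * c * a ∈ D.P) → a⁻¹ * e * a ∈ D.P → ε (D.f (a⁻¹ * e * a)) ≠ 1) :
    D.ORc e ε (-1) ≡ D.P.index [MOD 2] := by
  have h1 := D.ORc_neg_one_eq_FXc e he ε
  have h2 := D.FXc_add e ε
  have h3 := D.card_fixed_modEq hG e
  have h4 := D.even_FXc_one hG e ε C hC hnofix
  rw [Nat.even_iff] at h4
  unfold Nat.ModEq at h3 ⊢
  omega

end TwData

section Fusion
variable {Ω : Type*} [Group Ω] {S : Subgroup Ω}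

theorem isConjElt_of_mem (F : FusionSystem S) {P : Subgroup Ω} {φ : P →* Ω} (hφ : φ ∈ F.Hom P) (x : P) :
    F.IsConjElt (x : Ω) (φ x) := by
  have hle : Subgroup.zpowers (x : Ω) ≤ P := by
    rw [Subgroup.zpowers_le]
    exact x.2
  exact ⟨φ.comp (Subgroup.inclusion hle), restrict_mem F hle hφ, rfl⟩

theorem isConjElt_conj (F : FusionSystem S) {x g : Ω} (hx : x ∈ S) (hg : g ∈ S) :
    F.IsConjElt x (g * x * g⁻¹) :=
  ⟨conjHom _ g, F.conj_mem (by rw [Subgroup.zpowers_le]; exact hx) hg, rfl⟩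

theorem isConj_zpowers_of_isConjElt (F : FusionSystem S) {x y : Ω} (h : F.IsConjElt x y) :
    F.IsConj (Subgroup.zpowers x) (Subgroup.zpowers y) := by
  obtain ⟨ψ, hψ, hxy⟩ := h
  refine ⟨ψ, hψ, ?_⟩
  ext z
  constructor
  · rintro ⟨⟨u, hu⟩, rfl⟩
    obtain ⟨k, rfl⟩ := Subgroup.mem_zpowers_iff.1 hu
    have e : (⟨x ^ k, hu⟩ : Subgroup.zpowers x) = (⟨x, Subgroup.mem_zpowers x⟩ : Subgroup.zpowers x) ^ k :=
      Subtype.ext rfl
    rw [e, map_zpow, hxy]
    exact Subgroup.zpow_mem_zpowers y k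
  · intro hz
    obtain ⟨k, rfl⟩ := Subgroup.mem_zpowers_iff.1 hz
    refine ⟨(⟨x, Subgroup.mem_zpowers x⟩ : Subgroup.zpowers x) ^ k, ?_⟩
    rw [map_zpow, hxy]

theorem commute_of_mem_normalizer_zpowers {Γ : Type*} [Group Γ] {e c : Γ} (he : e ^ 2 = 1)
    (hc : c ∈ Subgroup.normalizer (Subgroup.zpowers e : Set Γ)) : c * e = e * c := by
  have h1 := ((Subgroup.mem_normalizer_iff.1 hc) e).1 (Subgroup.mem_zpowers e)
  obtain ⟨k, hk⟩ := Subgroup.mem_zpowers_iff.1 h1
  have h2 : e ^ k = e ^ (k % 2) := by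
    conv_lhs => rw [← Int.emod_add_mul_ediv k 2]
    rw [zpow_add, zpow_mul]
    have : e ^ (2 : ℤ) = 1 := by
      have : e ^ (2 : ℤ) = e ^ (2 : ℕ) := by norm_cast
      rw [this, he]
    rw [this, one_zpow, mul_one]
  rw [h2] at hk
  rcases Int.emod_two_eq_zero_or_one k with h | h
  · rw [h, zpow_zero] at hk
    have : e = 1 := by
      have h3 : c * e * c⁻¹ = 1 := hk.symm
      have h4 : e = c⁻¹ * (c * e * c⁻¹) * c := by group
      rw [h4, h3]
      group
    rw [this, mul_one, one_mul]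
  · rw [h, zpow_one] at hk
    have h3 : c * e * c⁻¹ = e := hk.symm
    calc c * e = (c * e * c⁻¹) * c := by group
      _ = e * c := by rw [h3]

end Fusion

section Fusion
variable {Ω : Type*} [Group Ω] {S : Subgroup Ω}

theorem thompson_nofix [Finite S] (F : FusionSystem S) {P₀ : Subgroup Ω} {φ : P₀ →* Ω} (hφ : φ ∈ F.Hom P₀)
    (ε : S →* ℤˣ) (e : S) (he : e ^ 2 = 1)
    (hfn : F.IsFullyNormalized (Subgroup.zpowers (e : Ω)))
    (hyp : ∀ h : S, F.IsConjElt (e : Ω) (h : Ω) → ε h = 1 → ¬ F.IsFullyNormalized (Subgroup.zpowers (h : Ω)))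
    (a : S) (hC : ∀ c ∈ Subgroup.centralizer {e}, a⁻¹ * c * a ∈ (twData F hφ).P)
    (hea : a⁻¹ * e * a ∈ (twData F hφ).P) :
    ε ((twData F hφ).f (a⁻¹ * e * a)) ≠ 1 := by
  intro hε
  have hea' : ((a⁻¹ * e * a : S) : Ω) ∈ P₀ := hea
  set h : S := (twData F hφ).f (a⁻¹ * e * a) with hh
  have hhv : (h : Ω) = φ ⟨_, hea'⟩ := twData_f_of_mem F hφ hea'
  have he' : (e : Ω) ^ 2 = 1 := by
    rw [← Subgroup.coe_pow, he]
    rfl
  -- `h` is conjugate to `e`
  have hconj : F.IsConjElt (e : Ω) (h : Ω) := by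
    have h1 : F.IsConjElt (e : Ω) ((a : Ω)⁻¹ * e * ((a : Ω)⁻¹)⁻¹) :=
      isConjElt_conj F e.2 (S.inv_mem a.2)
    rw [inv_inv] at h1
    have h2 := isConjElt_of_mem F hφ ⟨_, hea'⟩
    rw [← hhv] at h2
    exact isConjElt_trans F h1 h2
  have hnfn := hyp h hconj hε
  have hhS : Subgroup.zpowers (h : Ω) ≤ S := by
    rw [Subgroup.zpowers_le]
    exact h.2
  have hlt : Nat.card (FusionSystem.normalizerIn S (Subgroup.zpowers (h : Ω))) <
      Nat.card (FusionSystem.normalizerIn S (Subgroup.zpowers (e : Ω))) := by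
    by_contra hcon
    apply hnfn
    refine ⟨hhS, fun Q hQ => ?_⟩
    have h3 : F.IsConj (Subgroup.zpowers (e : Ω)) Q := isConj_trans F (isConj_zpowers_of_isConjElt F hconj) hQ
    exact (hfn.2 Q h3).trans (not_lt.1 hcon)
  -- the injection
  have hcomm : ∀ c : FusionSystem.normalizerIn S (Subgroup.zpowers (e : Ω)), (c : Ω) * e = e * c :=
    fun c => commute_of_mem_normalizer_zpowers he' c.2.2
  have hmemP : ∀ c : FusionSystem.normalizerIn S (Subgroup.zpowers (e : Ω)), (a : Ω)⁻¹ * c * a ∈ P₀ := by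
    intro c
    have h1 : (⟨c, c.2.1⟩ : S) ∈ Subgroup.centralizer {e} := by
      rw [Subgroup.mem_centralizer_iff]
      intro y hy
      rw [Set.mem_singleton_iff] at hy
      rw [hy]
      apply Subtype.ext
      exact (hcomm c).symm
    exact hC _ h1
  have hval : ∀ c : FusionSystem.normalizerIn S (Subgroup.zpowers (e : Ω)),
      φ ⟨_, hmemP c⟩ ∈ FusionSystem.normalizerIn S (Subgroup.zpowers (h : Ω)) := by
    intro c
    apply centralizerIn_le_normalizerIn
    refine ⟨(F.le_of_mem hφ).2 _, ?_⟩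
    show φ ⟨_, hmemP c⟩ ∈ Subgroup.centralizer (Subgroup.zpowers (h : Ω) : Set Ω)
    rw [Subgroup.mem_centralizer_iff]
    intro y hy
    obtain ⟨k, rfl⟩ := Subgroup.mem_zpowers_iff.1 hy
    have h1 : Commute (h : Ω) (φ ⟨_, hmemP c⟩) := by
      show (h : Ω) * φ ⟨_, hmemP c⟩ = φ ⟨_, hmemP c⟩ * (h : Ω)
      rw [hhv, ← map_mul, ← map_mul]
      congr 1
      apply Subtype.ext
      show (a : Ω)⁻¹ * e * a * ((a : Ω)⁻¹ * c * a) = (a : Ω)⁻¹ * c * a * ((a : Ω)⁻¹ * e * a)
      have e1 : (a : Ω)⁻¹ * e * a * ((a : Ω)⁻¹ * c * a) = (a : Ω)⁻¹ * (e * c) * a := by group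
      have e2 : (a : Ω)⁻¹ * c * a * ((a : Ω)⁻¹ * e * a) = (a : Ω)⁻¹ * (c * e) * a := by group
      rw [e1, e2, hcomm c]
    exact (h1.zpow_left k).eq
  haveI := finite_normalizerIn (S := S) (Subgroup.zpowers (h : Ω))
  have hle := Nat.card_le_card_of_injective
    (fun c : FusionSystem.normalizerIn S (Subgroup.zpowers (e : Ω)) =>
      (⟨φ ⟨_, hmemP c⟩, hval c⟩ : FusionSystem.normalizerIn S (Subgroup.zpowers (h : Ω)))) (by
    intro c c' hcc
    have h1 : φ ⟨_, hmemP c⟩ = φ ⟨_, hmemP c'⟩ := congrArg Subtype.val hcc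
    have h2 := F.injective_of_mem hφ h1
    have h3 : (a : Ω)⁻¹ * c * a = (a : Ω)⁻¹ * c' * a := congrArg Subtype.val h2
    apply Subtype.ext
    have h4 : (c : Ω) = a * ((a : Ω)⁻¹ * c * a) * (a : Ω)⁻¹ := by group
    rw [h4, h3]
    group)
  exact absurd hle (not_le.2 hlt)

end Fusion

section Fusion
variable {Ω : Type*} [Group Ω] {S : Subgroup Ω}

theorem Trχ_eq_prod' [Finite S] {A : Type*} [CommGroup A] [DecidableEq A] (F : FusionSystem S)
    (m : Subgroup (S × S) → ℤ) (χ : S → A) (e : S) (B : Finset A) (hB : ∀ x, χ x ∈ B) :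
    Trχ F m χ e = ∏ b ∈ B, b ^ ORm F m e χ b := by
  classical
  letI : Fintype (Subgroup (S × S)) := Fintype.ofFinite _
  unfold Trχ ORm wsum
  rw [finprod_eq_prod_of_fintype]
  have h1 : ∀ H : Subgroup (S × S), (dataOf F H).trOrb e χ ^ m H =
      ∏ b ∈ B, b ^ (m H * ((dataOf F H).ORc e χ b : ℤ)) := by
    intro H
    rw [(dataOf F H).trOrb_eq_prod' e χ B hB, ← Finset.prod_zpow]
    apply Finset.prod_congr rfl
    intro b _
    rw [← zpow_natCast, ← zpow_mul, mul_comm]
  rw [Finset.prod_congr rfl (fun H _ => h1 H), Finset.prod_comm]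
  apply Finset.prod_congr rfl
  intro b _
  rw [prod_zpow_eq_zpow_sum, finsum_eq_sum_of_fintype]

theorem Trχ_units [Finite S] (F : FusionSystem S) (m : Subgroup (S × S) → ℤ) (χ : S → ℤˣ) (e : S) :
    Trχ F m χ e = (-1) ^ ORm F m e χ (-1) := by
  rw [Trχ_eq_prod' F m χ e Finset.univ (fun _ => Finset.mem_univ _), UnitsInt.univ,
    Finset.prod_pair (by decide), one_zpow, one_mul]

/-- **Thompson transfer, core computation**: the transfer of a sign character along a fusion-stable biset of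
odd degree takes the value `-1` on a fully normalized involution none of whose fully normalized conjugates lies
in the kernel. -/
theorem thompson_core [Finite S] (hS : IsPGroup 2 S) (F : FusionSystem S)
    (ε : S →* ℤˣ) (e : S) (he : e ^ 2 = 1)
    (hfn : F.IsFullyNormalized (Subgroup.zpowers (e : Ω)))
    (hyp : ∀ h : S, F.IsConjElt (e : Ω) (h : Ω) → ε h = 1 → ¬ F.IsFullyNormalized (Subgroup.zpowers (h : Ω)))
    (m : Subgroup (S × S) → ℤ) (h1 : ∀ H, m H ≠ 0 → TwGood F H) (h3 : ¬ (2 : ℤ) ∣ bisetDeg m) :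
    btrHom F m ε e = -1 := by
  classical
  letI : Fintype (Subgroup (S × S)) := Fintype.ofFinite _
  rw [btrHom_apply, Trχ_units]
  have hC : ∀ c ∈ Subgroup.centralizer {e}, Commute c e := by
    intro c hc
    rw [Subgroup.mem_centralizer_iff] at hc
    exact (hc e rfl).symm
  have hper : ∀ H, m H ≠ 0 → (2 : ℤ) ∣ (((dataOf F H).ORc e ε (-1) : ℕ) : ℤ) - idxS H := by
    intro H hm
    have hgood := h1 H hm
    obtain ⟨P₀, φ, hφ, hH, hD⟩ := dataOf_spec F hgood
    have key : ∀ D : TwData S, D = twData F hφ → D.ORc e ε (-1) ≡ D.P.index [MOD 2] := by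
      rintro D rfl
      exact (twData F hφ).ORc_neg_one_modEq hS e he ε (Subgroup.centralizer {e}) hC
        (fun a ha hea => thompson_nofix F hφ ε e he hfn hyp a ha hea)
    have h4 := key _ hD
    unfold idxS
    rw [← dataOf_P F hgood]
    have h5 : (((dataOf F H).ORc e ε (-1) : ℕ) : ℤ) ≡ (((dataOf F H).P.index : ℕ) : ℤ) [ZMOD ((2 : ℕ) : ℤ)] :=
      Int.natCast_modEq_iff.2 h4
    exact (Int.modEq_iff_dvd.1 h5.symm)
  have hdiff : (2 : ℤ) ∣ ORm F m e ε (-1) - bisetDeg m := by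
    unfold ORm wsum bisetDeg
    rw [finsum_eq_sum_of_fintype, finsum_eq_sum_of_fintype, ← Finset.sum_sub_distrib]
    apply Finset.dvd_sum
    intro H _
    rw [← mul_sub]
    by_cases hm : m H = 0
    · rw [hm, zero_mul]
      exact dvd_zero _
    · exact Dvd.dvd.mul_left (hper H hm) _
  have hodd : Odd (ORm F m e ε (-1)) := by
    rw [← Int.not_even_iff_odd, even_iff_two_dvd]
    intro h
    apply h3
    have := dvd_sub h hdiff
    rwa [sub_sub_cancel] at this
  obtain ⟨k, hk⟩ := hodd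
  rw [hk, zpow_add, zpow_mul, zpow_one]
  have : ((-1 : ℤˣ)) ^ (2 : ℤ) = 1 := by decide
  rw [this, one_zpow, one_mul]

end Fusion

section Fusion
variable {Ω : Type*} [Group Ω] {S : Subgroup Ω}

theorem range_zpowers_hom {x : Ω} (ψ : Subgroup.zpowers x →* Ω) :
    ψ.range = Subgroup.zpowers (ψ ⟨x, Subgroup.mem_zpowers x⟩) := by
  ext z
  constructor
  · rintro ⟨⟨u, hu⟩, rfl⟩
    obtain ⟨k, rfl⟩ := Subgroup.mem_zpowers_iff.1 hu
    have e : (⟨x ^ k, hu⟩ : Subgroup.zpowers x) = (⟨x, Subgroup.mem_zpowers x⟩ : Subgroup.zpowers x) ^ k :=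
      Subtype.ext rfl
    rw [e, map_zpow]
    exact Subgroup.zpow_mem_zpowers _ k
  · intro hz
    obtain ⟨k, rfl⟩ := Subgroup.mem_zpowers_iff.1 hz
    refine ⟨(⟨x, Subgroup.mem_zpowers x⟩ : Subgroup.zpowers x) ^ k, ?_⟩
    rw [map_zpow]

/-- the sign character of a subgroup of index two -/
noncomputable def signHom {G : Type*} [Group G] (K : Subgroup G) (hK : K.index = 2) : G →* ℤˣ := by
  classical
  exact MonoidHom.mk' (fun x => if x ∈ K then 1 else -1) (by
    intro a b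
    have h := Subgroup.mul_mem_iff_of_index_two hK (a := a) (b := b)
    by_cases ha : a ∈ K <;> by_cases hb : b ∈ K
    · rw [if_pos ha, if_pos hb, if_pos (h.2 ⟨fun _ => hb, fun _ => ha⟩), one_mul]
    · rw [if_pos ha, if_neg hb, if_neg (fun hab => hb ((h.1 hab).1 ha)), one_mul]
    · rw [if_neg ha, if_pos hb, if_neg (fun hab => ha ((h.1 hab).2 hb)), mul_one]
    · rw [if_neg ha, if_neg hb, if_pos (h.2 ⟨fun h' => absurd h' ha, fun h' => absurd h' hb⟩)]
      decide)

theorem signHom_eq_one_iff {G : Type*} [Group G] (K : Subgroup G) (hK : K.index = 2) (x : G) :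
    signHom K hK x = 1 ↔ x ∈ K := by
  classical
  unfold signHom
  rw [MonoidHom.mk'_apply]
  by_cases hx : x ∈ K
  · rw [if_pos hx]
    exact ⟨fun _ => hx, fun _ => rfl⟩
  · rw [if_neg hx]
    exact ⟨fun h => absurd h (by decide), fun h => absurd h hx⟩

/-- **Thompson transfer for saturated fusion systems** -/
theorem thompson_transfer [Finite S] (hS : IsPGroup 2 S) (F : FusionSystem S) (hF : F.IsSaturated 2)
    (K : Subgroup S) (hK : K.index = 2) (i : S) (hi2 : i ^ 2 = 1)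
    (h : ∀ j : S, F.IsConjElt (i : Ω) (j : Ω) → F.IsFullyNormalized (Subgroup.zpowers (j : Ω)) → j ∉ K) :
    (i : Ω) ∉ F.hyperfocalSubgroup 2 := by
  haveI : Fact (Nat.Prime 2) := ⟨Nat.prime_two⟩
  obtain ⟨m, h1, h2, h3⟩ := exists_stable_biset' 2 hS F hF
  have hiS : Subgroup.zpowers (i : Ω) ≤ S := by
    rw [Subgroup.zpowers_le]
    exact i.2
  obtain ⟨Q, ⟨φ, hφ, hr⟩, hQ⟩ := exists_fullyNormalized_conj F hiS
  set j : Ω := φ ⟨i, Subgroup.mem_zpowers _⟩ with hj
  have hjS : j ∈ S := (F.le_of_mem hφ).2 _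
  have hQj : Q = Subgroup.zpowers j := by
    rw [← hr, range_zpowers_hom]
  have hij : F.IsConjElt (i : Ω) j := ⟨φ, hφ, rfl⟩
  have hj2 : (⟨j, hjS⟩ : S) ^ 2 = 1 := by
    apply Subtype.ext
    show j ^ 2 = 1
    rw [hj, ← map_pow]
    have : (⟨(i : Ω), Subgroup.mem_zpowers _⟩ : Subgroup.zpowers (i : Ω)) ^ 2 = 1 := by
      apply Subtype.ext
      show (i : Ω) ^ 2 = 1
      rw [← Subgroup.coe_pow, hi2]
      rfl
    rw [this, map_one]
  rw [hQj] at hQ
  have hcore := thompson_core hS F (signHom K hK) ⟨j, hjS⟩ hj2 hQ (by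
    intro x hx hεx hfn
    rw [signHom_eq_one_iff] at hεx
    exact h x (isConjElt_trans F hij hx) hfn hεx) m h1 h3
  intro hmem
  have hfoc : (i : Ω) ∈ F.focalSubgroup := by
    rw [focal_eq_hyperfocal_sup 2 hS F hF]
    exact Subgroup.mem_sup_left hmem
  have h4 := btrHom_focal F m h1 h2 (signHom K hK) i hfoc
  have h5 := btrHom_eq_of_isConjElt F m h1 h2 (signHom K hK) (e := i) (e' := ⟨j, hjS⟩) hij
  rw [h4, hcore] at h5
  exact absurd h5 (by decide)

end Fusion

end Cfsg.Agent.Lib.Helper29
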