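import Cfsg.Agent.Lib.Helper29.PPIStep

/-!
Existence of the functor `θ` on all subgroups whose conjugates have centralizer in the kernel of `λ`.
-/
set_option autoImplicit false

namespace Cfsg.Agent.Lib.Helper29
open Cfsg

variable {Ω : Type*} [Group Ω] {S : Subgroup Ω} {C : Type*} [CommGroup C]

section functor

variable [Finite S] {p : ℕ} [Fact p.Prime] {F : FusionSystem S} {lam : S →* C}

theorem finite_subgroups_le (S : Subgroup Ω) [Finite S] : {P : Subgroup Ω | P ≤ S}.Finite := by
  refine (Set.finite_range (fun K : Subgroup S => K.map S.subtype)).subset ?_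
  intro P hP
  exact ⟨P.subgroupOf S, Subgroup.map_subgroupOf_eq_of_le hP⟩

theorem eq_top_of_isConj_top (F : FusionSystem S) {P' : Subgroup Ω} (h : F.IsConj S P') : P' = S := by
  have hle := isConj_le_right F h
  haveI : Finite P' := finite_of_le hle
  have hc := card_eq_of_isConj F h
  exact Subgroup.eq_of_le_of_card_ge hle hc.le

/-- the base of the induction: `θ` on `{S}` -/
theorem exists_theta_base (hS : IsPGroup p S) (hF : F.IsSaturated p) (hC : IsPGroup p C)
    (hinv : LamInv F lam) (hS2 : Type2 F lam S) :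
    ∃ th, ThetaOn F lam {S} th ∧ Admissible F lam ({S} : Set (Subgroup Ω)) := by
  obtain ⟨tqS, hc, hm⟩ := exists_tq hS hF hC hinv (fullyNormalized_top F) hS2.self
  classical
  refine ⟨fun P φ => if h : S ≤ P then tqS (φ.comp (Subgroup.inclusion h)) else 1, ⟨?_, ?_⟩, ?_, ?_, ?_⟩
  · intro P hP g hg
    obtain rfl : S = P := (hP : P = S).symm
    show (if h : S ≤ S then tqS ((conjHom S g).comp (Subgroup.inclusion h)) else 1) = _
    rw [dif_pos le_rfl]
    exact hc g hg (Subgroup.le_normalizer hg)
  · intro P hP R φ ψ hv hφ hψ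
    obtain rfl : S = P := (hP : P = S).symm
    have hRS : R ≤ S := le_of_hom_mem F hψ
    have hSR : S ≤ R := by
      intro s hs
      have hinj : Function.Injective (φ.codRestrict S (F.le_of_mem hφ).2) := by
        intro a b hab
        exact F.injective_of_mem hφ (congrArg Subtype.val hab)
      obtain ⟨x, hx⟩ := Finite.surjective_of_injective hinj ⟨s, hs⟩
      have : φ x = s := congrArg Subtype.val hx
      rw [← this]
      exact hv x
    obtain rfl : S = R := le_antisymm hSR hRS
    have hval : ∀ φ' : S →* Ω,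
        (if h : S ≤ S then tqS (φ'.comp (Subgroup.inclusion h)) else 1) = tqS φ' := by
      intro φ'
      rw [dif_pos le_rfl]
      congr 1
    show (if h : S ≤ S then tqS ((ψ.comp (φ.codRestrict S hv)).comp (Subgroup.inclusion h)) else 1) =
      (if h : S ≤ S then tqS (ψ.comp (Subgroup.inclusion h)) else 1) *
      (if h : S ≤ S then tqS (φ.comp (Subgroup.inclusion h)) else 1)
    rw [hval, hval, hval]
    exact hm φ ψ hv hφ hψ (fun x => (F.le_of_mem hψ).2 _)
  · intro P hP
    obtain rfl : S = P := (hP : P = S).symm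
    exact hS2
  · intro P hP P' hPP'
    obtain rfl : S = P := (hP : P = S).symm
    exact eq_top_of_isConj_top F hPP'
  · intro P hP R hPR hRS
    obtain rfl : S = P := (hP : P = S).symm
    exact le_antisymm hRS hPR

theorem exists_theta (hS : IsPGroup p S) (hF : F.IsSaturated p) (hC : IsPGroup p C)
    (hinv : LamInv F lam) : ∃ th, ThetaOn F lam {P | Type2 F lam P} th := by
  by_cases hS2 : Type2 F lam S
  · have key : ∀ k : ℕ, ∀ (𝒟 : Set (Subgroup Ω)) (th : (P : Subgroup Ω) → (P →* Ω) → C),
        Admissible F lam 𝒟 → ThetaOn F lam 𝒟 th → S ∈ 𝒟 →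
        Set.ncard {P | Type2 F lam P ∧ P ∉ 𝒟} = k → ∃ th', ThetaOn F lam {P | Type2 F lam P} th' := by
      intro k
      induction k using Nat.strong_induction_on with
      | _ k ih =>
        intro 𝒟 th hadm hth hSD hk
        have hfin : {P | Type2 F lam P ∧ P ∉ 𝒟}.Finite :=
          (finite_subgroups_le S).subset (fun P hP => hP.1.1)
        by_cases hemp : {P | Type2 F lam P ∧ P ∉ 𝒟} = ∅
        · refine ⟨th, hth.mono ?_⟩
          intro P hP
          by_contra hPD
          have : P ∈ ({P | Type2 F lam P ∧ P ∉ 𝒟} : Set (Subgroup Ω)) := ⟨hP, hPD⟩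
          rw [hemp] at this
          exact this
        · have hne : {P | Type2 F lam P ∧ P ∉ 𝒟}.Nonempty := Set.nonempty_iff_ne_empty.2 hemp
          obtain ⟨P₀, hP₀, hmax⟩ := Set.exists_max_image _ (fun P : Subgroup Ω => Nat.card P) hfin hne
          obtain ⟨Q, hP₀Q, hQfn⟩ := exists_fullyNormalized_conj F hP₀.1.1
          have hQ2 : Type2 F lam Q := hP₀.1.conj hP₀Q
          have hQD : Q ∉ 𝒟 := fun hQ => hP₀.2 (hadm.2.1 Q hQ P₀ (isConj_symm F hP₀Q))
          have hbig : ∀ R, Type2 F lam R → Nat.card Q < Nat.card R → R ∈ 𝒟 := by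
            intro R hR2 hlt
            by_contra hRD
            have := hmax R ⟨hR2, hRD⟩
            rw [← card_eq_of_isConj F hP₀Q] at hlt
            exact absurd hlt (not_lt.2 this)
          obtain ⟨tq, htqc, htqm⟩ := exists_tq hS hF hC hinv hQfn hQ2.self
          have hfr0 : ∀ P : Subgroup Ω, ∃ e : (Q →* Ω) × (↥(FusionSystem.normalizerIn S P) →* Ω),
              F.IsConj P Q → FrameOK F Q P e := by
            intro P
            by_cases hPQ : F.IsConj P Q
            · obtain ⟨e, he⟩ := exists_frame hS hF hQfn hPQ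
              exact ⟨e, fun _ => he⟩
            · exact ⟨(1, 1), fun h' => absurd h' hPQ⟩
          choose fr hfr using hfr0
          have hc : StepCtx F lam 𝒟 th Q tq fr :=
            ⟨⟨hadm, hth, hQ2, hbig, htqc, htqm⟩, hQfn, hQD, hSD, hfr⟩
          have hsub : {P | Type2 F lam P ∧ P ∉ 𝒟 ∪ {P | F.IsConj P Q}} ⊂
              {P | Type2 F lam P ∧ P ∉ 𝒟} := by
            refine ⟨fun P hP => ⟨hP.1, fun hPD => hP.2 (Or.inl hPD)⟩, fun hcon => ?_⟩
            have hQmem : Q ∈ ({P | Type2 F lam P ∧ P ∉ 𝒟} : Set (Subgroup Ω)) := ⟨hQ2, hQD⟩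
            exact (hcon hQmem).2 (Or.inr (isConj_refl F hQ2.1))
          have hlt := Set.ncard_lt_ncard hsub hfin
          rw [hk] at hlt
          exact ih _ hlt _ _ hc.admissible_union (hc.thetaOn_union hS hF hC) (Or.inl hSD) rfl
    obtain ⟨th₀, hth₀, hadm₀⟩ := exists_theta_base hS hF hC hinv hS2
    exact key _ {S} th₀ hadm₀ hth₀ rfl rfl
  · refine ⟨fun _ _ => 1, ⟨?_, ?_⟩⟩
    · intro P hP
      exact absurd (hP.of_le hP.1 le_rfl) hS2
    · intro P hP
      exact absurd (hP.of_le hP.1 le_rfl) hS2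

end functor

end Cfsg.Agent.Lib.Helper29
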