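import Cfsg.Agent.Lib.Helper29.BisetStable
import Cfsg.Agent.Lib.Helper29.AutInduced
import Cfsg.Agent.Lib.Helper29.PPIFunctor

/-!
The top level of a fusion-stable virtual biset: the number of points modulo `p`.
-/
set_option autoImplicit false
open Cfsg

namespace Cfsg.Agent.Lib.Helper29

variable {Ω : Type*} [Group Ω] {S : Subgroup Ω}

/-- the graph of an automorphism of `S` -/
def ThetaTw (S : Subgroup Ω) (α : MulAut S) : Subgroup (S × S) := Tw S S (S.subtype.comp α.toMonoidHom)

theorem mem_ThetaTw {α : MulAut S} {x : S × S} : x ∈ ThetaTw S α ↔ α x.1 = x.2 := by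
  unfold ThetaTw
  rw [mem_Tw]
  constructor
  · rintro ⟨h, hx⟩
    apply Subtype.ext
    exact hx
  · intro hx
    exact ⟨x.1.2, congrArg Subtype.val hx⟩

theorem ThetaTw_injective : Function.Injective (ThetaTw S) := by
  intro α β h
  ext x
  have h1 : ((x, α x) : S × S) ∈ ThetaTw S α := mem_ThetaTw.2 rfl
  rw [h] at h1
  have h2 := mem_ThetaTw.1 h1
  exact congrArg Subtype.val h2.symm

theorem cjs_ThetaTw (g : S × S) (α : MulAut S) :
    cjs g (ThetaTw S α) = ThetaTw S (MulAut.conj g.2 * α * (MulAut.conj g.1)⁻¹) := by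
  ext x
  rw [mem_cjs, mem_ThetaTw, mem_ThetaTw]
  have e1 : (g⁻¹ * x * g).1 = g.1⁻¹ * x.1 * g.1 := rfl
  have e2 : (g⁻¹ * x * g).2 = g.2⁻¹ * x.2 * g.2 := rfl
  have e3 : (MulAut.conj g.2 * α * (MulAut.conj g.1)⁻¹) x.1 = g.2 * α (g.1⁻¹ * x.1 * g.1) * g.2⁻¹ := by
    rw [MulAut.mul_apply, MulAut.mul_apply, MulAut.conj_apply, MulAut.conj_inv_apply]
  rw [e1, e2, e3]
  constructor
  · intro h
    rw [h]
    group
  · intro h
    rw [← h]
    group

theorem ThetaTw_eq_map (α : MulAut S) :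
    ThetaTw S α = (ThetaTw S 1).map (MulEquiv.prodCongr (MulEquiv.refl S) α).toMonoidHom := by
  ext x
  rw [mem_ThetaTw]
  constructor
  · intro h
    refine ⟨(x.1, x.1), mem_ThetaTw.2 rfl, ?_⟩
    exact Prod.ext rfl h
  · rintro ⟨y, hy, rfl⟩
    have := mem_ThetaTw.1 hy
    show α y.1 = α y.2
    rw [← this]
    rfl

theorem wgt_ThetaTw [Finite S] (α : MulAut S) : wgt (ThetaTw S α) = wgt (ThetaTw S 1) := by
  rw [ThetaTw_eq_map, wgt_map_equiv]

theorem ThetaTw_one : ThetaTw S (1 : MulAut S) = Tw S S S.subtype := rfl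

theorem good_ThetaTw (F : FusionSystem S) {α : MulAut S} (hα : α ∈ F.autGroup S) : TwGood F (ThetaTw S α) :=
  ⟨S, _, (mem_autGroup_iff F le_rfl).1 hα, rfl⟩

theorem pr1_ThetaTw (α : MulAut S) : pr1 (ThetaTw S α) = S := by
  ext u
  rw [mem_pr1]
  constructor
  · rintro ⟨x, _, rfl⟩
    exact x.1.2
  · intro hu
    exact ⟨(⟨u, hu⟩, α ⟨u, hu⟩), mem_ThetaTw.2 rfl, rfl⟩

theorem pr2_ThetaTw (α : MulAut S) : pr2 (ThetaTw S α) = S := by
  ext u
  rw [mem_pr2]
  constructor
  · rintro ⟨x, _, rfl⟩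
    exact x.2.2
  · intro hu
    refine ⟨(α.symm ⟨u, hu⟩, ⟨u, hu⟩), mem_ThetaTw.2 ?_, rfl⟩
    exact α.apply_symm_apply _

theorem card_ThetaTw [Finite S] (F : FusionSystem S) {α : MulAut S} (hα : α ∈ F.autGroup S) :
    Nat.card (ThetaTw S α) = Nat.card S :=
  card_Tw F ((mem_autGroup_iff F le_rfl).1 hα)

theorem exists_ThetaTw_of_good [Finite S] (F : FusionSystem S) {H : Subgroup (S × S)} (hH : TwGood F H)
    (hpr : pr1 H = S) : ∃ α ∈ F.autGroup S, H = ThetaTw S α := by
  obtain ⟨P, φ, hφ, rfl⟩ := hH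
  have hP : P = S := by rw [← pr1_Tw F hφ]; exact hpr
  have hφS : ∀ x : P, φ x ∈ P := by
    intro x
    have := (F.le_of_mem hφ).2 x
    exact hP ▸ this
  haveI : Finite P := finite_of_le hP.le
  obtain ⟨α, hα, hαv⟩ := exists_aut_of_hom F hφ hφS
  subst hP
  refine ⟨α, hα, ?_⟩
  ext x
  rw [mem_ThetaTw, mem_Tw]
  constructor
  · rintro ⟨h, hx⟩
    apply Subtype.ext
    rw [hαv]
    exact hx
  · intro hx
    refine ⟨x.1.2, ?_⟩
    rw [← hx, hαv]

theorem card_le_of_good [Finite S] (F : FusionSystem S) {H : Subgroup (S × S)} (hH : TwGood F H) :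
    Nat.card H ≤ Nat.card S := by
  obtain ⟨P, φ, hφ, rfl⟩ := hH
  rw [card_Tw F hφ]
  exact Subgroup.card_le_of_le (le_of_hom_mem F hφ)

theorem pr1_eq_of_card [Finite S] (F : FusionSystem S) {H : Subgroup (S × S)} (hH : TwGood F H)
    (hc : Nat.card S ≤ Nat.card H) : pr1 H = S := by
  obtain ⟨P, φ, hφ, rfl⟩ := hH
  rw [card_Tw F hφ] at hc
  rw [pr1_Tw F hφ]
  exact Subgroup.eq_of_le_of_card_ge (le_of_hom_mem F hφ) hc

/-- the inner automorphisms as a subgroup of `Aut_F(S)` -/
def innSub (F : FusionSystem S) : Subgroup (F.autGroup S) := (autInducedBy S S).subgroupOf (F.autGroup S)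

theorem mem_innSub_iff (F : FusionSystem S) (i : F.autGroup S) :
    i ∈ innSub F ↔ ∃ s : S, (i : MulAut S) = MulAut.conj s := by
  unfold innSub
  rw [Subgroup.mem_subgroupOf]
  constructor
  · intro h
    rw [autInducedBy_eq_map] at h
    obtain ⟨n, hn, hni⟩ := h
    refine ⟨⟨n, hn⟩, ?_⟩
    rw [← hni]
    ext x
    rfl
  · rintro ⟨s, hs⟩
    rw [hs]
    apply Subgroup.subset_closure
    exact ⟨s, s.2, fun x => rfl⟩

theorem conj_mem_autGroup (F : FusionSystem S) (s : S) : MulAut.conj s ∈ F.autGroup S := by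
  rw [mem_autGroup_iff F le_rfl]
  have := F.conj_mem (le_refl S) s.2
  have e : S.subtype.comp (MulAut.conj s).toMonoidHom = conjHom S (s : Ω) := by
    ext x
    rfl
  rw [e]
  exact this


theorem conj_aut_conj (α : MulAut S) (b : S) : α⁻¹ * MulAut.conj b * α = MulAut.conj (α⁻¹ b) := by
  ext x
  rw [MulAut.mul_apply, MulAut.mul_apply, MulAut.conj_apply, MulAut.conj_apply, map_mul, map_mul, map_inv,
    MulAut.inv_apply_self]

/-- the conjugates of the graph of `α` are the graphs of the elements of the coset `α Inn(S)` -/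
theorem exists_innSub_of_cjs (F : FusionSystem S) (α : F.autGroup S) (g : S × S) :
    ∃ i ∈ innSub F, cjs g (ThetaTw S (α : MulAut S)) = ThetaTw S ((α * i : F.autGroup S) : MulAut S) := by
  refine ⟨α⁻¹ * ⟨MulAut.conj g.2, conj_mem_autGroup F g.2⟩ * α * ⟨MulAut.conj g.1, conj_mem_autGroup F g.1⟩⁻¹,
    ?_, ?_⟩
  · rw [mem_innSub_iff]
    refine ⟨(α : MulAut S)⁻¹ g.2 * g.1⁻¹, ?_⟩
    show (α : MulAut S)⁻¹ * MulAut.conj g.2 * (α : MulAut S) * (MulAut.conj g.1)⁻¹ = _
    rw [conj_aut_conj, map_mul, map_inv]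
  · rw [cjs_ThetaTw]
    congr 1
    show _ = (α : MulAut S) * ((α : MulAut S)⁻¹ * MulAut.conj g.2 * (α : MulAut S) * (MulAut.conj g.1)⁻¹)
    group

theorem exists_cjs_of_innSub (F : FusionSystem S) (α : F.autGroup S) {i : F.autGroup S} (hi : i ∈ innSub F) :
    ∃ g : S × S, ThetaTw S ((α * i : F.autGroup S) : MulAut S) = cjs g (ThetaTw S (α : MulAut S)) := by
  obtain ⟨s, hs⟩ := (mem_innSub_iff F i).1 hi
  refine ⟨(s⁻¹, 1), ?_⟩
  rw [cjs_ThetaTw]
  congr 1
  show (α : MulAut S) * (i : MulAut S) = MulAut.conj 1 * (α : MulAut S) * (MulAut.conj s⁻¹)⁻¹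
  rw [hs, map_one, map_inv, inv_inv, one_mul]

section TopCount
variable [Finite S] (F : FusionSystem S) (m : Subgroup (S × S) → ℤ)

theorem fmark_ThetaTw (h1 : ∀ H, m H ≠ 0 → TwGood F H) (α : F.autGroup S) :
    fmark m (ThetaTw S (α : MulAut S)) =
      wgt (ThetaTw S (1 : MulAut S)) * ∑ᶠ i : innSub F, m (ThetaTw S ((α * i : F.autGroup S) : MulAut S)) := by
  classical
  letI : Fintype (Subgroup (S × S)) := Fintype.ofFinite _
  haveI : Finite (F.autGroup S) := inferInstance
  letI : Fintype (innSub F) := Fintype.ofFinite _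
  unfold fmark
  rw [finsum_eq_sum_of_fintype, finsum_eq_sum_of_fintype]
  set j : innSub F → Subgroup (S × S) := fun i => ThetaTw S ((α * i : F.autGroup S) : MulAut S) with hj
  have hjinj : Function.Injective j := by
    intro a b hab
    have h2 := ThetaTw_injective hab
    have h3 : (α * a : F.autGroup S) = α * b := Subtype.ext h2
    exact Subtype.ext (mul_left_cancel h3)
  have hΘα : TwGood F (ThetaTw S (α : MulAut S)) := good_ThetaTw F α.2
  rw [← Finset.sum_subset (Finset.subset_univ (Finset.univ.image j))]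
  · rw [Finset.sum_image (fun a _ b _ hab => hjinj hab), Finset.mul_sum]
    apply Finset.sum_congr rfl
    intro i _
    obtain ⟨g, hg⟩ := exists_cjs_of_innSub F α i.2
    have h5 : fixc (ThetaTw S (α : MulAut S)) (j i) = wgt (ThetaTw S (1 : MulAut S)) := by
      have h6 : ThetaTw S (α : MulAut S) = cjs g⁻¹ (j i) := by
        rw [hj]
        show _ = cjs g⁻¹ (ThetaTw S ((α * (i : F.autGroup S) : F.autGroup S) : MulAut S))
        rw [hg, cjs_inv_cjs]
      rw [h6, fixc_cjs_eq_wgt]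
      show wgt (ThetaTw S ((α * (i : F.autGroup S) : F.autGroup S) : MulAut S)) = _
      rw [wgt_ThetaTw]
    rw [h5]
    ring
  · intro H' _ hH'
    by_cases hm0 : m H' = 0
    · rw [hm0, zero_mul]
    by_cases hf0 : fixc (ThetaTw S (α : MulAut S)) H' = 0
    · rw [hf0, mul_zero]
    exfalso
    apply hH'
    have hgood := h1 H' hm0
    obtain ⟨g, hg⟩ := exists_le_cjs_of_fixc_ne_zero hf0
    have hc1 : Nat.card (cjs g H') ≤ Nat.card (ThetaTw S (α : MulAut S)) := by
      rw [card_cjs, card_ThetaTw F α.2]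
      exact card_le_of_good F hgood
    have heq : ThetaTw S (α : MulAut S) = cjs g H' := Subgroup.eq_of_le_of_card_ge hg hc1
    have heq' : H' = cjs g⁻¹ (ThetaTw S (α : MulAut S)) := by rw [heq, cjs_inv_cjs]
    obtain ⟨i, hi, hi'⟩ := exists_innSub_of_cjs F α g⁻¹
    rw [Finset.mem_image]
    exact ⟨⟨i, hi⟩, Finset.mem_univ _, by rw [heq', hi']⟩

theorem sum_coset_eq_one (h1 : ∀ H, m H ≠ 0 → TwGood F H)
    (h2 : ∀ K K', TwGood F K → TwGood F K' → pr2 K' = pr2 K → fmark m K = fmark m K')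
    (h3 : m (Tw S S S.subtype) = 1)
    (h4 : ∀ H, TwGood F H → pr2 H = S → (∃ g, H = cjs g (Tw S S S.subtype)) → H ≠ Tw S S S.subtype → m H = 0)
    (α : F.autGroup S) :
    ∑ᶠ i : innSub F, m (ThetaTw S ((α * i : F.autGroup S) : MulAut S)) = 1 := by
  classical
  have hA := fmark_ThetaTw F m h1 α
  have hB := fmark_ThetaTw F m h1 1
  have hst : fmark m (ThetaTw S (α : MulAut S)) = fmark m (ThetaTw S ((1 : F.autGroup S) : MulAut S)) := by
    apply h2 _ _ (good_ThetaTw F α.2) (good_ThetaTw F (1 : F.autGroup S).2)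
    rw [pr2_ThetaTw, pr2_ThetaTw]
  have hone : ∑ᶠ i : innSub F, m (ThetaTw S (((1 : F.autGroup S) * i : F.autGroup S) : MulAut S)) = 1 := by
    haveI : Finite (F.autGroup S) := inferInstance
    letI : Fintype (innSub F) := Fintype.ofFinite _
    rw [finsum_eq_sum_of_fintype, Finset.sum_eq_single (1 : innSub F)]
    · show m (ThetaTw S (((1 : F.autGroup S) * (1 : F.autGroup S) : F.autGroup S) : MulAut S)) = 1
      rw [mul_one]
      exact h3
    · intro i _ hi
      obtain ⟨g, hg⟩ := exists_cjs_of_innSub F 1 i.2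
      apply h4
      · exact good_ThetaTw F (1 * (i : F.autGroup S)).2
      · exact pr2_ThetaTw _
      · exact ⟨g, hg⟩
      · intro heq
        apply hi
        have h5 : ThetaTw S (((1 : F.autGroup S) * (i : F.autGroup S) : F.autGroup S) : MulAut S) =
            ThetaTw S (1 : MulAut S) := heq
        have h6 := ThetaTw_injective h5
        apply Subtype.ext
        apply Subtype.ext
        rw [one_mul] at h6
        exact h6
    · intro h
      exact absurd (Finset.mem_univ _) h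
  rw [hst, hB, hone] at hA
  have hw : wgt (ThetaTw S (1 : MulAut S)) ≠ 0 := wgt_ne_zero _
  exact (mul_left_cancel₀ hw hA).symm

theorem sum_ThetaTw_eq_index (h1 : ∀ H, m H ≠ 0 → TwGood F H)
    (h2 : ∀ K K', TwGood F K → TwGood F K' → pr2 K' = pr2 K → fmark m K = fmark m K')
    (h3 : m (Tw S S S.subtype) = 1)
    (h4 : ∀ H, TwGood F H → pr2 H = S → (∃ g, H = cjs g (Tw S S S.subtype)) → H ≠ Tw S S S.subtype → m H = 0) :
    ∑ᶠ β : F.autGroup S, m (ThetaTw S (β : MulAut S)) = ((innSub F).index : ℤ) := by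
  classical
  haveI : Finite (F.autGroup S) := inferInstance
  letI : Fintype (F.autGroup S) := Fintype.ofFinite _
  letI : Fintype (innSub F) := Fintype.ofFinite _
  rw [finsum_eq_sum_of_fintype]
  have key : ∀ α : F.autGroup S, ∑ i : innSub F, m (ThetaTw S ((α * i : F.autGroup S) : MulAut S)) = 1 := by
    intro α
    have := sum_coset_eq_one F m h1 h2 h3 h4 α
    rwa [finsum_eq_sum_of_fintype] at this
  have e1 : ∑ α : F.autGroup S, ∑ i : innSub F, m (ThetaTw S ((α * i : F.autGroup S) : MulAut S)) =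
      (Fintype.card (F.autGroup S) : ℤ) := by
    rw [Finset.sum_congr rfl (fun α _ => key α)]
    simp
  have e2 : ∑ α : F.autGroup S, ∑ i : innSub F, m (ThetaTw S ((α * i : F.autGroup S) : MulAut S)) =
      (Fintype.card (innSub F) : ℤ) * ∑ β : F.autGroup S, m (ThetaTw S (β : MulAut S)) := by
    rw [Finset.sum_comm]
    have : ∀ i : innSub F, ∑ α : F.autGroup S, m (ThetaTw S ((α * i : F.autGroup S) : MulAut S)) =
        ∑ β : F.autGroup S, m (ThetaTw S (β : MulAut S)) := by
      intro i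
      exact Fintype.sum_equiv (Equiv.mulRight (i : F.autGroup S)) _ _ (fun α => rfl)
    rw [Finset.sum_congr rfl (fun i _ => this i)]
    simp
  have e3 : Nat.card (innSub F) * (innSub F).index = Nat.card (F.autGroup S) := Subgroup.card_mul_index _
  rw [Nat.card_eq_fintype_card, Nat.card_eq_fintype_card] at e3
  have e4 : (Fintype.card (innSub F) : ℤ) * ((innSub F).index : ℤ) = (Fintype.card (F.autGroup S) : ℤ) := by
    exact_mod_cast e3
  have hne : (Fintype.card (innSub F) : ℤ) ≠ 0 := by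
    have : Fintype.card (innSub F) ≠ 0 := Fintype.card_ne_zero
    exact_mod_cast this
  apply mul_left_cancel₀ hne
  rw [← e2, e1, e4]

end TopCount


/-- the index of the first projection in `S` -/
noncomputable def idxS (H : Subgroup (S × S)) : ℤ := (((pr1 H).subgroupOf S).index : ℤ)

/-- the number of points of the biset modulo the right action -/
noncomputable def bisetDeg (m : Subgroup (S × S) → ℤ) : ℤ := ∑ᶠ H : Subgroup (S × S), m H * idxS H

theorem not_dvd_index_innSub [Finite S] (p : ℕ) [Fact p.Prime] (F : FusionSystem S) (hF : F.IsSaturated p) :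
    ¬ p ∣ (innSub F).index := by
  obtain ⟨Q, hQ, hfa, _⟩ := hF S le_rfl
  have hQS : Q = S := eq_top_of_isConj_top F hQ
  rw [hQS] at hfa
  obtain ⟨_, R, hR⟩ := hfa
  haveI : Finite (F.autGroup S) := inferInstance
  have := R.not_dvd_index
  rw [hR] at this
  exact this

theorem dvd_idxS_of_ne [Finite S] (p : ℕ) [Fact p.Prime] (hS : IsPGroup p S) {H : Subgroup (S × S)}
    (h : pr1 H ≠ S) : (p : ℤ) ∣ idxS H := by
  unfold idxS
  obtain ⟨n, hn⟩ := hS.index ((pr1 H).subgroupOf S)
  have hn0 : n ≠ 0 := by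
    rintro rfl
    rw [pow_zero, Subgroup.index_eq_one, Subgroup.subgroupOf_eq_top] at hn
    exact h (le_antisymm (pr1_le H) hn)
  rw [hn]
  push_cast
  exact dvd_pow_self _ hn0

theorem idxS_of_eq {H : Subgroup (S × S)} (h : pr1 H = S) : idxS H = 1 := by
  unfold idxS
  rw [h]
  have : S.subgroupOf S = ⊤ := Subgroup.subgroupOf_self S
  rw [this, Subgroup.index_top]
  rfl

theorem not_dvd_bisetDeg [Finite S] (p : ℕ) [Fact p.Prime] (hS : IsPGroup p S) (F : FusionSystem S)
    (hF : F.IsSaturated p) (m : Subgroup (S × S) → ℤ) (h1 : ∀ H, m H ≠ 0 → TwGood F H)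
    (h2 : ∀ K K', TwGood F K → TwGood F K' → pr2 K' = pr2 K → fmark m K = fmark m K')
    (h3 : m (Tw S S S.subtype) = 1)
    (h4 : ∀ H, TwGood F H → pr2 H = S → (∃ g, H = cjs g (Tw S S S.subtype)) → H ≠ Tw S S S.subtype → m H = 0) :
    ¬ (p : ℤ) ∣ bisetDeg m := by
  classical
  have hsum := sum_ThetaTw_eq_index F m h1 h2 h3 h4
  have hnd := not_dvd_index_innSub p F hF
  haveI : Finite (F.autGroup S) := inferInstance
  letI : Fintype (F.autGroup S) := Fintype.ofFinite _
  letI : Fintype (Subgroup (S × S)) := Fintype.ofFinite _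
  rw [finsum_eq_sum_of_fintype] at hsum
  set j : F.autGroup S → Subgroup (S × S) := fun β => ThetaTw S (β : MulAut S) with hj
  have hjinj : Function.Injective j := by
    intro a b hab
    exact Subtype.ext (ThetaTw_injective hab)
  have e1 : ∑ β : F.autGroup S, m (ThetaTw S (β : MulAut S)) =
      ∑ H : Subgroup (S × S), m H * (if H ∈ Finset.univ.image j then 1 else 0) := by
    rw [← Finset.sum_image (f := fun H => m H) (g := j) (fun a _ b _ hab => hjinj hab)]
    rw [← Finset.sum_subset (Finset.subset_univ (Finset.univ.image j)) (f := fun H => m H * (if H ∈ Finset.univ.image j then 1 else 0))]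
    · apply Finset.sum_congr rfl
      intro H hH
      rw [if_pos hH, mul_one]
    · intro H _ hH
      rw [if_neg hH, mul_zero]
  have hdiff : (p : ℤ) ∣ bisetDeg m - ∑ β : F.autGroup S, m (ThetaTw S (β : MulAut S)) := by
    unfold bisetDeg
    rw [finsum_eq_sum_of_fintype, e1, ← Finset.sum_sub_distrib]
    apply Finset.dvd_sum
    intro H _
    rw [← mul_sub]
    by_cases hm0 : m H = 0
    · rw [hm0, zero_mul]
      exact dvd_zero _
    · have hgood := h1 H hm0
      apply Dvd.dvd.mul_left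
      by_cases hpr : pr1 H = S
      · obtain ⟨α, hα, hHα⟩ := exists_ThetaTw_of_good F hgood hpr
        have hmem : H ∈ Finset.univ.image j := by
          rw [Finset.mem_image]
          exact ⟨⟨α, hα⟩, Finset.mem_univ _, hHα.symm⟩
        rw [if_pos hmem, idxS_of_eq hpr, sub_self]
        exact dvd_zero _
      · have hnmem : H ∉ Finset.univ.image j := by
          intro hmem
          rw [Finset.mem_image] at hmem
          obtain ⟨β, _, hβ⟩ := hmem
          apply hpr
          rw [← hβ]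
          exact pr1_ThetaTw _
        rw [if_neg hnmem, sub_zero]
        exact dvd_idxS_of_ne p hS hpr
  intro hdvd
  have h5 : (p : ℤ) ∣ ∑ β : F.autGroup S, m (ThetaTw S (β : MulAut S)) := by
    have := dvd_sub hdvd hdiff
    rwa [sub_sub_cancel] at this
  rw [hsum] at h5
  apply hnd
  exact_mod_cast h5

/-- **A fusion-stable virtual biset of degree prime to `p`.** -/
theorem exists_stable_biset' [Finite S] (p : ℕ) [Fact p.Prime] (hS : IsPGroup p S) (F : FusionSystem S)
    (hF : F.IsSaturated p) :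
    ∃ m : Subgroup (S × S) → ℤ, (∀ H, m H ≠ 0 → TwGood F H) ∧
      (∀ K K', TwGood F K → TwGood F K' → pr2 K' = pr2 K → fmark m K = fmark m K') ∧
      ¬ (p : ℤ) ∣ bisetDeg m := by
  obtain ⟨m, h1, h2, h3, h4⟩ := exists_stable_biset p hS F hF
  exact ⟨m, h1, h2, not_dvd_bisetDeg p hS F hF m h1 h2 h3 h4⟩

end Cfsg.Agent.Lib.Helper29
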