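import Cfsg.Agent.Lib.Helper29.BisetInv

/-!
The transfer of a fusion-stable virtual biset and its invariance under the fusion system.
-/
set_option autoImplicit false
open Cfsg

namespace Cfsg.Agent.Lib.Helper29

theorem prod_zpow_eq_zpow_sum {ι A : Type*} [CommGroup A] (s : Finset ι) (a : A) (f : ι → ℤ) :
    ∏ i ∈ s, a ^ f i = a ^ ∑ i ∈ s, f i := by
  classical
  induction s using Finset.induction_on with
  | empty => simp
  | insert i s hi ih => rw [Finset.prod_insert hi, Finset.sum_insert hi, ih, zpow_add]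

namespace TwData
variable {G : Type*} [Group G] (D : TwData G) {A : Type*} [CommGroup A]

/-- the restriction of `f` to `P`, as a homomorphism -/
def hom : D.P →* G where
  toFun y := D.f y
  map_one' := D.f_one
  map_mul' y z := D.f_mul y y.2 z z.2

theorem hom_apply (y : D.P) : D.hom y = D.f y := rfl

/-- product over the orbits of `e` of the values of `χ` at the cycle elements -/
noncomputable def trOrb (e : G) (χ : G → A) : A :=
  ∏ᶠ q : Quotient (MulAction.orbitRel (Subgroup.zpowers e) (G ⧸ D.P)),
    χ (D.f (q.out.out⁻¹ * e ^ Function.minimalPeriod (e • ·) q.out * q.out.out))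

theorem trOrb_eq_prod [Finite G] [Fintype G] [DecidableEq A] (e : G) (χ : G → A) :
    D.trOrb e χ = ∏ b ∈ Finset.univ.image χ, b ^ D.ORc e χ b := by
  classical
  letI : Fintype (Quotient (MulAction.orbitRel (Subgroup.zpowers e) (G ⧸ D.P))) := Fintype.ofFinite _
  unfold trOrb
  rw [finprod_eq_prod_of_fintype]
  set g : Quotient (MulAction.orbitRel (Subgroup.zpowers e) (G ⧸ D.P)) → A := fun q =>
    χ (D.f (q.out.out⁻¹ * e ^ Function.minimalPeriod (e • ·) q.out * q.out.out)) with hg
  have h1 := Finset.prod_comp (s := Finset.univ) (fun b : A => b) g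
  rw [h1]
  have hsub : Finset.univ.image g ⊆ Finset.univ.image χ := by
    intro b hb
    rw [Finset.mem_image] at hb ⊢
    obtain ⟨q, _, rfl⟩ := hb
    exact ⟨_, Finset.mem_univ _, rfl⟩
  have hcount : ∀ b : A, D.ORc e χ b = (Finset.univ.filter (fun q => g q = b)).card := by
    intro b
    unfold ORc
    rw [Nat.card_eq_fintype_card, Fintype.card_subtype]
  rw [Finset.prod_subset hsub]
  · apply Finset.prod_congr rfl
    intro b _
    rw [hcount]
  · intro b _ hb
    have : (Finset.univ.filter (fun q => g q = b)).card = 0 := by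
      rw [Finset.card_eq_zero, Finset.filter_eq_empty_iff]
      intro q _ hq
      apply hb
      rw [Finset.mem_image]
      exact ⟨q, Finset.mem_univ _, hq⟩
    rw [this, pow_zero]

/-- Mathlib's cycle formula for the transfer, in terms of `trOrb` -/
theorem transfer_eq_trOrb [Finite G] (ϕ : D.P →* A) (χ : G → A) (h : ∀ y : D.P, ϕ y = χ (D.f y)) (e : G) :
    ϕ.transfer e = D.trOrb e χ := by
  classical
  letI : Fintype (Quotient (MulAction.orbitRel (Subgroup.zpowers e) (G ⧸ D.P))) := Fintype.ofFinite _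
  rw [MonoidHom.transfer_eq_prod_quotient_orbitRel_zpowers_quot]
  unfold trOrb
  rw [finprod_eq_prod_of_fintype]
  apply Finset.prod_congr rfl
  intro q _
  rw [h]

end TwData

variable {Ω : Type*} [Group Ω] {S : Subgroup Ω} {A : Type*} [CommGroup A]

/-- the trace of a class function along the virtual biset -/
noncomputable def Trχ (F : FusionSystem S) (m : Subgroup (S × S) → ℤ) (χ : S → A) (e : S) : A :=
  ∏ᶠ H : Subgroup (S × S), (dataOf F H).trOrb e χ ^ m H

theorem Trχ_eq_prod [Finite S] [Fintype S] [DecidableEq A] (F : FusionSystem S) (m : Subgroup (S × S) → ℤ)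
    (χ : S → A) (e : S) : Trχ F m χ e = ∏ b ∈ Finset.univ.image χ, b ^ ORm F m e χ b := by
  classical
  letI : Fintype (Subgroup (S × S)) := Fintype.ofFinite _
  unfold Trχ ORm wsum
  rw [finprod_eq_prod_of_fintype]
  have h1 : ∀ H : Subgroup (S × S), (dataOf F H).trOrb e χ ^ m H =
      ∏ b ∈ Finset.univ.image χ, b ^ (m H * ((dataOf F H).ORc e χ b : ℤ)) := by
    intro H
    rw [(dataOf F H).trOrb_eq_prod e χ, ← Finset.prod_zpow]
    apply Finset.prod_congr rfl
    intro b _
    rw [← zpow_natCast, ← zpow_mul, mul_comm]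
  rw [Finset.prod_congr rfl (fun H _ => h1 H), Finset.prod_comm]
  apply Finset.prod_congr rfl
  intro b _
  rw [prod_zpow_eq_zpow_sum, finsum_eq_sum_of_fintype]

/-- **Invariance of the trace under the fusion system.** -/
theorem Trχ_eq_of_isConjElt [Finite S] (F : FusionSystem S) (m : Subgroup (S × S) → ℤ)
    (h1 : ∀ H, m H ≠ 0 → TwGood F H)
    (h2 : ∀ K K', TwGood F K → TwGood F K' → pr2 K' = pr2 K → fmark m K = fmark m K')
    (χ : S → A) (hχ : ∀ a z, χ (a⁻¹ * z * a) = χ z) {e e' : S} (hc : F.IsConjElt (e : Ω) (e' : Ω)) :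
    Trχ F m χ e = Trχ F m χ e' := by
  classical
  letI : Fintype S := Fintype.ofFinite _
  rw [Trχ_eq_prod, Trχ_eq_prod]
  apply Finset.prod_congr rfl
  intro b _
  rw [ORm_eq_of_isConjElt F m h1 h2 hc χ hχ b]

end Cfsg.Agent.Lib.Helper29
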