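import Cfsg.Agent.Lib.Helper29.BisetInduct
import Cfsg.Agent.Lib.Helper29.FusionAut

/-!
Twisted diagonal subgroups of `S × S` attached to the maps of a fusion system.
-/
set_option autoImplicit false
open Cfsg

namespace Cfsg.Agent.Lib.Helper29

variable {Ω : Type*} [Group Ω] {S : Subgroup Ω}

/-- the twisted diagonal `{(x, φ x) : x ∈ P}` inside `S × S` -/
def Tw (S : Subgroup Ω) (P : Subgroup Ω) (φ : P →* Ω) : Subgroup (S × S) where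
  carrier := {x | ∃ h : (x.1 : Ω) ∈ P, φ ⟨x.1, h⟩ = (x.2 : Ω)}
  one_mem' := ⟨P.one_mem, by
    have : (⟨((1 : S × S).1 : Ω), P.one_mem⟩ : P) = 1 := rfl
    rw [this, map_one]; rfl⟩
  mul_mem' := by
    rintro x y ⟨hx, hx'⟩ ⟨hy, hy'⟩
    refine ⟨P.mul_mem hx hy, ?_⟩
    have : (⟨((x * y).1 : Ω), P.mul_mem hx hy⟩ : P) = ⟨x.1, hx⟩ * ⟨y.1, hy⟩ := rfl
    rw [this, map_mul, hx', hy']; rfl
  inv_mem' := by
    rintro x ⟨hx, hx'⟩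
    refine ⟨P.inv_mem hx, ?_⟩
    have : (⟨((x⁻¹).1 : Ω), P.inv_mem hx⟩ : P) = (⟨x.1, hx⟩ : P)⁻¹ := rfl
    rw [this, map_inv, hx']; rfl

theorem mem_Tw {P : Subgroup Ω} {φ : P →* Ω} {x : S × S} :
    x ∈ Tw S P φ ↔ ∃ h : (x.1 : Ω) ∈ P, φ ⟨x.1, h⟩ = (x.2 : Ω) := Iff.rfl

/-- first projection of a subgroup of `S × S`, as a subgroup of the ambient group -/
def pr1 (K : Subgroup (S × S)) : Subgroup Ω := (K.map (MonoidHom.fst S S)).map S.subtype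

/-- second projection -/
def pr2 (K : Subgroup (S × S)) : Subgroup Ω := (K.map (MonoidHom.snd S S)).map S.subtype

theorem mem_pr1 {K : Subgroup (S × S)} {u : Ω} : u ∈ pr1 K ↔ ∃ x ∈ K, (x.1 : Ω) = u := by
  constructor
  · rintro ⟨_, ⟨x, hx, rfl⟩, rfl⟩
    exact ⟨x, hx, rfl⟩
  · rintro ⟨x, hx, rfl⟩
    exact ⟨x.1, ⟨x, hx, rfl⟩, rfl⟩

theorem mem_pr2 {K : Subgroup (S × S)} {u : Ω} : u ∈ pr2 K ↔ ∃ x ∈ K, (x.2 : Ω) = u := by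
  constructor
  · rintro ⟨_, ⟨x, hx, rfl⟩, rfl⟩
    exact ⟨x, hx, rfl⟩
  · rintro ⟨x, hx, rfl⟩
    exact ⟨x.2, ⟨x, hx, rfl⟩, rfl⟩

theorem pr1_le (K : Subgroup (S × S)) : pr1 K ≤ S := by
  intro u hu
  obtain ⟨x, _, rfl⟩ := mem_pr1.1 hu
  exact x.1.2

theorem pr2_le (K : Subgroup (S × S)) : pr2 K ≤ S := by
  intro u hu
  obtain ⟨x, _, rfl⟩ := mem_pr2.1 hu
  exact x.2.2

theorem pr1_mono {K K' : Subgroup (S × S)} (h : K ≤ K') : pr1 K ≤ pr1 K' := by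
  intro u hu
  obtain ⟨x, hx, rfl⟩ := mem_pr1.1 hu
  exact mem_pr1.2 ⟨x, h hx, rfl⟩

theorem pr1_Tw (F : FusionSystem S) {P : Subgroup Ω} {φ : P →* Ω} (hφ : φ ∈ F.Hom P) :
    pr1 (Tw S P φ) = P := by
  ext u
  rw [mem_pr1]
  constructor
  · rintro ⟨x, ⟨h, _⟩, rfl⟩
    exact h
  · intro hu
    exact ⟨(⟨u, (F.le_of_mem hφ).1 hu⟩, ⟨φ ⟨u, hu⟩, (F.le_of_mem hφ).2 _⟩), ⟨hu, rfl⟩, rfl⟩

theorem pr2_Tw (F : FusionSystem S) {P : Subgroup Ω} {φ : P →* Ω} (hφ : φ ∈ F.Hom P) :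
    pr2 (Tw S P φ) = φ.range := by
  ext u
  rw [mem_pr2]
  constructor
  · rintro ⟨x, ⟨h, hx⟩, rfl⟩
    exact ⟨⟨x.1, h⟩, hx⟩
  · rintro ⟨y, rfl⟩
    exact ⟨(⟨y, (F.le_of_mem hφ).1 y.2⟩, ⟨φ y, (F.le_of_mem hφ).2 _⟩), ⟨y.2, rfl⟩, rfl⟩

/-- the twisted diagonal is isomorphic to `P` -/
noncomputable def twEquiv (F : FusionSystem S) {P : Subgroup Ω} {φ : P →* Ω} (hφ : φ ∈ F.Hom P) :
    P ≃ Tw S P φ where
  toFun y := ⟨(⟨y, (F.le_of_mem hφ).1 y.2⟩, ⟨φ y, (F.le_of_mem hφ).2 _⟩), ⟨y.2, rfl⟩⟩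
  invFun x := ⟨x.1.1, x.2.1⟩
  left_inv y := rfl
  right_inv x := by
    apply Subtype.ext
    apply Prod.ext
    · rfl
    · apply Subtype.ext
      obtain ⟨h, hx⟩ := x.2
      exact hx

theorem card_Tw (F : FusionSystem S) {P : Subgroup Ω} {φ : P →* Ω} (hφ : φ ∈ F.Hom P) :
    Nat.card (Tw S P φ) = Nat.card P := (Nat.card_congr (twEquiv F hφ)).symm

/-- a subgroup of `S × S` is good if it is the twisted diagonal of a map of the system -/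
def TwGood (F : FusionSystem S) (K : Subgroup (S × S)) : Prop :=
  ∃ (P : Subgroup Ω) (φ : P →* Ω), φ ∈ F.Hom P ∧ K = Tw S P φ

/-- a subgroup contained in the graph of a map of the system is good -/
theorem good_of_subgraph (F : FusionSystem S) {K : Subgroup (S × S)} {P : Subgroup Ω} {θ : P →* Ω}
    (hθ : θ ∈ F.Hom P) (h : ∀ x ∈ K, ∃ h : (x.1 : Ω) ∈ P, θ ⟨x.1, h⟩ = (x.2 : Ω)) : TwGood F K := by
  have hle : pr1 K ≤ P := by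
    intro u hu
    obtain ⟨x, hx, rfl⟩ := mem_pr1.1 hu
    exact (h x hx).1
  refine ⟨pr1 K, θ.comp (Subgroup.inclusion hle), restrict_mem F hle hθ, ?_⟩
  ext x
  rw [mem_Tw]
  constructor
  · intro hx
    refine ⟨mem_pr1.2 ⟨x, hx, rfl⟩, ?_⟩
    obtain ⟨h1, h2⟩ := h x hx
    exact h2
  · rintro ⟨h1, h2⟩
    obtain ⟨y, hy, hyx⟩ := mem_pr1.1 h1
    obtain ⟨h3, h4⟩ := h y hy
    have h5 : (y.2 : Ω) = x.2 := by
      rw [← h4, ← h2]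
      show θ _ = θ _
      congr 1
      exact Subtype.ext hyx
    have : y = x := Prod.ext (Subtype.ext hyx) (Subtype.ext h5)
    rwa [← this]

theorem TwGood.le (F : FusionSystem S) {K K' : Subgroup (S × S)} (hK : TwGood F K) (h : K' ≤ K) :
    TwGood F K' := by
  obtain ⟨P, φ, hφ, rfl⟩ := hK
  exact good_of_subgraph F hφ (fun x hx => h hx)

/-- the map `y ↦ b φ(a⁻¹ y a) b⁻¹` is in the system -/
theorem twist_mem (F : FusionSystem S) {P P' : Subgroup Ω} {φ : P →* Ω} (hφ : φ ∈ F.Hom P) {a b : Ω}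
    (ha : a ∈ S) (hb : b ∈ S) (hP' : P' ≤ S) {χ : P' →* Ω}
    (h : ∀ y : P', ∃ h : a⁻¹ * (y : Ω) * a ∈ P, χ y = b * φ ⟨a⁻¹ * y * a, h⟩ * b⁻¹) : χ ∈ F.Hom P' := by
  have h1 : conjHom P' a⁻¹ ∈ F.Hom P' := F.conj_mem hP' (S.inv_mem ha)
  have h2 : ∀ y : P', conjHom P' a⁻¹ y ∈ P := by
    intro y
    obtain ⟨hy, _⟩ := h y
    show a⁻¹ * (y : Ω) * a⁻¹⁻¹ ∈ P
    rwa [inv_inv]
  have h3 : conjHom S b ∈ F.Hom S := F.conj_mem le_rfl hb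
  set χ₁ : P' →* Ω := φ.comp ((conjHom P' a⁻¹).codRestrict P h2) with hχ₁
  have h4 : χ₁ ∈ F.Hom P' := F.comp_mem h1 hφ h2
  have h5 : ∀ y : P', χ₁ y ∈ S := fun y => (F.le_of_mem h4).2 y
  refine comp_mem' F h4 h3 h5 ?_
  intro y
  obtain ⟨hy, hχ⟩ := h y
  rw [hχ]
  show b * φ ⟨a⁻¹ * y * a, hy⟩ * b⁻¹ = b * (φ ⟨a⁻¹ * (y : Ω) * a⁻¹⁻¹, _⟩) * b⁻¹
  congr 3
  apply Subtype.ext
  simp

theorem TwGood.cjs (F : FusionSystem S) {K : Subgroup (S × S)} (hK : TwGood F K) (g : S × S) :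
    TwGood F (cjs g K) := by
  obtain ⟨P, φ, hφ, rfl⟩ := hK
  have hPS : P ≤ S := (F.le_of_mem hφ).1
  set P' : Subgroup Ω := P.map (MulAut.conj (g.1 : Ω)).toMonoidHom with hP'
  have hP'S : P' ≤ S := by
    rintro _ ⟨u, hu, rfl⟩
    exact S.mul_mem (S.mul_mem g.1.2 (hPS hu)) (S.inv_mem g.1.2)
  have hmem : ∀ y : P', (g.1 : Ω)⁻¹ * (y : Ω) * g.1 ∈ P := by
    rintro ⟨_, ⟨u, hu, rfl⟩⟩
    show (g.1 : Ω)⁻¹ * ((g.1 : Ω) * u * (g.1 : Ω)⁻¹) * g.1 ∈ P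
    have : (g.1 : Ω)⁻¹ * ((g.1 : Ω) * u * (g.1 : Ω)⁻¹) * g.1 = u := by group
    rwa [this]
  let χ : P' →* Ω :=
    { toFun := fun y => (g.2 : Ω) * φ ⟨(g.1 : Ω)⁻¹ * y * g.1, hmem y⟩ * (g.2 : Ω)⁻¹
      map_one' := by
        have : (⟨(g.1 : Ω)⁻¹ * ((1 : P') : Ω) * g.1, hmem 1⟩ : P) = 1 := by
          apply Subtype.ext; simp
        rw [this, map_one]; simp
      map_mul' := by
        intro y z
        have : (⟨(g.1 : Ω)⁻¹ * ((y * z : P') : Ω) * g.1, hmem (y * z)⟩ : P) =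
            ⟨(g.1 : Ω)⁻¹ * y * g.1, hmem y⟩ * ⟨(g.1 : Ω)⁻¹ * z * g.1, hmem z⟩ := by
          apply Subtype.ext
          simp [mul_assoc]
        rw [this, map_mul]
        group }
  have hχ : χ ∈ F.Hom P' := twist_mem F hφ g.1.2 g.2.2 hP'S (fun y => ⟨hmem y, rfl⟩)
  refine good_of_subgraph F hχ ?_
  intro x hx
  rw [mem_cjs] at hx
  obtain ⟨h1, h2⟩ := hx
  have h1' : ((g.1 : Ω)⁻¹ * x.1 * g.1) ∈ P := h1
  have hx1 : (x.1 : Ω) ∈ P' := by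
    refine ⟨(g.1 : Ω)⁻¹ * x.1 * g.1, h1', ?_⟩
    show (g.1 : Ω) * ((g.1 : Ω)⁻¹ * x.1 * g.1) * (g.1 : Ω)⁻¹ = x.1
    group
  refine ⟨hx1, ?_⟩
  show (g.2 : Ω) * φ ⟨(g.1 : Ω)⁻¹ * x.1 * g.1, _⟩ * (g.2 : Ω)⁻¹ = x.2
  have h2' : φ ⟨(g.1 : Ω)⁻¹ * x.1 * g.1, h1'⟩ = (g.2 : Ω)⁻¹ * x.2 * g.2 := h2
  rw [h2']
  group

/-- the count of a virtual set supported on good subgroups vanishes on subgroups that are not good -/
theorem fmark_eq_zero_of_not_good [Finite S] (F : FusionSystem S) {m : Subgroup (S × S) → ℤ}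
    (hm : ∀ H, m H ≠ 0 → TwGood F H) {K : Subgroup (S × S)} (hK : ¬ TwGood F K) : fmark m K = 0 := by
  unfold fmark
  apply finsum_eq_zero_of_forall_eq_zero
  intro H
  by_cases h1 : m H = 0
  · rw [h1, zero_mul]
  · by_cases h2 : fixc K H = 0
    · rw [h2, mul_zero]
    · exfalso
      obtain ⟨g, hg⟩ := exists_le_cjs_of_fixc_ne_zero h2
      exact hK (((hm H h1).cjs F g).le F hg)

end Cfsg.Agent.Lib.Helper29
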