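import Mathlib

/-!
If every element of the centre of a group of class at most `c` has `q`-th power `1`, then every element of the group
has `q^c`-th power `1`.
-/
set_option autoImplicit false

namespace Cfsg.Agent.Lib.Helper29

universe u

theorem pow_comm_of_central_comm {G : Type*} [Group G] (g x : G)
    (hk : g * x * g⁻¹ * x⁻¹ ∈ Subgroup.center G) (m : ℕ) :
    g ^ m * x = (g * x * g⁻¹ * x⁻¹) ^ m * x * g ^ m := by
  set k := g * x * g⁻¹ * x⁻¹ with hkdef
  have hgx : g * x = k * x * g := by rw [hkdef]; group
  have hkc : ∀ y : G, y * k = k * y := fun y => Subgroup.mem_center_iff.1 hk y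
  induction m with
  | zero => simp
  | succ m ih =>
    have hkm : ∀ y : G, y * k ^ m = k ^ m * y := fun y =>
      ((Commute.pow_right (hkc y) m)).eq
    calc g ^ (m + 1) * x = g * (g ^ m * x) := by rw [pow_succ']; group
      _ = g * (k ^ m * x * g ^ m) := by rw [ih]
      _ = k ^ m * (g * x) * g ^ m := by
        rw [mul_assoc (k ^ m), ← mul_assoc g, hkm g]; group
      _ = k ^ m * (k * x * g) * g ^ m := by rw [hgx]
      _ = k ^ (m + 1) * x * g ^ (m + 1) := by
        rw [pow_succ, pow_succ']; group

theorem pow_eq_one_of_center_exp (q : ℕ) : ∀ (c : ℕ) (G : Type u) [Group G],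
    Subgroup.upperCentralSeries G c = ⊤ → (∀ z ∈ Subgroup.center G, z ^ q = 1) → ∀ g : G, g ^ (q ^ c) = 1 := by
  intro c
  induction c with
  | zero =>
    intro G _ h _ g
    rw [Subgroup.upperCentralSeries_zero] at h
    have : g ∈ (⊥ : Subgroup G) := h ▸ Subgroup.mem_top g
    rw [Subgroup.mem_bot] at this
    rw [this, one_pow]
  | succ c ih =>
    intro G _ h hz g
    have hQ : Subgroup.upperCentralSeries (G ⧸ Subgroup.center G) c = ⊤ := by
      have h1 := comap_upperCentralSeries_quotient_center (G := G) c
      rw [Nat.succ_eq_add_one, h] at h1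
      rw [eq_top_iff]
      intro y _
      obtain ⟨g', rfl⟩ := QuotientGroup.mk'_surjective (Subgroup.center G) y
      have : g' ∈ Subgroup.comap (QuotientGroup.mk' (Subgroup.center G))
          (Subgroup.upperCentralSeries (G ⧸ Subgroup.center G) c) := h1 ▸ Subgroup.mem_top g'
      exact this
    have hzQ : ∀ z ∈ Subgroup.center (G ⧸ Subgroup.center G), z ^ q = 1 := by
      intro z hzc
      obtain ⟨g', rfl⟩ := QuotientGroup.mk'_surjective (Subgroup.center G) z
      have hk : ∀ x : G, g' * x * g'⁻¹ * x⁻¹ ∈ Subgroup.center G := by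
        intro x
        have h2 := Subgroup.mem_center_iff.1 hzc (QuotientGroup.mk' (Subgroup.center G) x)
        rw [← QuotientGroup.eq_one_iff]
        have h3 : ((g' * x * g'⁻¹ * x⁻¹ : G) : G ⧸ Subgroup.center G) =
            (QuotientGroup.mk' (Subgroup.center G) g') * (QuotientGroup.mk' (Subgroup.center G) x) *
            (QuotientGroup.mk' (Subgroup.center G) g')⁻¹ * (QuotientGroup.mk' (Subgroup.center G) x)⁻¹ := rfl
        rw [h3, ← h2]
        group
      have hmem : g' ^ q ∈ Subgroup.center G := by
        rw [Subgroup.mem_center_iff]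
        intro x
        have h4 := pow_comm_of_central_comm g' x (hk x) q
        rw [hz _ (hk x), one_mul] at h4
        exact h4.symm
      have : (QuotientGroup.mk' (Subgroup.center G) g') ^ q =
          QuotientGroup.mk' (Subgroup.center G) (g' ^ q) := (map_pow _ _ _).symm
      rw [this]
      exact (QuotientGroup.eq_one_iff _).2 hmem
    have h5 := ih (G ⧸ Subgroup.center G) hQ hzQ (QuotientGroup.mk' (Subgroup.center G) g)
    rw [← map_pow] at h5
    have h6 : g ^ q ^ c ∈ Subgroup.center G := (QuotientGroup.eq_one_iff _).1 h5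
    rw [pow_succ, pow_mul]
    exact hz _ h6
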