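import Cfsg.Agent.Lib.Helper29.SubnormalGroupConstrained

/-!
Constrainedness of `F_P(L)` passes to `F_{PZ/Z}(L/Z)` for `Z = Z(L)`.
-/
set_option autoImplicit false

namespace Cfsg.Agent.Lib.Helper29
open Cfsg

variable {L : Type*} [Group L]

/-- a central `p`-element lies in every Sylow `p`-subgroup -/
theorem central_pElement_mem_sylow [Finite L] {p : ℕ} [Fact p.Prime] (P : Sylow p L) {z : L}
    (hz : z ∈ Subgroup.center L) {k : ℕ} (hzk : z ^ (p ^ k) = 1) : z ∈ (P : Subgroup L) := by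
  have hn : (Subgroup.zpowers z).Normal := by
    refine ⟨fun n hn g => ?_⟩
    have hnc : n ∈ Subgroup.center L := by
      obtain ⟨i, rfl⟩ := hn
      exact Subgroup.zpow_mem _ hz i
    have : g * n * g⁻¹ = n := by
      rw [(Subgroup.mem_center_iff.1 hnc g), mul_inv_cancel_right]
    rw [this]
    exact hn
  have hp : IsPGroup p (Subgroup.zpowers z) := by
    rintro ⟨y, i, rfl⟩
    refine ⟨k, Subtype.ext ?_⟩
    show (z ^ i) ^ (p ^ k) = 1
    rw [← zpow_natCast, ← zpow_mul, mul_comm, zpow_mul, zpow_natCast, hzk, one_zpow]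
  exact pCore_le_sylow' p P (le_pCore' hn hp (Subgroup.mem_zpowers z))

/-- conjugates of elements of `P` landing in `P Z(L)` land in `P` -/
theorem conj_mem_sylow_of_map_mem [Finite L] {p : ℕ} [Fact p.Prime] (P : Sylow p L) (g x : L)
    (hx : x ∈ (P : Subgroup L))
    (h : QuotientGroup.mk' (Subgroup.center L) (g * x * g⁻¹) ∈
      (P : Subgroup L).map (QuotientGroup.mk' (Subgroup.center L))) :
    g * x * g⁻¹ ∈ (P : Subgroup L) := by
  obtain ⟨y, hy, hyx⟩ := h
  have hz : y⁻¹ * (g * x * g⁻¹) ∈ Subgroup.center L := by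
    rw [← QuotientGroup.ker_mk' (Subgroup.center L), MonoidHom.mem_ker, map_mul, map_inv, hyx,
      inv_mul_cancel]
  obtain ⟨k₁, hk₁⟩ := P.isPGroup' ⟨x, hx⟩
  obtain ⟨k₂, hk₂⟩ := P.isPGroup' ⟨y, hy⟩
  have hx1 : x ^ (p ^ k₁) = 1 := congrArg Subtype.val hk₁
  have hy1 : y ^ (p ^ k₂) = 1 := congrArg Subtype.val hk₂
  have hcomm : Commute y⁻¹ (g * x * g⁻¹) := by
    have h1 := Subgroup.mem_center_iff.1 hz y
    -- y * (y⁻¹ * c) = (y⁻¹ * c) * y
    have h2 : g * x * g⁻¹ = y⁻¹ * (g * x * g⁻¹) * y := by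
      rw [← h1]; group
    show y⁻¹ * (g * x * g⁻¹) = (g * x * g⁻¹) * y⁻¹
    calc y⁻¹ * (g * x * g⁻¹) = y⁻¹ * (g * x * g⁻¹) * y * y⁻¹ := by group
      _ = (g * x * g⁻¹) * y⁻¹ := by rw [← h2]
  have hzk : (y⁻¹ * (g * x * g⁻¹)) ^ (p ^ (k₁ + k₂)) = 1 := by
    rw [hcomm.mul_pow, inv_pow, pow_add, pow_mul', hy1, one_pow, inv_one, one_mul]
    have : (g * x * g⁻¹) ^ (p ^ k₁ * p ^ k₂) = g * x ^ (p ^ k₁ * p ^ k₂) * g⁻¹ := by
      rw [← MulAut.conj_apply, ← map_pow, MulAut.conj_apply]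
    rw [this, pow_mul, hx1, one_pow, mul_one, mul_inv_cancel]
  have hzP := central_pElement_mem_sylow P hz hzk
  have : g * x * g⁻¹ = y * (y⁻¹ * (g * x * g⁻¹)) := by group
  rw [this]
  exact (P : Subgroup L).mul_mem hy hzP

section main

variable [Finite L] {p : ℕ} [Fact p.Prime] (P : Sylow p L)

/-- elements of `P` centralizing `O_p(F)` modulo the centre lie in `O_p(F)`, for constrained `F = F_P(L)` -/
theorem centralizer_mod_center_le_core
    (hF : (groupFusionSystem (P : Subgroup L)).IsConstrained p) :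
    (P : Subgroup L) ⊓ (Subgroup.centralizer
      (((groupFusionSystem (P : Subgroup L)).core.map (QuotientGroup.mk' (Subgroup.center L)) :
        Subgroup (L ⧸ Subgroup.center L)) : Set (L ⧸ Subgroup.center L))).comap
          (QuotientGroup.mk' (Subgroup.center L)) ≤ (groupFusionSystem (P : Subgroup L)).core := by
  obtain ⟨hFs, Q₀, hQ₀n, hQ₀c⟩ := hF
  have hS : IsPGroup p (P : Subgroup L) := P.isPGroup'
  have hQn : (groupFusionSystem (P : Subgroup L)).IsNormal (groupFusionSystem (P : Subgroup L)).core :=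
    Cfsg.Agent.Lib.Helper1.isNormal_core _
  have hQ₀Q : Q₀ ≤ (groupFusionSystem (P : Subgroup L)).core := le_sSup hQ₀n
  have hQc : (groupFusionSystem (P : Subgroup L)).IsCentric (groupFusionSystem (P : Subgroup L)).core :=
    isCentric_of_le _ hQ₀c hQ₀Q hQn.1
  have hQsc := stronglyClosed_of_isNormal _ hQn
  generalize hQdef : (groupFusionSystem (P : Subgroup L)).core = Q at *
  generalize hFdef : groupFusionSystem (P : Subgroup L) = F at *
  set π := QuotientGroup.mk' (Subgroup.center L) with hπ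
  have hker : ∀ x : L, π x = 1 ↔ x ∈ Subgroup.center L := by
    intro x
    rw [← MonoidHom.mem_ker, hπ, QuotientGroup.ker_mk']
  have hmemD : ∀ y : L, y ∈ (P : Subgroup L) ⊓ (Subgroup.centralizer
      ((Q.map π : Subgroup (L ⧸ Subgroup.center L)) : Set (L ⧸ Subgroup.center L))).comap π ↔
      y ∈ (P : Subgroup L) ∧ ∀ q ∈ Q, π q * π y = π y * π q := by
    intro y
    rw [Subgroup.mem_inf, Subgroup.mem_comap, Subgroup.mem_centralizer_iff]
    constructor
    · rintro ⟨h1, h2⟩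
      exact ⟨h1, fun q hq => h2 _ ⟨q, hq, rfl⟩⟩
    · rintro ⟨h1, h2⟩
      refine ⟨h1, ?_⟩
      rintro _ ⟨q, hq, rfl⟩
      exact h2 q hq
  have hDsc : F.StronglyClosed ((P : Subgroup L) ⊓ (Subgroup.centralizer
      ((Q.map π : Subgroup (L ⧸ Subgroup.center L)) : Set (L ⧸ Subgroup.center L))).comap π) := by
    refine ⟨inf_le_left, fun R hR φ hφ y => ?_⟩
    rw [hmemD]
    refine ⟨(F.le_of_mem hφ).2 y, fun q hq => ?_⟩
    obtain ⟨ψ, hψ, hψP, hψQ⟩ := hQn.2 R φ hφ
    have hψ' := hψ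
    rw [← hFdef] at hψ'
    obtain ⟨_, _, k, hk⟩ := hψ'
    obtain ⟨q₀, hq₀, hq₀q⟩ := hψQ.ge hq
    have hq₀Q : (q₀ : L) ∈ Q := hq₀
    rw [← hψP y, ← hq₀q, hk, hk]
    have hy := ((hmemD _).1 (hR y.2)).2 _ hq₀Q
    show π (k * (q₀ : L) * k⁻¹) * π (k * (y : L) * k⁻¹) = π (k * (y : L) * k⁻¹) * π (k * (q₀ : L) * k⁻¹)
    simp only [map_mul, map_inv]
    calc π k * π (q₀ : L) * (π k)⁻¹ * (π k * π (y : L) * (π k)⁻¹)
        = π k * (π (q₀ : L) * π (y : L)) * (π k)⁻¹ := by group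
      _ = π k * (π (y : L) * π (q₀ : L)) * (π k)⁻¹ := by rw [hy]
      _ = π k * π (y : L) * (π k)⁻¹ * (π k * π (q₀ : L) * (π k)⁻¹) := by group
  have hDn : F.IsNormal ((P : Subgroup L) ⊓ (Subgroup.centralizer
      ((Q.map π : Subgroup (L ⧸ Subgroup.center L)) : Set (L ⧸ Subgroup.center L))).comap π) := by
    refine isNormal_of_stronglyClosed p hS F hFs _ hDsc (fun R hc hr => ?_)
    have hRS : R ≤ (P : Subgroup L) := hc.1
    refine le_of_stab_chain' hS F hc hr _ hDsc.1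
      (le_normalizer_of_conj_mem (fun g hg x hx => conj_mem_of_stronglyClosed F hDsc g (hRS hg) x hx))
      (chain3 (Subgroup.center L ⊓ Q) Q) 2 ?_ ?_ ?_ ?_ ?_ ?_ ?_
    · intro i
      match i with
      | 0 => exact bot_le
      | 1 => exact inf_le_right
      | _ + 2 => exact le_rfl
    · exact le_of_isNormal_of_centric_radical hS F hQn hc hr
    · intro x hx q hq
      exact conj_mem_of_stronglyClosed F hQsc x (hRS hx) q hq
    · intro x hx hxq
      have hxc : x ∈ Subgroup.centralizer ((Q : Subgroup L) : Set L) := by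
        rw [Subgroup.mem_centralizer_iff]
        intro q hq
        exact (hxq q hq).symm
      exact hQc.2 _ (isConj_refl F hQn.1) (Subgroup.mem_inf.2 ⟨hRS hx, hxc⟩)
    · intro i α hα x hx
      match i with
      | 0 =>
        have hx1 : x = 1 := Subtype.ext ((Subgroup.mem_bot).1 hx)
        rw [hx1, map_one]
        exact Subgroup.one_mem _
      | 1 =>
        have hx' : (x : L) ∈ Subgroup.center L ⊓ Q := hx
        rw [mem_autGroup_iff F hRS, ← hFdef] at hα
        obtain ⟨_, _, g, hg⟩ := hα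
        have h1 : ((α x : R) : L) = g * (x : L) * g⁻¹ := hg x
        have h2 : g * (x : L) * g⁻¹ = x := by
          rw [(Subgroup.mem_center_iff.1 hx'.1 g), mul_inv_cancel_right]
        show ((α x : R) : L) ∈ Subgroup.center L ⊓ Q
        rw [h1, h2]
        exact hx'
      | _ + 2 => exact aut_mem_of_stronglyClosed F hQsc hRS hα x hx
    · intro α _
      refine ⟨0, fun x hx => ?_⟩
      have hx1 : x = 1 := Subtype.ext ((Subgroup.mem_bot).1 hx)
      rw [hx1, map_one]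
    · intro g hg hgN i hi x hxR hx
      obtain ⟨hgP, hgc⟩ := (hmemD g).1 hg
      match i with
      | 0 =>
        have hx' : x ∈ Subgroup.center L ⊓ Q := hx
        have h2 : g * x * g⁻¹ = x := by
          rw [(Subgroup.mem_center_iff.1 hx'.1 g), mul_inv_cancel_right]
        rw [h2, inv_mul_cancel]
        exact Subgroup.one_mem _
      | 1 =>
        have hx' : x ∈ Q := hx
        show x⁻¹ * (g * x * g⁻¹) ∈ Subgroup.center L ⊓ Q
        refine Subgroup.mem_inf.2 ⟨?_, ?_⟩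
        · rw [← hker]
          simp only [map_mul, map_inv]
          have := hgc x hx'
          calc (π x)⁻¹ * (π g * π x * (π g)⁻¹) = (π x)⁻¹ * (π x * π g) * (π g)⁻¹ := by rw [this]; group
            _ = 1 := by group
        · exact Q.mul_mem (inv_mem hx') (conj_mem_of_stronglyClosed F hQsc g hgP x hx')
      | j + 2 => omega
  exact (le_sSup hDn : _ ≤ F.core).trans hQdef.le

/-- the image of a subgroup normal in `F_P(L)` is normal in `F_{P̄}(L/Z(L))` -/
theorem isNormal_map_center {Q : Subgroup L}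
    (hQn : (groupFusionSystem (P : Subgroup L)).IsNormal Q) :
    (groupFusionSystem ((P : Subgroup L).map (QuotientGroup.mk' (Subgroup.center L)))).IsNormal
      (Q.map (QuotientGroup.mk' (Subgroup.center L))) := by
  set π := QuotientGroup.mk' (Subgroup.center L) with hπ
  refine ⟨Subgroup.map_mono hQn.1, ?_⟩
  rintro R' φ' ⟨hR', hφ', g', hg'⟩
  obtain ⟨g, rfl⟩ := QuotientGroup.mk'_surjective (Subgroup.center L) g'
  have hRmap : (R'.comap π ⊓ (P : Subgroup L)).map π = R' := by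
    apply le_antisymm
    · rintro _ ⟨x, hx, rfl⟩
      exact hx.1
    · intro y hy
      obtain ⟨x, hx, rfl⟩ := hR' hy
      exact ⟨x, ⟨hy, hx⟩, rfl⟩
  have hφ : conjHom (R'.comap π ⊓ (P : Subgroup L)) g ∈
      (groupFusionSystem (P : Subgroup L)).Hom (R'.comap π ⊓ (P : Subgroup L)) := by
    refine ⟨inf_le_right, fun x => ?_, g, fun x => rfl⟩
    apply conj_mem_sylow_of_map_mem P g x x.2.2
    have h1 := hφ' ⟨π x, x.2.1⟩
    rw [hg'] at h1
    simpa only [map_mul, map_inv] using h1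
  obtain ⟨ψ, ⟨hψle, hψP, k, hk⟩, hψR, hψQ⟩ := hQn.2 _ _ hφ
  have hsup : (R'.comap π ⊓ (P : Subgroup L) ⊔ Q).map π = R' ⊔ Q.map π := by
    rw [Subgroup.map_sup, hRmap]
  have hlift : ∀ y' : L ⧸ Subgroup.center L, y' ∈ R' ⊔ Q.map π →
      ∃ y : L, y ∈ R'.comap π ⊓ (P : Subgroup L) ⊔ Q ∧ π y = y' := by
    intro y' hy'
    rw [← hsup] at hy'
    obtain ⟨y, hy, rfl⟩ := hy'
    exact ⟨y, hy, rfl⟩
  refine ⟨conjHom (R' ⊔ Q.map π) (π k), ⟨sup_le hR' (Subgroup.map_mono hQn.1), ?_, π k, fun _ => rfl⟩,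
    ?_, ?_⟩
  · intro y'
    obtain ⟨y, hy, hyy'⟩ := hlift y' y'.2
    show π k * (y' : L ⧸ Subgroup.center L) * (π k)⁻¹ ∈ (P : Subgroup L).map π
    rw [← hyy']
    refine ⟨k * y * k⁻¹, ?_, by simp only [map_mul, map_inv]⟩
    have := hψP ⟨y, hy⟩
    rwa [hk] at this
  · intro x'
    obtain ⟨x, hx, hxx'⟩ : ∃ x : L, x ∈ R'.comap π ⊓ (P : Subgroup L) ∧ π x = x' := by
      have h0 : (x' : L ⧸ Subgroup.center L) ∈ (R'.comap π ⊓ (P : Subgroup L)).map π := hRmap.ge x'.2
      obtain ⟨x, hx, h⟩ := h0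
      exact ⟨x, hx, h⟩
    have h1 := hψR ⟨x, hx⟩
    rw [hk] at h1
    have h2 : k * x * k⁻¹ = g * x * g⁻¹ := h1
    rw [hg']
    show π k * (x' : L ⧸ Subgroup.center L) * (π k)⁻¹ = π g * (x' : L ⧸ Subgroup.center L) * (π g)⁻¹
    rw [← hxx']
    have := congrArg π h2
    simpa only [map_mul, map_inv] using this
  · ext z'
    constructor
    · rintro ⟨y', hy', rfl⟩
      obtain ⟨q, hq, hqy⟩ : ∃ q ∈ Q, π q = (y' : L ⧸ Subgroup.center L) := hy'
      show π k * (y' : L ⧸ Subgroup.center L) * (π k)⁻¹ ∈ Q.map π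
      rw [← hqy]
      refine ⟨k * q * k⁻¹, ?_, by simp only [map_mul, map_inv]⟩
      have hq' : q ∈ R'.comap π ⊓ (P : Subgroup L) ⊔ Q := (le_sup_right : Q ≤ _) hq
      have h1 : ψ ⟨q, hq'⟩ ∈ (Q.subgroupOf (R'.comap π ⊓ (P : Subgroup L) ⊔ Q)).map ψ := ⟨_, hq, rfl⟩
      rw [hψQ, hk] at h1
      exact h1
    · rintro ⟨q, hq, rfl⟩
      obtain ⟨q₀, hq₀, hq₀q⟩ := hψQ.ge hq
      have hq₀Q : (q₀ : L) ∈ Q := hq₀
      rw [hk] at hq₀q
      have hmem : π (q₀ : L) ∈ R' ⊔ Q.map π := (le_sup_right : Q.map π ≤ _) ⟨_, hq₀Q, rfl⟩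
      refine ⟨⟨π (q₀ : L), hmem⟩, ⟨_, hq₀Q, rfl⟩, ?_⟩
      show π k * π (q₀ : L) * (π k)⁻¹ = π q
      rw [← hq₀q]
      simp only [map_mul, map_inv]

/-- constrainedness passes to the quotient by the centre -/
theorem constrained_quotient_center (hF : (groupFusionSystem (P : Subgroup L)).IsConstrained p) :
    (groupFusionSystem ((P : Subgroup L).map (QuotientGroup.mk' (Subgroup.center L)))).IsConstrained p := by
  have hD := centralizer_mod_center_le_core P hF
  obtain ⟨hFs, Q₀, hQ₀n, hQ₀c⟩ := hF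
  have hQn : (groupFusionSystem (P : Subgroup L)).IsNormal (groupFusionSystem (P : Subgroup L)).core :=
    Cfsg.Agent.Lib.Helper1.isNormal_core _
  have hQ'n := isNormal_map_center P hQn
  have hsurj : Function.Surjective (QuotientGroup.mk' (Subgroup.center L)) :=
    QuotientGroup.mk'_surjective _
  have hsat : (groupFusionSystem ((P : Subgroup L).map (QuotientGroup.mk' (Subgroup.center L)))).IsSaturated p :=
    Cfsg.Agent.S5076.result p (P.mapSurjective hsurj)
  have : Finite ↥((P : Subgroup L).map (QuotientGroup.mk' (Subgroup.center L))) := inferInstance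
  refine ⟨hsat, _, hQ'n, Subgroup.map_mono hQn.1, ?_⟩
  rintro Q'' ⟨φ, hφ, rfl⟩
  have hwc := weaklyClosed_of_stronglyClosed _ (stronglyClosed_of_isNormal _ hQ'n)
  rw [hwc.2 φ hφ]
  intro c hc
  obtain ⟨y, hy, rfl⟩ := hc.1
  have hyD : y ∈ (P : Subgroup L) ⊓ (Subgroup.centralizer
      (((groupFusionSystem (P : Subgroup L)).core.map (QuotientGroup.mk' (Subgroup.center L)) :
        Subgroup (L ⧸ Subgroup.center L)) : Set (L ⧸ Subgroup.center L))).comap
          (QuotientGroup.mk' (Subgroup.center L)) := ⟨hy, hc.2⟩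
  exact ⟨y, hD hyD, rfl⟩

end main

end Cfsg.Agent.Lib.Helper29
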