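import Cfsg.Agent.Lib.Helper29.FusionAlperin
import Cfsg.Agent.S5077
import Cfsg.Agent.S5097

set_option autoImplicit false
open Cfsg

namespace Cfsg.Agent.Lib.Helper29

variable {Ω : Type*} [Group Ω] {S : Subgroup Ω}

/-- a map onto a receptive subgroup `Z'` extends to any `P` between `Z` and `C_S(Z)`, with values in
`C_S(Z')` -/
theorem exists_ext_of_le_centralizer (F : FusionSystem S) {Z' : Subgroup Ω} (hrec : F.IsReceptive Z')
    {Z P : Subgroup Ω} (hZP : Z ≤ P) (hPC : P ≤ FusionSystem.centralizerIn S Z) {ψ : Z →* Ω}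
    (hψ : ψ ∈ F.Hom Z) (hr : ψ.range = Z') :
    ∃ a ∈ F.Hom P, (∀ x : Z, a (Subgroup.inclusion hZP x) = ψ x) ∧
      ∀ x : P, a x ∈ FusionSystem.centralizerIn S Z' := by
  obtain ⟨ψh, hψh, hext⟩ := hrec.2 Z ψ hψ hr
  have hle : P ≤ FusionSystem.extender S Z ψ := hPC.trans (centralizerIn_le_extender _ _)
  refine ⟨ψh.comp (Subgroup.inclusion hle), restrict_mem F hle hψh, fun x => ?_, fun x => ?_⟩
  · exact hext x.1 x.2 _
  · exact ext_centralizer F hψ hr hψh hext x.1 (hPC x.2)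

/-- a nontrivial finite `p`-group has a central element of order `p` -/
theorem exists_central_order_p {P : Type*} [Group P] [Finite P] [Nontrivial P] {p : ℕ} [Fact p.Prime]
    (hP : IsPGroup p P) : ∃ z : P, z ∈ Subgroup.center P ∧ orderOf z = p := by
  have hnt : Nontrivial (Subgroup.center P) := hP.center_nontrivial
  have hcp : IsPGroup p (Subgroup.center P) := hP.to_subgroup _
  obtain ⟨n, hn⟩ := IsPGroup.iff_card.1 hcp
  have hn0 : n ≠ 0 := by
    rintro rfl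
    rw [pow_zero] at hn
    have : Subsingleton (Subgroup.center P) := (Nat.card_eq_one_iff_unique.1 hn).1
    exact not_subsingleton _ this
  have hdvd : p ∣ Nat.card (Subgroup.center P) := by
    rw [hn]
    exact dvd_pow_self p hn0
  obtain ⟨x, hx⟩ := exists_prime_orderOf_dvd_card' p hdvd
  exact ⟨x, x.2, by rw [Subgroup.orderOf_coe]; exact hx⟩

theorem hom_mem_of_centralizer_control [Finite S] (p : ℕ) [Fact p.Prime] (hS : IsPGroup p S)
    (F : FusionSystem S) (F' : FusionSystem S) (hF' : F'.IsSaturated p) (hle : F' ≤ F)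
    (hZ : ∀ Z : Subgroup Ω, Z ≤ S → Nat.card Z = p → F'.IsFullyCentralized Z → F.Hom Z = F'.Hom Z ∧
      ∀ (C C' : FusionSystem (FusionSystem.centralizerIn S Z)), F.IsCentralizerSystem Z C →
        F'.IsCentralizerSystem Z C' → ∀ P : Subgroup Ω, C.Hom P = C'.Hom P)
    {P : Subgroup Ω} {φ : P →* Ω} (hφ : φ ∈ F.Hom P) : φ ∈ F'.Hom P := by
  have hPS := (F.le_of_mem hφ).1
  have hfinP : Finite P := finite_of_le hPS
  by_cases hPbot : P = ⊥
  · subst hPbot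
    have : φ = (⊥ : Subgroup Ω).subtype := by
      ext x
      have hx : x = 1 := Subsingleton.elim _ _
      rw [hx, map_one, map_one]
    rw [this]
    exact subtype_mem F' bot_le
  have hnt : Nontrivial P := (Subgroup.nontrivial_iff_ne_bot P).2 hPbot
  obtain ⟨z₀, hz₀c, hz₀o⟩ := exists_central_order_p (hS.to_le hPS)
  set Z := Subgroup.zpowers (z₀ : Ω) with hZdef
  have hZP : Z ≤ P := by
    rw [hZdef, Subgroup.zpowers_le]
    exact z₀.2
  have hZcard : Nat.card Z = p := by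
    rw [hZdef, Nat.card_zpowers, Subgroup.orderOf_coe, hz₀o]
  have hcomm : ∀ x : P, ∀ w : Z, (w : Ω) * x = x * w := by
    intro x w
    obtain ⟨k, hk⟩ := Subgroup.mem_zpowers_iff.1 w.2
    rw [← hk]
    have h1 : Commute (z₀ : Ω) x := by
      have := Subgroup.mem_center_iff.1 hz₀c x
      exact (congrArg Subtype.val this).symm
    exact (h1.zpow_left k)
  have hPC : P ≤ FusionSystem.centralizerIn S Z := fun x hx =>
    ⟨hPS hx, Subgroup.mem_centralizer_iff.2 (fun w hw => hcomm ⟨x, hx⟩ ⟨w, hw⟩)⟩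
  have hsat' := (Cfsg.Agent.S5077.result p hS F').1 hF'
  obtain ⟨Z', hconj, hfn⟩ := exists_fullyNormalized_conj F' (hZP.trans hPS)
  have hfc' := (hsat'.1 Z' hfn).1
  have hrec' := hsat'.2 Z' hfc'
  have hZ'S := hfc'.1
  have hZ'card : Nat.card Z' = p := by
    rw [← card_eq_of_isConj F' hconj]
    exact hZcard
  obtain ⟨ψ, hψ, hψr⟩ := hconj
  obtain ⟨hHomZ', hCent⟩ := hZ Z' hZ'S hZ'card hfc'
  obtain ⟨a, ha, haZ, haC⟩ := exists_ext_of_le_centralizer F' hrec' hZP hPC hψ hψr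
  -- the image side
  set φZ : Z →* Ω := φ.comp (Subgroup.inclusion hZP) with hφZdef
  have hφZ : φZ ∈ F.Hom Z := restrict_mem F hZP hφ
  have hZ₁P₁ : φZ.range ≤ φ.range := by
    rintro _ ⟨x, rfl⟩
    exact ⟨_, rfl⟩
  have hP₁C : φ.range ≤ FusionSystem.centralizerIn S φZ.range := by
    rintro _ ⟨x, rfl⟩
    refine ⟨(F.le_of_mem hφ).2 x, ?_⟩
    show φ x ∈ Subgroup.centralizer ((φZ.range : Subgroup Ω) : Set Ω)
    rw [Subgroup.mem_centralizer_iff]
    rintro _ ⟨w, rfl⟩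
    show φ (Subgroup.inclusion hZP w) * φ x = φ x * φ (Subgroup.inclusion hZP w)
    rw [← map_mul, ← map_mul]
    congr 1
    exact Subtype.ext (hcomm x w)
  obtain ⟨ψ', hψ', hψ'e⟩ := exists_inv_iso F' hψ hψr
  have hψ'Z : ∀ y, ψ' y ∈ Z := by
    intro y
    have hy : (y : Ω) ∈ ψ.range := hψr.ge y.2
    obtain ⟨x, hx⟩ := hy
    have e : y = ⟨ψ x, hψr.le ⟨x, rfl⟩⟩ := Subtype.ext hx.symm
    rw [e, hψ'e]
    exact x.2
  set ν : Z' →* Ω := φZ.comp (ψ'.codRestrict Z hψ'Z) with hνdef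
  have hν : ν ∈ F.Hom Z' := F.comp_mem (hle _ hψ') hφZ hψ'Z
  have hν' : ν ∈ F'.Hom Z' := by
    rw [← hHomZ']
    exact hν
  have hνψ : ∀ x : Z, ν ⟨ψ x, hψr.le ⟨x, rfl⟩⟩ = φZ x := by
    intro x
    show φZ (ψ'.codRestrict Z hψ'Z ⟨ψ x, _⟩) = φZ x
    congr 1
    exact Subtype.ext (hψ'e x _)
  have hνr : ν.range = φZ.range := by
    ext y
    constructor
    · rintro ⟨w, rfl⟩
      exact ⟨_, rfl⟩
    · rintro ⟨x, rfl⟩
      exact ⟨_, hνψ x⟩
  obtain ⟨μ, hμ, hμe⟩ := exists_inv_iso F' hν' hνr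
  have hμφ : ∀ (x : Z) (h : φZ x ∈ φZ.range), μ ⟨φZ x, h⟩ = ψ x := by
    intro x h
    have e : (⟨φZ x, h⟩ : φZ.range) = ⟨ν ⟨ψ x, hψr.le ⟨x, rfl⟩⟩, hνr.le ⟨_, rfl⟩⟩ :=
      Subtype.ext (hνψ x).symm
    rw [e, hμe]
  have hμr : μ.range = Z' := by
    ext y
    constructor
    · rintro ⟨⟨_, x, rfl⟩, rfl⟩
      have h1 := hμφ x ⟨x, rfl⟩
      have h2 : ψ x ∈ Z' := hψr.le ⟨x, rfl⟩
      rw [← h1] at h2
      exact h2
    · intro hy
      have hy' : y ∈ ψ.range := hψr.ge hy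
      obtain ⟨x, rfl⟩ := hy'
      exact ⟨⟨φZ x, ⟨x, rfl⟩⟩, hμφ x _⟩
  obtain ⟨b, hb, hbZ, hbC⟩ := exists_ext_of_le_centralizer F' hrec' hZ₁P₁ hP₁C hμ hμr
  -- the map `β = b ∘ φ ∘ a⁻¹` on `a(P)`
  have haR : ∀ x : P, a x ∈ a.range := fun x => MonoidHom.mem_range.2 ⟨x, rfl⟩
  have hφR : ∀ x : P, φ x ∈ φ.range := fun x => MonoidHom.mem_range.2 ⟨x, rfl⟩
  have hφZR : ∀ x : Z, φZ x ∈ φZ.range := fun x => MonoidHom.mem_range.2 ⟨x, rfl⟩
  obtain ⟨a', ha', ha'e⟩ := exists_inv_iso F' ha rfl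
  have ha'P : ∀ y : a.range, a' y ∈ P := by
    intro y
    obtain ⟨x, hx⟩ := y.2
    have e : y = ⟨a x, haR x⟩ := Subtype.ext hx.symm
    rw [e, ha'e x (haR x)]
    exact x.2
  set c₁ : a.range →* Ω := φ.comp (a'.codRestrict P ha'P) with hc₁def
  have hc₁F : c₁ ∈ F.Hom a.range := F.comp_mem (hle _ ha') hφ ha'P
  have hc₁ : ∀ y, c₁ y ∈ φ.range := fun y => hφR _
  set β : a.range →* Ω := b.comp (c₁.codRestrict φ.range hc₁) with hβdef
  have hβF : β ∈ F.Hom a.range := F.comp_mem hc₁F (hle _ hb) hc₁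
  have hβa : ∀ x : P, β ⟨a x, haR x⟩ = b ⟨φ x, hφR x⟩ := by
    intro x
    show b (c₁.codRestrict φ.range hc₁ ⟨a x, haR x⟩) = b ⟨φ x, hφR x⟩
    congr 1
    apply Subtype.ext
    show φ (a'.codRestrict P ha'P ⟨a x, haR x⟩) = φ x
    congr 1
    exact Subtype.ext (ha'e x (haR x))
  have hZ'P' : Z' ≤ a.range := by
    intro y hy
    have hy' : y ∈ ψ.range := hψr.ge hy
    obtain ⟨x, rfl⟩ := hy'
    exact ⟨Subgroup.inclusion hZP x, haZ x⟩
  have hβZ' : ∀ w : Z', β ⟨w, hZ'P' w.2⟩ = w := by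
    intro w
    have hw : (w : Ω) ∈ ψ.range := hψr.ge w.2
    obtain ⟨x, hx⟩ := hw
    have e : (⟨(w : Ω), hZ'P' w.2⟩ : a.range) =
        ⟨a (Subgroup.inclusion hZP x), haR (Subgroup.inclusion hZP x)⟩ := by
      apply Subtype.ext
      show (w : Ω) = a (Subgroup.inclusion hZP x)
      rw [haZ]
      exact hx.symm
    rw [e, hβa]
    have e2 : (⟨φ (Subgroup.inclusion hZP x), hφR (Subgroup.inclusion hZP x)⟩ : φ.range) =
        Subgroup.inclusion hZ₁P₁ ⟨φZ x, hφZR x⟩ := Subtype.ext rfl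
    rw [e2, hbZ, hμφ x (hφZR x), hx]
  have hβcent : β ∈ F.centralizerHom Z' a.range := by
    have hle' : a.range ⊔ Z' ≤ a.range := sup_le le_rfl hZ'P'
    refine ⟨hβF, ?_, fun y => hbC _, β.comp (Subgroup.inclusion hle'), restrict_mem F hle' hβF,
      fun x => ?_, fun w => ?_⟩
    · rintro _ ⟨x, rfl⟩
      exact haC x
    · show β _ = β x
      congr 1
    · exact hβZ' w
  obtain ⟨C, hC⟩ := Cfsg.Agent.S5097.result F Z' hZ'S
  obtain ⟨C', hC'⟩ := Cfsg.Agent.S5097.result F' Z' hZ'S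
  have hβC : β ∈ C.Hom a.range := by
    rw [hC]
    exact hβcent
  rw [hCent C C' hC hC' a.range, hC'] at hβC
  have hβF' : β ∈ F'.Hom a.range := hβC.1
  -- reassemble `φ`
  have hbR : ∀ y : φ.range, b y ∈ b.range := fun y => MonoidHom.mem_range.2 ⟨y, rfl⟩
  obtain ⟨b', hb', hb'e⟩ := exists_inv_iso F' hb rfl
  have hd : β.comp (a.codRestrict a.range haR) ∈ F'.Hom P := F'.comp_mem ha hβF' haR
  have hdval : ∀ x : P, (β.comp (a.codRestrict a.range haR)) x = b ⟨φ x, hφR x⟩ := fun x => hβa x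
  have hdr : ∀ x : P, (β.comp (a.codRestrict a.range haR)) x ∈ b.range := by
    intro x
    rw [hdval]
    exact hbR _
  refine comp_mem' F' hd hb' hdr (fun x => ?_)
  have e : (⟨(β.comp (a.codRestrict a.range haR)) x, hdr x⟩ : b.range) =
      ⟨b ⟨φ x, hφR x⟩, hbR _⟩ := Subtype.ext (hdval x)
  rw [e, hb'e _ (hbR _)]

end Cfsg.Agent.Lib.Helper29
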