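import Cfsg.Agent.Lib.Helper29.SatExtend
import Cfsg.Agent.Lib.Helper29.FusionSub

/-!
If `T` is strongly closed in the saturated system `F`, `P` is `F`-centric and some `F`-conjugate `Q₁` of `P ∩ T`
has `C_T(Q₁) ≰ Q₁`, then some `F`-conjugate `P*` of `P` has `Out_S(P*) ∩ O_p(Out_F(P*)) ≠ 1`.
-/
set_option autoImplicit false

namespace Cfsg.Agent.Lib.Helper29
open Cfsg

variable {Ω : Type*} [Group Ω] {S : Subgroup Ω}

theorem stronglyClosed_conj_mem_cm (F : FusionSystem S) {T : Subgroup Ω} (hT : F.StronglyClosed T) {s t : Ω}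
    (hs : s ∈ S) (ht : t ∈ T) : s * t * s⁻¹ ∈ T :=
  hT.2 T le_rfl (conjHom T s) (F.conj_mem hT.1 hs) ⟨t, ht⟩

theorem stronglyClosed_conj_mem_cm' (F : FusionSystem S) {T : Subgroup Ω} (hT : F.StronglyClosed T) {s t : Ω}
    (hs : s ∈ S) (ht : t ∈ T) : s⁻¹ * t * s ∈ T := by
  have := stronglyClosed_conj_mem_cm F hT (S.inv_mem hs) ht
  rwa [inv_inv] at this

/-- values of a map of `F` at elements of the strongly closed `T` lie in `T` -/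
theorem stronglyClosed_apply_mem (F : FusionSystem S) {T : Subgroup Ω} (hT : F.StronglyClosed T)
    {R : Subgroup Ω} {φ : R →* Ω} (hφ : φ ∈ F.Hom R) (x : R) (hx : (x : Ω) ∈ T) : φ x ∈ T := by
  have h1 := restrict_mem F (inf_le_left : R ⊓ T ≤ R) hφ
  exact hT.2 (R ⊓ T) inf_le_right _ h1 ⟨x.1, ⟨x.2, hx⟩⟩

/-- the stability group of `Q₂ ≤ P*` inside `Aut_F(P*)` -/
def stabChain (F : FusionSystem S) (Ps Q₂ : Subgroup Ω) : Subgroup (F.autGroup Ps) where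
  carrier := {α | (∀ y : Ps, (y : Ω) ∈ Q₂ → α.1 y = y) ∧ ∀ y : Ps, (y : Ω)⁻¹ * ((α.1 y : Ps) : Ω) ∈ Q₂}
  one_mem' := ⟨fun _ _ => rfl, fun y => by
    show (y : Ω)⁻¹ * (y : Ω) ∈ Q₂
    rw [inv_mul_cancel]
    exact Q₂.one_mem⟩
  mul_mem' := by
    rintro α β ⟨hα1, hα2⟩ ⟨hβ1, hβ2⟩
    refine ⟨fun y hy => ?_, fun y => ?_⟩
    · show α.1 (β.1 y) = y
      rw [hβ1 y hy, hα1 y hy]
    · show (y : Ω)⁻¹ * ((α.1 (β.1 y) : Ps) : Ω) ∈ Q₂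
      have e : (y : Ω)⁻¹ * ((α.1 (β.1 y) : Ps) : Ω) =
          ((y : Ω)⁻¹ * ((β.1 y : Ps) : Ω)) * (((β.1 y : Ps) : Ω)⁻¹ * ((α.1 (β.1 y) : Ps) : Ω)) := by group
      rw [e]
      exact Q₂.mul_mem (hβ2 y) (hα2 _)
  inv_mem' := by
    rintro α ⟨hα1, hα2⟩
    refine ⟨fun y hy => ?_, fun y => ?_⟩
    · show α.1⁻¹ y = y
      conv_lhs => rw [← hα1 y hy]
      rw [MulAut.inv_apply_self]
    · show (y : Ω)⁻¹ * ((α.1⁻¹ y : Ps) : Ω) ∈ Q₂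
      have h := hα2 (α.1⁻¹ y)
      rw [MulAut.apply_inv_self] at h
      have e : (y : Ω)⁻¹ * ((α.1⁻¹ y : Ps) : Ω) = (((α.1⁻¹ y : Ps) : Ω)⁻¹ * (y : Ω))⁻¹ := by group
      rw [e]
      exact Q₂.inv_mem h

theorem stabChain_pow {F : FusionSystem S} {Ps Q₂ : Subgroup Ω} {α : F.autGroup Ps}
    (hα : α ∈ stabChain F Ps Q₂) (y : Ps) (hq : (y : Ω)⁻¹ * ((α.1 y : Ps) : Ω) ∈ Ps) (n : ℕ) :
    (((α.1 ^ n) y : Ps) : Ω) = (y : Ω) * ((y : Ω)⁻¹ * ((α.1 y : Ps) : Ω)) ^ n := by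
  induction n with
  | zero => simp
  | succ n ih =>
    have hfix : α.1 ⟨(y : Ω)⁻¹ * ((α.1 y : Ps) : Ω), hq⟩ = ⟨(y : Ω)⁻¹ * ((α.1 y : Ps) : Ω), hq⟩ :=
      hα.1 _ (hα.2 y)
    have e1 : (α.1 ^ n) y = y * (⟨(y : Ω)⁻¹ * ((α.1 y : Ps) : Ω), hq⟩ : Ps) ^ n := Subtype.ext ih
    rw [pow_succ', MulAut.mul_apply, e1, map_mul, map_pow, hfix]
    show ((α.1 y : Ps) : Ω) * ((y : Ω)⁻¹ * ((α.1 y : Ps) : Ω)) ^ n = _
    rw [pow_succ', ← mul_assoc, mul_inv_cancel_left]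


theorem stabChain_isPGroup [Finite S] {p : ℕ} [Fact p.Prime] (hS : IsPGroup p S) (F : FusionSystem S)
    {Ps Q₂ : Subgroup Ω} (hQ₂S : Q₂ ≤ S) : IsPGroup p (stabChain F Ps Q₂) := by
  haveI : Finite Q₂ := finite_of_le hQ₂S
  obtain ⟨k, hk⟩ := (hS.to_le hQ₂S).exists_card_eq
  rintro ⟨α, hα⟩
  refine ⟨k, Subtype.ext (Subtype.ext ?_)⟩
  show ((α ^ p ^ k : F.autGroup Ps) : MulAut Ps) = 1
  rw [Subgroup.coe_pow]
  ext y
  rw [stabChain_pow hα y (Ps.mul_mem (Ps.inv_mem y.2) (α.1 y).2)]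
  have hq := hα.2 y
  have h1 : ((⟨_, hq⟩ : Q₂) ^ (p ^ k)) = 1 := by
    rw [← hk]
    exact pow_card_eq_one'
  have h2 : ((y : Ω)⁻¹ * ((α.1 y : Ps) : Ω)) ^ (p ^ k) = 1 :=
    congrArg (fun z : Q₂ => (z : Ω)) h1
  rw [h2, mul_one]
  rfl

theorem stabChain_normal (F : FusionSystem S) {Ps Q₂ : Subgroup Ω}
    (hinv : ∀ β ∈ F.autGroup Ps, ∀ y : Ps, (y : Ω) ∈ Q₂ → ((β y : Ps) : Ω) ∈ Q₂) :
    (stabChain F Ps Q₂).Normal := by
  constructor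
  rintro α ⟨hα1, hα2⟩ β
  refine ⟨fun y hy => ?_, fun y => ?_⟩
  · show β.1 (α.1 (β.1⁻¹ y)) = y
    have h1 : ((β.1⁻¹ y : Ps) : Ω) ∈ Q₂ := hinv β.1⁻¹ (inv_mem β.2) y hy
    rw [hα1 _ h1, MulAut.apply_inv_self]
  · show (y : Ω)⁻¹ * ((β.1 (α.1 (β.1⁻¹ y)) : Ps) : Ω) ∈ Q₂
    have h2 := hα2 (β.1⁻¹ y)
    have h3 := hinv β.1 β.2 ((β.1⁻¹ y)⁻¹ * α.1 (β.1⁻¹ y)) h2
    rw [map_mul, map_inv, MulAut.apply_inv_self] at h3
    exact h3

/-- main lemma -/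
theorem exists_hat_of_meet_not_centric [Finite S] {p : ℕ} [Fact p.Prime] (hS : IsPGroup p S)
    (F : FusionSystem S) (hF : F.IsSaturated p) {T : Subgroup Ω} (hT : F.StronglyClosed T)
    {P : Subgroup Ω} (hP : F.IsCentric P) {Q₁ : Subgroup Ω} (hconj : F.IsConj (P ⊓ T) Q₁)
    (hQ₁ : ¬ FusionSystem.centralizerIn T Q₁ ≤ Q₁) :
    ∃ φ ∈ F.Hom P, ∃ x ∈ hatSub F p φ.range, x ∉ φ.range := by
  have hPS : P ≤ S := hP.1
  have hP₀S : P ⊓ T ≤ S := inf_le_left.trans hPS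
  obtain ⟨Q₂, hPQ₂, hQ₂fn⟩ := exists_fullyNormalized_conj F hP₀S
  have hsat := (Cfsg.Agent.S5077.result p hS F).1 hF
  obtain ⟨hQ₂fc, hQ₂fa⟩ := hsat.1 Q₂ hQ₂fn
  have hQ₂rec := hsat.2 Q₂ hQ₂fc
  have hQ₂S : Q₂ ≤ S := hQ₂fa.1
  -- `C_T(Q₂) ≰ Q₂`
  have hQ₂ : ¬ FusionSystem.centralizerIn T Q₂ ≤ Q₂ := by
    intro hle
    obtain ⟨χ, hχ, hχr⟩ := isConj_trans F (isConj_symm F hconj) hPQ₂
    obtain ⟨χh, hχh, hext⟩ := hQ₂rec.2 Q₁ χ hχ hχr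
    apply hQ₁
    intro c hc
    have hcS : c ∈ FusionSystem.centralizerIn S Q₁ := ⟨hT.1 hc.1, hc.2⟩
    have h1 := ext_centralizer F hχ hχr hχh hext c hcS
    have h2 : χh ⟨c, centralizerIn_le_extender Q₁ χ hcS⟩ ∈ T :=
      stronglyClosed_apply_mem F hT hχh _ hc.1
    have h3 : χh ⟨c, centralizerIn_le_extender Q₁ χ hcS⟩ ∈ Q₂ := hle ⟨h2, h1.2⟩
    rw [← hχr] at h3
    obtain ⟨x, hx⟩ := h3
    rw [← hext x.1 x.2 (le_extender F hχ x.2)] at hx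
    have h4 := F.injective_of_mem hχh hx
    have h5 : (x : Ω) = c := congrArg (fun z : FusionSystem.extender S Q₁ χ => (z : Ω)) h4
    rw [← h5]
    exact x.2
  -- the map on `N_S(P ∩ T)`
  obtain ⟨ψ, hψ, _, hψQ, hψmap⟩ := exists_hom_normalizer p hS F Q₂ (P ⊓ T) hQ₂fa hQ₂rec hPQ₂
  have hPN : P ≤ FusionSystem.normalizerIn S (P ⊓ T) := by
    intro x hx
    refine ⟨hPS hx, ?_⟩
    haveI : Finite ↥(P ⊓ T) := finite_of_le hP₀S
    apply mem_normalizer_of_conj_le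
    intro y hy
    exact ⟨P.mul_mem (P.mul_mem hx hy.1) (P.inv_mem hx), stronglyClosed_conj_mem_cm F hT (hPS hx) hy.2⟩
  have hφ : ψ.comp (Subgroup.inclusion hPN) ∈ F.Hom P := restrict_mem F hPN hψ
  refine ⟨ψ.comp (Subgroup.inclusion hPN), hφ, ?_⟩
  have hPsS : (ψ.comp (Subgroup.inclusion hPN)).range ≤ S := range_le_of_hom_mem F hφ
  obtain ⟨ψ', hψ', hψ'e⟩ := exists_inv_iso F hφ rfl
  have hmeet : ∀ y, y ∈ (ψ.comp (Subgroup.inclusion hPN)).range → y ∈ T → y ∈ Q₂ := by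
    rintro _ ⟨x, rfl⟩ hyT
    have h1 := stronglyClosed_apply_mem F hT hψ' ⟨_, ⟨x, rfl⟩⟩ hyT
    rw [hψ'e x ⟨x, rfl⟩] at h1
    exact hψQ x.1 ⟨x.2, h1⟩ (hPN x.2)
  have hQ₂Ps : Q₂ ≤ (ψ.comp (Subgroup.inclusion hPN)).range := by
    intro y hy
    rw [← hψmap] at hy
    obtain ⟨x', hx', rfl⟩ := hy
    exact ⟨⟨x'.1, hx'.1⟩, rfl⟩
  have hQ₂T : Q₂ ≤ T := by
    intro y hy
    obtain ⟨x, hx⟩ := hQ₂Ps hy
    rw [← hψmap] at hy
    obtain ⟨x', hx', rfl⟩ := hy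
    exact stronglyClosed_apply_mem F hT hψ x' hx'.2
  -- `P*` normalizes `C_T(Q₂)`
  have hCS : FusionSystem.centralizerIn T Q₂ ≤ S := inf_le_left.trans hT.1
  have hnormQ₂ : ∀ y ∈ (ψ.comp (Subgroup.inclusion hPN)).range, ∀ q ∈ Q₂, y⁻¹ * q * y ∈ Q₂ := by
    intro y hy q hq
    apply hmeet
    · exact Subgroup.mul_mem _ (Subgroup.mul_mem _ (Subgroup.inv_mem _ hy) (hQ₂Ps hq)) hy
    · exact stronglyClosed_conj_mem_cm' F hT (hPsS hy) (hQ₂T hq)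
  have hPsC : (ψ.comp (Subgroup.inclusion hPN)).range ≤
      Subgroup.normalizer ((FusionSystem.centralizerIn T Q₂ : Subgroup Ω) : Set Ω) := by
    intro y hy
    haveI : Finite ↥(FusionSystem.centralizerIn T Q₂) := finite_of_le hCS
    apply mem_normalizer_of_conj_le
    intro c hc
    refine ⟨stronglyClosed_conj_mem_cm F hT (hPsS hy) hc.1, ?_⟩
    show y * c * y⁻¹ ∈ Subgroup.centralizer (Q₂ : Set Ω)
    rw [Subgroup.mem_centralizer_iff]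
    intro q hq
    have hc2 : c ∈ Subgroup.centralizer (Q₂ : Set Ω) := hc.2
    have h1 := Subgroup.mem_centralizer_iff.1 hc2 _ (hnormQ₂ y hy q hq)
    calc q * (y * c * y⁻¹) = y * ((y⁻¹ * q * y) * c) * y⁻¹ := by group
      _ = y * (c * (y⁻¹ * q * y)) * y⁻¹ := by rw [h1]
      _ = y * c * y⁻¹ * q := by group
  have hnle : ¬ FusionSystem.centralizerIn T Q₂ ≤ (ψ.comp (Subgroup.inclusion hPN)).range := by
    intro hle
    exact hQ₂ (fun c hc => hmeet c (hle hc) hc.1)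
  obtain ⟨c, hcC, hcN, hcP⟩ := exists_normalizing_not_mem hS hCS hPsS hPsC hnle
  refine ⟨c, ?_, hcP⟩
  have hcS : c ∈ S := hCS hcC
  refine mem_hatSub.2 ⟨hcS, hcN, ?_⟩
  -- the stability group
  have hinv : ∀ β ∈ F.autGroup (ψ.comp (Subgroup.inclusion hPN)).range,
      ∀ y : (ψ.comp (Subgroup.inclusion hPN)).range, (y : Ω) ∈ Q₂ → ((β y :
        (ψ.comp (Subgroup.inclusion hPN)).range) : Ω) ∈ Q₂ := by
    intro β hβ y hy
    apply hmeet _ (β y).2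
    exact stronglyClosed_apply_mem F hT ((mem_autGroup_iff F hPsS).1 hβ) y (hQ₂T hy)
  haveI hKn := stabChain_normal F hinv
  have hKp := stabChain_isPGroup hS F (Ps := (ψ.comp (Subgroup.inclusion hPN)).range) hQ₂S
  have hK := le_pCore' hKn hKp
  have hcA := normalizerMonoidHom_mem_autGroup F hPsS hcS hcN
  refine ⟨⟨_, hcA⟩, hK ⟨fun y hy => ?_, fun y => ?_⟩, rfl⟩
  · apply Subtype.ext
    show c * (y : Ω) * c⁻¹ = y
    have hc2 : c ∈ Subgroup.centralizer (Q₂ : Set Ω) := hcC.2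
    have h1 := Subgroup.mem_centralizer_iff.1 hc2 _ hy
    rw [← h1]
    group
  · show (y : Ω)⁻¹ * (c * (y : Ω) * c⁻¹) ∈ Q₂
    apply hmeet
    · have h1 : c * (y : Ω) * c⁻¹ ∈ (ψ.comp (Subgroup.inclusion hPN)).range :=
        (Subgroup.mem_normalizer_iff.1 hcN _).1 y.2
      exact Subgroup.mul_mem _ (Subgroup.inv_mem _ y.2) h1
    · have h1 : (y : Ω)⁻¹ * c * (y : Ω) ∈ T := stronglyClosed_conj_mem_cm' F hT (hPsS y.2) hcC.1
      have e : (y : Ω)⁻¹ * (c * (y : Ω) * c⁻¹) = ((y : Ω)⁻¹ * c * (y : Ω)) * c⁻¹ := by group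
      rw [e]
      exact T.mul_mem h1 (T.inv_mem hcC.1)

/-- a centric subgroup with a conjugate `P*` and an element of `N_S(P*) ∖ P*` inducing an element of
`O_p(Aut_F(P*))` is not radical -/
theorem not_radical_of_hat [Finite S] {p : ℕ} [Fact p.Prime] (F : FusionSystem S)
    {P : Subgroup Ω} (hP : F.IsCentric P) {φ : P →* Ω} (hφ : φ ∈ F.Hom P) {x : Ω}
    (hx : x ∈ hatSub F p φ.range) (hxn : x ∉ φ.range) : ¬ F.IsRadical p P := by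
  rintro ⟨_, hrad⟩
  obtain ⟨hxS, hxN, hxO⟩ := mem_hatSub.1 hx
  have hPsc : F.IsCentric φ.range := isCentric_of_isConj F hP ⟨φ, hφ, rfl⟩
  have hcen := hPsc.2 φ.range (isConj_refl F hPsc.1)
  have h1 : MulAut.congr (isoOfHom F hφ rfl).symm (φ.range.normalizerMonoidHom ⟨x, hxN⟩) ∈ opAut F p P := by
    rw [opAut_congr F p hφ rfl]
    have e := congr_symm_congr (isoOfHom F hφ rfl).symm (φ.range.normalizerMonoidHom ⟨x, hxN⟩)
    rw [MulEquiv.symm_symm] at e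
    rw [e]
    exact hxO
  have h2 : MulAut.congr (isoOfHom F hφ rfl).symm (φ.range.normalizerMonoidHom ⟨x, hxN⟩) ∈ Inn P := by
    rw [← hrad]
    exact h1
  obtain ⟨g, hg⟩ := h2
  -- `x` acts on `P*` as `φ g`
  apply hxn
  have hkey : ∀ z : φ.range, x * (z : Ω) * x⁻¹ = φ g * (z : Ω) * (φ g)⁻¹ := by
    intro z
    have h3 := congrArg (fun a : MulAut P => ((isoOfHom F hφ rfl (a ((isoOfHom F hφ rfl).symm z)) : φ.range) : Ω)) hg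
    simp only [congr_apply, MulEquiv.symm_symm, MulEquiv.apply_symm_apply] at h3
    have h4 : ((φ.range.normalizerMonoidHom ⟨x, hxN⟩ z : φ.range) : Ω) = x * (z : Ω) * x⁻¹ := rfl
    rw [h4] at h3
    rw [← h3]
    show ((isoOfHom F hφ rfl (g * (isoOfHom F hφ rfl).symm z * g⁻¹) : φ.range) : Ω) = _
    rw [map_mul, map_mul, map_inv, MulEquiv.apply_symm_apply]
    rfl
  have hc : (φ g)⁻¹ * x ∈ FusionSystem.centralizerIn S φ.range := by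
    refine ⟨S.mul_mem (S.inv_mem ((F.le_of_mem hφ).2 g)) hxS, ?_⟩
    show (φ g)⁻¹ * x ∈ Subgroup.centralizer (φ.range : Set Ω)
    rw [Subgroup.mem_centralizer_iff]
    intro z hz
    have h5 := hkey ⟨z, hz⟩
    have h6 : x * z = φ g * z * (φ g)⁻¹ * x := by
      calc x * z = (x * z * x⁻¹) * x := by group
        _ = φ g * z * (φ g)⁻¹ * x := by rw [h5]
    calc z * ((φ g)⁻¹ * x) = (φ g)⁻¹ * (φ g * z * (φ g)⁻¹ * x) := by group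
      _ = (φ g)⁻¹ * (x * z) := by rw [h6]
      _ = (φ g)⁻¹ * x * z := by group
  have h7 := hcen hc
  have h8 : x = φ g * ((φ g)⁻¹ * x) := by group
  rw [h8]
  exact Subgroup.mul_mem _ ⟨g, rfl⟩ h7
end Cfsg.Agent.Lib.Helper29
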