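import Mathlib.GroupTheory.Sylow
import Mathlib.GroupTheory.Index
import Mathlib.GroupTheory.PGroup

/-!
A `1`-cocycle of a group `G` with values in an abelian group on which the index of a subgroup `T` acts
bijectively by powers, vanishing on `T`, is a coboundary.
-/
set_option autoImplicit false

namespace Cfsg.Agent.Lib.Helper29

theorem exists_coboundary_of_trivial_on {G A : Type*} [Group G] [CommGroup A] (T : Subgroup G) [T.FiniteIndex]
    (ρ : G →* MulAut A) (f : G → A) (hf : ∀ g h, f (g * h) = f g * ρ g (f h))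
    (hfT : ∀ s ∈ T, f s = 1) (hinj : Function.Injective (fun a : A => a ^ T.index))
    (hsurj : Function.Surjective (fun a : A => a ^ T.index)) :
    ∃ b : A, ∀ g, f g = b * (ρ g b)⁻¹ := by
  classical
  haveI : Fintype (G ⧸ T) := Fintype.ofFinite _
  have hcos : ∀ g s, s ∈ T → f (g * s) = f g := by
    intro g s hs
    rw [hf, hfT s hs, map_one, mul_one]
  have hcos' : ∀ (g : G) (q : G ⧸ T), f (g * q.out) = f ((g • q).out) := by
    intro g q
    have h1 : ((g • q).out)⁻¹ * (g * q.out) ∈ T := by
      rw [← QuotientGroup.eq]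
      rw [QuotientGroup.out_eq']
      have : ((g * q.out : G) : G ⧸ T) = g • ((q.out : G) : G ⧸ T) := rfl
      rw [this, QuotientGroup.out_eq']
    have h2 : g * q.out = (g • q).out * (((g • q).out)⁻¹ * (g * q.out)) := by group
    rw [h2]
    exact hcos _ _ h1
  set a := ∏ q : G ⧸ T, f q.out with ha
  have key : ∀ g, ρ g a = ((f g)⁻¹) ^ T.index * a := by
    intro g
    rw [ha, map_prod]
    have h3 : ∀ q : G ⧸ T, ρ g (f q.out) = (f g)⁻¹ * f ((g • q).out) := by
      intro q
      rw [← hcos', hf, inv_mul_cancel_left]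
    simp_rw [h3]
    rw [Finset.prod_mul_distrib, Finset.prod_const, Finset.card_univ]
    congr 1
    · rw [Subgroup.index_eq_card, Nat.card_eq_fintype_card]
    · exact Fintype.prod_equiv (MulAction.toPerm g) _ _ (fun q => rfl)
  obtain ⟨b, hb⟩ := hsurj a
  refine ⟨b, fun g => ?_⟩
  apply hinj
  show (f g) ^ T.index = (b * (ρ g b)⁻¹) ^ T.index
  have hb' : b ^ T.index = a := hb
  rw [mul_pow, inv_pow, ← map_pow, hb', key, mul_inv, inv_pow, inv_inv, mul_comm a, mul_assoc,
    inv_mul_cancel, mul_one]

end Cfsg.Agent.Lib.Helper29
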