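import Cfsg.Agent.Lib.Helper29.FusionInvariant

/-!
The largest `Aut_F(S)`-invariant subsystem of a fusion system `E` over `S`.
-/
set_option autoImplicit false

namespace Cfsg.Agent.Lib.Helper29
open Cfsg

variable {Ω : Type*} [Group Ω] {S : Subgroup Ω}

/-- `P'` is the image of `P ∩ S` under the automorphism `α` of `S` -/
def IsAutImg (α : MulAut S) (P P' : Subgroup Ω) : Prop :=
  ∀ y, y ∈ P' ↔ ∃ (x : Ω) (hx : x ∈ S), x ∈ P ∧ ((α ⟨x, hx⟩ : S) : Ω) = y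

/-- `χ` is the transport of `φ` along the automorphism `α` of `S` -/
def IsTransport (α : MulAut S) {P P' : Subgroup Ω} (φ : P →* Ω) (χ : P' →* Ω) : Prop :=
  ∀ (x : P) (hx : (x : Ω) ∈ S) (hφx : φ x ∈ S) (h1 : ((α ⟨x, hx⟩ : S) : Ω) ∈ P'),
    χ ⟨α ⟨x, hx⟩, h1⟩ = ((α ⟨φ x, hφx⟩ : S) : Ω)

theorem isAutImg_map (α : MulAut S) (P : Subgroup Ω) :
    IsAutImg α P ((P.subgroupOf S).map (S.subtype.comp α.toMonoidHom)) := by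
  intro y
  constructor
  · rintro ⟨x, hx, rfl⟩
    exact ⟨x.1, x.2, hx, rfl⟩
  · rintro ⟨x, hx, hxP, rfl⟩
    exact ⟨⟨x, hx⟩, hxP, rfl⟩

theorem IsAutImg.le {α : MulAut S} {P P' : Subgroup Ω} (h : IsAutImg α P P') : P' ≤ S := by
  intro y hy
  obtain ⟨x, hx, _, rfl⟩ := (h y).1 hy
  exact (α ⟨x, hx⟩).2

theorem IsAutImg.mem {α : MulAut S} {P P' : Subgroup Ω} (h : IsAutImg α P P') {x : Ω} (hx : x ∈ S)
    (hxP : x ∈ P) : ((α ⟨x, hx⟩ : S) : Ω) ∈ P' :=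
  (h _).2 ⟨x, hx, hxP, rfl⟩

theorem IsAutImg.comp {α β : MulAut S} {P P' P'' : Subgroup Ω} (h : IsAutImg α P P')
    (h' : IsAutImg β P' P'') : IsAutImg (β * α) P P'' := by
  intro y
  rw [h' y]
  constructor
  · rintro ⟨x', hx', hx'P', rfl⟩
    obtain ⟨x, hx, hxP, rfl⟩ := (h x').1 hx'P'
    exact ⟨x, hx, hxP, rfl⟩
  · rintro ⟨x, hx, hxP, rfl⟩
    exact ⟨_, (α ⟨x, hx⟩).2, h.mem hx hxP, rfl⟩

section core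

variable (E F : FusionSystem S)

/-- membership in the invariant core -/
def InCore (P : Subgroup Ω) (φ : P →* Ω) : Prop :=
  φ ∈ E.Hom P ∧ ∀ α ∈ F.autGroup S, ∀ P' : Subgroup Ω, IsAutImg α P P' →
    ∃ χ ∈ E.Hom P', IsTransport α φ χ

variable {E F}

theorem inCore_conj {P : Subgroup Ω} {g : Ω} (hP : P ≤ S) (hg : g ∈ S) : InCore E F P (conjHom P g) := by
  refine ⟨E.conj_mem hP hg, fun α _ P' hP' => ?_⟩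
  refine ⟨conjHom P' (α ⟨g, hg⟩), E.conj_mem hP'.le (α ⟨g, hg⟩).2, fun x hx hφx h1 => ?_⟩
  show ((α ⟨g, hg⟩ : S) : Ω) * (α ⟨x, hx⟩ : S) * ((α ⟨g, hg⟩ : S) : Ω)⁻¹ = _
  have e : (⟨conjHom P g x, hφx⟩ : S) = ⟨g, hg⟩ * ⟨x, hx⟩ * (⟨g, hg⟩ : S)⁻¹ := Subtype.ext rfl
  rw [e, map_mul, map_mul, map_inv]
  rfl

theorem inCore_comp {P Q : Subgroup Ω} {φ : P →* Ω} {ψ : Q →* Ω} (hφ : InCore E F P φ)
    (hψ : InCore E F Q ψ) (h : ∀ x : P, φ x ∈ Q) : InCore E F P (ψ.comp (φ.codRestrict Q h)) := by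
  refine ⟨E.comp_mem hφ.1 hψ.1 h, fun α hα P' hP' => ?_⟩
  have hPS : P ≤ S := (E.le_of_mem hφ.1).1
  have hφS : ∀ x, φ x ∈ S := (E.le_of_mem hφ.1).2
  obtain ⟨χφ, hχφ, rφ⟩ := hφ.2 α hα P' hP'
  obtain ⟨χψ, hχψ, rψ⟩ := hψ.2 α hα _ (isAutImg_map α Q)
  have h' : ∀ y : P', χφ y ∈ (Q.subgroupOf S).map (S.subtype.comp α.toMonoidHom) := by
    intro y
    obtain ⟨x, hx, hxP, hxy⟩ := (hP' y).1 y.2
    have e : y = ⟨α ⟨x, hx⟩, hP'.mem hx hxP⟩ := Subtype.ext hxy.symm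
    rw [e, rφ ⟨x, hxP⟩ hx (hφS _) _]
    exact (isAutImg_map α Q).mem (hφS _) (h _)
  refine ⟨χψ.comp (χφ.codRestrict _ h'), E.comp_mem hχφ hχψ h', fun x hx hφx h1 => ?_⟩
  have e1 : (χφ.codRestrict _ h') ⟨α ⟨x, hx⟩, h1⟩ =
      ⟨α ⟨φ x, hφS x⟩, (isAutImg_map α Q).mem (hφS x) (h x)⟩ := Subtype.ext (rφ x hx (hφS x) h1)
  show χψ ((χφ.codRestrict _ h') ⟨α ⟨x, hx⟩, h1⟩) = _
  rw [e1]
  exact rψ ⟨φ x, h x⟩ (hφS x) hφx _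

theorem inCore_inv {P : Subgroup Ω} {φ : P →* Ω} (hφ : InCore E F P φ) {ψ : φ.range →* Ω}
    (hψ : ψ ∈ E.Hom φ.range) (hinv : ∀ x : P, ψ ⟨φ x, ⟨x, rfl⟩⟩ = (x : Ω)) : InCore E F φ.range ψ := by
  refine ⟨hψ, fun α hα R' hR' => ?_⟩
  have hPS : P ≤ S := (E.le_of_mem hφ.1).1
  have hφS : ∀ x, φ x ∈ S := (E.le_of_mem hφ.1).2
  obtain ⟨χφ, hχφ, rφ⟩ := hφ.2 α hα _ (isAutImg_map α P)
  have hP' := isAutImg_map α P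
  obtain ⟨ι, hι, hιv⟩ := E.inv_mem hχφ
  have hrange : χφ.range = R' := by
    ext z
    rw [hR' z]
    constructor
    · rintro ⟨y, rfl⟩
      obtain ⟨x, hx, hxP, hxy⟩ := (hP' y).1 y.2
      have e : y = ⟨α ⟨x, hx⟩, hP'.mem hx hxP⟩ := Subtype.ext hxy.symm
      rw [e, rφ ⟨x, hxP⟩ hx (hφS _) _]
      exact ⟨φ ⟨x, hxP⟩, hφS _, ⟨_, rfl⟩, rfl⟩
    · rintro ⟨w, hw, ⟨x, rfl⟩, rfl⟩
      exact ⟨⟨α ⟨x, hPS x.2⟩, hP'.mem (hPS x.2) x.2⟩, rφ x (hPS x.2) hw _⟩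
  obtain ⟨ι', hι', hι'v⟩ := hom_of_eq E hrange hι
  refine ⟨ι', hι', fun z hz hψz h1 => ?_⟩
  obtain ⟨x, hx⟩ := z.2
  have ez : z = ⟨φ x, ⟨x, rfl⟩⟩ := Subtype.ext hx.symm
  subst ez
  have h2 : ((α ⟨φ x, hz⟩ : S) : Ω) ∈ χφ.range := hrange ▸ h1
  rw [hι'v _ h2 h1]
  have e2 : (⟨((α ⟨φ x, hz⟩ : S) : Ω), h2⟩ : χφ.range) =
      ⟨χφ ⟨α ⟨x, hPS x.2⟩, hP'.mem (hPS x.2) x.2⟩, ⟨_, rfl⟩⟩ :=
    Subtype.ext (rφ x (hPS x.2) hz _).symm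
  rw [e2, hιv]
  show ((α ⟨x, hPS x.2⟩ : S) : Ω) = ((α ⟨ψ ⟨φ x, ⟨x, rfl⟩⟩, hψz⟩ : S) : Ω)
  congr 2
  exact Subtype.ext (hinv x).symm

variable (E F)

/-- the invariant core as a fusion system -/
theorem exists_invariantCore : ∃ E₀ : FusionSystem S,
    ∀ (P : Subgroup Ω) (φ : P →* Ω), φ ∈ E₀.Hom P ↔ InCore E F P φ := by
  refine ⟨{
    Hom := fun P => {φ | InCore E F P φ}
    le_of_mem := fun h => E.le_of_mem h.1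
    injective_of_mem := fun h => E.injective_of_mem h.1
    conj_mem := fun hP hg => inCore_conj hP hg
    comp_mem := fun hφ hψ h => inCore_comp hφ hψ h
    inv_mem := ?_ }, fun P φ => Iff.rfl⟩
  intro P φ hφ
  obtain ⟨ψ, hψ, hinv⟩ := E.inv_mem hφ.1
  exact ⟨ψ, inCore_inv hφ hψ hinv, hinv⟩

end core

/-- the invariant core satisfies the invariance condition -/
theorem invCond_of_core {E F E₀ : FusionSystem S}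
    (hE₀ : ∀ (P : Subgroup Ω) (φ : P →* Ω), φ ∈ E₀.Hom P ↔ InCore E F P φ) : InvCond E₀ F := by
  intro P hPS φ hφ α hα
  have hφc := (hE₀ P φ).1 hφ
  have hφS : ∀ x, φ x ∈ S := (E.le_of_mem hφc.1).2
  have hP' := isAutImg_map α P
  obtain ⟨χ, hχ, rχ⟩ := hφc.2 α hα _ hP'
  refine ⟨χ, (hE₀ _ χ).2 ⟨hχ, fun β hβ P'' hP'' => ?_⟩, fun x hφx hαx => rχ x (hPS x.2) hφx hαx⟩
  have hcomp := hP'.comp hP''
  obtain ⟨χ'', hχ'', rχ''⟩ := hφc.2 (β * α) ((F.autGroup S).mul_mem hβ hα) P'' hcomp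
  refine ⟨χ'', hχ'', fun y hy hχy h1 => ?_⟩
  obtain ⟨x, hx, hxP, hxy⟩ := (hP' y).1 y.2
  have e : y = ⟨α ⟨x, hx⟩, hP'.mem hx hxP⟩ := Subtype.ext hxy.symm
  subst e
  have h2 : (((β * α) ⟨x, hx⟩ : S) : Ω) ∈ P'' := hcomp.mem hx hxP
  have r1 := rχ'' ⟨x, hxP⟩ hx (hφS _) h2
  have r2 := rχ ⟨x, hxP⟩ hx (hφS _) (hP'.mem hx hxP)
  have e3 : (⟨χ ⟨α ⟨x, hx⟩, hP'.mem hx hxP⟩, hχy⟩ : S) = α ⟨φ ⟨x, hxP⟩, hφS _⟩ := Subtype.ext r2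
  rw [e3]
  exact r1

end Cfsg.Agent.Lib.Helper29
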