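import Cfsg.Agent.Lib.Helper29.KNormSat

set_option autoImplicit false
open Cfsg

namespace Cfsg.Agent.Lib.Helper29

variable {Ω : Type*} [Group Ω] {S : Subgroup Ω}

variable {F : FusionSystem S} {Q : Subgroup Ω} {K : Subgroup (MulAut Q)} {N₀ : Subgroup Ω}
  {E : FusionSystem N₀}

/-- the `K`-normalizer system of a fully `K`-normalized subgroup is saturated -/
theorem KNorm.saturated [Finite S] {p : ℕ} [Fact p.Prime] (hS : IsPGroup p S) (hF : F.IsSaturated p)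
    (h : KNorm F Q K N₀ E) : E.IsSaturated p := by
  intro P hP
  obtain ⟨P', hconj, hg⟩ := exists_goodK_conj hS hF h hP
  exact ⟨P', hconj, fullyAutomized_of_goodK h hg, receptive_of_goodK hS h hg⟩

/-- `NKmark` lies in the normalizer of the image -/
theorem NKmark_le_normalizerIn [Finite S] (F : FusionSystem S) {Q : Subgroup Ω} (K : Subgroup (MulAut Q))
    {ψ₀ : Q →* Ω} (hψ₀ : ψ₀ ∈ F.Hom Q) : NKmark S K ψ₀ ≤ FusionSystem.normalizerIn S ψ₀.range := by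
  have hfin : Finite ψ₀.range := finite_of_le (range_le_of_hom_mem F hψ₀)
  unfold NKmark
  rw [Subgroup.closure_le]
  rintro s ⟨hsS, κ, _, hκe⟩
  refine ⟨hsS, ?_⟩
  apply mem_normalizer_of_conj_le
  rintro _ ⟨x, rfl⟩
  rw [hκe]
  exact ⟨_, rfl⟩

theorem knorm_of_normalizerSystem [Finite S] {p : ℕ} [Fact p.Prime] (hS : IsPGroup p S)
    (hF : F.IsSaturated p) (hQ : F.IsFullyNormalized Q)
    {E : FusionSystem (FusionSystem.normalizerIn S Q)} (hE : F.IsNormalizerSystem Q E) :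
    KNorm F Q ⊤ (FusionSystem.normalizerIn S Q) E := by
  have hsat := (Cfsg.Agent.S5077.result p hS F).1 hF
  have hQS := hQ.1
  have hfinQ : Finite Q := finite_of_le hQS
  obtain ⟨hfc, hfa⟩ := hsat.1 Q hQ
  have hrec := hsat.2 Q hfc
  refine ⟨hQS, ?_, ?_, ?_⟩
  · intro g
    constructor
    · rintro ⟨hgS, hgN⟩
      exact ⟨hgS, Q.normalizerMonoidHom ⟨g, hgN⟩, Subgroup.mem_top _, fun x => rfl⟩
    · rintro ⟨hgS, κ, _, hκe⟩
      refine ⟨hgS, ?_⟩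
      apply mem_normalizer_of_conj_le
      intro y hy
      rw [hκe ⟨y, hy⟩]
      exact (κ ⟨y, hy⟩).2
  · intro P φ
    rw [hE P]
    constructor
    · rintro ⟨hφ, hP, hφN, ψ, hψ, hψP, hψQ⟩
      refine ⟨hφ, hP, hφN, ψ, hψ, hψP, ?_⟩
      have hval : ∀ x : Q, (ψ.comp (Subgroup.inclusion (le_sup_right : Q ≤ P ⊔ Q))) x ∈ Q := by
        intro x
        apply hψQ.le
        exact ⟨Subgroup.inclusion le_sup_right x, Subgroup.mem_subgroupOf.2 x.2, rfl⟩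
      obtain ⟨κ, _, hκe⟩ := exists_aut_of_hom F (restrict_mem F le_sup_right hψ) hval
      exact ⟨κ, Subgroup.mem_top _, fun x => (hκe x).symm⟩
    · rintro ⟨hφ, hP, hφN, ψ, hψ, hψP, κ, _, hκe⟩
      refine ⟨hφ, hP, hφN, ψ, hψ, hψP, ?_⟩
      rw [map_subgroupOf_sup_eq_range]
      ext y
      constructor
      · rintro ⟨x, rfl⟩
        show ψ (Subgroup.inclusion le_sup_right x) ∈ Q
        rw [hκe]
        exact (κ x).2
      · intro hy
        refine ⟨κ⁻¹ ⟨y, hy⟩, ?_⟩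
        show ψ (Subgroup.inclusion le_sup_right _) = y
        rw [hκe, MulAut.apply_inv_self]
  · intro ψ₀ hψ₀
    have hconj : F.IsConj ψ₀.range Q := isConj_symm F ⟨ψ₀, hψ₀, rfl⟩
    have hQ₁S : ψ₀.range ≤ S := range_le_of_hom_mem F hψ₀
    obtain ⟨θ, hθ, hθN, hθQ, -⟩ := exists_hom_normalizer p hS F Q ψ₀.range hfa hrec hconj
    have hD : NKmark S ⊤ ψ₀ ⊔ ψ₀.range ≤ FusionSystem.normalizerIn S ψ₀.range :=
      sup_le (NKmark_le_normalizerIn F ⊤ hψ₀) (le_normalizerIn hQ₁S)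
    have hval : ∀ x : Q, θ ⟨ψ₀ x, le_normalizerIn hQ₁S ⟨x, rfl⟩⟩ ∈ Q := fun x =>
      hθQ (ψ₀ x) ⟨x, rfl⟩ _
    have hcomp : (θ.comp (ψ₀.codRestrict (FusionSystem.normalizerIn S ψ₀.range)
        (fun x => le_normalizerIn hQ₁S ⟨x, rfl⟩))) ∈ F.Hom Q := F.comp_mem hψ₀ hθ _
    obtain ⟨κ, _, hκe⟩ := exists_aut_of_hom F hcomp hval
    refine ⟨θ.comp (Subgroup.inclusion hD), restrict_mem F hD hθ, κ, Subgroup.mem_top _, fun x => ?_⟩
    exact (hκe x).symm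

theorem knorm_of_centralizerSystem [Finite S] {p : ℕ} [Fact p.Prime] (hS : IsPGroup p S)
    (hF : F.IsSaturated p) (hQ : F.IsFullyCentralized Q)
    {E : FusionSystem (FusionSystem.centralizerIn S Q)} (hE : F.IsCentralizerSystem Q E) :
    KNorm F Q ⊥ (FusionSystem.centralizerIn S Q) E := by
  have hsat := (Cfsg.Agent.S5077.result p hS F).1 hF
  have hQS := hQ.1
  have hrec := hsat.2 Q hQ
  refine ⟨hQS, ?_, ?_, ?_⟩
  · intro g
    constructor
    · rintro ⟨hgS, hgC⟩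
      refine ⟨hgS, 1, Subgroup.one_mem _, fun x => ?_⟩
      have h1 := Subgroup.mem_centralizer_iff.1 hgC x x.2
      show g * x * g⁻¹ = x
      rw [← h1, mul_inv_cancel_right]
    · rintro ⟨hgS, κ, hκ, hκe⟩
      refine ⟨hgS, ?_⟩
      rw [Subgroup.mem_bot] at hκ
      show g ∈ Subgroup.centralizer (Q : Set Ω)
      rw [Subgroup.mem_centralizer_iff]
      intro y hy
      have h1 := hκe ⟨y, hy⟩
      rw [hκ] at h1
      have h2 : g * y * g⁻¹ = y := h1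
      calc y * g = (g * y * g⁻¹) * g := by rw [h2]
        _ = g * y := by group
  · intro P φ
    rw [hE P]
    constructor
    · rintro ⟨hφ, hP, hφN, ψ, hψ, hψP, hψQ⟩
      exact ⟨hφ, hP, hφN, ψ, hψ, hψP, 1, Subgroup.one_mem _, fun x => hψQ x⟩
    · rintro ⟨hφ, hP, hφN, ψ, hψ, hψP, κ, hκ, hκe⟩
      refine ⟨hφ, hP, hφN, ψ, hψ, hψP, fun x => ?_⟩
      rw [Subgroup.mem_bot] at hκ
      rw [hκe, hκ]
      rfl
  · intro ψ₀ hψ₀
    have hQ₁S : ψ₀.range ≤ S := range_le_of_hom_mem F hψ₀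
    obtain ⟨θ, hθ, hθe⟩ := exists_inv_iso F hψ₀ rfl
    have hθr : θ.range = Q := by
      ext y
      constructor
      · rintro ⟨⟨_, x, rfl⟩, rfl⟩
        rw [hθe x ⟨x, rfl⟩]
        exact x.2
      · intro hy
        exact ⟨⟨ψ₀ ⟨y, hy⟩, ⟨y, hy⟩, rfl⟩, hθe ⟨y, hy⟩ _⟩
    obtain ⟨Θ, hΘ, hΘe⟩ := hrec.2 ψ₀.range θ hθ hθr
    have hNK : NKmark S ⊥ ψ₀ ≤ FusionSystem.centralizerIn S ψ₀.range := by
      unfold NKmark
      rw [Subgroup.closure_le]
      rintro s ⟨hsS, κ, hκ, hκe⟩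
      refine ⟨hsS, ?_⟩
      rw [Subgroup.mem_bot] at hκ
      show s ∈ Subgroup.centralizer ((ψ₀.range : Subgroup Ω) : Set Ω)
      rw [Subgroup.mem_centralizer_iff]
      rintro _ ⟨x, rfl⟩
      have h1 := hκe x
      rw [hκ] at h1
      have h2 : s * ψ₀ x * s⁻¹ = ψ₀ x := h1
      calc ψ₀ x * s = (s * ψ₀ x * s⁻¹) * s := by rw [h2]
        _ = s * ψ₀ x := by group
    have hD : NKmark S ⊥ ψ₀ ⊔ ψ₀.range ≤ FusionSystem.extender S ψ₀.range θ :=
      sup_le (hNK.trans (centralizerIn_le_extender _ _)) (le_extender F hθ)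
    refine ⟨Θ.comp (Subgroup.inclusion hD), restrict_mem F hD hΘ, 1, Subgroup.one_mem _, fun x => ?_⟩
    show Θ ⟨ψ₀ x, _⟩ = x
    rw [hΘe (ψ₀ x) ⟨x, rfl⟩ _]
    exact hθe x _

end Cfsg.Agent.Lib.Helper29
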