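import Cfsg.Agent.Lib.Helper29.FusionInvariant
import Cfsg.Agent.Lib.Helper29.InvariantCore
import Cfsg.Agent.Lib.Helper29.KNormMain
import Cfsg.Agent.Lib.Helper29.FusionAlperin
import Cfsg.Agent.Lib.Helper29.FusionRS
import Cfsg.Agent.S5097

/-!
Direct factors of the Sylow group of a saturated fusion system that are strongly closed:
the full subsystem and the centralizer subsystem over a factor.
-/
set_option autoImplicit false

namespace Cfsg.Agent.Lib.Helper29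
open Cfsg

variable {Ω : Type*} [Group Ω]

/-- `S` is the (central) product of its subgroups `S₁` and `Z`, which commute elementwise -/
structure CProd (S₁ Z S : Subgroup Ω) : Prop where
  le₁ : S₁ ≤ S
  le₂ : Z ≤ S
  comm : ∀ a ∈ S₁, ∀ b ∈ Z, a * b = b * a
  exists_mul : ∀ s ∈ S, ∃ a ∈ S₁, ∃ b ∈ Z, s = a * b

theorem CProd.symm {S₁ Z S : Subgroup Ω} (h : CProd S₁ Z S) : CProd Z S₁ S where
  le₁ := h.le₂
  le₂ := h.le₁
  comm := fun b hb a ha => (h.comm a ha b hb).symm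
  exists_mul := fun s hs => by
    obtain ⟨a, ha, b, hb, rfl⟩ := h.exists_mul s hs
    exact ⟨b, hb, a, ha, h.comm a ha b hb⟩

theorem cprod_of_idp {S₁ S₂ S : Subgroup Ω} (h : IsInternalDirectProduct S₁ S₂ S) : CProd S₁ S₂ S := by
  obtain ⟨h1, h2, hc, _, hsup⟩ := h
  refine ⟨h1, h2, hc, fun s hs => ?_⟩
  rw [← hsup, Subgroup.sup_eq_closure_mul] at hs
  induction hs using Subgroup.closure_induction with
  | mem x hx =>
    obtain ⟨a, ha, b, hb, rfl⟩ := hx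
    exact ⟨a, ha, b, hb, rfl⟩
  | one => exact ⟨1, S₁.one_mem, 1, S₂.one_mem, (mul_one 1).symm⟩
  | mul x y _ _ hx hy =>
    obtain ⟨a, ha, b, hb, rfl⟩ := hx
    obtain ⟨a', ha', b', hb', rfl⟩ := hy
    refine ⟨a * a', S₁.mul_mem ha ha', b * b', S₂.mul_mem hb hb', ?_⟩
    calc a * b * (a' * b') = a * (b * a') * b' := by group
      _ = a * (a' * b) * b' := by rw [hc a' ha' b hb]
      _ = a * a' * (b * b') := by group
  | inv x _ hx =>
    obtain ⟨a, ha, b, hb, rfl⟩ := hx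
    refine ⟨a⁻¹, S₁.inv_mem ha, b⁻¹, S₂.inv_mem hb, ?_⟩
    rw [mul_inv_rev]
    exact (hc a⁻¹ (S₁.inv_mem ha) b⁻¹ (S₂.inv_mem hb)).symm

theorem CProd.conj_eq {S₁ Z S : Subgroup Ω} (h : CProd S₁ Z S) {a b x : Ω} (hb : b ∈ Z)
    (hx : x ∈ S₁) : a * b * x * (a * b)⁻¹ = a * x * a⁻¹ := by
  have := h.comm x hx b hb
  calc a * b * x * (a * b)⁻¹ = a * (b * x) * b⁻¹ * a⁻¹ := by group
    _ = a * (x * b) * b⁻¹ * a⁻¹ := by rw [this]
    _ = a * x * a⁻¹ := by group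

theorem CProd.le_centralizer {S₁ Z S : Subgroup Ω} (h : CProd S₁ Z S) :
    Z ≤ Subgroup.centralizer (S₁ : Set Ω) := by
  intro b hb
  rw [Subgroup.mem_centralizer_iff]
  intro a ha
  exact h.comm a ha b hb

/-- `Aut_{S₁}(Q) = Aut_S(Q)` for `Q ≤ S₁` -/
theorem CProd.autInducedBy_eq {S₁ Z S : Subgroup Ω} (h : CProd S₁ Z S) {Q : Subgroup Ω} (hQ : Q ≤ S₁) :
    autInducedBy S₁ Q = autInducedBy S Q := by
  apply le_antisymm (autInducedBy_mono h.le₁ Q)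
  unfold autInducedBy
  rw [Subgroup.closure_le]
  rintro α ⟨g, hg, hα⟩
  obtain ⟨a, ha, b, hb, rfl⟩ := h.exists_mul g hg
  apply Subgroup.subset_closure
  refine ⟨a, ha, fun x => ?_⟩
  rw [hα x, h.conj_eq hb (hQ x.2)]

section full

variable {S' S₁ Z : Subgroup Ω}

/-- the full subsystem on a strongly closed central factor is saturated -/
theorem full_subsystem_saturated {p : ℕ} (F' : FusionSystem S') (hF' : F'.IsSaturated p)
    (hc : CProd S₁ Z S') (h₁ : F'.StronglyClosed S₁) (R₁ : FusionSystem S₁)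
    (hR : ∀ P : Subgroup Ω, P ≤ S₁ → R₁.Hom P = F'.Hom P) : R₁.IsSaturated p := by
  intro P hP
  obtain ⟨Q, ⟨φ, hφ, hr⟩, hfa, hrec⟩ := hF' P (hP.trans hc.le₁)
  have hQ : Q ≤ S₁ := by
    rw [← hr]
    rintro _ ⟨x, rfl⟩
    exact h₁.2 P hP φ hφ x
  refine ⟨Q, ⟨φ, by rw [hR P hP]; exact hφ, hr⟩, ⟨hQ, ?_⟩, hQ, fun P' φ' hφ' hr' => ?_⟩
  · obtain ⟨_, Sy, hSy⟩ := hfa
    have e1 : R₁.autGroup Q = F'.autGroup Q := by
      unfold FusionSystem.autGroup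
      rw [hR Q hQ]
    rw [e1, hc.autInducedBy_eq hQ]
    exact ⟨Sy, hSy⟩
  · have hP' : P' ≤ S₁ := (R₁.le_of_mem hφ').1
    rw [hR P' hP'] at hφ'
    obtain ⟨ψ, hψ, hψe⟩ := hrec.2 P' φ' hφ' hr'
    have hle : FusionSystem.extender S₁ P' φ' ≤ FusionSystem.extender S' P' φ' := by
      apply Subgroup.closure_mono
      rintro g ⟨hg, hn, h, hh, he⟩
      exact ⟨hc.le₁ hg, hn, h, hc.le₁ hh, he⟩
    refine ⟨ψ.comp (Subgroup.inclusion hle), ?_, fun x hP hN => hψe x hP (hle hN)⟩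
    rw [hR _ (extender_le P' φ')]
    exact restrict_mem F' hle hψ

end full

section closed

variable {S : Subgroup Ω}

/-- a strongly closed subgroup has no other conjugates -/
theorem stronglyClosed_conj_eq [Finite S] {F : FusionSystem S} {T Q : Subgroup Ω}
    (hT : F.StronglyClosed T) (h : F.IsConj T Q) : Q = T := by
  have hc := card_eq_of_isConj F h
  obtain ⟨φ, hφ, hr⟩ := h
  have : Finite T := finite_of_le hT.1
  have hle : Q ≤ T := by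
    rw [← hr]
    rintro _ ⟨x, rfl⟩
    exact hT.2 T le_rfl φ hφ x
  exact Subgroup.eq_of_le_of_card_ge hle hc.le

theorem stronglyClosed_fullyCentralized [Finite S] {F : FusionSystem S} {T : Subgroup Ω}
    (hT : F.StronglyClosed T) : F.IsFullyCentralized T :=
  ⟨hT.1, fun Q hQ => by rw [stronglyClosed_conj_eq hT hQ]⟩

theorem stronglyClosed_fullyNormalized [Finite S] {F : FusionSystem S} {T : Subgroup Ω}
    (hT : F.StronglyClosed T) : F.IsFullyNormalized T :=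
  ⟨hT.1, fun Q hQ => by rw [stronglyClosed_conj_eq hT hQ]⟩

theorem stronglyClosed_receptive [Finite S] {p : ℕ} [Fact p.Prime] (hS : IsPGroup p S)
    {F : FusionSystem S} (hF : F.IsSaturated p) {T : Subgroup Ω}
    (hT : F.StronglyClosed T) : F.IsReceptive T :=
  ((Cfsg.Agent.S5077.result p hS F).1 hF).2 T (stronglyClosed_fullyCentralized hT)

/-- automorphisms of `S` in the system preserve strongly closed subgroups -/
theorem stronglyClosed_aut_mem {F : FusionSystem S} {T : Subgroup Ω}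
    (hT : F.StronglyClosed T) {α : MulAut S} (hα : α ∈ F.autGroup S) (x : S) (hx : (x : Ω) ∈ T) :
    ((α x : S) : Ω) ∈ T := by
  have h1 : S.subtype.comp α.toMonoidHom ∈ F.Hom S := (mem_autGroup_iff F le_rfl).1 hα
  have h2 := restrict_mem F hT.1 h1
  exact hT.2 T le_rfl _ h2 ⟨x, hx⟩

/-- transport of a map of the system along an automorphism of `S` in the system -/
theorem exists_transport {F : FusionSystem S} {α : MulAut S} (hα : α ∈ F.autGroup S)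
    {P P' : Subgroup Ω} {φ : P →* Ω} (hφ : φ ∈ F.Hom P) (hP' : IsAutImg α P P') :
    ∃ χ ∈ F.Hom P', IsTransport α φ χ := by
  have hPS : P ≤ S := (F.le_of_mem hφ).1
  have hφS : ∀ x, φ x ∈ S := (F.le_of_mem hφ).2
  have hP'S : P' ≤ S := hP'.le
  have h1 : S.subtype.comp α.toMonoidHom ∈ F.Hom S := (mem_autGroup_iff F le_rfl).1 hα
  have h2 : S.subtype.comp (α⁻¹).toMonoidHom ∈ F.Hom S :=
    (mem_autGroup_iff F le_rfl).1 ((F.autGroup S).inv_mem hα)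
  have h3 := restrict_mem F hP'S h2
  have h4 : ∀ y : P', ((S.subtype.comp (α⁻¹).toMonoidHom).comp (Subgroup.inclusion hP'S)) y ∈ P := by
    intro y
    obtain ⟨x, hx, hxP, hxy⟩ := (hP' y).1 y.2
    have e : Subgroup.inclusion hP'S y = α ⟨x, hx⟩ := Subtype.ext hxy.symm
    show ((α⁻¹ (Subgroup.inclusion hP'S y) : S) : Ω) ∈ P
    rw [e, MulAut.inv_apply_self]
    exact hxP
  have h5 := F.comp_mem h3 hφ h4
  have h6 : ∀ y : P', (φ.comp (((S.subtype.comp (α⁻¹).toMonoidHom).comp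
      (Subgroup.inclusion hP'S)).codRestrict P h4)) y ∈ S := fun y => hφS _
  have h7 := F.comp_mem h5 h1 h6
  refine ⟨_, h7, fun x hx hφx hαx => ?_⟩
  show ((α ⟨φ ⟨((α⁻¹ (Subgroup.inclusion hP'S ⟨α ⟨x, hx⟩, hαx⟩) : S) : Ω), _⟩, _⟩ : S) : Ω) = _
  congr 2
  apply Subtype.ext
  show φ _ = φ x
  congr 1
  apply Subtype.ext
  have e : Subgroup.inclusion hP'S ⟨α ⟨x, hx⟩, hαx⟩ = α ⟨x, hx⟩ := rfl
  show ((α⁻¹ (Subgroup.inclusion hP'S ⟨α ⟨x, hx⟩, hαx⟩) : S) : Ω) = x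
  rw [e, MulAut.inv_apply_self]

/-- automorphisms of a strongly closed central factor extend to `S` -/
theorem exists_aut_extension [Finite S] {p : ℕ} [Fact p.Prime] (hS : IsPGroup p S)
    {F : FusionSystem S} (hF : F.IsSaturated p) {T Z : Subgroup Ω} (hc : CProd T Z S)
    (hT : F.StronglyClosed T) {α : MulAut T} (hα : α ∈ F.autGroup T) :
    ∃ β ∈ F.autGroup S, ∀ x : T, β (Subgroup.inclusion hc.le₁ x) = Subgroup.inclusion hc.le₁ (α x) := by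
  have hrec := stronglyClosed_receptive hS hF hT
  have : Finite T := finite_of_le hc.le₁
  obtain ⟨ψ, hψ, hψe⟩ := exists_hom_of_receptive_le F hrec hα hc.le₁ (by
    intro g hg
    obtain ⟨a, ha, b, hb, rfl⟩ := hc.exists_mul g hg
    refine ⟨hg, ?_, ((α ⟨a, ha⟩ : T) : Ω), hc.le₁ (α ⟨a, ha⟩).2, fun x hx => ?_⟩
    · apply mem_normalizer_of_conj_le
      intro y hy
      rw [hc.conj_eq hb hy]
      exact T.mul_mem (T.mul_mem ha hy) (T.inv_mem ha)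
    · have e : (⟨a * b * x * (a * b)⁻¹, hx⟩ : T) = ⟨a, ha⟩ * x * ⟨a, ha⟩⁻¹ :=
        Subtype.ext (hc.conj_eq hb x.2)
      rw [e, map_mul, map_mul, map_inv]
      rfl)
  have hval : ∀ x : S, ψ x ∈ S := (F.le_of_mem hψ).2
  obtain ⟨β, hβ, hβe⟩ := exists_aut_of_hom F hψ hval
  refine ⟨β, hβ, fun x => Subtype.ext ?_⟩
  rw [hβe]
  exact hψe x

end closed

section autimg

variable {S : Subgroup Ω}

theorem IsAutImg.eq_map {β : MulAut S} {A A' : Subgroup Ω} (h : IsAutImg β A A') :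
    A' = (A.subgroupOf S).map (S.subtype.comp β.toMonoidHom) := by
  ext y
  rw [h y, (isAutImg_map β A) y]

theorem isAutImg_of_eq_map {β : MulAut S} {A A' : Subgroup Ω}
    (h : A' = (A.subgroupOf S).map (S.subtype.comp β.toMonoidHom)) : IsAutImg β A A' := by
  rw [h]
  exact isAutImg_map β A

theorem IsAutImg.sup {β : MulAut S} {A A' B B' : Subgroup Ω} (hA : IsAutImg β A A')
    (hB : IsAutImg β B B') (hAS : A ≤ S) (hBS : B ≤ S) : IsAutImg β (A ⊔ B) (A' ⊔ B') := by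
  apply isAutImg_of_eq_map
  rw [Subgroup.subgroupOf_sup hAS hBS, Subgroup.map_sup, ← hA.eq_map, ← hB.eq_map]

/-- a strongly closed subgroup is its own image under automorphisms of `S` in the system -/
theorem isAutImg_stronglyClosed {F : FusionSystem S} {T : Subgroup Ω} (hT : F.StronglyClosed T)
    {β : MulAut S} (hβ : β ∈ F.autGroup S) : IsAutImg β T T := by
  intro y
  constructor
  · intro hy
    have hyS : y ∈ S := hT.1 hy
    refine ⟨((β⁻¹ ⟨y, hyS⟩ : S) : Ω), (β⁻¹ ⟨y, hyS⟩).2,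
      stronglyClosed_aut_mem hT ((F.autGroup S).inv_mem hβ) ⟨y, hyS⟩ hy, ?_⟩
    show ((β (β⁻¹ ⟨y, hyS⟩) : S) : Ω) = y
    rw [MulAut.apply_inv_self]
  · rintro ⟨x, hx, hxT, rfl⟩
    exact stronglyClosed_aut_mem hT hβ ⟨x, hx⟩ hxT

end autimg

section direct

variable {S : Subgroup Ω} [Finite S] {p : ℕ} [Fact p.Prime] {F : FusionSystem S}
  {S₁ S₂ : Subgroup Ω} {R' : FusionSystem S₁}

theorem CProd.le_centralizerIn (hc : CProd S₁ S₂ S) : S₁ ≤ FusionSystem.centralizerIn S S₂ := by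
  intro a ha
  refine ⟨hc.le₁ ha, ?_⟩
  show a ∈ Subgroup.centralizer (S₂ : Set Ω)
  rw [Subgroup.mem_centralizer_iff]
  intro b hb
  exact (hc.comm a ha b hb).symm

/-- the invariance condition for the centralizer subsystem over a direct factor -/
theorem invCond_centralizer (hS : IsPGroup p S) (hF : F.IsSaturated p) (hc : CProd S₁ S₂ S)
    (h₁ : F.StronglyClosed S₁) (h₂ : F.StronglyClosed S₂)
    (hR' : ∀ P : Subgroup Ω, P ≤ S₁ → R'.Hom P = F.centralizerHom S₂ P) : InvCond R' F := by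
  intro P hP φ hφ α hα
  rw [hR' P hP] at hφ
  obtain ⟨hφF, hPc, hφc, φh, hφh, hφhP, hφhS₂⟩ := hφ
  obtain ⟨β, hβ, hβe⟩ := exists_aut_extension hS hF hc h₁ hα
  have hβe' : ∀ (x : Ω) (hx : x ∈ S₁), ((β ⟨x, hc.le₁ hx⟩ : S) : Ω) = ((α ⟨x, hx⟩ : S₁) : Ω) :=
    fun x hx => congrArg Subtype.val (hβe ⟨x, hx⟩)
  have hP'S₁ : (P.subgroupOf S₁).map (S₁.subtype.comp α.toMonoidHom) ≤ S₁ := by
    rintro _ ⟨x, _, rfl⟩
    exact (α x).2
  have hPS : P ≤ S := hP.trans hc.le₁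
  have himgP : IsAutImg β P ((P.subgroupOf S₁).map (S₁.subtype.comp α.toMonoidHom)) := by
    intro y
    constructor
    · rintro ⟨x, hx, rfl⟩
      exact ⟨x.1, hc.le₁ x.2, hx, hβe' x.1 x.2⟩
    · rintro ⟨x, hx, hxP, rfl⟩
      exact ⟨⟨x, hP hxP⟩, hxP, (hβe' x (hP hxP)).symm⟩
  have himg := himgP.sup (isAutImg_stronglyClosed h₂ hβ) hPS h₂.1
  obtain ⟨χh, hχh, hχht⟩ := exists_transport hβ hφh himg
  have hχ := restrict_mem F (le_sup_left : (P.subgroupOf S₁).map (S₁.subtype.comp α.toMonoidHom) ≤ _) hχh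
  have hφhS : ∀ x, φh x ∈ S := (F.le_of_mem hφh).2
  have hkey : ∀ (x : P) (hαx : ((α ⟨x, hP x.2⟩ : S₁) : Ω) ∈
      (P.subgroupOf S₁).map (S₁.subtype.comp α.toMonoidHom)),
      χh ⟨(α ⟨x, hP x.2⟩ : S₁), Subgroup.mem_sup_left hαx⟩ = ((α ⟨φ x, (hφc x |> fun _ => h₁.2 P hP φ hφF x)⟩ : S₁) : Ω) := by
    intro x hαx
    have hφx : φ x ∈ S₁ := h₁.2 P hP φ hφF x
    have h1 : ((β ⟨x, hPS x.2⟩ : S) : Ω) ∈ (P.subgroupOf S₁).map (S₁.subtype.comp α.toMonoidHom) ⊔ S₂ := by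
      rw [hβe' x (hP x.2)]
      exact Subgroup.mem_sup_left hαx
    have h2 := hχht (Subgroup.inclusion le_sup_left x) (hPS x.2) (hφhS _) h1
    have e1 : (⟨((α ⟨x, hP x.2⟩ : S₁) : Ω), Subgroup.mem_sup_left hαx⟩ :
        ↥((P.subgroupOf S₁).map (S₁.subtype.comp α.toMonoidHom) ⊔ S₂)) = ⟨β ⟨x, hPS x.2⟩, h1⟩ :=
      Subtype.ext (hβe' x (hP x.2)).symm
    rw [e1]
    refine h2.trans ?_
    have e2 : (⟨φh (Subgroup.inclusion le_sup_left x), hφhS _⟩ : S) = ⟨φ x, hc.le₁ hφx⟩ :=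
      Subtype.ext (hφhP x)
    rw [e2]
    exact hβe' (φ x) hφx
  refine ⟨χh.comp (Subgroup.inclusion le_sup_left), ?_, fun x hφx hαx => hkey x hαx⟩
  rw [hR' _ hP'S₁]
  refine ⟨hχ, hP'S₁.trans hc.le_centralizerIn, ?_, χh, hχh, fun x => rfl, fun s => ?_⟩
  · rintro ⟨_, x, hx, rfl⟩
    apply hc.le_centralizerIn
    have := hkey ⟨x.1, hx⟩ ⟨x, hx, rfl⟩
    show χh ⟨((α x : S₁) : Ω), _⟩ ∈ S₁
    rw [this]
    exact (α _).2
  · obtain ⟨t, htS, htS₂, hts⟩ := ((isAutImg_stronglyClosed h₂ hβ) s.1).1 s.2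
    have h1 : ((β ⟨t, htS⟩ : S) : Ω) ∈ (P.subgroupOf S₁).map (S₁.subtype.comp α.toMonoidHom) ⊔ S₂ := by
      rw [hts]
      exact Subgroup.mem_sup_right s.2
    have h2 := hχht ⟨t, Subgroup.mem_sup_right htS₂⟩ htS (hφhS _) h1
    have e1 : Subgroup.inclusion (le_sup_right :
        S₂ ≤ (P.subgroupOf S₁).map (S₁.subtype.comp α.toMonoidHom) ⊔ S₂) s = ⟨β ⟨t, htS⟩, h1⟩ :=
      Subtype.ext hts.symm
    rw [e1]
    refine h2.trans ?_
    have e2 : (⟨φh ⟨t, Subgroup.mem_sup_right htS₂⟩, hφhS _⟩ : S) = ⟨t, htS⟩ :=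
      Subtype.ext (hφhS₂ ⟨t, htS₂⟩)
    rw [e2]
    exact hts

end direct

section direct2

variable {S : Subgroup Ω} [Finite S] {p : ℕ} [Fact p.Prime] {F : FusionSystem S}
  {S₁ S₂ : Subgroup Ω} {R' : FusionSystem S₁}

/-- untwisting: maps of `F` from subgroups of `S₁` onto receptive subgroups are good -/
theorem good_of_receptive_range (hS : IsPGroup p S) (hF : F.IsSaturated p) (hc : CProd S₁ S₂ S)
    (h₁ : F.StronglyClosed S₁) (h₂ : F.StronglyClosed S₂)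
    (hR' : ∀ P : Subgroup Ω, P ≤ S₁ → R'.Hom P = F.centralizerHom S₂ P)
    {P : Subgroup Ω} (hP : P ≤ S₁) {φ : P →* Ω} (hφ : φ ∈ F.Hom P) (hrec : F.IsReceptive φ.range) :
    Good R' F P φ := by
  have hPS : P ≤ S := hP.trans hc.le₁
  have hφS₁ : ∀ x, φ x ∈ S₁ := fun x => h₁.2 P hP φ hφ x
  obtain ⟨ψ, hψ, hψe⟩ := hrec.2 P φ hφ rfl
  have hS₂c : S₂ ≤ FusionSystem.centralizerIn S P := fun b hb =>
    ⟨hc.le₂ hb, Subgroup.centralizer_le (show (P : Set Ω) ⊆ S₁ from hP) (hc.le_centralizer hb)⟩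
  have hle : P ⊔ S₂ ≤ FusionSystem.extender S P φ :=
    sup_le (le_extender F hφ) (hS₂c.trans (centralizerIn_le_extender P φ))
  have hψ' := restrict_mem F hle hψ
  have hψ'S : ∀ x, (ψ.comp (Subgroup.inclusion hle)) x ∈ S := (F.le_of_mem hψ').2
  have hγ₀ := restrict_mem F (le_sup_right : S₂ ≤ P ⊔ S₂) hψ'
  have hγ₀v : ∀ s : S₂, ((ψ.comp (Subgroup.inclusion hle)).comp (Subgroup.inclusion le_sup_right)) s ∈ S₂ :=
    fun s => h₂.2 S₂ le_rfl _ hγ₀ s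
  have : Finite S₂ := finite_of_le hc.le₂
  have : Finite S₁ := finite_of_le hc.le₁
  obtain ⟨γ, hγ, hγe⟩ := exists_aut_of_hom F hγ₀ hγ₀v
  obtain ⟨β, hβ, hβe⟩ := exists_aut_extension hS hF hc.symm h₂ hγ
  have hβF : S.subtype.comp β.toMonoidHom ∈ F.Hom S := (mem_autGroup_iff F le_rfl).1 hβ
  have hβiF : S.subtype.comp (β⁻¹).toMonoidHom ∈ F.Hom S :=
    (mem_autGroup_iff F le_rfl).1 ((F.autGroup S).inv_mem hβ)
  have hα₀ := restrict_mem F hc.le₁ hβF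
  have hα₀v : ∀ x : S₁, ((S.subtype.comp β.toMonoidHom).comp (Subgroup.inclusion hc.le₁)) x ∈ S₁ :=
    fun x => h₁.2 S₁ le_rfl _ hα₀ x
  obtain ⟨α, hα, hαe⟩ := exists_aut_of_hom F hα₀ hα₀v
  have hαe' : ∀ x : S₁, ((α x : S₁) : Ω) = ((β (Subgroup.inclusion hc.le₁ x) : S) : Ω) := hαe
  have hαi : ∀ y : S₁, ((α⁻¹ y : S₁) : Ω) = ((β⁻¹ (Subgroup.inclusion hc.le₁ y) : S) : Ω) := by
    intro y
    have h1 := hαe' (α⁻¹ y)
    rw [MulAut.apply_inv_self] at h1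
    have h2 : Subgroup.inclusion hc.le₁ y = β (Subgroup.inclusion hc.le₁ (α⁻¹ y)) := Subtype.ext h1
    rw [h2, MulAut.inv_apply_self]
    rfl
  have hαiF : S₁.subtype.comp (α⁻¹).toMonoidHom ∈ F.Hom S₁ :=
    (mem_autGroup_iff F hc.le₁).1 ((F.autGroup S₁).inv_mem hα)
  have hφ₀ := F.comp_mem hφ hαiF hφS₁
  have hψ₀ := F.comp_mem hψ' hβiF hψ'S
  refine ⟨α, hα, (S₁.subtype.comp (α⁻¹).toMonoidHom).comp (φ.codRestrict S₁ hφS₁), ?_,
    fun x hx => ?_⟩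
  · rw [hR' P hP]
    refine ⟨hφ₀, hP.trans hc.le_centralizerIn, fun x => hc.le_centralizerIn (α⁻¹ _).2, _, hψ₀,
      fun x => ?_, fun s => ?_⟩
    · show ((β⁻¹ ⟨ψ ⟨x, _⟩, _⟩ : S) : Ω) = ((α⁻¹ ⟨φ x, _⟩ : S₁) : Ω)
      rw [hαi]
      congr 2
      apply Subtype.ext
      exact hψe x x.2 _
    · show ((β⁻¹ ⟨ψ ⟨s, _⟩, _⟩ : S) : Ω) = s
      have e : (⟨ψ ⟨s, hle (Subgroup.mem_sup_right s.2)⟩, hψ'S (Subgroup.inclusion le_sup_right s)⟩ : S) =
          β (Subgroup.inclusion hc.le₂ s) := by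
        rw [hβe s]
        apply Subtype.ext
        exact (hγe s).symm
      have e' : ((β⁻¹ ⟨ψ ⟨s, hle (Subgroup.mem_sup_right s.2)⟩,
          hψ'S (Subgroup.inclusion le_sup_right s)⟩ : S) : Ω) = s := by
        rw [e, MulAut.inv_apply_self]
        rfl
      exact e'
  · have e : (⟨((S₁.subtype.comp (α⁻¹).toMonoidHom).comp (φ.codRestrict S₁ hφS₁)) x, hx⟩ : S₁) =
        α⁻¹ ⟨φ x, hφS₁ x⟩ := Subtype.ext rfl
    rw [e, MulAut.apply_inv_self]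

/-- the Frattini condition for the centralizer subsystem over a direct factor -/
theorem frattiniCond_centralizer (hS : IsPGroup p S) (hF : F.IsSaturated p) (hc : CProd S₁ S₂ S)
    (h₁ : F.StronglyClosed S₁) (h₂ : F.StronglyClosed S₂)
    (hR' : ∀ P : Subgroup Ω, P ≤ S₁ → R'.Hom P = F.centralizerHom S₂ P) : FrattiniCond R' F := by
  intro P hP φ hφ
  have hinv := invCond_centralizer hS hF hc h₁ h₂ hR'
  have hrS₁ : φ.range ≤ S₁ := by
    rintro _ ⟨x, rfl⟩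
    exact h₁.2 P hP φ hφ x
  obtain ⟨Q, ⟨ψ, hψ, hr⟩, _, hrec⟩ := hF φ.range (hrS₁.trans hc.le₁)
  have hφr : ∀ x : P, φ x ∈ φ.range := fun x => ⟨x, rfl⟩
  have hψ₂ := F.comp_mem hφ hψ hφr
  have hr₂ : (ψ.comp (φ.codRestrict φ.range hφr)).range = Q := by
    rw [← hr]
    ext y
    constructor
    · rintro ⟨x, rfl⟩
      exact ⟨_, rfl⟩
    · rintro ⟨⟨_, x, rfl⟩, rfl⟩
      exact ⟨x, rfl⟩
  have hψg : Good R' F φ.range ψ :=
    good_of_receptive_range hS hF hc h₁ h₂ hR' hrS₁ hψ (by rw [hr]; exact hrec)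
  have hψ₂g : Good R' F P (ψ.comp (φ.codRestrict φ.range hφr)) :=
    good_of_receptive_range hS hF hc h₁ h₂ hR' hP hψ₂ (by rw [hr₂]; exact hrec)
  obtain ⟨σ, hσ, hσe⟩ := exists_inv_iso F hψ hr
  have hσg : Good R' F Q σ := good_inv hinv hψg hr hσe
  have hψ₂Q : ∀ x : P, (ψ.comp (φ.codRestrict φ.range hφr)) x ∈ Q := fun x => hr₂.le ⟨x, rfl⟩
  apply good_comp hinv hψ₂g hσg hψ₂Q
  intro x
  exact (hσe ⟨φ x, hφr x⟩ (hψ₂Q x)).symm

end direct2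

section direct3

variable {S : Subgroup Ω} [Finite S] {p : ℕ} [Fact p.Prime] {F : FusionSystem S}
  {S₁ S₂ : Subgroup Ω} {R' : FusionSystem S₁}

theorem CProd.sup_eq {S₁ Z S : Subgroup Ω} (hc : CProd S₁ Z S) : S₁ ⊔ Z = S := by
  apply le_antisymm (sup_le hc.le₁ hc.le₂)
  intro s hs
  obtain ⟨a, ha, b, hb, rfl⟩ := hc.exists_mul s hs
  exact Subgroup.mul_mem _ (Subgroup.mem_sup_left ha) (Subgroup.mem_sup_right hb)

theorem CProd.sup_centralizerIn_eq {S₁ Z S : Subgroup Ω} (hc : CProd S₁ Z S) :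
    S₁ ⊔ FusionSystem.centralizerIn S S₁ = S := by
  apply le_antisymm (sup_le hc.le₁ inf_le_left)
  intro s hs
  obtain ⟨a, ha, b, hb, rfl⟩ := hc.exists_mul s hs
  exact Subgroup.mul_mem _ (Subgroup.mem_sup_left ha)
    (Subgroup.mem_sup_right ⟨hc.le₂ hb, hc.le_centralizer hb⟩)

/-- the centralizer subsystem over a strongly closed direct factor is saturated -/
theorem centralizer_subsystem_saturated (hS : IsPGroup p S) (hF : F.IsSaturated p)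
    (hc : CProd S₁ S₂ S) (h₁ : F.StronglyClosed S₁) (h₂ : F.StronglyClosed S₂)
    (hR' : ∀ P : Subgroup Ω, P ≤ S₁ → R'.Hom P = F.centralizerHom S₂ P) : R'.IsSaturated p := by
  obtain ⟨C, hC⟩ := Cfsg.Agent.S5097.result F S₂ hc.le₂
  have hfc := stronglyClosed_fullyCentralized h₂
  have hK := knorm_of_centralizerSystem hS hF hfc hC
  have hCsat := hK.saturated hS hF
  have hcC : CProd S₁ (S₂ ⊓ Subgroup.centralizer (S₂ : Set Ω)) (FusionSystem.centralizerIn S S₂) := by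
    refine ⟨hc.le_centralizerIn, fun b hb => ⟨hc.le₂ hb.1, hb.2⟩,
      fun a ha b hb => hc.comm a ha b hb.1, fun s hs => ?_⟩
    obtain ⟨a, ha, b, hb, rfl⟩ := hc.exists_mul s hs.1
    refine ⟨a, ha, b, ⟨hb, ?_⟩, rfl⟩
    have h1 : a ∈ Subgroup.centralizer (S₂ : Set Ω) := (hc.le_centralizerIn ha).2
    have h2 : b = a⁻¹ * (a * b) := by group
    rw [h2]
    exact Subgroup.mul_mem _ (Subgroup.inv_mem _ h1) hs.2
  have hC₁ : C.StronglyClosed S₁ := ⟨hc.le_centralizerIn, fun R hR φ hφ x => by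
    rw [hC R] at hφ
    exact h₁.2 R hR φ hφ.1 x⟩
  exact full_subsystem_saturated C hCsat hcC hC₁ R' (fun P hP => by rw [hR' P hP, hC P])

/-- `a⁻¹ α(a) ∈ Z(T)` for central `a` -/
theorem inv_mul_aut_mem_center {T : Subgroup Ω} (α : MulAut T) (a : T)
    (ha : (a : Ω) ∈ Subgroup.centralizer (T : Set Ω)) :
    (a : Ω)⁻¹ * ((α a : T) : Ω) ∈ T ⊓ Subgroup.centralizer (T : Set Ω) := by
  refine ⟨T.mul_mem (T.inv_mem a.2) (α a).2, Subgroup.mul_mem _ (Subgroup.inv_mem _ ha) ?_⟩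
  rw [Subgroup.mem_centralizer_iff]
  intro y hy
  have h1 : α⁻¹ ⟨y, hy⟩ * a = a * α⁻¹ ⟨y, hy⟩ :=
    Subtype.ext (Subgroup.mem_centralizer_iff.1 ha _ (α⁻¹ ⟨y, hy⟩).2)
  have h2 := congrArg (fun z => ((α z : T) : Ω)) h1
  simp only [map_mul, MulAut.apply_inv_self, Subgroup.coe_mul] at h2
  exact h2

/-- extension condition for the centralizer subsystem in `F` -/
theorem extCond_centralizer (hc : CProd S₁ S₂ S)
    (hR' : ∀ P : Subgroup Ω, P ≤ S₁ → R'.Hom P = F.centralizerHom S₂ P)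
    {α : MulAut S₁} (hα : α ∈ R'.autGroup S₁) :
    ∃ β ∈ F.autGroup (S₁ ⊔ FusionSystem.centralizerIn S S₁),
      (∀ x : S₁, ((β (Subgroup.inclusion le_sup_left x) : ↥(S₁ ⊔ FusionSystem.centralizerIn S S₁)) : Ω) =
        ((α x : S₁) : Ω)) ∧
      ∀ c : ↥(S₁ ⊔ FusionSystem.centralizerIn S S₁), (c : Ω) ∈ FusionSystem.centralizerIn S S₁ →
        (c : Ω)⁻¹ * ((β c : ↥(S₁ ⊔ FusionSystem.centralizerIn S S₁)) : Ω) ∈
          S₁ ⊓ Subgroup.centralizer (S₁ : Set Ω) := by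
  have hαR' : S₁.subtype.comp α.toMonoidHom ∈ R'.Hom S₁ := (mem_autGroup_iff R' le_rfl).1 hα
  rw [hR' S₁ le_rfl] at hαR'
  obtain ⟨hαF, _, _, ψ, hψ, hψ₁, hψ₂⟩ := hαR'
  have e : S₁ ⊔ S₂ = S₁ ⊔ FusionSystem.centralizerIn S S₁ := by
    rw [hc.sup_eq, hc.sup_centralizerIn_eq]
  obtain ⟨ψ', hψ', hψ'e⟩ := hom_of_eq F e hψ
  have hfin : Finite ↥(S₁ ⊔ FusionSystem.centralizerIn S S₁) :=
    finite_of_le (le_of_eq hc.sup_centralizerIn_eq)
  have hval : ∀ x, ψ' x ∈ S₁ ⊔ FusionSystem.centralizerIn S S₁ := fun x =>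
    (le_of_eq hc.sup_centralizerIn_eq.symm) ((F.le_of_mem hψ').2 x)
  obtain ⟨β, hβ, hβe⟩ := exists_aut_of_hom F hψ' hval
  refine ⟨β, hβ, fun x => ?_, fun c hc' => ?_⟩
  · rw [hβe]
    exact (hψ'e x.1 (Subgroup.mem_sup_left x.2) _).trans (hψ₁ x)
  · obtain ⟨a, ha, b, hb, hab⟩ := hc.exists_mul c.1 hc'.1
    have hbC : b ∈ Subgroup.centralizer (S₁ : Set Ω) := hc.le_centralizer hb
    have haC : a ∈ Subgroup.centralizer (S₁ : Set Ω) := by
      have h1 : a = c * b⁻¹ := by rw [hab]; group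
      rw [h1]
      exact Subgroup.mul_mem _ hc'.2 (Subgroup.inv_mem _ hbC)
    have hcm : (c : Ω) ∈ S₁ ⊔ S₂ := by rw [e]; exact c.2
    have h1 : ((β c : ↥(S₁ ⊔ FusionSystem.centralizerIn S S₁)) : Ω) = ((α ⟨a, ha⟩ : S₁) : Ω) * b := by
      rw [hβe]
      have h2 : (⟨c.1, hcm⟩ : ↥(S₁ ⊔ S₂)) = Subgroup.inclusion le_sup_left ⟨a, ha⟩ *
          Subgroup.inclusion le_sup_right ⟨b, hb⟩ := Subtype.ext hab
      have h3 := hψ'e c.1 hcm c.2
      have h4 : ψ' c = ψ ⟨c.1, hcm⟩ := h3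
      rw [h4, h2, map_mul, hψ₁, hψ₂]
      rfl
    rw [h1]
    have hu := hc.comm (a⁻¹ * ((α ⟨a, ha⟩ : S₁) : Ω)) (S₁.mul_mem (S₁.inv_mem ha) (α ⟨a, ha⟩).2) b hb
    have h5 : (c : Ω)⁻¹ * (((α ⟨a, ha⟩ : S₁) : Ω) * b) = a⁻¹ * ((α ⟨a, ha⟩ : S₁) : Ω) := by
      calc (c : Ω)⁻¹ * (((α ⟨a, ha⟩ : S₁) : Ω) * b)
          = b⁻¹ * ((a⁻¹ * ((α ⟨a, ha⟩ : S₁) : Ω)) * b) := by rw [hab]; group
        _ = b⁻¹ * (b * (a⁻¹ * ((α ⟨a, ha⟩ : S₁) : Ω))) := by rw [hu]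
        _ = a⁻¹ * ((α ⟨a, ha⟩ : S₁) : Ω) := by group
    rw [h5]
    exact inv_mul_aut_mem_center α ⟨a, ha⟩ haC

/-- extension condition for the centralizer subsystem in the full subsystem -/
theorem extCond_centralizer_full {R : FusionSystem S₁} (hS₁ : S₁ ≤ S)
    (hsub : ∀ P : Subgroup Ω, R'.Hom P ⊆ R.Hom P)
    {α : MulAut S₁} (hα : α ∈ R'.autGroup S₁) :
    ∃ β ∈ R.autGroup (S₁ ⊔ FusionSystem.centralizerIn S₁ S₁),
      (∀ x : S₁, ((β (Subgroup.inclusion le_sup_left x) : ↥(S₁ ⊔ FusionSystem.centralizerIn S₁ S₁)) : Ω) =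
        ((α x : S₁) : Ω)) ∧
      ∀ c : ↥(S₁ ⊔ FusionSystem.centralizerIn S₁ S₁), (c : Ω) ∈ FusionSystem.centralizerIn S₁ S₁ →
        (c : Ω)⁻¹ * ((β c : ↥(S₁ ⊔ FusionSystem.centralizerIn S₁ S₁)) : Ω) ∈
          S₁ ⊓ Subgroup.centralizer (S₁ : Set Ω) := by
  have hαR : S₁.subtype.comp α.toMonoidHom ∈ R.Hom S₁ := hsub S₁ ((mem_autGroup_iff R' le_rfl).1 hα)
  have e : S₁ = S₁ ⊔ FusionSystem.centralizerIn S₁ S₁ := (sup_eq_left.2 inf_le_left).symm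
  obtain ⟨ψ', hψ', hψ'e⟩ := hom_of_eq R e hαR
  have hfin : Finite ↥(S₁ ⊔ FusionSystem.centralizerIn S₁ S₁) :=
    finite_of_le ((le_of_eq e.symm).trans hS₁)
  have hval : ∀ x, ψ' x ∈ S₁ ⊔ FusionSystem.centralizerIn S₁ S₁ := fun x =>
    Subgroup.mem_sup_left ((R.le_of_mem hψ').2 x)
  obtain ⟨β, hβ, hβe⟩ := exists_aut_of_hom R hψ' hval
  refine ⟨β, hβ, fun x => ?_, fun c hc' => ?_⟩
  · rw [hβe]
    exact hψ'e x.1 x.2 _
  · have hcS₁ : (c : Ω) ∈ S₁ := hc'.1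
    have h1 : ((β c : ↥(S₁ ⊔ FusionSystem.centralizerIn S₁ S₁)) : Ω) = ((α ⟨c, hcS₁⟩ : S₁) : Ω) := by
      rw [hβe]
      exact hψ'e c.1 hcS₁ c.2
    rw [h1]
    exact inv_mul_aut_mem_center α ⟨c, hcS₁⟩ hc'.2

end direct3

end Cfsg.Agent.Lib.Helper29
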