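import Cfsg.Agent.Lib.Helper29.StronglyClosedExt3
import Cfsg.Prelude.Def_FusionComponents

set_option autoImplicit false
open Cfsg

namespace Cfsg.Agent.Lib.Helper29

variable {Ω : Type*} [Group Ω] {S : Subgroup Ω} {Ω' : Type*} [Group Ω']

theorem mem_preimageAlong {θ : S →* Ω'} {P' : Subgroup Ω'} {x : Ω} :
    x ∈ FusionSystem.preimageAlong θ P' ↔ ∃ hx : x ∈ S, θ ⟨x, hx⟩ ∈ P' := by
  constructor
  · rintro ⟨y, hy, rfl⟩
    exact ⟨y.2, hy⟩
  · rintro ⟨hx, h⟩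
    exact ⟨⟨x, hx⟩, h, rfl⟩

theorem mem_imageAlong {θ : S →* Ω'} {P : Subgroup Ω} {y : Ω'} :
    y ∈ FusionSystem.imageAlong θ P ↔ ∃ x : S, (x : Ω) ∈ P ∧ θ x = y := by
  constructor
  · rintro ⟨x, hx, rfl⟩
    exact ⟨x, hx, rfl⟩
  · rintro ⟨x, hx, rfl⟩
    exact ⟨x, hx, rfl⟩

/-- the full preimage of the image of `P ≤ S` is `P ⊔ S₀`, where `S₀` is the kernel -/
theorem preimageAlong_imageAlong {θ : S →* Ω'} {S₀ : Subgroup Ω} (hS₀ : S₀ ≤ S)
    (hker : ∀ s : S, θ s = 1 ↔ (s : Ω) ∈ S₀) {P : Subgroup Ω} (hP : P ≤ S) :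
    FusionSystem.preimageAlong θ (FusionSystem.imageAlong θ P) = P ⊔ S₀ := by
  apply le_antisymm
  · intro s hs
    obtain ⟨hsS, hθ⟩ := mem_preimageAlong.1 hs
    obtain ⟨x, hx, hxe⟩ := mem_imageAlong.1 hθ
    have h1 : θ (x⁻¹ * ⟨s, hsS⟩) = 1 := by rw [map_mul, map_inv, hxe, inv_mul_cancel]
    have h2 : (x : Ω)⁻¹ * s ∈ S₀ := (hker _).1 h1
    have e : s = (x : Ω) * ((x : Ω)⁻¹ * s) := by group
    rw [e]
    exact Subgroup.mul_mem _ (Subgroup.mem_sup_left hx) (Subgroup.mem_sup_right h2)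
  · refine sup_le ?_ ?_
    · intro x hx
      exact mem_preimageAlong.2 ⟨hP hx, mem_imageAlong.2 ⟨⟨x, hP hx⟩, hx, rfl⟩⟩
    · intro x hx
      refine mem_preimageAlong.2 ⟨hS₀ hx, ?_⟩
      rw [(hker ⟨x, hS₀ hx⟩).2 hx]
      exact Subgroup.one_mem _

/-- the natural map onto a factor system by a strongly closed subgroup is a surjective morphism -/
theorem factorSystem_surjectiveMorphism [Finite S] (p : ℕ) [Fact p.Prime] (hS : IsPGroup p S)
    (F : FusionSystem S) (hF : F.IsSaturated p) (S₀ : Subgroup Ω) (hS₀ : F.StronglyClosed S₀)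
    {S' : Subgroup Ω'} (θ : S →* Ω') (E : FusionSystem S') (hE : F.IsFactorSystem S₀ θ E) :
    F.IsSurjectiveMorphism E θ := by
  obtain ⟨hS₀S, hker, hrange, hhom⟩ := hE
  have hθS' : ∀ s : S, θ s ∈ S' := fun s => hrange.le ⟨s, rfl⟩
  refine ⟨⟨hθS', fun P φ hφ => ?_⟩, hrange, fun P' _ φ' hφ' => ((hhom P' φ').1 hφ').2⟩
  have hPS := (F.le_of_mem hφ).1
  have hφS := (F.le_of_mem hφ).2
  obtain ⟨φh, hφh, hmod⟩ := extMod_of_stronglyClosed p hS F hF hS₀ hφ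
  have hDS : P ⊔ S₀ ≤ S := sup_le hPS hS₀S
  have hφhS := (F.le_of_mem hφh).2
  have heq := preimageAlong_imageAlong hS₀S hker hPS
  -- the projection `π : P ⊔ S₀ → θ(P)`
  have hπmem : ∀ x : ↥(P ⊔ S₀), (θ.comp (Subgroup.inclusion hDS)) x ∈ FusionSystem.imageAlong θ P := by
    intro x
    have hx : (x : Ω) ∈ FusionSystem.preimageAlong θ (FusionSystem.imageAlong θ P) := heq.ge x.2
    obtain ⟨_, h⟩ := mem_preimageAlong.1 hx
    exact h
  set π : ↥(P ⊔ S₀) →* FusionSystem.imageAlong θ P :=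
    (θ.comp (Subgroup.inclusion hDS)).codRestrict _ hπmem with hπdef
  have hπsurj : Function.Surjective π := by
    intro y
    obtain ⟨x, hx, hxe⟩ := mem_imageAlong.1 y.2
    exact ⟨⟨x, Subgroup.mem_sup_left hx⟩, Subtype.ext hxe⟩
  set g : ↥(P ⊔ S₀) →* Ω' := θ.comp (φh.codRestrict S hφhS) with hgdef
  have hkerle : π.ker ≤ g.ker := by
    intro x hx
    rw [MonoidHom.mem_ker] at hx ⊢
    have h1 : θ ⟨x, hDS x.2⟩ = 1 := congrArg Subtype.val hx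
    have h2 : (x : Ω) ∈ S₀ := (hker _).1 h1
    have h3 : φh x ∈ S₀ := stronglyClosed_hom_mem F hS₀ hφh x h2
    exact (hker ⟨φh x, hφhS x⟩).2 h3
  set φ' : FusionSystem.imageAlong θ P →* Ω' := π.liftOfSurjective hπsurj ⟨g, hkerle⟩ with hφ'def
  have hφ'π : ∀ x : ↥(P ⊔ S₀), φ' (π x) = θ ⟨φh x, hφhS x⟩ := by
    intro x
    exact MonoidHom.liftOfRightInverse_comp_apply π _ _ ⟨g, hkerle⟩ x
  refine ⟨φ', ?_, ?_⟩
  · rw [hhom]
    refine ⟨fun y hy => ?_, φh.comp (Subgroup.inclusion heq.le), hom_cast_mem F heq hφh, ?_⟩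
    · obtain ⟨x, _, rfl⟩ := mem_imageAlong.1 hy
      exact hθS' x
    · refine ⟨heq.le.trans hDS, fun x => hφhS _, fun x => hπmem (Subgroup.inclusion heq.le x),
        fun x => ?_⟩
      exact hφ'π (Subgroup.inclusion heq.le x)
  · refine ⟨hPS, hφS, fun x => mem_imageAlong.2 ⟨⟨x, hPS x.2⟩, x.2, rfl⟩, fun x => ?_⟩
    have h1 := hφ'π (Subgroup.inclusion le_sup_left x)
    have h2 : (⟨θ ⟨x, hPS x.2⟩, mem_imageAlong.2 ⟨⟨x, hPS x.2⟩, x.2, rfl⟩⟩ :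
        FusionSystem.imageAlong θ P) = π (Subgroup.inclusion le_sup_left x) := Subtype.ext rfl
    rw [h2, h1]
    have ht := hmod x
    have h3 : (⟨φh (Subgroup.inclusion le_sup_left x), hφhS _⟩ : S) =
        ⟨φ x, hφS x⟩ * ⟨(φ x)⁻¹ * φh (Subgroup.inclusion le_sup_left x), hS₀S ht⟩ := by
      apply Subtype.ext
      show φh (Subgroup.inclusion le_sup_left x) =
        φ x * ((φ x)⁻¹ * φh (Subgroup.inclusion le_sup_left x))
      group
    have h4 : θ ⟨(φ x)⁻¹ * φh (Subgroup.inclusion le_sup_left x), hS₀S ht⟩ = 1 := (hker _).2 ht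
    rw [h3, map_mul, h4, mul_one]

end Cfsg.Agent.Lib.Helper29
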