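import Cfsg.Agent.Lib.Helper29.FusionAlperin
import Cfsg.Agent.Lib.Helper29.ExtendableAut
import Cfsg.Agent.Lib.Helper29.FusionHyp

/-!
A form of Alperin's fusion theorem with an induction hypothesis, and the focal subgroup of a saturated
system whose automizer of `S` is inner lies in every strongly closed subgroup containing `[S,S]`.
-/
set_option autoImplicit false

namespace Cfsg.Agent.Lib.Helper29
open Cfsg
open scoped commutatorElement

variable {Ω : Type*} [Group Ω] {S : Subgroup Ω}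

theorem alperin_IH_aux [Finite S] (p : ℕ) [Fact p.Prime] (hS : IsPGroup p S) (F : FusionSystem S)
    (hF : F.IsSaturated p) (E : FusionSystem S)
    (hE : ∀ R : Subgroup Ω, F.IsFullyAutomized p R → F.IsReceptive R →
      (∀ P' : Subgroup Ω, P' ≤ S → Nat.card R < Nat.card P' → F.Hom P' ⊆ E.Hom P') →
      F.autGroup R ≤ E.autGroup R) (k : ℕ) :
    ∀ P : Subgroup Ω, P ≤ S → Nat.card S - Nat.card P = k → F.Hom P ⊆ E.Hom P := by
  induction k using Nat.strong_induction_on with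
  | _ k ih =>
    intro P hPS hk φ hφ
    obtain ⟨R, hPR, hRfa, hRrec⟩ := hF P hPS
    have hRS : R ≤ S := hRrec.1
    haveI : Finite R := finite_of_le hRS
    haveI : Finite P := finite_of_le hPS
    have hcardPR : Nat.card P = Nat.card R := card_eq_of_isConj F hPR
    have IH : ∀ P' : Subgroup Ω, P' ≤ S → Nat.card R < Nat.card P' → F.Hom P' ⊆ E.Hom P' := by
      intro P' hP'S hlt
      have hle : Nat.card P' ≤ Nat.card S := Subgroup.card_le_of_le hP'S
      exact ih (Nat.card S - Nat.card P') (by omega) P' hP'S rfl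
    have hAut : F.autGroup R ≤ E.autGroup R := hE R hRfa hRrec IH
    have hconj : ∀ Q : Subgroup Ω, F.IsConj Q R →
        ∃ θ : Q →* Ω, θ ∈ F.Hom Q ∧ θ ∈ E.Hom Q ∧ θ.range = R := by
      intro Q hQR
      have hQS := isConj_le_left F hQR
      by_cases hQ : Q = S
      · have hRQ : R = Q := by
          rw [hQ]
          apply Subgroup.eq_of_le_of_card_ge hRS
          rw [← hQ, card_eq_of_isConj F hQR]
        exact ⟨Q.subtype, subtype_mem F hQS, subtype_mem E hQS, by rw [Subgroup.range_subtype, hRQ]⟩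
      · obtain ⟨θ, hθ, hθN, hθQ, hmap⟩ := exists_hom_normalizer p hS F R Q hRfa hRrec hQR
        have hNS : FusionSystem.normalizerIn S Q ≤ S := inf_le_left
        have hQN : Q ≤ FusionSystem.normalizerIn S Q := le_normalizerIn hQS
        haveI : Finite (FusionSystem.normalizerIn S Q) := finite_of_le hNS
        have hlt : Nat.card Q < Nat.card (FusionSystem.normalizerIn S Q) := by
          rcases (Subgroup.card_le_of_le hQN).lt_or_eq with h | h
          · exact h
          · exfalso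
            exact normalizerIn_ne_self hS hQS hQ (Subgroup.eq_of_le_of_card_ge hQN h.ge).symm
        have hθE := IH _ hNS (by rw [← card_eq_of_isConj F hQR]; exact hlt) hθ
        refine ⟨θ.comp (Subgroup.inclusion hQN), restrict_mem F hQN hθ, restrict_mem E hQN hθE, ?_⟩
        ext y
        constructor
        · rintro ⟨x, rfl⟩
          exact theta_mem hmap x x.2 _
        · intro hy
          obtain ⟨x, hx, hx', rfl⟩ := theta_surj hmap hy
          exact ⟨⟨x, hx⟩, rfl⟩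
    obtain ⟨θ, hθF, hθE, hθr⟩ := hconj P hPR
    have hP₁R : F.IsConj φ.range R := isConj_trans F (isConj_symm F ⟨φ, hφ, rfl⟩) hPR
    obtain ⟨θ₁, hθ₁F, hθ₁E, hθ₁r⟩ := hconj φ.range hP₁R
    obtain ⟨θi, hθiF, hθi⟩ := exists_inv_iso F hθF hθr
    obtain ⟨θ₁i, hθ₁iE, hθ₁i⟩ := exists_inv_iso E hθ₁E hθ₁r
    have hθR : ∀ x : P, θ x ∈ R := fun x => hθr ▸ ⟨x, rfl⟩
    have hθ₁R : ∀ z : φ.range, θ₁ z ∈ R := fun z => hθ₁r ▸ ⟨z, rfl⟩
    -- θi maps R into P
    have hθiP : ∀ y : R, θi y ∈ P := by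
      intro y
      have hy : (y : Ω) ∈ θ.range := hθr ▸ y.2
      obtain ⟨x, hx⟩ := hy
      have : y = ⟨θ x, hθR x⟩ := Subtype.ext hx.symm
      rw [this, hθi]
      exact x.2
    have hθi' : ∀ x : P, (⟨θi ⟨θ x, hθR x⟩, hθiP _⟩ : P) = x := fun x => Subtype.ext (hθi x _)
    -- χ = θ₁ ∘ φ ∘ θi : R → R
    have s1 : φ.comp (θi.codRestrict P hθiP) ∈ F.Hom R := F.comp_mem hθiF hφ hθiP
    have hs1 : ∀ y : R, (φ.comp (θi.codRestrict P hθiP)) y ∈ φ.range := fun y => ⟨_, rfl⟩
    have s2 := F.comp_mem s1 hθ₁F hs1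
    have hs2R : ∀ y : R, (θ₁.comp ((φ.comp (θi.codRestrict P hθiP)).codRestrict φ.range hs1)) y ∈ R :=
      fun y => hθ₁R _
    obtain ⟨α, hα, hαv⟩ := exists_aut_of_hom F s2 hs2R
    have hαE : R.subtype.comp α.toMonoidHom ∈ E.Hom R := (mem_autGroup_iff E hRS).1 (hAut hα)
    -- φ = θ₁i ∘ α ∘ θ
    have t1 : (R.subtype.comp α.toMonoidHom).comp (θ.codRestrict R hθR) ∈ E.Hom P :=
      E.comp_mem hθE hαE hθR
    have ht1 : ∀ x : P, ((R.subtype.comp α.toMonoidHom).comp (θ.codRestrict R hθR)) x ∈ R :=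
      fun x => (α ⟨θ x, hθR x⟩).2
    apply comp_mem' E t1 hθ₁iE ht1
    intro x
    -- φ x = θ₁i ⟨α ⟨θ x⟩⟩
    have e1 : ((α ⟨θ x, hθR x⟩ : R) : Ω) = θ₁ ⟨φ x, ⟨x, rfl⟩⟩ := by
      rw [hαv]
      show θ₁ ⟨φ ⟨θi ⟨θ x, hθR x⟩, hθiP _⟩, _⟩ = θ₁ ⟨φ x, _⟩
      congr 2
      rw [hθi' x]
    have e2 := hθ₁i ⟨φ x, ⟨x, rfl⟩⟩ (hθ₁R _)
    refine e2.symm.trans ?_
    congr 1
    exact Subtype.ext e1.symm


theorem alperin_IH [Finite S] (p : ℕ) [Fact p.Prime] (hS : IsPGroup p S) (F : FusionSystem S)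
    (hF : F.IsSaturated p) (E : FusionSystem S)
    (hE : ∀ R : Subgroup Ω, F.IsFullyAutomized p R → F.IsReceptive R →
      (∀ P' : Subgroup Ω, P' ≤ S → Nat.card R < Nat.card P' → F.Hom P' ⊆ E.Hom P') →
      F.autGroup R ≤ E.autGroup R) : F ≤ E := by
  intro P φ hφ
  exact alperin_IH_aux p hS F hF E hE _ P (le_of_hom_mem F hφ) rfl hφ


/-- in a saturated system whose automizer of `S` is induced by `S`, the focal subgroup lies in every
strongly closed subgroup containing the derived subgroup of `S` -/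
theorem modSys_ge_of_stronglyClosed [Finite S] (p : ℕ) [Fact p.Prime] (hS : IsPGroup p S) (F : FusionSystem S)
    (hF : F.IsSaturated p) (R : Subgroup Ω) (hR : F.StronglyClosed R) (hcomm : ⁅S, S⁆ ≤ R)
    (hAutS : ∀ α ∈ F.autGroup S, ∃ s ∈ S, ∀ x : S, ((α x : S) : Ω) = s * x * s⁻¹) :
    F ≤ modSys F R hcomm := by
  apply alperin_IH p hS F hF
  intro R₀ hfa hrec IH
  have hR₀S : R₀ ≤ S := hrec.1
  -- conjugations by elements of `S` act trivially modulo `R`
  have hconjR : ∀ (x n : Ω), x ∈ S → n ∈ S → x⁻¹ * (n * x * n⁻¹) ∈ R := by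
    intro x n hx hn
    apply hcomm
    have h3 : ⁅x⁻¹, n⁆ ∈ ⁅S, S⁆ := Subgroup.commutator_mem_commutator (S.inv_mem hx) hn
    have e : ⁅x⁻¹, n⁆ = x⁻¹ * (n * x * n⁻¹) := by
      rw [commutatorElement_def]
      group
    rw [← e]
    exact h3
  by_cases hne : R₀ = S
  · rw [hne]
    intro α hα
    rw [mem_autGroup_iff _ le_rfl]
    refine ⟨(mem_autGroup_iff F le_rfl).1 hα, fun x => ?_⟩
    obtain ⟨s, hs, hsv⟩ := hAutS α hα
    show (x : Ω)⁻¹ * ((α x : S) : Ω) ∈ R
    rw [hsv]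
    exact hconjR _ _ x.2 hs
  · have hlt : R₀ < S := lt_of_le_of_ne hR₀S hne
    haveI : Finite R₀ := finite_of_le hR₀S
    set E := modSys F R hcomm with hE
    set K : Subgroup (F.autGroup R₀) := (E.autGroup R₀).subgroupOf (F.autGroup R₀) with hK
    have hKmem : ∀ κ : F.autGroup R₀, κ ∈ K ↔ ∀ x : R₀, (x : Ω)⁻¹ * (((κ : MulAut R₀) x : R₀) : Ω) ∈ R := by
      intro κ
      rw [hK, Subgroup.mem_subgroupOf, mem_autGroup_iff E hR₀S]
      constructor
      · intro h x
        exact h.2 x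
      · intro h
        exact ⟨(mem_autGroup_iff F hR₀S).1 κ.2, h⟩
    haveI hKn : K.Normal := by
      constructor
      intro κ hκ β
      rw [hKmem] at hκ ⊢
      intro x
      set y : R₀ := (β : MulAut R₀)⁻¹ x with hy
      have hr := hκ y
      -- the element `r = y⁻¹ κ(y)` of `R₀ ∩ R`
      set r : R₀ := y⁻¹ * (κ : MulAut R₀) y with hr'
      have hrR : (r : Ω) ∈ R := hr
      have hβF : R₀.subtype.comp (β : MulAut R₀).toMonoidHom ∈ F.Hom R₀ := (mem_autGroup_iff F hR₀S).1 β.2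
      have hle : Subgroup.zpowers (r : Ω) ≤ R₀ := by
        rw [Subgroup.zpowers_le]
        exact r.2
      have hleR : Subgroup.zpowers (r : Ω) ≤ R := by
        rw [Subgroup.zpowers_le]
        exact hrR
      have h5 := hR.2 _ hleR _ (restrict_mem F hle hβF) ⟨r, Subgroup.mem_zpowers _⟩
      have e : (x : Ω)⁻¹ * ((((β * κ * β⁻¹ : F.autGroup R₀) : MulAut R₀) x : R₀) : Ω) =
          (((β : MulAut R₀) r : R₀) : Ω) := by
        have e1 : (β : MulAut R₀) r = x⁻¹ * ((β * κ * β⁻¹ : F.autGroup R₀) : MulAut R₀) x := by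
          rw [hr', map_mul, map_inv, hy, MulAut.apply_inv_self]
          rfl
        rw [e1]
        rfl
      rw [e]
      exact h5
    obtain ⟨_, Rsyl, hRsyl⟩ := hfa
    have hPK : (Rsyl : Subgroup (F.autGroup R₀)) ≤ K := by
      intro c hc
      rw [hRsyl, Subgroup.mem_subgroupOf, autInducedBy_eq_map] at hc
      obtain ⟨n, hn, hnc⟩ := hc
      rw [hKmem]
      intro x
      rw [← hnc]
      show (x : Ω)⁻¹ * ((n : Ω) * x * (n : Ω)⁻¹) ∈ R
      exact hconjR _ _ (hR₀S x.2) hn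
    have hfr := Sylow.normalizer_sup_eq_top' Rsyl hPK
    have hNK : Subgroup.normalizer ((Rsyl : Subgroup (F.autGroup R₀)) : Set (F.autGroup R₀)) ≤ K := by
      intro ν hν
      obtain ⟨g, hg, hgR⟩ := exists_mem_normalizerIn_not_mem hS hlt
      have hbA : R₀.normalizerMonoidHom ⟨g, hg.2⟩ ∈ F.autGroup R₀ := by
        apply autInducedBy_le_autGroup F hR₀S
        rw [autInducedBy_eq_map]
        exact ⟨⟨g, hg.2⟩, hg.1, rfl⟩
      have hb : (⟨R₀.normalizerMonoidHom ⟨g, hg.2⟩, hbA⟩ : F.autGroup R₀) ∈ (Rsyl : Subgroup (F.autGroup R₀)) := by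
        rw [hRsyl, Subgroup.mem_subgroupOf, autInducedBy_eq_map]
        exact ⟨⟨g, hg.2⟩, hg.1, rfl⟩
      have hc := (Subgroup.mem_normalizer_iff.1 hν _).1 hb
      rw [hRsyl, Subgroup.mem_subgroupOf, autInducedBy_eq_map] at hc
      obtain ⟨h, hh, hhe⟩ := hc
      have hext : (ν : MulAut R₀) ∈ extGen F R₀ := by
        refine mem_extGen_of_rel F hrec ν.2 hg hgR hh (fun x hx => ?_)
        have e1 : ((ν : MulAut R₀) * R₀.normalizerMonoidHom ⟨g, hg.2⟩ * (ν : MulAut R₀)⁻¹) ((ν : MulAut R₀) x) =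
            R₀.normalizerMonoidHom h ((ν : MulAut R₀) x) := by
          rw [hhe]
          rfl
        rw [MulAut.mul_apply, MulAut.mul_apply, MulAut.inv_apply_self] at e1
        exact congrArg (fun z : R₀ => (z : Ω)) e1
      obtain ⟨Q, hPQ, φ, hφ, hv⟩ := hext
      have hQS : Q ≤ S := le_of_hom_mem F hφ
      haveI : Finite Q := finite_of_le hQS
      have hcard : Nat.card R₀ < Nat.card Q := by
        rcases (Subgroup.card_le_of_le hPQ.le).lt_or_eq with h | h
        · exact h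
        · exact absurd (Subgroup.eq_of_le_of_card_ge hPQ.le h.ge) hPQ.ne
      have hφE := IH Q hQS hcard hφ
      rw [hKmem]
      intro x
      have := hφE.2 (Subgroup.inclusion hPQ.le x)
      rw [hv x] at this
      exact this
    have hKtop : K = ⊤ := by
      rw [← hfr]
      exact (sup_eq_right.2 hNK).symm
    intro α hα
    have hmem : (⟨α, hα⟩ : F.autGroup R₀) ∈ K := by
      rw [hKtop]
      exact Subgroup.mem_top _
    exact hmem

theorem focal_le_of_stronglyClosed [Finite S] (p : ℕ) [Fact p.Prime] (hS : IsPGroup p S) (F : FusionSystem S)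
    (hF : F.IsSaturated p) (R : Subgroup Ω) (hR : F.StronglyClosed R) (hcomm : ⁅S, S⁆ ≤ R)
    (hAutS : ∀ α ∈ F.autGroup S, ∃ s ∈ S, ∀ x : S, ((α x : S) : Ω) = s * x * s⁻¹) :
    F.focalSubgroup ≤ R := by
  have hle := modSys_ge_of_stronglyClosed p hS F hF R hR hcomm hAutS
  unfold FusionSystem.focalSubgroup
  rw [Subgroup.closure_le]
  rintro _ ⟨P, φ, x, hφ, rfl⟩
  exact (hle P hφ).2 x

end Cfsg.Agent.Lib.Helper29
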