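import Mathlib.GroupTheory.Focal
import Mathlib.GroupTheory.PGroup

/-!
Consequence of the focal subgroup theorem: a homomorphism from a Sylow `p`-subgroup to an abelian `p`-group
that is constant on the fusion classes extends to the whole group.
-/
set_option autoImplicit false

namespace Cfsg.Agent.Lib.Helper29

theorem exists_hom_extend_sylow {G C : Type*} [Group G] [Finite G] [CommGroup C] {p : ℕ} [Fact p.Prime]
    (hC : IsPGroup p C) (P : Sylow p G) (ρ : (P : Subgroup G) →* C)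
    (hconj : ∀ (x y : (P : Subgroup G)) (g : G), (y : G) = g * x * g⁻¹ → ρ y = ρ x) :
    ∃ ρ' : G →* C, ∀ x : (P : Subgroup G), ρ' x = ρ x := by
  have hker : (P : Subgroup G).focalSubgroupOf ≤ ρ.ker := by
    rw [Subgroup.focalSubgroupOf_eq_closure, Subgroup.closure_le]
    rintro g ⟨x, hx, u, hg⟩
    rw [SetLike.mem_coe, MonoidHom.mem_ker]
    have hy : u * x⁻¹ * u⁻¹ ∈ (P : Subgroup G) := by
      have h1 : u * x⁻¹ * u⁻¹ = x⁻¹ * (g : G) := by
        rw [hg, commutatorElement_def]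
        group
      rw [h1]
      exact Subgroup.mul_mem _ (Subgroup.inv_mem _ hx) g.2
    have h2 : g = ⟨x, hx⟩ * ⟨u * x⁻¹ * u⁻¹, hy⟩ := by
      apply Subtype.ext
      rw [hg, commutatorElement_def]
      show x * u * x⁻¹ * u⁻¹ = x * (u * x⁻¹ * u⁻¹)
      group
    have h3 : ρ ⟨u * x⁻¹ * u⁻¹, hy⟩ = ρ (⟨x, hx⟩⁻¹) := hconj (⟨x, hx⟩⁻¹) ⟨u * x⁻¹ * u⁻¹, hy⟩ u rfl
    rw [h2, map_mul, h3, map_inv, mul_inv_cancel]
  have hm : ¬ p ∣ (P : Subgroup G).index := P.not_dvd_index
  have hroot : ∀ a b : C, (hC.powEquiv' hm).symm (a * b) =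
      (hC.powEquiv' hm).symm a * (hC.powEquiv' hm).symm b := by
    intro a b
    apply (hC.powEquiv' hm).injective
    rw [Equiv.apply_symm_apply]
    show a * b = ((hC.powEquiv' hm).symm a * (hC.powEquiv' hm).symm b) ^ (P : Subgroup G).index
    rw [mul_pow]
    have h1 : ((hC.powEquiv' hm).symm a) ^ (P : Subgroup G).index = a := (hC.powEquiv' hm).apply_symm_apply a
    have h2 : ((hC.powEquiv' hm).symm b) ^ (P : Subgroup G).index = b := (hC.powEquiv' hm).apply_symm_apply b
    rw [h1, h2]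
  refine ⟨MonoidHom.mk' (fun g => (hC.powEquiv' hm).symm
    (QuotientGroup.lift (P : Subgroup G).focalSubgroupOf ρ hker ((P : Subgroup G).transferFocal g)))
    (fun a b => by rw [map_mul, map_mul, hroot]), fun x => ?_⟩
  show (hC.powEquiv' hm).symm
    (QuotientGroup.lift (P : Subgroup G).focalSubgroupOf ρ hker ((P : Subgroup G).transferFocal x)) = ρ x
  rw [Subgroup.transferFocal_eq_pow, map_pow, QuotientGroup.lift_mk, Equiv.symm_apply_eq]
  rfl

end Cfsg.Agent.Lib.Helper29
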