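import Cfsg.Prelude.Def_FusionSystem

set_option autoImplicit false
open Cfsg

namespace Cfsg.Agent.Lib.Helper29

variable {Ω : Type*} [Group Ω] {S : Subgroup Ω}

/-- Restriction of a map of the system to a smaller subgroup is a map of the system. -/
theorem restrict_mem (F : FusionSystem S) {R R' : Subgroup Ω} (h : R ≤ R') {ψ : R' →* Ω}
    (hψ : ψ ∈ F.Hom R') : ψ.comp (Subgroup.inclusion h) ∈ F.Hom R := by
  have hR'S : R' ≤ S := (F.le_of_mem hψ).1
  have h1 : conjHom R 1 ∈ F.Hom R := F.conj_mem (h.trans hR'S) S.one_mem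
  have h2 : ∀ x : R, conjHom R 1 x ∈ R' := by
    intro x
    show 1 * (x : Ω) * 1⁻¹ ∈ R'
    simpa using h x.2
  have h3 := F.comp_mem h1 hψ h2
  have h4 : ψ.comp ((conjHom R 1).codRestrict R' h2) = ψ.comp (Subgroup.inclusion h) := by
    ext x
    show ψ ⟨1 * (x : Ω) * 1⁻¹, _⟩ = ψ ⟨x, _⟩
    congr 1
    apply Subtype.ext
    simp
  rwa [h4] at h3

/-- The inclusion of a subgroup of `S` is a map of the system. -/
theorem subtype_mem (F : FusionSystem S) {R : Subgroup Ω} (h : R ≤ S) : R.subtype ∈ F.Hom R := by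
  have h1 : conjHom R 1 ∈ F.Hom R := F.conj_mem h S.one_mem
  have h2 : conjHom R 1 = R.subtype := by
    ext x
    show 1 * (x : Ω) * 1⁻¹ = x
    simp
  rwa [h2] at h1

/-- Transport of a map of the system along an equality of source subgroups. -/
theorem hom_cast_mem (F : FusionSystem S) {R R' : Subgroup Ω} (h : R = R') {ψ : R' →* Ω}
    (hψ : ψ ∈ F.Hom R') : ψ.comp (Subgroup.inclusion h.le) ∈ F.Hom R :=
  restrict_mem F h.le hψ

end Cfsg.Agent.Lib.Helper29
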