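import Cfsg.Agent.Lib.Helper29.FusionChain2

/-!
Characteristic subgroups of a subgroup normal in a fusion system are strongly closed; upper central series chain.
-/
set_option autoImplicit false

namespace Cfsg.Agent.Lib.Helper29
open Cfsg
open scoped commutatorElement

variable {Ω : Type*} [Group Ω] {S : Subgroup Ω}

/-- every map of `F` between subgroups of a subgroup `R` normal in `F` is a restriction of an element of
`Aut_F(R)` -/
theorem exists_aut_of_isNormal [Finite S] (F : FusionSystem S) {R : Subgroup Ω} (hR : F.IsNormal R)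
    (P : Subgroup Ω) (hPR : P ≤ R) (φ : P →* Ω) (hφ : φ ∈ F.Hom P) :
    ∃ α ∈ F.autGroup R, ∀ x : P, ((α (Subgroup.inclusion hPR x) : R) : Ω) = φ x := by
  obtain ⟨ψ, hψ, hψP, hψR⟩ := hR.2 P φ hφ
  have : Finite R := finite_of_le hR.1
  have h1 : ψ.comp (Subgroup.inclusion (le_sup_right : R ≤ P ⊔ R)) ∈ F.Hom R :=
    restrict_mem F le_sup_right hψ
  have h2 : ∀ x : R, (ψ.comp (Subgroup.inclusion (le_sup_right : R ≤ P ⊔ R))) x ∈ R := by
    intro x
    have h3 : ψ (Subgroup.inclusion le_sup_right x) ∈ (R.subgroupOf (P ⊔ R)).map ψ := ⟨_, x.2, rfl⟩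
    rw [hψR] at h3
    exact h3
  obtain ⟨α, hα, hαv⟩ := exists_aut_of_hom F h1 h2
  refine ⟨α, hα, fun x => ?_⟩
  rw [hαv, ← hψP]
  rfl

/-- if all `F`-maps between subgroups of `Q` extend to `Aut_F(Q)`, characteristic subgroups of `Q` are
strongly closed -/
theorem stronglyClosed_of_char (F : FusionSystem S) {Q : Subgroup Ω} (hQS : Q ≤ S)
    (hext : ∀ (P : Subgroup Ω) (hPQ : P ≤ Q) (φ : P →* Ω), φ ∈ F.Hom P →
      ∃ α ∈ F.autGroup Q, ∀ x : P, ((α (Subgroup.inclusion hPQ x) : Q) : Ω) = φ x)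
    (K : Subgroup Q) [hK : K.Characteristic] : F.StronglyClosed (K.map Q.subtype) := by
  have hKQ : K.map Q.subtype ≤ Q := by
    rintro _ ⟨k, _, rfl⟩
    exact k.2
  refine ⟨hKQ.trans hQS, fun R' hR' φ hφ x => ?_⟩
  obtain ⟨α, _, hαv⟩ := hext R' (hR'.trans hKQ) φ hφ
  rw [← hαv]
  have hx : Subgroup.inclusion (hR'.trans hKQ) x ∈ K := by
    obtain ⟨k, hk, hkx⟩ := hR' x.2
    have : Subgroup.inclusion (hR'.trans hKQ) x = k := Subtype.ext hkx.symm
    rw [this]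
    exact hk
  have hmap := (Subgroup.characteristic_iff_map_eq.1 hK) α
  have h2 : α (Subgroup.inclusion (hR'.trans hKQ) x) ∈ K.map α.toMonoidHom := ⟨_, hx, rfl⟩
  rw [hmap] at h2
  exact ⟨_, h2, rfl⟩

/-- AKO I.4.6 (⇒)-type statement: if all `F`-maps between subgroups of `Q` extend to `Aut_F(Q)`, the
upper central series of `Q` is a chain of strongly closed subgroups with `[Q, Qᵢ₊₁] ≤ Qᵢ`. -/
theorem exists_chain_of_ext [Finite S] {p : ℕ} [Fact p.Prime] (hS : IsPGroup p S) (F : FusionSystem S)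
    {Q : Subgroup Ω} (hQS : Q ≤ S)
    (hext : ∀ (P : Subgroup Ω) (hPQ : P ≤ Q) (φ : P →* Ω), φ ∈ F.Hom P →
      ∃ α ∈ F.autGroup Q, ∀ x : P, ((α (Subgroup.inclusion hPQ x) : Q) : Ω) = φ x) :
    ∃ (n : ℕ) (Qs : Fin (n + 1) → Subgroup Ω), Qs 0 = ⊥ ∧ Qs (Fin.last n) = Q ∧ Monotone Qs ∧
      ∀ i : Fin n, F.StronglyClosed (Qs i.succ) ∧ ⁅Q, Qs i.succ⁆ ≤ Qs (Fin.castSucc i) := by
  have : Finite Q := finite_of_le hQS
  have hQp : IsPGroup p Q := hS.to_le hQS
  have hnil : Group.IsNilpotent Q := hQp.isNilpotent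
  obtain ⟨n, hn⟩ := hnil.nilpotent
  refine ⟨n, fun i => (Subgroup.upperCentralSeries Q i).map Q.subtype, ?_, ?_, ?_, ?_⟩
  · show (Subgroup.upperCentralSeries Q 0).map Q.subtype = ⊥
    rw [Subgroup.upperCentralSeries_zero, Subgroup.map_bot]
  · show (Subgroup.upperCentralSeries Q n).map Q.subtype = Q
    rw [hn, ← MonoidHom.range_eq_map, Subgroup.range_subtype]
  · intro i j hij
    exact Subgroup.map_mono (Subgroup.upperCentralSeries_mono Q hij)
  · intro i
    refine ⟨stronglyClosed_of_char F hQS hext _, ?_⟩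
    rw [Subgroup.commutator_le]
    rintro g hg _ ⟨z, hz, rfl⟩
    have hz' : z ∈ Subgroup.upperCentralSeries Q (i + 1) := hz
    rw [Subgroup.mem_upperCentralSeries_succ_iff] at hz'
    have h1 := hz' ⟨g, hg⟩
    have h2 := Subgroup.inv_mem _ h1
    refine ⟨_, h2, ?_⟩
    show ((z * ⟨g, hg⟩ * z⁻¹ * (⟨g, hg⟩ : Q)⁻¹)⁻¹ : Q).1 = ⁅g, (z : Ω)⁆
    rw [commutatorElement_def]
    simp only [Subgroup.coe_inv, Subgroup.coe_mul]
    group

end Cfsg.Agent.Lib.Helper29
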