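import Cfsg.Agent.Lib.Helper29.FusionChain3

/-!
AKO-type criterion: `Q` strongly closed, `Q₁ ≤ Q` normal in `F` with `Q/Q₁` abelian and `Aut_F(Q₁)` a `p`-group.
-/
set_option autoImplicit false

namespace Cfsg.Agent.Lib.Helper29
open Cfsg
open scoped commutatorElement

variable {Ω : Type*} [Group Ω] {S : Subgroup Ω}

theorem aut_pow_restrict {Q₁ P : Subgroup Ω} (hle : Q₁ ≤ P) (α : MulAut P) (α₁ : MulAut Q₁)
    (h : ∀ x : Q₁, ((α₁ x : Q₁) : Ω) = ((α (Subgroup.inclusion hle x) : P) : Ω)) (m : ℕ) :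
    ∀ x : Q₁, (((α₁ ^ m) x : Q₁) : Ω) = (((α ^ m) (Subgroup.inclusion hle x) : P) : Ω) := by
  induction m with
  | zero => intro x; rfl
  | succ m ih =>
    intro x
    rw [pow_succ', pow_succ', MulAut.mul_apply, MulAut.mul_apply, h]
    have e : Subgroup.inclusion hle ((α₁ ^ m) x) = (α ^ m) (Subgroup.inclusion hle x) :=
      Subtype.ext (ih x)
    rw [e]

/-- every `F`-automorphism of an overgroup of `Q₁ ⊲ F` has `p`-power order on `Q₁` when `Aut_F(Q₁)` is a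
`p`-group -/
theorem exists_pow_fix_of_isPGroup_aut [Finite S] {p : ℕ} [Fact p.Prime] (F : FusionSystem S)
    {Q₁ P : Subgroup Ω} (hQ₁ : F.StronglyClosed Q₁) (hle : Q₁ ≤ P) (hPS : P ≤ S)
    (hAut : IsPGroup p ↥(F.autGroup Q₁)) {α : MulAut P} (hα : α ∈ F.autGroup P) :
    ∃ k, ∀ x : P, (x : Ω) ∈ Q₁ → (α ^ (p ^ k)) x = x := by
  have hfin : Finite Q₁ := finite_of_le hQ₁.1
  have hfinA : Finite ↥(F.autGroup Q₁) := inferInstance
  obtain ⟨e, he⟩ := IsPGroup.iff_card.1 hAut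
  have hα' := (mem_autGroup_iff F hPS).1 hα
  have h1 : (P.subtype.comp α.toMonoidHom).comp (Subgroup.inclusion hle) ∈ F.Hom Q₁ :=
    restrict_mem F hle hα'
  have h2 : ∀ x : Q₁, ((P.subtype.comp α.toMonoidHom).comp (Subgroup.inclusion hle)) x ∈ Q₁ :=
    fun x => aut_mem_of_stronglyClosed F hQ₁ hPS hα _ x.2
  obtain ⟨α₁, hα₁, hα₁v⟩ := exists_aut_of_hom F h1 h2
  have hpow : α₁ ^ (p ^ e) = 1 := by
    have : (⟨α₁, hα₁⟩ : F.autGroup Q₁) ^ (p ^ e) = 1 := by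
      rw [← he]
      exact pow_card_eq_one'
    exact congrArg Subtype.val this
  refine ⟨e, fun x hx => ?_⟩
  apply Subtype.ext
  have h3 := aut_pow_restrict hle α α₁ (fun y => hα₁v y) (p ^ e) ⟨x.1, hx⟩
  rw [hpow] at h3
  have e2 : Subgroup.inclusion hle ⟨x.1, hx⟩ = x := Subtype.ext rfl
  rw [e2] at h3
  exact h3.symm

theorem isNormal_of_abelian_quotient [Finite S] (p : ℕ) [Fact p.Prime] (hS : IsPGroup p S)
    (F : FusionSystem S) (hF : F.IsSaturated p) (Q Q₁ : Subgroup Ω) (hQ : F.StronglyClosed Q)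
    (hQ₁Q : Q₁ ≤ Q) (hQ₁ : F.IsNormal Q₁) (hab : ⁅Q, Q⁆ ≤ Q₁) (hAut : IsPGroup p ↥(F.autGroup Q₁)) :
    F.IsNormal Q := by
  have hQn := conj_mem_of_stronglyClosed F hQ
  have hQ₁sc := stronglyClosed_of_isNormal F hQ₁
  apply isNormal_of_stronglyClosed p hS F hF Q hQ
  intro P hc hr
  have hPS : P ≤ S := hc.1
  have hQ₁P : Q₁ ≤ P := le_of_isNormal_of_centric_radical hS F hQ₁ hc hr
  let M : ℕ → Subgroup Ω := fun i => if i = 0 then Q₁ else if i = 1 then Q else ⊤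
  have hM0 : M 0 = Q₁ := rfl
  have hM1 : M 1 = Q := rfl
  have hM2 : ∀ i, 2 ≤ i → M i = ⊤ := by
    intro i hi
    show (if i = 0 then Q₁ else if i = 1 then Q else ⊤) = ⊤
    rw [if_neg (by omega), if_neg (by omega)]
  apply le_of_stab_chain hS F hc hr Q hQ.1
    (le_normalizer_of_conj_mem (fun g hg x hx => hQn g (hPS hg) x hx)) M 2
  · intro i
    rcases Nat.eq_zero_or_pos i with rfl | hi
    · rw [hM0]
      exact hQ₁Q
    · rw [hM2 (i + 1) (by omega)]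
      exact le_top
  · rw [hM2 2 le_rfl]
    exact le_top
  · intro i α hα x hx
    rcases Nat.eq_zero_or_pos i with rfl | hi
    · exact aut_mem_of_stronglyClosed F hQ₁sc hPS hα x hx
    · rcases Nat.eq_or_lt_of_le hi with h1 | h1
      · subst h1
        exact aut_mem_of_stronglyClosed F hQ hPS hα x hx
      · rw [hM2 i h1]
        exact Subgroup.mem_top _
  · intro α hα
    exact exists_pow_fix_of_isPGroup_aut F hQ₁sc hQ₁P hPS hAut hα
  · intro g hgQ hgN i hi x hxP hx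
    rcases Nat.eq_zero_or_pos i with rfl | hi'
    · have hx' : x ∈ Q := hx
      show x⁻¹ * (g * x * g⁻¹) ∈ Q₁
      apply hab
      have h3 : ⁅x⁻¹, g⁆ ∈ ⁅Q, Q⁆ :=
        Subgroup.commutator_mem_commutator (Subgroup.inv_mem _ hx') hgQ
      have e2 : ⁅x⁻¹, g⁆ = x⁻¹ * (g * x * g⁻¹) := by
        rw [commutatorElement_def]
        group
      rw [← e2]
      exact h3
    · have hi1 : i = 1 := by omega
      subst hi1
      show x⁻¹ * (g * x * g⁻¹) ∈ Q
      have e2 : x⁻¹ * (g * x * g⁻¹) = (x⁻¹ * g * x⁻¹⁻¹) * g⁻¹ := by group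
      rw [e2]
      exact Q.mul_mem (hQn x⁻¹ (S.inv_mem (hPS hxP)) g hgQ) (Q.inv_mem hgQ)

end Cfsg.Agent.Lib.Helper29
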