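import Cfsg.Agent.Lib.Helper29.FusionChain4

/-!
Normality via a central series with weakly closed proper terms.
-/
set_option autoImplicit false

namespace Cfsg.Agent.Lib.Helper29
open Cfsg
open scoped commutatorElement

variable {Ω : Type*} [Group Ω] {S : Subgroup Ω}

theorem weaklyClosed_bot (F : FusionSystem S) : F.WeaklyClosed (⊥ : Subgroup Ω) := by
  refine ⟨bot_le, fun φ _ => ?_⟩
  rw [eq_bot_iff]
  rintro _ ⟨x, rfl⟩
  have : x = 1 := Subsingleton.elim _ _
  rw [this, map_one]
  exact Subgroup.one_mem _

theorem weaklyClosed_of_stronglyClosed [Finite S] (F : FusionSystem S) {T : Subgroup Ω}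
    (hT : F.StronglyClosed T) : F.WeaklyClosed T := by
  refine ⟨hT.1, fun φ hφ => ?_⟩
  have : Finite T := finite_of_le hT.1
  have hle : φ.range ≤ T := by
    rintro _ ⟨x, rfl⟩
    exact hT.2 T le_rfl φ hφ x
  apply Subgroup.eq_of_le_of_card_ge hle
  rw [← Nat.card_congr (MonoidHom.ofInjective (F.injective_of_mem hφ)).toEquiv]

/-- a weakly closed subgroup is normalized by `S` -/
theorem conj_mem_of_weaklyClosed (F : FusionSystem S) {T : Subgroup Ω} (hT : F.WeaklyClosed T) :
    ∀ g ∈ S, ∀ x ∈ T, g * x * g⁻¹ ∈ T := by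
  intro g hg x hx
  have h1 := hT.2 _ (F.conj_mem hT.1 hg)
  have h2 : conjHom T g ⟨x, hx⟩ ∈ (conjHom T g).range := ⟨_, rfl⟩
  rw [h1] at h2
  exact h2

/-- `F`-automorphisms of overgroups preserve weakly closed subgroups -/
theorem aut_mem_of_weaklyClosed (F : FusionSystem S) {T P : Subgroup Ω} (hT : F.WeaklyClosed T)
    (hTP : T ≤ P) (hPS : P ≤ S) {α : MulAut P} (hα : α ∈ F.autGroup P) (x : P) (hx : (x : Ω) ∈ T) :
    ((α x : P) : Ω) ∈ T := by
  rw [mem_autGroup_iff F hPS] at hα
  have h1 := hT.2 _ (restrict_mem F hTP hα)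
  have h2 : ((P.subtype.comp α.toMonoidHom).comp (Subgroup.inclusion hTP)) ⟨x.1, hx⟩ ∈
      ((P.subtype.comp α.toMonoidHom).comp (Subgroup.inclusion hTP)).range := ⟨_, rfl⟩
  rw [h1] at h2
  exact h2

/-- `Q` strongly closed with a central series whose proper terms are weakly closed is normal in `F` -/
theorem isNormal_of_weaklyClosed_chain [Finite S] (p : ℕ) [Fact p.Prime] (hS : IsPGroup p S)
    (F : FusionSystem S) (hF : F.IsSaturated p) (Q : Subgroup Ω) (hQ : F.StronglyClosed Q) (n : ℕ)
    (C : Fin (n + 1) → Subgroup Ω) (h0 : C 0 = ⊥) (hn : C (Fin.last n) = Q) (hmono : Monotone C)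
    (hcomm : ∀ i : Fin n, ⁅C i.succ, Q⁆ ≤ C i.castSucc)
    (hwc : ∀ i : Fin n, F.WeaklyClosed (C i.castSucc)) : F.IsNormal Q := by
  have hQn := conj_mem_of_stronglyClosed F hQ
  apply isNormal_of_stronglyClosed p hS F hF Q hQ
  intro P hc hr
  have hPS : P ≤ S := hc.1
  have hCQ : ∀ j : Fin (n + 1), C j ≤ Q := fun j => hn ▸ hmono (Fin.le_last j)
  have hCn : ∀ j : Fin (n + 1), ∀ g ∈ S, ∀ x ∈ C j, g * x * g⁻¹ ∈ C j := by
    intro j
    rcases Nat.lt_or_ge j.1 n with hj | hj
    · have := conj_mem_of_weaklyClosed F (hwc ⟨j.1, hj⟩)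
      have e : Fin.castSucc (⟨j.1, hj⟩ : Fin n) = j := Fin.ext rfl
      rwa [e] at this
    · have e : j = Fin.last n := Fin.ext (by have := j.2; simp only [Fin.val_last]; omega)
      rw [e, hn]
      exact hQn
  have hmain : ∀ m (hm : m ≤ n), C ⟨m, by omega⟩ ≤ P := by
    intro m
    induction m using Nat.strong_induction_on with
    | _ m ih =>
      intro hm
      rcases Nat.eq_zero_or_pos m with rfl | hpos
      · have e : (⟨0, by omega⟩ : Fin (n + 1)) = 0 := rfl
        rw [e, h0]
        exact bot_le
      · -- i = m - 1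
        obtain ⟨i, rfl⟩ : ∃ i, m = i + 1 := ⟨m - 1, by omega⟩
        have hin : i < n := by omega
        let M : ℕ → Subgroup Ω := fun j =>
          if j ≤ i then C ⟨min j n, by omega⟩ else if j = i + 1 then Q else ⊤
        have hM_le : ∀ j (hj : j ≤ i), M j = C ⟨j, by omega⟩ := by
          intro j hj
          show (if j ≤ i then C ⟨min j n, by omega⟩ else if j = i + 1 then Q else ⊤) = _
          rw [if_pos hj]
          congr 1
          exact Fin.ext (min_eq_left (by omega))
        have hM_Q : M (i + 1) = Q := by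
          show (if i + 1 ≤ i then C ⟨min (i + 1) n, by omega⟩ else if i + 1 = i + 1 then Q else ⊤) = _
          rw [if_neg (by omega), if_pos rfl]
        have hM_top : ∀ j, i + 2 ≤ j → M j = ⊤ := by
          intro j hj
          show (if j ≤ i then C ⟨min j n, by omega⟩ else if j = i + 1 then Q else ⊤) = _
          rw [if_neg (by omega), if_neg (by omega)]
        have hwc' : ∀ j (hj : j ≤ i), F.WeaklyClosed (C ⟨j, by omega⟩) := by
          intro j hj
          have := hwc ⟨j, by omega⟩
          have e : Fin.castSucc (⟨j, by omega⟩ : Fin n) = ⟨j, by omega⟩ := Fin.ext rfl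
          rwa [e] at this
        apply le_of_stab_chain hS F hc hr (C ⟨i + 1, by omega⟩) ((hCQ _).trans hQ.1)
          (le_normalizer_of_conj_mem (fun g hg x hx => hCn _ g (hPS hg) x hx)) M (i + 2)
        · intro j
          rcases Nat.lt_or_ge j i with hj | hj
          · rw [hM_le j (by omega), hM_le (j + 1) (by omega)]
            exact hmono (by simp [Fin.le_def])
          · rcases Nat.eq_or_lt_of_le hj with hj' | hj'
            · subst hj'
              rw [hM_le i le_rfl, hM_Q]
              exact hCQ _
            · rw [hM_top (j + 1) (by omega)]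
              exact le_top
        · rw [hM_top (i + 2) le_rfl]
          exact le_top
        · intro j α hα x hx
          rcases Nat.lt_or_ge i j with hj | hj
          · rcases Nat.eq_or_lt_of_le hj with hj' | hj'
            · subst hj'
              rw [hM_Q] at hx ⊢
              exact aut_mem_of_stronglyClosed F hQ hPS hα x hx
            · rw [hM_top j (by omega)]
              exact Subgroup.mem_top _
          · rw [hM_le j hj] at hx ⊢
            exact aut_mem_of_weaklyClosed F (hwc' j hj) (ih j (by omega) (by omega)) hPS hα x hx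
        · intro α _
          refine ⟨0, fun x hx => ?_⟩
          rw [hM_le 0 (Nat.zero_le i)] at hx
          have e : (⟨0, by omega⟩ : Fin (n + 1)) = 0 := rfl
          rw [e, h0] at hx
          have : x = 1 := Subtype.ext ((Subgroup.mem_bot).1 hx)
          rw [this, map_one]
        · intro g hgR hgN j hj x hxP hx
          have hgQ : g ∈ Q := hCQ _ hgR
          rcases Nat.lt_or_ge j i with hji | hji
          · -- x ∈ C (j+1), target C j
            rw [hM_le (j + 1) (by omega)] at hx
            rw [hM_le j (by omega)]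
            have h2 := hcomm ⟨j, by omega⟩
            have e : Fin.succ (⟨j, by omega⟩ : Fin n) = ⟨j + 1, by omega⟩ := Fin.ext rfl
            have e' : Fin.castSucc (⟨j, by omega⟩ : Fin n) = ⟨j, by omega⟩ := Fin.ext rfl
            rw [e, e'] at h2
            apply h2
            have h3 : ⁅x⁻¹, g⁆ ∈ ⁅C ⟨j + 1, by omega⟩, Q⁆ :=
              Subgroup.commutator_mem_commutator (Subgroup.inv_mem _ hx) hgQ
            have e2 : ⁅x⁻¹, g⁆ = x⁻¹ * (g * x * g⁻¹) := by
              rw [commutatorElement_def]
              group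
            rw [← e2]
            exact h3
          · rcases Nat.eq_or_lt_of_le hji with hj' | hj'
            · -- j = i: x ∈ Q, target C i
              subst hj'
              rw [hM_Q] at hx
              rw [hM_le i le_rfl]
              have h2 := hcomm ⟨i, by omega⟩
              have e : Fin.succ (⟨i, by omega⟩ : Fin n) = ⟨i + 1, by omega⟩ := Fin.ext rfl
              have e' : Fin.castSucc (⟨i, by omega⟩ : Fin n) = ⟨i, by omega⟩ := Fin.ext rfl
              rw [e, e'] at h2
              have h3 : ⁅g, x⁻¹⁆ ∈ ⁅C ⟨i + 1, by omega⟩, Q⁆ :=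
                Subgroup.commutator_mem_commutator hgR (Subgroup.inv_mem _ hx)
              have h4 := Subgroup.inv_mem _ (h2 h3)
              have e2 : (⁅g, x⁻¹⁆)⁻¹ = x⁻¹ * (g * x * g⁻¹) := by
                rw [commutatorElement_def]
                group
              rw [← e2]
              exact h4
            · -- j = i + 1: target Q
              have hj'' : j = i + 1 := by omega
              subst hj''
              rw [hM_Q]
              have e2 : x⁻¹ * (g * x * g⁻¹) = (x⁻¹ * g * x⁻¹⁻¹) * g⁻¹ := by group
              rw [e2]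
              exact Q.mul_mem (hQn x⁻¹ (S.inv_mem (hPS hxP)) g hgQ) (Q.inv_mem hgQ)
  have := hmain n le_rfl
  have e : (⟨n, by omega⟩ : Fin (n + 1)) = Fin.last n := rfl
  rw [e, hn] at this
  exact this

end Cfsg.Agent.Lib.Helper29
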