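import Cfsg.Agent.Lib.Helper29.FusionChain4

/-!
Automorphism groups in a saturated fusion system with a "focal chain" are `p`-groups.
-/
set_option autoImplicit false

namespace Cfsg.Agent.Lib.Helper29
open Cfsg

/-- if `β` moves `x` by an element `z = x⁻¹ β(x)` of a subgroup fixed pointwise by `β`, then `β ^ |G|` fixes `x` -/
theorem pow_fix_step {G : Type*} [Group G] {M₀ : Subgroup G} (β : MulAut G) (x : G)
    (hz : x⁻¹ * β x ∈ M₀) (hk : ∀ z ∈ M₀, β z = z) : (β ^ Nat.card G) x = x := by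
  have hpow : ∀ m : ℕ, (β ^ m) x = x * (x⁻¹ * β x) ^ m := by
    intro m
    induction m with
    | zero => simp
    | succ m ih =>
      rw [pow_succ', MulAut.mul_apply, ih, map_mul, map_pow, hk _ hz, pow_succ', ← mul_assoc,
        mul_inv_cancel_left]
  rw [hpow, pow_card_eq_one', mul_one]

variable {Ω : Type*} [Group Ω] {S : Subgroup Ω}

theorem isPGroup_autGroup_of_focal_chain [Finite S] {p : ℕ} [Fact p.Prime] (hS : IsPGroup p S)
    (F : FusionSystem S) (n : ℕ) (Q : Fin (n + 1) → Subgroup Ω) (hQ0 : Q 0 = S)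
    (hQn : Q (Fin.last n) = ⊥)
    (hstep : ∀ i : Fin n, Subgroup.closure {y : Ω | ∃ x ∈ Q i.castSucc,
      ∃ φ ∈ F.Hom (Subgroup.zpowers x), y = x⁻¹ * φ ⟨x, Subgroup.mem_zpowers x⟩} ≤ Q i.succ)
    (P : Subgroup Ω) (hPS : P ≤ S) : IsPGroup p (F.autGroup P) := by
  have : Finite P := finite_of_le hPS
  have hPp : IsPGroup p P := hS.to_le hPS
  obtain ⟨e, he⟩ := IsPGroup.iff_card.1 hPp
  rintro ⟨α, hα⟩
  have hclaim : ∀ j (hj : j ≤ n), ∃ k, ∀ x : P, (x : Ω) ∈ Q ⟨n - j, by omega⟩ → (α ^ (p ^ k)) x = x := by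
    intro j
    induction j with
    | zero =>
      intro _
      refine ⟨0, fun x hx => ?_⟩
      have e1 : (⟨n - 0, by omega⟩ : Fin (n + 1)) = Fin.last n := Fin.ext (by simp)
      rw [e1, hQn] at hx
      have : x = 1 := Subtype.ext ((Subgroup.mem_bot).1 hx)
      rw [this, map_one]
    | succ j ih =>
      intro hj
      obtain ⟨k, hk⟩ := ih (by omega)
      refine ⟨k + e, fun x hx => ?_⟩
      have hβ : α ^ (p ^ k) ∈ F.autGroup P := pow_mem hα _
      have hβ' := (mem_autGroup_iff F hPS).1 hβ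
      have hzle : Subgroup.zpowers (x : Ω) ≤ P := by
        rw [Subgroup.zpowers_le]
        exact x.2
      have e1 : Fin.castSucc (⟨n - (j + 1), by omega⟩ : Fin n) = ⟨n - (j + 1), by omega⟩ := Fin.ext rfl
      have e2 : Fin.succ (⟨n - (j + 1), by omega⟩ : Fin n) = ⟨n - j, by omega⟩ :=
        Fin.ext (by simp only [Fin.val_succ]; omega)
      have hmem : ((x⁻¹ * (α ^ (p ^ k)) x : P) : Ω) ∈ Q ⟨n - j, by omega⟩ := by
        have := hstep ⟨n - (j + 1), by omega⟩
        rw [e1, e2] at this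
        apply this
        apply Subgroup.subset_closure
        exact ⟨x, hx, _, restrict_mem F hzle hβ', rfl⟩
      have h1 := pow_fix_step (M₀ := (Q ⟨n - j, by omega⟩).subgroupOf P) (α ^ (p ^ k)) x hmem
        (fun z hz => hk z hz)
      rw [he] at h1
      rw [pow_add, pow_mul]
      exact h1
  obtain ⟨k, hk⟩ := hclaim n le_rfl
  refine ⟨k, Subtype.ext ?_⟩
  show α ^ (p ^ k) = 1
  ext x
  have e0 : (⟨n - n, by omega⟩ : Fin (n + 1)) = 0 := Fin.ext (by simp)
  have := hk x (by rw [e0, hQ0]; exact hPS x.2)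
  exact congrArg Subtype.val this

end Cfsg.Agent.Lib.Helper29
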