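import Cfsg.Agent.Lib.Helper29.FusionChain4

/-!
The inner fusion system of a finite `p`-group is saturated.
-/
set_option autoImplicit false

namespace Cfsg.Agent.Lib.Helper29
open Cfsg

variable {Ω : Type*} [Group Ω]

theorem innerFusionSystem_autGroup {Q P : Subgroup Ω} (hP : P ≤ Q) :
    (innerFusionSystem Q).autGroup P = autInducedBy Q P := by
  apply le_antisymm
  · unfold FusionSystem.autGroup
    rw [Subgroup.closure_le]
    rintro α ⟨_, g, hg, h⟩
    exact Subgroup.subset_closure ⟨g, hg, fun x => h x⟩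
  · exact autInducedBy_le_autGroup _ hP

theorem innerFusionSystem_isSaturated {Q : Subgroup Ω} [Finite Q] {p : ℕ} [Fact p.Prime]
    (hQ : IsPGroup p Q) : (innerFusionSystem Q).IsSaturated p := by
  intro P hP
  refine ⟨P, isConj_refl _ hP, ⟨hP, ?_⟩, ⟨hP, ?_⟩⟩
  · have hp : IsPGroup p ((innerFusionSystem Q).autGroup P) := by
      rw [innerFusionSystem_autGroup hP]
      exact isPGroup_autInducedBy hQ P
    refine ⟨⟨⊤, hp.to_subgroup ⊤, fun _ h => top_le_iff.1 h⟩, ?_⟩
    ext x
    simp only [Subgroup.mem_top, Subgroup.mem_subgroupOf, true_iff]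
    exact (innerFusionSystem_autGroup hP).le x.2
  · rintro P₀ φ ⟨hP₀, g, hg, hφg⟩ _
    refine ⟨conjHom (FusionSystem.extender Q P₀ φ) g, ⟨extender_le _ _, g, hg, fun x => rfl⟩, ?_⟩
    intro x hxP hxN
    exact (hφg ⟨x, hxP⟩).symm

end Cfsg.Agent.Lib.Helper29
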