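import Cfsg.Agent.Lib.Helper29.FusionRel

/-!
Normal and central subgroups of a saturated fusion system, via the Alperin–Goldschmidt theorem.
-/
set_option autoImplicit false

namespace Cfsg.Agent.Lib.Helper29
open Cfsg

variable {Ω : Type*} [Group Ω] {S : Subgroup Ω}

/-- a subgroup normal in `F` is normalized by `S` -/
theorem conj_mem_of_isNormal (F : FusionSystem S) {Q : Subgroup Ω} (hQ : F.IsNormal Q) :
    ∀ g ∈ S, ∀ x ∈ Q, g * x * g⁻¹ ∈ Q := by
  intro g hg x hx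
  obtain ⟨ψ, hψ, hψP, hψQ⟩ := hQ.2 S (conjHom S g) (F.conj_mem le_rfl hg)
  have h1 : ψ (Subgroup.inclusion le_sup_right ⟨x, hx⟩) ∈ (Q.subgroupOf (S ⊔ Q)).map ψ :=
    ⟨_, hx, rfl⟩
  rw [hψQ] at h1
  have h2 : (Subgroup.inclusion (le_sup_right : Q ≤ S ⊔ Q) ⟨x, hx⟩) =
      Subgroup.inclusion le_sup_left ⟨x, hQ.1 hx⟩ := Subtype.ext rfl
  rw [h2, hψP] at h1
  exact h1

/-- a subgroup normal in `F` is strongly closed -/
theorem stronglyClosed_of_isNormal (F : FusionSystem S) {Q : Subgroup Ω} (hQ : F.IsNormal Q) :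
    F.StronglyClosed Q := by
  refine ⟨hQ.1, fun R hRQ φ hφ x => ?_⟩
  obtain ⟨ψ, hψ, hψP, hψQ⟩ := hQ.2 R φ hφ
  have h1 : ψ (Subgroup.inclusion le_sup_left x) ∈ (Q.subgroupOf (R ⊔ Q)).map ψ :=
    ⟨_, hRQ x.2, rfl⟩
  rw [hψQ, hψP] at h1
  exact h1

/-- `F`-automorphisms of an overgroup of a normal subgroup `Q` preserve `Q` -/
theorem aut_map_eq_of_isNormal (F : FusionSystem S) {Q P : Subgroup Ω} (hQ : F.IsNormal Q) (hQP : Q ≤ P)
    (hPS : P ≤ S) {α : MulAut P} (hα : α ∈ F.autGroup P) :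
    (Q.subgroupOf P).map α.toMonoidHom = Q.subgroupOf P := by
  rw [mem_autGroup_iff F hPS] at hα
  obtain ⟨ψ, hψ, hψP, hψQ⟩ := hQ.2 P _ hα
  ext z
  constructor
  · rintro ⟨w, hw, rfl⟩
    have h1 : ψ (Subgroup.inclusion le_sup_left w) ∈ (Q.subgroupOf (P ⊔ Q)).map ψ := ⟨_, hw, rfl⟩
    rw [hψQ, hψP] at h1
    exact h1
  · intro hz
    have hz' : (z : Ω) ∈ Q := hz
    rw [← hψQ] at hz'
    obtain ⟨w', hw', hwz⟩ := hz'
    refine ⟨⟨w'.1, hQP hw'⟩, hw', ?_⟩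
    apply Subtype.ext
    have := hψP ⟨w'.1, hQP hw'⟩
    have e : Subgroup.inclusion (le_sup_left : P ≤ P ⊔ Q) ⟨w'.1, hQP hw'⟩ = w' := Subtype.ext rfl
    rw [e] at this
    rw [← hwz, this]
    rfl

/-- `F`-automorphisms of an overgroup of a strongly closed subgroup `Q` preserve `Q` -/
theorem aut_map_eq_of_stronglyClosed [Finite S] (F : FusionSystem S) {Q P : Subgroup Ω}
    (hQ : F.StronglyClosed Q) (hQP : Q ≤ P)
    (hPS : P ≤ S) {α : MulAut P} (hα : α ∈ F.autGroup P) :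
    (Q.subgroupOf P).map α.toMonoidHom = Q.subgroupOf P := by
  rw [mem_autGroup_iff F hPS] at hα
  have : Finite P := finite_of_le hPS
  have hle : (Q.subgroupOf P).map α.toMonoidHom ≤ Q.subgroupOf P := by
    rintro _ ⟨w, hw, rfl⟩
    have h1 := hQ.2 Q le_rfl _ (restrict_mem F hQP hα) ⟨w.1, hw⟩
    exact h1
  apply Subgroup.eq_of_le_of_card_ge hle
  rw [Subgroup.card_map_of_injective α.injective]

/-- Alperin–Goldschmidt criterion for normality of a subgroup in a saturated fusion system -/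
theorem isNormal_of_aut [Finite S] (p : ℕ) [Fact p.Prime] (hS : IsPGroup p S) (F : FusionSystem S)
    (hF : F.IsSaturated p) (Q : Subgroup Ω)
    (h : ∀ P : Subgroup Ω, (P = S ∨ F.IsEssential p P) → (Q ≤ P ∧ ∀ α ∈ F.autGroup P,
      (Q.subgroupOf P).map α.toMonoidHom = Q.subgroupOf P)) : F.IsNormal Q := by
  have hQS : Q ≤ S := (h S (Or.inl rfl)).1
  have hQn : ∀ g ∈ S, ∀ x ∈ Q, g * x * g⁻¹ ∈ Q := by
    intro g hg x hx
    have hα : MulAut.conj (⟨g, hg⟩ : S) ∈ F.autGroup S := inn_le_autGroup F le_rfl ⟨_, rfl⟩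
    have h1 := (h S (Or.inl rfl)).2 _ hα
    have h2 : (MulAut.conj (⟨g, hg⟩ : S)) ⟨x, hQS hx⟩ ∈
        (Q.subgroupOf S).map (MulAut.conj (⟨g, hg⟩ : S)).toMonoidHom := ⟨_, hx, rfl⟩
    rw [h1] at h2
    exact h2
  have hle : F ≤ relSys F hQS (normData hQn) := by
    apply alperin p hS F hF
    intro P hP α hα
    have hPS : P ≤ S := by
      rcases hP with rfl | hP
      · exact le_rfl
      · exact hP.1.1
    obtain ⟨hQP, hmap⟩ := h P hP
    have hmap := hmap α hα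
    rw [mem_autGroup_iff _ hPS]
    rw [mem_autGroup_iff F hPS] at hα
    have hsup : P ⊔ Q ≤ P := sup_le le_rfl hQP
    refine ⟨hα, (P.subtype.comp α.toMonoidHom).comp (Subgroup.inclusion hsup),
      restrict_mem F hsup hα, fun x => rfl, ?_⟩
    show MonoidHom.range _ = Q
    ext y
    constructor
    · rintro ⟨x, rfl⟩
      have h2 : α ⟨x, hQP x.2⟩ ∈ (Q.subgroupOf P).map α.toMonoidHom := ⟨_, x.2, rfl⟩
      rw [hmap] at h2
      exact h2
    · intro hy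
      have h2 : (⟨y, hQP hy⟩ : P) ∈ Q.subgroupOf P := hy
      rw [← hmap] at h2
      obtain ⟨z, hz, hzy⟩ := h2
      refine ⟨⟨z.1, hz⟩, ?_⟩
      show ((α ⟨z.1, _⟩ : P) : Ω) = y
      have e : (⟨z.1, hQP hz⟩ : P) = z := Subtype.ext rfl
      rw [e]
      exact congrArg Subtype.val hzy
  refine ⟨hQS, fun P φ hφ => ?_⟩
  obtain ⟨_, ψ, hψ, hψP, hψK⟩ := hle P hφ
  refine ⟨ψ, hψ, hψP, ?_⟩
  rw [map_subgroupOf_sup_eq_range]
  exact hψK

/-- Alperin–Goldschmidt criterion for centrality of a subgroup in a saturated fusion system -/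
theorem isCentral_of_aut [Finite S] (p : ℕ) [Fact p.Prime] (hS : IsPGroup p S) (F : FusionSystem S)
    (hF : F.IsSaturated p) (Q : Subgroup Ω)
    (h : ∀ P : Subgroup Ω, (P = S ∨ F.IsEssential p P) → (Q ≤ P ∧ ∀ α ∈ F.autGroup P,
      ∀ (x : Ω) (hx : x ∈ Q) (hxP : x ∈ P), ((α ⟨x, hxP⟩ : P) : Ω) = x)) : F.IsCentral Q := by
  have hQS : Q ≤ S := (h S (Or.inl rfl)).1
  have hQc : ∀ g ∈ S, ∀ x ∈ Q, g * x * g⁻¹ = x := by
    intro g hg x hx
    have hα : MulAut.conj (⟨g, hg⟩ : S) ∈ F.autGroup S := inn_le_autGroup F le_rfl ⟨_, rfl⟩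
    exact (h S (Or.inl rfl)).2 _ hα x hx (hQS hx)
  have hle : F ≤ relSys F hQS (centData hQc) := by
    apply alperin p hS F hF
    intro P hP α hα
    have hPS : P ≤ S := by
      rcases hP with rfl | hP
      · exact le_rfl
      · exact hP.1.1
    obtain ⟨hQP, hfix⟩ := h P hP
    have hfix := hfix α hα
    rw [mem_autGroup_iff _ hPS]
    rw [mem_autGroup_iff F hPS] at hα
    have hsup : P ⊔ Q ≤ P := sup_le le_rfl hQP
    refine ⟨hα, (P.subtype.comp α.toMonoidHom).comp (Subgroup.inclusion hsup),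
      restrict_mem F hsup hα, fun x => rfl, ?_⟩
    show _ = Q.subtype
    ext x
    exact hfix x x.2 (hQP x.2)
  refine ⟨hQS, fun P φ hφ => ?_⟩
  obtain ⟨_, ψ, hψ, hψP, hψK⟩ := hle P hφ
  refine ⟨ψ, hψ, hψP, fun x => ?_⟩
  have hψK' : ψ.comp (Subgroup.inclusion (le_sup_right : Q ≤ P ⊔ Q)) = Q.subtype := hψK
  exact congrArg (fun f => f x) hψK'

end Cfsg.Agent.Lib.Helper29
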