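import Cfsg.Agent.Lib.Helper29.FusionTransport

/-!
The pullback of a fusion system along an isomorphism of the underlying groups.
-/
set_option autoImplicit false

namespace Cfsg.Agent.Lib.Helper29
open Cfsg

variable {Ω Ω' : Type*} [Group Ω] [Group Ω'] {S : Subgroup Ω} {S' : Subgroup Ω'}

/-- the maps of the pullback -/
def pbHom (F' : FusionSystem S') (e : S ≃* S') (P : Subgroup Ω) : Set (P →* Ω) :=
  {φ | ∃ (hP : P ≤ S) (hφ : ∀ x, φ x ∈ S), ∃ φ' ∈ F'.Hom (imgE e P),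
    ∀ (x : P) (h : ((e ⟨x, hP x.2⟩ : S') : Ω') ∈ imgE e P),
      φ' ⟨(e ⟨x, hP x.2⟩ : S'), h⟩ = (e ⟨φ x, hφ x⟩ : S')}

theorem exists_pullback (F' : FusionSystem S') (e : S ≃* S') : ∃ F : FusionSystem S, FusIso F F' e := by
  refine ⟨{ Hom := pbHom F' e
            le_of_mem := ?_
            injective_of_mem := ?_
            conj_mem := ?_
            comp_mem := ?_
            inv_mem := ?_ }, ?_⟩
  · rintro P φ ⟨hP, hφ, _⟩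
    exact ⟨hP, hφ⟩
  · rintro P φ ⟨hP, hφ, φ', hφ', heq⟩ x y hxy
    have h1 : φ' ⟨(e ⟨x, hP x.2⟩ : S'), coe_mem_imgE e _ x.2⟩ =
        φ' ⟨(e ⟨y, hP y.2⟩ : S'), coe_mem_imgE e _ y.2⟩ := by
      rw [heq x, heq y]
      congr 2
      exact Subtype.ext hxy
    have h2 := F'.injective_of_mem hφ' h1
    have h3 : (e ⟨x, hP x.2⟩ : S') = e ⟨y, hP y.2⟩ :=
      Subtype.ext (congrArg (fun z : imgE e P => (z : Ω')) h2)
    exact Subtype.ext (congrArg (fun z : S => (z : Ω)) (e.injective h3))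
  · intro P g hP hg
    refine ⟨hP, fun x => S.mul_mem (S.mul_mem hg (hP x.2)) (S.inv_mem hg),
      conjHom (imgE e P) ((e ⟨g, hg⟩ : S') : Ω'), F'.conj_mem (imgE_le e P) (e ⟨g, hg⟩).2, ?_⟩
    intro x h
    show ((e ⟨g, hg⟩ : S') : Ω') * (e ⟨x, hP x.2⟩ : S') * ((e ⟨g, hg⟩ : S') : Ω')⁻¹ = _
    rw [coe_conj_eq]
    rfl
  · rintro P Q φ ψ ⟨hP, hφ, φ', hφ', heq⟩ ⟨hQ, hψ, ψ', hψ', heq'⟩ h
    have hval : ∀ y : imgE e P, φ' y ∈ imgE e Q := by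
      rintro ⟨y, hy⟩
      obtain ⟨x, hx, rfl⟩ := mem_imgE.1 hy
      have h1 := heq ⟨x, hx⟩ hy
      have e1 : (⟨((e x : S') : Ω'), hy⟩ : imgE e P) =
          ⟨(e ⟨((⟨x, hx⟩ : P) : Ω), hP hx⟩ : S'), hy⟩ := rfl
      rw [e1, h1]
      exact coe_mem_imgE e _ (h ⟨x, hx⟩)
    refine ⟨hP, fun x => hψ _, ψ'.comp (φ'.codRestrict (imgE e Q) hval), F'.comp_mem hφ' hψ' hval, ?_⟩
    intro x hx
    show ψ' ⟨φ' ⟨(e ⟨x, hP x.2⟩ : S'), hx⟩, _⟩ = _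
    have h1 := heq x hx
    have h2 := heq' ⟨φ x, h x⟩ (coe_mem_imgE e _ (h x))
    refine Eq.trans ?_ h2
    congr 1
    exact Subtype.ext h1
  · rintro P φ ⟨hP, hφ, φ', hφ', heq⟩
    obtain ⟨ψ', hψ', hinv'⟩ := F'.inv_mem hφ'
    have hrS : φ.range ≤ S := by
      rintro _ ⟨x, rfl⟩
      exact hφ x
    have hle : imgE e φ.range ≤ φ'.range := by
      intro z hz
      obtain ⟨w, ⟨x, hx⟩, rfl⟩ := mem_imgE.1 hz
      have h1 := heq x (coe_mem_imgE e _ x.2)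
      refine ⟨⟨(e ⟨x, hP x.2⟩ : S'), coe_mem_imgE e _ x.2⟩, ?_⟩
      rw [h1]
      congr 2
      exact Subtype.ext hx
    have hψ'' := restrict_mem F' hle hψ'
    let f₁ : φ.range →* imgE e φ.range :=
      ((S'.subtype.comp e.toMonoidHom).comp (Subgroup.inclusion hrS)).codRestrict (imgE e φ.range)
        (fun x => coe_mem_imgE e _ x.2)
    let f₂ : imgE e φ.range →* S' :=
      (ψ'.comp (Subgroup.inclusion hle)).codRestrict S' (F'.le_of_mem hψ'').2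
    let ψ : φ.range →* Ω := S.subtype.comp (e.symm.toMonoidHom.comp (f₂.comp f₁))
    have hψS : ∀ z : φ.range, ψ z ∈ S := fun z => (e.symm (f₂ (f₁ z))).2
    have hval : ∀ z : φ.range, ((e ⟨ψ z, hψS z⟩ : S') : Ω') =
        ψ' (Subgroup.inclusion hle ⟨(e ⟨z, hrS z.2⟩ : S'), coe_mem_imgE e _ z.2⟩) := by
      intro z
      have : (⟨ψ z, hψS z⟩ : S) = e.symm (f₂ (f₁ z)) := rfl
      rw [this, MulEquiv.apply_symm_apply]
      rfl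
    refine ⟨ψ, ⟨hrS, hψS, ψ'.comp (Subgroup.inclusion hle), hψ'', fun z h => (hval z).symm⟩, ?_⟩
    intro x
    have h1 := heq x (coe_mem_imgE e _ x.2)
    have h2 : ((e ⟨ψ ⟨φ x, ⟨x, rfl⟩⟩, hψS _⟩ : S') : Ω') = (e ⟨x, hP x.2⟩ : S') := by
      rw [hval]
      have e1 : (Subgroup.inclusion hle ⟨(e ⟨((⟨φ x, ⟨x, rfl⟩⟩ : φ.range) : Ω), hrS ⟨x, rfl⟩⟩ : S'),
          coe_mem_imgE e _ ⟨x, rfl⟩⟩ : φ'.range) =
          ⟨φ' ⟨(e ⟨x, hP x.2⟩ : S'), coe_mem_imgE e _ x.2⟩, ⟨_, rfl⟩⟩ := Subtype.ext h1.symm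
      rw [e1, hinv']
    have h3 : (e ⟨ψ ⟨φ x, ⟨x, rfl⟩⟩, hψS _⟩ : S') = e ⟨x, hP x.2⟩ := Subtype.ext h2
    exact congrArg Subtype.val (e.injective h3)
  · intro P hP φ hφ
    constructor
    · rintro ⟨_, _, φ', hφ', heq⟩
      exact ⟨φ', hφ', heq⟩
    · rintro ⟨φ', hφ', heq⟩
      exact ⟨hP, hφ, φ', hφ', heq⟩

end Cfsg.Agent.Lib.Helper29
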