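import Cfsg.Agent.Lib.Helper29.FusionCentric
import Cfsg.Agent.Lib.Helper29.FusionChain4
import Cfsg.Agent.Lib.Helper29.FusionHyp

set_option autoImplicit false
open Cfsg

namespace Cfsg.Agent.Lib.Helper29

variable {Ω : Type*} [Group Ω] {S : Subgroup Ω}

/-- An `F`-automorphism `α` of a receptive subgroup `R` that normalizes `Aut_S(R)` extends to an
`F`-automorphism of `N_S(R)`. -/
theorem exists_aut_normalizer_of_receptive [Finite S] (F : FusionSystem S) {R : Subgroup Ω}
    (hrec : F.IsReceptive R) {α : MulAut R} (hα : α ∈ F.autGroup R)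
    (hnorm : ∀ g ∈ FusionSystem.normalizerIn S R, ∃ h ∈ S, ∀ (x : R) (hx : g * (x : Ω) * g⁻¹ ∈ R),
      ((α ⟨g * x * g⁻¹, hx⟩ : R) : Ω) = h * (α x : R) * h⁻¹) :
    ∃ α' ∈ F.autGroup (FusionSystem.normalizerIn S R),
      ∀ x : R, ((α' (Subgroup.inclusion (le_normalizerIn hrec.1) x) :
        FusionSystem.normalizerIn S R) : Ω) = (α x : R) := by
  have hRS : R ≤ S := hrec.1
  have hRN := le_normalizerIn hRS
  haveI : Finite R := finite_of_le hRS
  haveI := finite_normalizerIn (S := S) R
  have hφ : R.subtype.comp α.toMonoidHom ∈ F.Hom R := (mem_autGroup_iff F hRS).1 hα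
  have hφr : (R.subtype.comp α.toMonoidHom).range = R := by
    ext y
    constructor
    · rintro ⟨x, rfl⟩
      exact (α x).2
    · intro hy
      exact ⟨α.symm ⟨y, hy⟩, by simp⟩
  obtain ⟨ψ, hψ, hψe⟩ := hrec.2 R _ hφ hφr
  have hNle : FusionSystem.normalizerIn S R ≤ FusionSystem.extender S R (R.subtype.comp α.toMonoidHom) := by
    intro g hg
    apply Subgroup.subset_closure
    obtain ⟨h, hh, hx⟩ := hnorm g hg
    exact ⟨hg.1, hg.2, h, hh, fun x hx' => hx x hx'⟩
  have hψN : ψ.comp (Subgroup.inclusion hNle) ∈ F.Hom (FusionSystem.normalizerIn S R) :=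
    restrict_mem F hNle hψ
  have hψR : ∀ x : R, ψ ⟨x, hNle (hRN x.2)⟩ = (α x : R) := fun x => hψe x x.2 _
  have hval : ∀ x : FusionSystem.normalizerIn S R,
      (ψ.comp (Subgroup.inclusion hNle)) x ∈ FusionSystem.normalizerIn S R := by
    intro g
    refine ⟨(F.le_of_mem hψN).2 g, ?_⟩
    apply Subgroup.mem_normalizer_fintype
    intro y hy
    have hy' : y ∈ R := hy
    obtain ⟨x, hx⟩ := α.surjective ⟨y, hy'⟩
    have hgx : (g : Ω) * x * (g : Ω)⁻¹ ∈ R := by
      have h0 : (g : Ω) ∈ Subgroup.normalizer (R : Set Ω) := g.2.2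
      rw [Subgroup.mem_normalizer_iff] at h0
      exact (h0 x).1 x.2
    have e1 : y = ψ ⟨x, hNle (hRN x.2)⟩ := by
      rw [hψR x, hx]
    have e2 : (ψ.comp (Subgroup.inclusion hNle)) g * y * ((ψ.comp (Subgroup.inclusion hNle)) g)⁻¹
        = ψ ⟨(g : Ω) * x * (g : Ω)⁻¹, hNle (hRN hgx)⟩ := by
      rw [e1]
      show ψ (Subgroup.inclusion hNle g) * ψ ⟨x, _⟩ * (ψ (Subgroup.inclusion hNle g))⁻¹ = _
      rw [← map_inv, ← map_mul, ← map_mul]
      rfl
    rw [e2]
    have := hψR ⟨_, hgx⟩
    show ψ ⟨(g : Ω) * x * (g : Ω)⁻¹, _⟩ ∈ R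
    rw [this]
    exact (α _).2
  obtain ⟨α', hα', hα'e⟩ := exists_aut_of_hom F hψN hval
  refine ⟨α', hα', fun x => ?_⟩
  rw [hα'e]
  exact hψR x

/-- Rigidity: if `R` is fully normalized, `N = N_S(R)` has a fully automized `F`-conjugate, and `α` is a
`p`-element of `Aut_F(N)` preserving `R`, then `α` is conjugation by an element of `N`. -/
theorem aut_normalizer_eq_conj [Finite S] {p : ℕ} [Fact p.Prime] (F : FusionSystem S) {R N' : Subgroup Ω}
    (hfn : F.IsFullyNormalized R) (hconj : F.IsConj (FusionSystem.normalizerIn S R) N')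
    (hfa : F.IsFullyAutomized p N') {α : MulAut (FusionSystem.normalizerIn S R)}
    (hα : α ∈ F.autGroup (FusionSystem.normalizerIn S R)) (hpow : ∃ k, α ^ (p ^ k) = 1)
    (hpres : ∀ x : FusionSystem.normalizerIn S R, (x : Ω) ∈ R → ((α x : _) : Ω) ∈ R) :
    ∃ g ∈ FusionSystem.normalizerIn S R, ∀ x : FusionSystem.normalizerIn S R,
      ((α x : _) : Ω) = g * x * g⁻¹ := by
  have hRS : R ≤ S := hfn.1
  have hRN := le_normalizerIn hRS
  obtain ⟨φ, hφ, hr⟩ := hconj
  obtain ⟨hN'S, Sy, hSy⟩ := hfa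
  haveI : Finite N' := finite_of_le hN'S
  haveI := finite_normalizerIn (S := S) R
  set ι := isoOfHom F hφ hr with hι
  have hβ := congr_mem_autGroup F hφ hr hα
  obtain ⟨k, hk⟩ := hpow
  have hβk : (⟨MulAut.congr ι α, hβ⟩ : F.autGroup N') ^ (p ^ k) = 1 := by
    apply Subtype.ext
    show (MulAut.congr ι α) ^ (p ^ k) = 1
    rw [← map_pow, hk, map_one]
  have hzp : IsPGroup p (Subgroup.zpowers (⟨MulAut.congr ι α, hβ⟩ : F.autGroup N')) := by
    rintro ⟨b, hb⟩
    obtain ⟨m, rfl⟩ := Subgroup.mem_zpowers_iff.1 hb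
    refine ⟨k, Subtype.ext ?_⟩
    show ((⟨MulAut.congr ι α, hβ⟩ : F.autGroup N') ^ m) ^ (p ^ k) = 1
    rw [← zpow_natCast, ← zpow_mul, mul_comm, zpow_mul, zpow_natCast, hβk, one_zpow]
  obtain ⟨χ, hχ⟩ := exists_cj_le_sylow Sy hzp
  have h1 : χ * ⟨MulAut.congr ι α, hβ⟩ * χ⁻¹ ∈ (Sy : Subgroup (F.autGroup N')) :=
    hχ (conj_mem_cj (Subgroup.mem_zpowers _))
  rw [hSy, Subgroup.mem_subgroupOf, autInducedBy_eq_map] at h1
  obtain ⟨n, hn, hn'⟩ := h1
  have hnS : (n : Ω) ∈ S := hn
  have hconj' : ∀ y : N', N'.normalizerMonoidHom n ((χ : MulAut N') y) =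
      (χ : MulAut N') (MulAut.congr ι α y) := by
    intro y
    rw [hn']
    show ((χ : MulAut N') * (MulAut.congr ι α) * (χ : MulAut N')⁻¹) ((χ : MulAut N') y) = _
    rw [MulAut.mul_apply, MulAut.mul_apply, MulAut.inv_apply_self]
  -- the map ρ = χ ∘ ι
  have hχF := (mem_autGroup_iff F hN'S).1 χ.2
  have hφN' : ∀ x : FusionSystem.normalizerIn S R, φ x ∈ N' := fun x => hr ▸ ⟨x, rfl⟩
  let ρ : FusionSystem.normalizerIn S R →* Ω :=
    N'.subtype.comp ((χ : MulAut N').toMonoidHom.comp ι.toMonoidHom)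
  have hρ : ρ ∈ F.Hom (FusionSystem.normalizerIn S R) := by
    apply comp_mem' F hφ hχF hφN'
    intro x
    rfl
  have hρv : ∀ x, ρ x = (((χ : MulAut N') (ι x) : N') : Ω) := fun x => rfl
  have hρinj := F.injective_of_mem hρ
  have hρsurj : ∀ y ∈ N', ∃ x : FusionSystem.normalizerIn S R, ρ x = y := by
    intro y hy
    refine ⟨ι.symm ((χ : MulAut N').symm ⟨y, hy⟩), ?_⟩
    rw [hρv]
    simp
  have hR₁c := isConj_map F hRN hρ
  set R₁ := (R.subgroupOf (FusionSystem.normalizerIn S R)).map ρ with hR₁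
  have hR₁N' : R₁ ≤ N' := by
    rintro _ ⟨x, _, rfl⟩
    exact ((χ : MulAut N') (ι x)).2
  haveI : Finite R₁ := finite_of_le (hR₁N'.trans hN'S)
  -- conjugation by ρ(g) maps R₁ into R₁
  have hstep : ∀ (g : FusionSystem.normalizerIn S R), ∀ y ∈ R₁, ρ g * y * (ρ g)⁻¹ ∈ R₁ := by
    rintro g _ ⟨x, hx, rfl⟩
    have hxR : (x : Ω) ∈ R := hx
    have hgx : (g : Ω) * x * (g : Ω)⁻¹ ∈ R := by
      have h0 : (g : Ω) ∈ Subgroup.normalizer (R : Set Ω) := g.2.2
      rw [Subgroup.mem_normalizer_iff] at h0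
      exact (h0 x).1 hxR
    refine ⟨g * x * g⁻¹, hgx, ?_⟩
    rw [map_mul, map_mul, map_inv]
  have hN'le : N' ≤ FusionSystem.normalizerIn S R₁ := by
    intro y hy
    refine ⟨hN'S hy, ?_⟩
    apply Subgroup.mem_normalizer_fintype
    intro z hz
    obtain ⟨g, rfl⟩ := hρsurj y hy
    exact hstep g z hz
  haveI := finite_normalizerIn (S := S) R₁
  have hcard : Nat.card (FusionSystem.normalizerIn S R₁) ≤ Nat.card N' := by
    have h2 := hfn.2 R₁ hR₁c
    have h3 : Nat.card (FusionSystem.normalizerIn S R) = Nat.card N' := Nat.card_congr ι.toEquiv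
    omega
  have hN'eq : N' = FusionSystem.normalizerIn S R₁ := Subgroup.eq_of_le_of_card_ge hN'le hcard
  -- n normalizes R₁
  have hnR₁ : (n : Ω) ∈ FusionSystem.normalizerIn S R₁ := by
    refine ⟨hnS, ?_⟩
    apply Subgroup.mem_normalizer_fintype
    rintro _ ⟨x, hx, rfl⟩
    have hxR : (x : Ω) ∈ R := hx
    have h2 := hconj' (ι x)
    have h3 : (n : Ω) * ρ x * (n : Ω)⁻¹ = ρ (α x) := by
      have h4 := congrArg (fun z : N' => (z : Ω)) h2
      refine h4.trans ?_
      show (((χ : MulAut N') (ι (α (ι.symm (ι x)))) : N') : Ω) = _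
      rw [MulEquiv.symm_apply_apply]
      rfl
    show (n : Ω) * ρ x * (n : Ω)⁻¹ ∈ R₁
    rw [h3]
    exact ⟨α x, hpres x hxR, rfl⟩
  rw [← hN'eq] at hnR₁
  obtain ⟨g, hg⟩ := hρsurj _ hnR₁
  refine ⟨g, g.2, fun x => ?_⟩
  have h2 := hconj' (ι x)
  have h3 : (n : Ω) * ρ x * (n : Ω)⁻¹ = ρ (α x) := by
    have h4 := congrArg (fun z : N' => (z : Ω)) h2
    refine h4.trans ?_
    show (((χ : MulAut N') (ι (α (ι.symm (ι x)))) : N') : Ω) = _
    rw [MulEquiv.symm_apply_apply]
    rfl
  have h5 : ρ (α x) = ρ (g * x * g⁻¹) := by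
    rw [← h3, ← hg, map_mul, map_mul, map_inv]
  exact congrArg (fun z : FusionSystem.normalizerIn S R => (z : Ω)) (hρinj h5)

/-- Roberts–Shpectorov: if `S` is fully automized and fully normalized subgroups are receptive, then fully
normalized subgroups are fully automized. -/
theorem fullyAutomized_of_fullyNormalized_of_receptive [Finite S] (p : ℕ) [Fact p.Prime] (hS : IsPGroup p S)
    (F : FusionSystem S) (htop : F.IsFullyAutomized p S)
    (hrec : ∀ P : Subgroup Ω, F.IsFullyNormalized P → F.IsReceptive P) (k : ℕ) :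
    ∀ R : Subgroup Ω, F.IsFullyNormalized R → Nat.card S - Nat.card R = k → F.IsFullyAutomized p R := by
  induction k using Nat.strong_induction_on with
  | _ k ih =>
    intro R hfn hk
    have hRS : R ≤ S := hfn.1
    by_cases hRS' : R = S
    · rw [hRS']
      exact htop
    · have hNne : FusionSystem.normalizerIn S R ≠ R := normalizerIn_ne_self hS hRS hRS'
      have hRN : R ≤ FusionSystem.normalizerIn S R := le_normalizerIn hRS
      haveI : Finite R := finite_of_le hRS
      haveI := finite_normalizerIn (S := S) R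
      have hNS : FusionSystem.normalizerIn S R ≤ S := inf_le_left
      have hcardlt : Nat.card R < Nat.card (FusionSystem.normalizerIn S R) := by
        have h1 := Subgroup.card_le_of_le hRN
        rcases Nat.lt_or_ge (Nat.card R) (Nat.card (FusionSystem.normalizerIn S R)) with h | h
        · exact h
        · exact absurd (Subgroup.eq_of_le_of_card_ge hRN h).symm hNne
      obtain ⟨N', hNN', hN'fn⟩ := exists_fullyNormalized_conj F hNS
      have hcardN' : Nat.card (FusionSystem.normalizerIn S R) = Nat.card N' := card_eq_of_isConj F hNN'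
      have hN'S : N' ≤ S := hN'fn.1
      haveI : Finite N' := finite_of_le hN'S
      have hN'le : Nat.card N' ≤ Nat.card S := Subgroup.card_le_of_le hN'S
      have hN'fa : F.IsFullyAutomized p N' := ih (Nat.card S - Nat.card N') (by omega) N' hN'fn rfl
      -- Sylow
      have hT₀p : IsPGroup p ((autInducedBy S R).subgroupOf (F.autGroup R)) :=
        (isPGroup_autInducedBy hS R).comap_subtype
      obtain ⟨Sy, hSy⟩ := hT₀p.exists_le_sylow
      by_cases hEq : (Sy : Subgroup (F.autGroup R)) = (autInducedBy S R).subgroupOf (F.autGroup R)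
      · exact ⟨hRS, Sy, hEq⟩
      · exfalso
        have hSyp : IsPGroup p (Sy : Subgroup (F.autGroup R)) := Sy.isPGroup'
        have h1 := normalizerIn_ne_self (S := (Sy : Subgroup (F.autGroup R))) hSyp hSy (Ne.symm hEq)
        have h2 : (autInducedBy S R).subgroupOf (F.autGroup R) ≤
            FusionSystem.normalizerIn (Sy : Subgroup (F.autGroup R))
              ((autInducedBy S R).subgroupOf (F.autGroup R)) := le_normalizerIn hSy
        obtain ⟨a, ha, haT⟩ : ∃ a ∈ FusionSystem.normalizerIn (Sy : Subgroup (F.autGroup R))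
            ((autInducedBy S R).subgroupOf (F.autGroup R)),
            a ∉ (autInducedBy S R).subgroupOf (F.autGroup R) := by
          by_contra hcon
          push_neg at hcon
          exact h1 (le_antisymm hcon h2)
        have haSy : a ∈ (Sy : Subgroup (F.autGroup R)) := ha.1
        have haN : a ∈ Subgroup.normalizer
            (((autInducedBy S R).subgroupOf (F.autGroup R) : Subgroup (F.autGroup R)) :
              Set (F.autGroup R)) := ha.2
        -- the extension hypothesis
        have hnorm : ∀ g ∈ FusionSystem.normalizerIn S R, ∃ h ∈ S,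
            ∀ (x : R) (hx : g * (x : Ω) * g⁻¹ ∈ R),
            (((a : MulAut R) ⟨g * x * g⁻¹, hx⟩ : R) : Ω) = h * ((a : MulAut R) x : R) * h⁻¹ := by
          intro g hg
          have hcg : R.normalizerMonoidHom ⟨g, hg.2⟩ ∈ autInducedBy S R := by
            rw [autInducedBy_eq_map]
            exact ⟨⟨g, hg.2⟩, hg.1, rfl⟩
          have hcgA : R.normalizerMonoidHom ⟨g, hg.2⟩ ∈ F.autGroup R :=
            autInducedBy_le_autGroup F hRS hcg
          have hcgT : (⟨_, hcgA⟩ : F.autGroup R) ∈ (autInducedBy S R).subgroupOf (F.autGroup R) := by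
            rw [Subgroup.mem_subgroupOf]
            exact hcg
          have h3 := (Subgroup.mem_normalizer_iff.1 haN _).1 hcgT
          rw [Subgroup.mem_subgroupOf, autInducedBy_eq_map] at h3
          obtain ⟨h, hhS, hh⟩ := h3
          refine ⟨h, hhS, fun x hx => ?_⟩
          have h4 : R.normalizerMonoidHom h ((a : MulAut R) x) =
              (a : MulAut R) (R.normalizerMonoidHom ⟨g, hg.2⟩ x) := by
            rw [hh]
            show ((a : MulAut R) * (R.normalizerMonoidHom ⟨g, hg.2⟩) * (a : MulAut R)⁻¹)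
              ((a : MulAut R) x) = _
            rw [MulAut.mul_apply, MulAut.mul_apply, MulAut.inv_apply_self]
          have h5 := congrArg (fun z : R => (z : Ω)) h4
          exact h5.symm
        obtain ⟨α', hα', hα'e⟩ := exists_aut_normalizer_of_receptive F (hrec R hfn) a.2 hnorm
        -- the power trick
        have hn0 : orderOf α' ≠ 0 := (orderOf_pos α').ne'
        have hp := (Fact.out : p.Prime)
        obtain ⟨f, m, hpm, hnm⟩ := Nat.exists_eq_pow_mul_and_not_dvd hn0 p hp.ne_one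
        have hαh : α' ^ m ∈ F.autGroup (FusionSystem.normalizerIn S R) := Subgroup.pow_mem _ hα' m
        have hαhp : (α' ^ m) ^ (p ^ f) = 1 := by
          rw [← pow_mul, mul_comm, ← hnm, pow_orderOf_eq_one]
        have hres := aut_pow_restrict hRN α' (a : MulAut R) (fun x => (hα'e x).symm) m
        have hpres : ∀ x : FusionSystem.normalizerIn S R, (x : Ω) ∈ R →
            (((α' ^ m) x : _) : Ω) ∈ R := by
          intro x hx
          have h3 := hres ⟨x, hx⟩
          have e : Subgroup.inclusion hRN ⟨(x : Ω), hx⟩ = x := Subtype.ext rfl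
          rw [e] at h3
          rw [← h3]
          exact (((a : MulAut R) ^ m) ⟨x, hx⟩).2
        obtain ⟨g, hg, hgx⟩ := aut_normalizer_eq_conj F hfn hNN' hN'fa hαh ⟨f, hαhp⟩ hpres
        have hamT : a ^ m ∈ (autInducedBy S R).subgroupOf (F.autGroup R) := by
          rw [Subgroup.mem_subgroupOf, autInducedBy_eq_map]
          refine ⟨⟨g, hg.2⟩, hg.1, ?_⟩
          ext x
          have h3 := hres x
          rw [hgx] at h3
          show g * (x : Ω) * g⁻¹ = _
          rw [Subgroup.coe_pow]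
          exact h3.symm
        -- a is a p-element
        obtain ⟨j, hj⟩ := hSyp ⟨a, haSy⟩
        have haj : a ^ (p ^ j) = 1 := congrArg Subtype.val hj
        obtain ⟨i, _, hi⟩ := (Nat.dvd_prime_pow hp).1 (orderOf_dvd_of_pow_eq_one haj)
        have hcop : m.Coprime (orderOf a) := by
          rw [hi]
          exact Nat.Coprime.pow_right i ((Nat.Prime.coprime_iff_not_dvd hp).2 hpm).symm
        obtain ⟨k', hk'⟩ := exists_pow_eq_self_of_coprime hcop
        apply haT
        rw [← hk']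
        exact Subgroup.pow_mem _ hamT k'

end Cfsg.Agent.Lib.Helper29
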