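import Cfsg.Agent.Lib.Helper29.FusionTransport
import Cfsg.Agent.S5076

set_option autoImplicit false
open Cfsg

namespace Cfsg.Agent.Lib.Helper29

variable {Ω : Type*} [Group Ω] {S : Subgroup Ω} {G : Type*} [Group G]

/-- a realized system corresponds to the fusion system of the group on the image -/
theorem fusIso_of_realized {F : FusionSystem S} {ι : S →* G} (h : F.IsRealizedBy ι) :
    FusIso F (groupFusionSystem ι.range) (MonoidHom.ofInjective h.1) := by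
  intro P hP φ hφ
  rw [h.2 P hP φ hφ]
  constructor
  · rintro ⟨g, hg⟩
    refine ⟨conjHom (imgE (MonoidHom.ofInjective h.1) P) g,
      ⟨imgE_le _ P, fun y => ?_, g, fun y => rfl⟩, fun x h1 => ?_⟩
    · obtain ⟨x, hx, hxy⟩ := mem_imgE.1 y.2
      show g * (y : G) * g⁻¹ ∈ ι.range
      rw [← hxy]
      have := hg ⟨x, hx⟩
      refine ⟨⟨φ ⟨x, hx⟩, hφ _⟩, ?_⟩
      rw [this]
      rfl
    · show g * ι ⟨x, hP x.2⟩ * g⁻¹ = ι ⟨φ x, hφ x⟩
      exact (hg x).symm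
  · rintro ⟨φ', ⟨_, _, g, hg⟩, hval⟩
    refine ⟨g, fun x => ?_⟩
    have h1 := hval x (coe_mem_imgE _ _ x.2)
    rw [hg] at h1
    exact h1.symm

/-- a system realized by a finite group on a Sylow subgroup is saturated -/
theorem saturated_of_realized [Finite G] {F : FusionSystem S} {ι : S →* G} (h : F.IsRealizedBy ι)
    (p : ℕ) [Fact p.Prime] (T : Sylow p G) (hT : (T : Subgroup G) = ι.range) : F.IsSaturated p := by
  apply (fusIso_of_realized h).saturated_pull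
  rw [← hT]
  exact Cfsg.Agent.S5076.result p T

/-- R1: maps of a realized system are conjugations in the group -/
theorem realized_conj {F : FusionSystem S} {ι : S →* G} (h : F.IsRealizedBy ι) {P : Subgroup Ω}
    {φ : P →* Ω} (hφ : φ ∈ F.Hom P) :
    ∃ g : G, ∀ x : P, ι ⟨φ x, (F.le_of_mem hφ).2 x⟩ = g * ι ⟨x, (F.le_of_mem hφ).1 x.2⟩ * g⁻¹ :=
  (h.2 P (F.le_of_mem hφ).1 φ (F.le_of_mem hφ).2).1 hφ

/-- R2: conjugations in the group that keep the image inside `ι(S)` are maps of the realized system -/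
theorem realized_hom {F : FusionSystem S} {ι : S →* G} (h : F.IsRealizedBy ι) {P : Subgroup Ω}
    (hP : P ≤ S) (g : G) (hg : ∀ x : P, g * ι ⟨x, hP x.2⟩ * g⁻¹ ∈ ι.range) :
    ∃ φ ∈ F.Hom P, ∃ hφS : ∀ x : P, φ x ∈ S, ∀ x : P, ι ⟨φ x, hφS x⟩ = g * ι ⟨x, hP x.2⟩ * g⁻¹ := by
  have hiso := fusIso_of_realized h
  have hφ' : conjHom (imgE (MonoidHom.ofInjective h.1) P) g ∈
      (groupFusionSystem ι.range).Hom (imgE (MonoidHom.ofInjective h.1) P) := by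
    refine ⟨imgE_le _ P, fun y => ?_, g, fun y => rfl⟩
    obtain ⟨x, hx, hxy⟩ := mem_imgE.1 y.2
    show g * (y : G) * g⁻¹ ∈ ι.range
    rw [← hxy]
    exact hg ⟨x, hx⟩
  obtain ⟨φ, hφ, hφS, hval⟩ := hiso.pull hP hφ'
  exact ⟨φ, hφ, hφS, fun x => hval x⟩

/-- the preimage in `S` of a subgroup of the group -/
def preimg (ι : S →* G) (K : Subgroup G) : Subgroup Ω := (K.comap ι).map S.subtype

theorem mem_preimg {ι : S →* G} {K : Subgroup G} {x : Ω} :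
    x ∈ preimg ι K ↔ ∃ hx : x ∈ S, ι ⟨x, hx⟩ ∈ K := by
  constructor
  · rintro ⟨s, hs, rfl⟩
    exact ⟨s.2, hs⟩
  · rintro ⟨hx, hK⟩
    exact ⟨⟨x, hx⟩, hK, rfl⟩

theorem preimg_le (ι : S →* G) (K : Subgroup G) : preimg ι K ≤ S := by
  intro x hx
  exact (mem_preimg.1 hx).1

/-- in a realized system, the preimage of a normal subgroup of `G` contained in `ι(S)` is normal in the
system -/
theorem isNormal_preimg_of_normal {F : FusionSystem S} {ι : S →* G} (h : F.IsRealizedBy ι)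
    {K : Subgroup G} (hKn : K.Normal) (hK : K ≤ ι.range) : F.IsNormal (preimg ι K) := by
  refine ⟨preimg_le ι K, fun P φ hφ => ?_⟩
  have hPS := (F.le_of_mem hφ).1
  have hφS := (F.le_of_mem hφ).2
  obtain ⟨g, hg⟩ := realized_conj h hφ
  have hPQS : P ⊔ preimg ι K ≤ S := sup_le hPS (preimg_le ι K)
  have hle : P ⊔ preimg ι K ≤ preimg ι (ι.range.comap (MulAut.conj g).toMonoidHom) := by
    apply sup_le
    · intro x hx
      refine mem_preimg.2 ⟨hPS hx, ?_⟩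
      show g * ι ⟨x, hPS hx⟩ * g⁻¹ ∈ ι.range
      rw [← hg ⟨x, hx⟩]
      exact ⟨_, rfl⟩
    · intro x hx
      obtain ⟨hxS, hxK⟩ := mem_preimg.1 hx
      refine mem_preimg.2 ⟨hxS, ?_⟩
      show g * ι ⟨x, hxS⟩ * g⁻¹ ∈ ι.range
      exact hK (hKn.conj_mem _ hxK g)
  have hg' : ∀ x : ↥(P ⊔ preimg ι K), g * ι ⟨x, hPQS x.2⟩ * g⁻¹ ∈ ι.range := by
    intro x
    obtain ⟨_, hx⟩ := mem_preimg.1 (hle x.2)
    exact hx
  obtain ⟨ψ, hψ, hψS, hψval⟩ := realized_hom h hPQS g hg'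
  refine ⟨ψ, hψ, fun x => ?_, ?_⟩
  · have h1 := hψval (Subgroup.inclusion le_sup_left x)
    have h2 : ι ⟨ψ (Subgroup.inclusion le_sup_left x), hψS _⟩ = ι ⟨φ x, hφS x⟩ := by
      rw [h1, hg x]
      rfl
    exact congrArg (fun z : S => (z : Ω)) (h.1 h2)
  · ext y
    constructor
    · rintro ⟨x, hx, rfl⟩
      obtain ⟨hxS, hxK⟩ := mem_preimg.1 (Subgroup.mem_subgroupOf.1 hx)
      refine mem_preimg.2 ⟨hψS x, ?_⟩
      rw [hψval x]
      exact hKn.conj_mem _ hxK g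
    · intro hy
      obtain ⟨hyS, hyK⟩ := mem_preimg.1 hy
      have h1 : g⁻¹ * ι ⟨y, hyS⟩ * g⁻¹⁻¹ ∈ K := hKn.conj_mem _ hyK g⁻¹
      obtain ⟨x', hx'⟩ := hK h1
      have hx'Q : (x' : Ω) ∈ preimg ι K := mem_preimg.2 ⟨x'.2, by
        have : (⟨(x' : Ω), x'.2⟩ : S) = x' := rfl
        rw [this, hx']
        exact h1⟩
      have hx'PQ : (x' : Ω) ∈ P ⊔ preimg ι K := Subgroup.mem_sup_right hx'Q
      refine ⟨⟨x', hx'PQ⟩, Subgroup.mem_subgroupOf.2 hx'Q, ?_⟩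
      have h2 := hψval ⟨x', hx'PQ⟩
      have h3 : ι ⟨ψ ⟨x', hx'PQ⟩, hψS _⟩ = ι ⟨y, hyS⟩ := by
        rw [h2]
        have : (⟨((⟨(x' : Ω), hx'PQ⟩ : ↥(P ⊔ preimg ι K)) : Ω), hPQS hx'PQ⟩ : S) = x' := rfl
        rw [this, hx']
        group
      exact congrArg (fun z : S => (z : Ω)) (h.1 h3)

/-- in a realized system, the preimage of a normal subgroup `K ≤ ι(S)` of `G` with `C_G(K) ≤ K` is centric -/
theorem isCentric_preimg_of_normal {F : FusionSystem S} {ι : S →* G} (h : F.IsRealizedBy ι)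
    {K : Subgroup G} (hKn : K.Normal) (hK : K ≤ ι.range)
    (hC : Subgroup.centralizer (K : Set G) ≤ K) : F.IsCentric (preimg ι K) := by
  refine ⟨preimg_le ι K, ?_⟩
  rintro Q₁ ⟨φ, hφ, hr⟩
  have hφS := (F.le_of_mem hφ).2
  obtain ⟨g, hg⟩ := realized_conj h hφ
  have hQ₁ : Q₁ = preimg ι K := by
    rw [← hr]
    ext y
    constructor
    · rintro ⟨x, rfl⟩
      obtain ⟨hxS, hxK⟩ := mem_preimg.1 x.2
      refine mem_preimg.2 ⟨hφS x, ?_⟩
      rw [hg x]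
      exact hKn.conj_mem _ hxK g
    · intro hy
      obtain ⟨hyS, hyK⟩ := mem_preimg.1 hy
      have h1 : g⁻¹ * ι ⟨y, hyS⟩ * g⁻¹⁻¹ ∈ K := hKn.conj_mem _ hyK g⁻¹
      obtain ⟨x', hx'⟩ := hK h1
      have hx'Q : (x' : Ω) ∈ preimg ι K := mem_preimg.2 ⟨x'.2, by
        have : (⟨(x' : Ω), x'.2⟩ : S) = x' := rfl
        rw [this, hx']
        exact h1⟩
      refine ⟨⟨x', hx'Q⟩, ?_⟩
      have h2 := hg ⟨x', hx'Q⟩
      have h3 : ι ⟨φ ⟨x', hx'Q⟩, hφS _⟩ = ι ⟨y, hyS⟩ := by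
        rw [h2]
        have : (⟨((⟨(x' : Ω), hx'Q⟩ : preimg ι K) : Ω), (F.le_of_mem hφ).1 hx'Q⟩ : S) = x' := rfl
        rw [this, hx']
        group
      exact congrArg (fun z : S => (z : Ω)) (h.1 h3)
  rw [hQ₁]
  intro c hc
  have hcS : c ∈ S := hc.1
  have hcC : c ∈ Subgroup.centralizer ((preimg ι K : Subgroup Ω) : Set Ω) := hc.2
  refine mem_preimg.2 ⟨hcS, hC ?_⟩
  rw [Subgroup.mem_centralizer_iff]
  intro z hz
  obtain ⟨x, hx⟩ := hK hz
  have hxQ : (x : Ω) ∈ preimg ι K := mem_preimg.2 ⟨x.2, by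
    have : (⟨(x : Ω), x.2⟩ : S) = x := rfl
    rw [this, hx]
    exact hz⟩
  have h1 := Subgroup.mem_centralizer_iff.1 hcC x hxQ
  rw [← hx, ← map_mul, ← map_mul]
  congr 1
  exact Subtype.ext h1

end Cfsg.Agent.Lib.Helper29
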