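import Cfsg.Agent.Lib.Helper29.FusionAlperin

/-!
Relative ("normalizer type") subsystems of a fusion system over the same `S`: maps that extend to `P ⊔ Q`
with prescribed behaviour on `Q`.
-/
set_option autoImplicit false

namespace Cfsg.Agent.Lib.Helper29
open Cfsg

variable {Ω : Type*} [Group Ω] {S : Subgroup Ω}

/-- a homomorphism from a join takes values in `T` if it does so on both factors -/
theorem sup_hom_mem {P Q T : Subgroup Ω} (ψ : ↥(P ⊔ Q) →* Ω)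
    (hP : ∀ x : P, ψ (Subgroup.inclusion le_sup_left x) ∈ T)
    (hQ : ∀ x : Q, ψ (Subgroup.inclusion le_sup_right x) ∈ T) (z : ↥(P ⊔ Q)) : ψ z ∈ T := by
  have hK : P ⊔ Q ≤ (T.comap ψ).map (P ⊔ Q).subtype := by
    refine sup_le ?_ ?_
    · intro x hx
      exact ⟨Subgroup.inclusion le_sup_left ⟨x, hx⟩, hP ⟨x, hx⟩, rfl⟩
    · intro x hx
      exact ⟨Subgroup.inclusion le_sup_right ⟨x, hx⟩, hQ ⟨x, hx⟩, rfl⟩
  obtain ⟨z', hz', hzz⟩ := hK z.2
  have : z' = z := Subtype.ext hzz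
  exact this ▸ hz'

/-- the image of `Q` under a map defined on `P ⊔ Q`, as a range -/
theorem map_subgroupOf_sup_eq_range {P Q : Subgroup Ω} (ψ : ↥(P ⊔ Q) →* Ω) :
    (Q.subgroupOf (P ⊔ Q)).map ψ = (ψ.comp (Subgroup.inclusion (le_sup_right : Q ≤ P ⊔ Q))).range := by
  ext y
  constructor
  · rintro ⟨z, hz, rfl⟩
    exact ⟨⟨z.1, hz⟩, rfl⟩
  · rintro ⟨x, rfl⟩
    exact ⟨Subgroup.inclusion le_sup_right x, x.2, rfl⟩

/-- data of allowed restrictions to `Q` (a "subgroup of `Aut(Q)`" written with maps `Q →* Ω`) -/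
structure AutData (S Q : Subgroup Ω) where
  K : Set (Q →* Ω)
  range_eq : ∀ κ ∈ K, κ.range = Q
  conj_mem : ∀ g ∈ S, conjHom Q g ∈ K
  comp_mem : ∀ κ₁ ∈ K, ∀ κ₂ ∈ K, ∀ h : ∀ x : Q, κ₁ x ∈ Q, κ₂.comp (κ₁.codRestrict Q h) ∈ K
  inv_mem : ∀ κ ∈ K, ∀ κ' : Q →* Ω, (∀ (x : Q) (h : κ x ∈ Q), κ' ⟨κ x, h⟩ = x) → κ' ∈ K

/-- the maps of `F` with source `P` that extend to `P ⊔ Q` with restriction to `Q` in `D.K` -/
def relHom {Q : Subgroup Ω} (F : FusionSystem S) (D : AutData S Q) (P : Subgroup Ω) : Set (P →* Ω) :=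
  {φ | φ ∈ F.Hom P ∧ ∃ ψ ∈ F.Hom (P ⊔ Q), (∀ x : P, ψ (Subgroup.inclusion le_sup_left x) = φ x) ∧
    ψ.comp (Subgroup.inclusion (le_sup_right : Q ≤ P ⊔ Q)) ∈ D.K}

/-- the subsystem of `F` over `S` of maps extending to `P ⊔ Q` with restriction to `Q` in `D.K` -/
def relSys {Q : Subgroup Ω} (F : FusionSystem S) (hQS : Q ≤ S) (D : AutData S Q) : FusionSystem S where
  Hom P := relHom F D P
  le_of_mem h := F.le_of_mem h.1
  injective_of_mem h := F.injective_of_mem h.1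
  conj_mem := by
    intro P g hP hg
    refine ⟨F.conj_mem hP hg, conjHom (P ⊔ Q) g, F.conj_mem (sup_le hP hQS) hg, fun x => rfl, ?_⟩
    exact D.conj_mem g hg
  comp_mem := by
    rintro P R φ ψ ⟨hφF, φ', hφ', hφ'P, hφ'K⟩ ⟨hψF, ψ', hψ', hψ'R, hψ'K⟩ h
    have hQQ : ∀ x : Q, φ' (Subgroup.inclusion le_sup_right x) ∈ Q := by
      intro x
      have h1 : φ' (Subgroup.inclusion le_sup_right x) ∈
          (φ'.comp (Subgroup.inclusion (le_sup_right : Q ≤ P ⊔ Q))).range := ⟨x, rfl⟩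
      exact (D.range_eq _ hφ'K).le h1
    have hval : ∀ z, φ' z ∈ R ⊔ Q := sup_hom_mem φ'
      (fun x => by rw [hφ'P]; exact (le_sup_left : R ≤ R ⊔ Q) (h x))
      (fun x => (le_sup_right : Q ≤ R ⊔ Q) (hQQ x))
    refine ⟨F.comp_mem hφF hψF h, ψ'.comp (φ'.codRestrict (R ⊔ Q) hval), F.comp_mem hφ' hψ' hval, ?_, ?_⟩
    · intro x
      show ψ' ⟨φ' (Subgroup.inclusion le_sup_left x), _⟩ = ψ ⟨φ x, _⟩
      rw [← hψ'R]
      congr 1
      exact Subtype.ext (hφ'P x)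
    · exact D.comp_mem _ hφ'K _ hψ'K hQQ
  inv_mem := by
    rintro P φ ⟨hφF, φ', hφ', hφ'P, hφ'K⟩
    obtain ⟨χ, hχ, hχinv⟩ := F.inv_mem hφ'
    have hle : φ.range ⊔ Q ≤ φ'.range := by
      refine sup_le ?_ ?_
      · rintro _ ⟨x, rfl⟩
        exact ⟨Subgroup.inclusion le_sup_left x, hφ'P x⟩
      · intro y hy
        rw [← D.range_eq _ hφ'K] at hy
        obtain ⟨x, rfl⟩ := hy
        exact ⟨Subgroup.inclusion le_sup_right x, rfl⟩
    have hχ' : χ.comp (Subgroup.inclusion hle) ∈ F.Hom (φ.range ⊔ Q) := restrict_mem F hle hχ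
    refine ⟨(χ.comp (Subgroup.inclusion hle)).comp (Subgroup.inclusion le_sup_left),
      ⟨restrict_mem F le_sup_left hχ', χ.comp (Subgroup.inclusion hle), hχ', fun x => rfl, ?_⟩, ?_⟩
    · apply D.inv_mem _ hφ'K
      intro x h
      exact hχinv (Subgroup.inclusion le_sup_right x)
    · intro x
      have := hχinv (Subgroup.inclusion le_sup_left x)
      show χ ⟨φ x, _⟩ = x
      have e : (⟨φ x, hle (le_sup_left (a := φ.range) (b := Q) ⟨x, rfl⟩)⟩ : φ'.range) =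
          ⟨φ' (Subgroup.inclusion le_sup_left x), ⟨_, rfl⟩⟩ := Subtype.ext (hφ'P x).symm
      rw [e]
      exact this

theorem relSys_le {Q : Subgroup Ω} (F : FusionSystem S) (hQS : Q ≤ S) (D : AutData S Q) :
    relSys F hQS D ≤ F := fun _ _ h => h.1

/-- normalizer data: all maps `Q →* Ω` with image `Q` -/
def normData {Q : Subgroup Ω} (hQn : ∀ g ∈ S, ∀ x ∈ Q, g * x * g⁻¹ ∈ Q) : AutData S Q where
  K := {κ | κ.range = Q}
  range_eq _ h := h
  conj_mem := by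
    intro g hg
    show (conjHom Q g).range = Q
    ext y
    constructor
    · rintro ⟨x, rfl⟩
      exact hQn g hg x x.2
    · intro hy
      refine ⟨⟨g⁻¹ * y * g⁻¹⁻¹, hQn g⁻¹ (S.inv_mem hg) y hy⟩, ?_⟩
      show g * (g⁻¹ * y * g⁻¹⁻¹) * g⁻¹ = y
      group
  comp_mem := by
    intro κ₁ h₁ κ₂ h₂ h
    show (κ₂.comp (κ₁.codRestrict Q h)).range = Q
    ext y
    constructor
    · rintro ⟨x, rfl⟩
      have : κ₂ (κ₁.codRestrict Q h x) ∈ κ₂.range := ⟨_, rfl⟩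
      rw [h₂] at this
      exact this
    · intro hy
      have h₂' : κ₂.range = Q := h₂
      have h₁' : κ₁.range = Q := h₁
      rw [← h₂'] at hy
      obtain ⟨z, rfl⟩ := hy
      have hz : (z : Ω) ∈ κ₁.range := h₁'.symm ▸ z.2
      obtain ⟨x, hx⟩ := hz
      refine ⟨x, ?_⟩
      show κ₂ ⟨κ₁ x, _⟩ = κ₂ z
      congr 1
      exact Subtype.ext hx
  inv_mem := by
    intro κ hκ κ' h
    have hκ' : κ.range = Q := hκ
    show κ'.range = Q
    ext y
    constructor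
    · rintro ⟨z, rfl⟩
      have hz : (z : Ω) ∈ κ.range := hκ'.symm ▸ z.2
      obtain ⟨x, hx⟩ := hz
      have : z = ⟨κ x, hx ▸ z.2⟩ := Subtype.ext hx.symm
      rw [this, h]
      exact x.2
    · intro hy
      have hk0 : κ ⟨y, hy⟩ ∈ κ.range := ⟨_, rfl⟩
      have hk : κ ⟨y, hy⟩ ∈ Q := hκ'.le hk0
      exact ⟨⟨κ ⟨y, hy⟩, hk⟩, h ⟨y, hy⟩ hk⟩

/-- centralizer data: only the inclusion of `Q` -/
def centData {Q : Subgroup Ω} (hQc : ∀ g ∈ S, ∀ x ∈ Q, g * x * g⁻¹ = x) : AutData S Q where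
  K := {Q.subtype}
  range_eq := by
    rintro κ rfl
    exact Subgroup.range_subtype Q
  conj_mem := by
    intro g hg
    show conjHom Q g = Q.subtype
    ext x
    exact hQc g hg x x.2
  comp_mem := by
    rintro κ₁ rfl κ₂ rfl h
    show _ = Q.subtype
    ext x
    rfl
  inv_mem := by
    rintro κ rfl κ' h
    show κ' = Q.subtype
    ext x
    exact h x x.2

end Cfsg.Agent.Lib.Helper29
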