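import Cfsg.Agent.Lib.Helper29.FusionRealized
import Cfsg.Agent.Lib.Helper29.FusionInvariant
import Cfsg.Agent.S5122

set_option autoImplicit false
open Cfsg

namespace Cfsg.Agent.Lib.Helper29

variable {G : Type*} [Group G]

/-- `F_T(H)` is realized by the inclusion of `T` in the group `H` -/
theorem fusionSystemOfSubgroup_realized (H T : Subgroup G) (hTH : T ≤ H) :
    (fusionSystemOfSubgroup H T hTH).IsRealizedBy (Subgroup.inclusion hTH) := by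
  refine ⟨Subgroup.inclusion_injective hTH, fun P hP φ hφ => ?_⟩
  constructor
  · rintro ⟨_, _, g, hgH, hg⟩
    exact ⟨⟨g, hgH⟩, fun x => Subtype.ext (hg x)⟩
  · rintro ⟨g, hg⟩
    exact ⟨hP, hφ, g.1, g.2, fun x => congrArg Subtype.val (hg x)⟩

/-- `F_T(H)` is saturated when `T` is a Sylow subgroup of `H` -/
theorem fusionSystemOfSubgroup_saturated [Finite G] (p : ℕ) [Fact p.Prime] (H T : Subgroup G)
    (hTH : T ≤ H) (hSyl : IsSylowSub p T H) : (fusionSystemOfSubgroup H T hTH).IsSaturated p := by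
  obtain ⟨R, hR⟩ := hSyl
  apply saturated_of_realized (fusionSystemOfSubgroup_realized H T hTH) p R
  rw [hR]
  ext x
  rw [Subgroup.mem_subgroupOf]
  constructor
  · intro hx
    exact ⟨⟨x, hx⟩, rfl⟩
  · rintro ⟨t, rfl⟩
    exact t.2

theorem isSylowSub_top [Finite G] {p : ℕ} [Fact p.Prime] (S : Sylow p G) :
    IsSylowSub p (S : Subgroup G) ⊤ := by
  rw [isSylowSub_iff le_top]
  refine ⟨S.isPGroup', ?_⟩
  rw [Subgroup.card_top]
  exact S.card_eq_multiplicity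

/-- `S ∩ H` is a Sylow subgroup of the normal subgroup `H` -/
theorem isSylowSub_inf_normal [Finite G] {p : ℕ} [Fact p.Prime] (S : Sylow p G) (H : Subgroup G)
    [hH : H.Normal] : IsSylowSub p ((S : Subgroup G) ⊓ H) H := by
  apply Cfsg.Agent.S5122.inf_sylow_of_normal p le_top le_top ?_ (isSylowSub_top S)
  rw [Subgroup.normalizer_eq_top]

theorem subgroupSys_isSubsystemOf (S H : Subgroup G) :
    (fusionSystemOfSubgroup H (S ⊓ H) inf_le_right).IsSubsystemOf (groupFusionSystem S) := by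
  rintro P φ ⟨hP, hφ, g, _, hg⟩
  exact ⟨hP.trans inf_le_left, fun x => (hφ x).1, g, hg⟩

theorem stronglyClosed_inf_normal (S H : Subgroup G) [hH : H.Normal] :
    (groupFusionSystem S).StronglyClosed (S ⊓ H) := by
  refine ⟨inf_le_left, ?_⟩
  rintro R hR φ ⟨_, hφS, g, hg⟩ x
  refine ⟨hφS x, ?_⟩
  rw [hg]
  exact hH.conj_mem _ (hR x.2).2 g

theorem subgroupSys_strongInv (S H : Subgroup G) [hH : H.Normal] :
    StrongInv (fusionSystemOfSubgroup H (S ⊓ H) inf_le_right) (groupFusionSystem S) := by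
  rintro P Q hPQ hQT φ ⟨hP, hφT, h, hhH, hh⟩ hφQ ψ ⟨hQS, hψS, g, hg⟩
  have hle : (P.subgroupOf Q).map ψ ≤ S ⊓ H := by
    rintro _ ⟨q, _, rfl⟩
    refine ⟨hψS q, ?_⟩
    rw [hg]
    exact hH.conj_mem _ (hQT q.2).2 g
  refine ⟨conjHom _ (g * h * g⁻¹), ⟨hle, ?_, g * h * g⁻¹, hH.conj_mem _ hhH g, fun y => rfl⟩, ?_⟩
  · rintro ⟨_, q, hq, rfl⟩
    have hqP : (q : G) ∈ P := hq
    show g * h * g⁻¹ * ψ q * (g * h * g⁻¹)⁻¹ ∈ S ⊓ H
    have e1 : g * h * g⁻¹ * ψ q * (g * h * g⁻¹)⁻¹ = ψ ⟨φ ⟨q, hqP⟩, hφQ _⟩ := by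
      rw [hg, hg]
      show _ = g * φ ⟨q, hqP⟩ * g⁻¹
      rw [hh]
      show g * h * g⁻¹ * (g * (q : G) * g⁻¹) * (g * h * g⁻¹)⁻¹ = g * (h * (q : G) * h⁻¹) * g⁻¹
      group
    rw [e1]
    refine ⟨hψS _, ?_⟩
    rw [hg]
    exact hH.conj_mem _ (hQT (hφQ _)).2 g
  · intro x hx
    show g * h * g⁻¹ * ψ (Subgroup.inclusion hPQ x) * (g * h * g⁻¹)⁻¹ = _
    rw [hg, hg]
    show _ = g * φ x * g⁻¹
    rw [hh]
    show g * h * g⁻¹ * (g * (x : G) * g⁻¹) * (g * h * g⁻¹)⁻¹ = g * (h * (x : G) * h⁻¹) * g⁻¹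
    group

end Cfsg.Agent.Lib.Helper29
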