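import Cfsg.Prelude.Def_FusionComponents
import Cfsg.Agent.Lib.Helper29.FusionInvariant

set_option autoImplicit false
open Cfsg

namespace Cfsg.Agent.Lib.Helper29

variable {Ω : Type*} [Group Ω] {S : Subgroup Ω}

/-- a subgroup of a strongly closed `U` that is fully normalized in the saturated `F` is fully normalized in
every subsystem of `F` over `U` -/
theorem fullyNormalized_of_subsystem [Finite S] {p : ℕ} [Fact p.Prime] (hS : IsPGroup p S)
    {F : FusionSystem S} (hF : F.IsSaturated p) {U : Subgroup Ω} {D : FusionSystem U}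
    (hD : D.IsSubsystemOf F) (hU : F.StronglyClosed U) {P : Subgroup Ω} (hPU : P ≤ U)
    (hP : F.IsFullyNormalized P) : D.IsFullyNormalized P := by
  refine ⟨hPU, fun P₁ hc => ?_⟩
  obtain ⟨φ, hφ, hr⟩ := hc
  have hcF : F.IsConj P P₁ := ⟨φ, hD P hφ, hr⟩
  have hsat := (Cfsg.Agent.S5077.result p hS F).1 hF
  have hfa := (hsat.1 P hP).2
  have hrec := hsat.2 P (hsat.1 P hP).1
  obtain ⟨χ, hχ, hχN, _, _⟩ := exists_hom_normalizer p hS F P P₁ hfa hrec (isConj_symm F hcF)
  have hle : FusionSystem.normalizerIn U P₁ ≤ FusionSystem.normalizerIn S P₁ :=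
    fun x hx => ⟨hU.1 hx.1, hx.2⟩
  have hχU := restrict_mem F hle hχ
  have hNU : FusionSystem.normalizerIn U P₁ ≤ U := inf_le_left
  have hvalU : ∀ x : FusionSystem.normalizerIn U P₁, χ (Subgroup.inclusion hle x) ∈ U :=
    fun x => hU.2 _ hNU _ hχU x
  haveI : Finite U := finite_of_le hU.1
  haveI := finite_normalizerIn (S := U) P
  apply Nat.card_le_card_of_injective
    (fun x : FusionSystem.normalizerIn U P₁ =>
      (⟨χ (Subgroup.inclusion hle x), ⟨hvalU x, (hχN _).2⟩⟩ : FusionSystem.normalizerIn U P))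
  intro a b hab
  have h1 : χ (Subgroup.inclusion hle a) = χ (Subgroup.inclusion hle b) :=
    congrArg (fun z : FusionSystem.normalizerIn U P => (z : Ω)) hab
  have h2 := F.injective_of_mem hχ h1
  exact Subgroup.inclusion_injective hle h2

theorem le_of_subnormal {T : Subgroup Ω} {E : FusionSystem T} {F : FusionSystem S} {p : ℕ}
    (hE : E.IsSubnormalIn F p) : T ≤ S := by
  induction hE with
  | refl F p => exact le_rfl
  | step hED hDF ih =>
    obtain ⟨⟨_, _, _, hUsc, _, _⟩, _⟩ := hDF
    exact ih.trans hUsc.1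

/-- fully `F`-normalized subgroups of `T` are fully normalized in subnormal subsystems over `T` -/
theorem fullyNormalized_of_subnormal {T : Subgroup Ω} {E : FusionSystem T} {F : FusionSystem S} {p : ℕ}
    (hE : E.IsSubnormalIn F p) : ∀ [Finite S] [Fact p.Prime], IsPGroup p S → F.IsSaturated p →
      ∀ P : Subgroup Ω, P ≤ T → F.IsFullyNormalized P → E.IsFullyNormalized P := by
  induction hE with
  | refl F p =>
    intro _ _ _ _ P _ hP
    exact hP
  | @step U S E D F p hED hDF ih =>
    intro _ _ hS hF P hPT hP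
    have hTU : T ≤ U := le_of_subnormal hED
    obtain ⟨⟨hDsat, _, hDsub, hUsc, _, _⟩, _⟩ := hDF
    have hUS : U ≤ S := hUsc.1
    haveI : Finite U := finite_of_le hUS
    have hUp : IsPGroup p U := hS.to_le hUS
    have hPD := fullyNormalized_of_subsystem hS hF hDsub hUsc (hPT.trans hTU) hP
    exact ih hUp hDsat P hPT hPD

end Cfsg.Agent.Lib.Helper29
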