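import Cfsg.Agent.Lib.Helper29.FusionChain4

/-!
Weakly normal subsystems: images of `E`-normal subgroups under `Aut_F(T)` are `E`-normal; the subgroup
generated by all `F`-images of an `E`-normal subgroup is `F`-normal.
-/
set_option autoImplicit false

namespace Cfsg.Agent.Lib.Helper29
open Cfsg

variable {Ω : Type*} [Group Ω] {S : Subgroup Ω}

/-- S5106 (⇐) as a library lemma -/
theorem isNormal_of_ext [Finite S] (p : ℕ) [Fact p.Prime] (hS : IsPGroup p S) (F : FusionSystem S)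
    (hF : F.IsSaturated p) {Q : Subgroup Ω} (hQS : Q ≤ S)
    (hext : ∀ (P : Subgroup Ω) (hPQ : P ≤ Q) (φ : P →* Ω), φ ∈ F.Hom P →
      ∃ α ∈ F.autGroup Q, ∀ x : P, ((α (Subgroup.inclusion hPQ x) : Q) : Ω) = φ x) : F.IsNormal Q := by
  obtain ⟨n, Qs, h0, hn, hmono, h⟩ := exists_chain_of_ext hS F hQS hext
  exact isNormal_of_chain p hS F hF Q n Qs h0 hn hmono h

/-- the invariance axiom of `IsInvariantIn`, as a proposition -/
def InvAx {T : Subgroup Ω} (E : FusionSystem T) (F : FusionSystem S) : Prop :=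
  ∀ (P : Subgroup Ω) (hPT : P ≤ T) (φ : P →* Ω), φ ∈ E.Hom P → ∀ α ∈ F.autGroup T,
    ∃ χ ∈ E.Hom ((P.subgroupOf T).map (T.subtype.comp α.toMonoidHom)),
      ∀ (x : P) (hφx : φ x ∈ T)
        (hαx : ((α ⟨x, hPT x.2⟩ : T) : Ω) ∈ (P.subgroupOf T).map (T.subtype.comp α.toMonoidHom)),
        χ ⟨(α ⟨x, hPT x.2⟩ : T), hαx⟩ = ((α ⟨φ x, hφx⟩ : T) : Ω)

theorem mem_map_aut {T : Subgroup Ω} (P : Subgroup Ω) (α : MulAut T) (x : T) (hx : (x : Ω) ∈ P) :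
    ((α x : T) : Ω) ∈ (P.subgroupOf T).map (T.subtype.comp α.toMonoidHom) :=
  ⟨x, hx, rfl⟩

/-- images of `E`-normal subgroups under `Aut_F(T)` are `E`-normal -/
theorem isNormal_map_aut {T : Subgroup Ω} [Finite T] (p : ℕ) [Fact p.Prime] (hT : IsPGroup p T)
    (E : FusionSystem T) (hE : E.IsSaturated p) (F : FusionSystem S) (hinv : InvAx E F)
    {R : Subgroup Ω} (hR : E.IsNormal R) {α : MulAut T} (hα : α ∈ F.autGroup T) :
    E.IsNormal ((R.subgroupOf T).map (T.subtype.comp α.toMonoidHom)) := by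
  have hRT : R ≤ T := hR.1
  have hR'T : (R.subgroupOf T).map (T.subtype.comp α.toMonoidHom) ≤ T := by
    rintro _ ⟨y, _, rfl⟩
    exact (α y).2
  have : Finite R := finite_of_le hRT
  have : Finite ↥((R.subgroupOf T).map (T.subtype.comp α.toMonoidHom)) := finite_of_le hR'T
  apply isNormal_of_ext p hT E hE hR'T
  intro P hPR' φ hφ
  have hPT : P ≤ T := hPR'.trans hR'T
  -- Step A
  obtain ⟨χ, hχ, hχv⟩ := hinv P hPT φ hφ α⁻¹ (inv_mem hα)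
  have hP₀R : (P.subgroupOf T).map (T.subtype.comp (α⁻¹).toMonoidHom) ≤ R := by
    rintro _ ⟨y, hy, rfl⟩
    obtain ⟨r, hr, hry⟩ := hPR' hy
    have e : α r = y := Subtype.ext hry
    show (((α⁻¹ : MulAut T) y : T) : Ω) ∈ R
    rw [← e, MulAut.inv_apply_self]
    exact hr
  -- Step B
  obtain ⟨β₀, hβ₀, hβ₀v⟩ := exists_aut_of_isNormal E hR _ hP₀R χ hχ
  -- Step C
  obtain ⟨χ', hχ', hχ'v⟩ := hinv R hRT _ ((mem_autGroup_iff E hRT).1 hβ₀) α hα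
  have hval : ∀ y : ↥((R.subgroupOf T).map (T.subtype.comp α.toMonoidHom)),
      χ' y ∈ (R.subgroupOf T).map (T.subtype.comp α.toMonoidHom) := by
    rintro ⟨_, r, hr, rfl⟩
    have h1 : χ' ⟨((α r : T) : Ω), mem_map_aut R α r hr⟩ =
        ((α ⟨((β₀ ⟨r.1, hr⟩ : R) : Ω), hRT (β₀ ⟨r.1, hr⟩).2⟩ : T) : Ω) :=
      hχ'v ⟨r.1, hr⟩ (hRT (β₀ ⟨r.1, hr⟩).2) (mem_map_aut R α r hr)
    show χ' ⟨((α r : T) : Ω), mem_map_aut R α r hr⟩ ∈ _
    rw [h1]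
    exact mem_map_aut R α _ (β₀ ⟨r.1, hr⟩).2
  -- Step D
  obtain ⟨β, hβ, hβv⟩ := exists_aut_of_hom E hχ' hval
  refine ⟨β, hβ, fun x => ?_⟩
  rw [hβv]
  -- Step E
  obtain ⟨r, hr, hrx⟩ := hPR' x.2
  have hrx' : α r = ⟨x.1, hPT x.2⟩ := Subtype.ext hrx
  have hr' : (α⁻¹ : MulAut T) ⟨x.1, hPT x.2⟩ = r := by
    rw [← hrx', MulAut.inv_apply_self]
  have h1 : χ' ⟨((α r : T) : Ω), mem_map_aut R α r hr⟩ =
      ((α ⟨((β₀ ⟨r.1, hr⟩ : R) : Ω), hRT (β₀ ⟨r.1, hr⟩).2⟩ : T) : Ω) :=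
    hχ'v ⟨r.1, hr⟩ (hRT (β₀ ⟨r.1, hr⟩).2) (mem_map_aut R α r hr)
  have e3 : (Subgroup.inclusion hPR' x : ↥((R.subgroupOf T).map (T.subtype.comp α.toMonoidHom))) =
      ⟨((α r : T) : Ω), mem_map_aut R α r hr⟩ := Subtype.ext hrx.symm
  rw [e3, h1]
  -- β₀ ⟨r, hr⟩ = χ ⟨r, _⟩
  have hrP₀ : (r : Ω) ∈ (P.subgroupOf T).map (T.subtype.comp (α⁻¹).toMonoidHom) := by
    rw [← hr']
    exact mem_map_aut P α⁻¹ ⟨x.1, hPT x.2⟩ x.2
  have h2 := hβ₀v ⟨r.1, hrP₀⟩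
  have e4 : Subgroup.inclusion hP₀R ⟨r.1, hrP₀⟩ = (⟨r.1, hr⟩ : R) := Subtype.ext rfl
  rw [e4] at h2
  have hφT : φ x ∈ T := (E.le_of_mem hφ).2 x
  have h3 := hχv x hφT (by rw [hr']; exact hrP₀)
  have e5 : (⟨(((α⁻¹ : MulAut T) ⟨x.1, hPT x.2⟩ : T) : Ω), by rw [hr']; exact hrP₀⟩ :
      ↥((P.subgroupOf T).map (T.subtype.comp (α⁻¹).toMonoidHom))) = ⟨r.1, hrP₀⟩ :=
    Subtype.ext (congrArg (fun y : T => (y : Ω)) hr')
  rw [e5] at h3
  -- combine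
  have h4 : (⟨((β₀ ⟨r.1, hr⟩ : R) : Ω), hRT (β₀ ⟨r.1, hr⟩).2⟩ : T) = (α⁻¹ : MulAut T) ⟨φ x, hφT⟩ := by
    apply Subtype.ext
    show ((β₀ ⟨r.1, hr⟩ : R) : Ω) = _
    rw [h2, h3]
  rw [h4, MulAut.apply_inv_self]

end Cfsg.Agent.Lib.Helper29

namespace Cfsg.Agent.Lib.Helper29
open Cfsg

variable {Ω : Type*} [Group Ω] {S : Subgroup Ω}

/-- an automorphism mapping `Q ∩ P` into `Q` maps it onto `Q ∩ P` (finite case) -/
theorem map_eq_of_forall_mem {P Q : Subgroup Ω} [Finite P] (α : MulAut P)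
    (h : ∀ x : P, (x : Ω) ∈ Q → ((α x : P) : Ω) ∈ Q) :
    (Q.subgroupOf P).map α.toMonoidHom = Q.subgroupOf P := by
  have hle : (Q.subgroupOf P).map α.toMonoidHom ≤ Q.subgroupOf P := by
    rintro _ ⟨w, hw, rfl⟩
    exact h w hw
  apply Subgroup.eq_of_le_of_card_ge hle
  rw [Subgroup.card_map_of_injective α.injective]

/-- **S5291**: the subgroup generated by the `F`-images of an `E`-normal subgroup (for `E` weakly normal in
`F`) is `F`-normal -/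
theorem isNormal_closure_images [Finite S] (p : ℕ) [Fact p.Prime] (hS : IsPGroup p S)
    (F : FusionSystem S) (hF : F.IsSaturated p) {T : Subgroup Ω} (E : FusionSystem T)
    (hE : E.IsWeaklyNormalIn F p) (R : Subgroup Ω) (hR : E.IsNormal R) :
    F.IsNormal (Subgroup.closure {x : Ω | ∃ φ ∈ F.Hom R, ∃ r : R, x = φ r}) := by
  obtain ⟨hEsat, _, hsub, hTsc, hinv, hfrat⟩ := hE
  have hTS : T ≤ S := hTsc.1
  have : Finite T := finite_of_le hTS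
  have hT : IsPGroup p T := hS.to_le hTS
  have hRT : R ≤ T := hR.1
  have hRsc := stronglyClosed_of_isNormal E hR
  -- every generator lies in some E-normal N ≤ R*
  have hgen : ∀ (φ : R →* Ω), φ ∈ F.Hom R → ∀ r : R, ∃ N : Subgroup Ω, E.IsNormal N ∧
      N ≤ Subgroup.closure {x : Ω | ∃ φ ∈ F.Hom R, ∃ r : R, x = φ r} ∧ φ r ∈ N := by
    intro φ hφ r
    obtain ⟨α, hα, φ₀, hφ₀, hφeq⟩ := hfrat R hRT φ hφ
    have hφ₀R : φ₀ r ∈ R := hRsc.2 R le_rfl φ₀ hφ₀ r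
    refine ⟨(R.subgroupOf T).map (T.subtype.comp α.toMonoidHom),
      isNormal_map_aut p hT E hEsat F hinv hR hα, ?_, ?_⟩
    · rintro _ ⟨y, hy, rfl⟩
      apply Subgroup.subset_closure
      exact ⟨_, restrict_mem F hRT ((mem_autGroup_iff F hTS).1 hα), ⟨y.1, hy⟩, rfl⟩
    · rw [hφeq r (hRT hφ₀R)]
      exact mem_map_aut R α _ hφ₀R
  have hRsT : Subgroup.closure {x : Ω | ∃ φ ∈ F.Hom R, ∃ r : R, x = φ r} ≤ T := by
    rw [Subgroup.closure_le]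
    rintro _ ⟨φ, hφ, r, rfl⟩
    exact hTsc.2 R hRT φ hφ r
  -- R* is normal in E
  have hRsE : E.IsNormal (Subgroup.closure {x : Ω | ∃ φ ∈ F.Hom R, ∃ r : R, x = φ r}) := by
    apply isNormal_of_aut p hT E hEsat
    intro P₁ hP₁
    have hP₁T : P₁ ≤ T := by
      rcases hP₁ with rfl | hP₁
      · exact le_rfl
      · exact hP₁.1.1
    have hNle : ∀ N : Subgroup Ω, E.IsNormal N → N ≤ P₁ := by
      intro N hN
      rcases hP₁ with rfl | hP₁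
      · exact hN.1
      · exact le_of_isNormal_of_centric_radical hT E hN hP₁.1 (isRadical_of_isEssential hT E hP₁)
    have hle : Subgroup.closure {x : Ω | ∃ φ ∈ F.Hom R, ∃ r : R, x = φ r} ≤ P₁ := by
      rw [Subgroup.closure_le]
      rintro _ ⟨φ, hφ, r, rfl⟩
      obtain ⟨N, hN, _, hmem⟩ := hgen φ hφ r
      exact hNle N hN hmem
    refine ⟨hle, fun α₁ hα₁ => ?_⟩
    have : Finite P₁ := finite_of_le hP₁T
    apply map_eq_of_forall_mem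
    have key : ∀ y (hy : y ∈ Subgroup.closure {x : Ω | ∃ φ ∈ F.Hom R, ∃ r : R, x = φ r}),
        ((α₁ ⟨y, hle hy⟩ : P₁) : Ω) ∈ Subgroup.closure {x : Ω | ∃ φ ∈ F.Hom R, ∃ r : R, x = φ r} := by
      intro y hy
      induction hy using Subgroup.closure_induction with
      | mem y hy =>
        obtain ⟨φ, hφ, r, rfl⟩ := hy
        obtain ⟨N, hN, hNRs, hmem⟩ := hgen φ hφ r
        exact hNRs (aut_mem_of_stronglyClosed E (stronglyClosed_of_isNormal E hN) hP₁T hα₁ _ hmem)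
      | one =>
        have e : (⟨1, hle (Subgroup.one_mem _)⟩ : P₁) = 1 := rfl
        rw [e, map_one]
        exact Subgroup.one_mem _
      | mul y z hy hz ihy ihz =>
        have e : (⟨y * z, hle (Subgroup.mul_mem _ hy hz)⟩ : P₁) = ⟨y, hle hy⟩ * ⟨z, hle hz⟩ := rfl
        rw [e, map_mul]
        exact Subgroup.mul_mem _ ihy ihz
      | inv y hy ihy =>
        have e : (⟨y⁻¹, hle (Subgroup.inv_mem _ hy)⟩ : P₁) = ⟨y, hle hy⟩⁻¹ := rfl
        rw [e, map_inv]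
        exact Subgroup.inv_mem _ ihy
    intro x hx
    exact key x.1 hx
  have : Finite ↥(Subgroup.closure {x : Ω | ∃ φ ∈ F.Hom R, ∃ r : R, x = φ r}) := finite_of_le hRsT
  -- F-normality through extension of maps to automorphisms of R*
  apply isNormal_of_ext p hS F hF (hRsT.trans hTS)
  intro P hP φ hφ
  have hPT : P ≤ T := hP.trans hRsT
  obtain ⟨α, hα, φ₀, hφ₀, hφeq⟩ := hfrat P hPT φ hφ
  obtain ⟨β₀, hβ₀, hβ₀v⟩ := exists_aut_of_isNormal E hRsE P hP φ₀ hφ₀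
  have hβ₀F : β₀ ∈ F.autGroup (Subgroup.closure {x : Ω | ∃ φ ∈ F.Hom R, ∃ r : R, x = φ r}) := by
    rw [mem_autGroup_iff F (hRsT.trans hTS)]
    exact hsub _ ((mem_autGroup_iff E hRsT).1 hβ₀)
  -- α maps R* into R*
  have hαF := (mem_autGroup_iff F hTS).1 hα
  have keyα : ∀ y (hy : y ∈ Subgroup.closure {x : Ω | ∃ φ ∈ F.Hom R, ∃ r : R, x = φ r}),
      ((α ⟨y, hRsT hy⟩ : T) : Ω) ∈ Subgroup.closure {x : Ω | ∃ φ ∈ F.Hom R, ∃ r : R, x = φ r} := by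
    intro y hy
    induction hy using Subgroup.closure_induction with
    | mem y hy =>
      obtain ⟨φ', hφ', r, rfl⟩ := hy
      apply Subgroup.subset_closure
      have hφ'T : ∀ x : R, φ' x ∈ T := fun x => hTsc.2 R hRT φ' hφ' x
      exact ⟨_, F.comp_mem hφ' hαF hφ'T, r, rfl⟩
    | one =>
      have e : (⟨1, hRsT (Subgroup.one_mem _)⟩ : T) = 1 := rfl
      rw [e, map_one]
      exact Subgroup.one_mem _
    | mul y z hy hz ihy ihz =>
      have e : (⟨y * z, hRsT (Subgroup.mul_mem _ hy hz)⟩ : T) = ⟨y, hRsT hy⟩ * ⟨z, hRsT hz⟩ := rfl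
      rw [e, map_mul]
      exact Subgroup.mul_mem _ ihy ihz
    | inv y hy ihy =>
      have e : (⟨y⁻¹, hRsT (Subgroup.inv_mem _ hy)⟩ : T) = ⟨y, hRsT hy⟩⁻¹ := rfl
      rw [e, map_inv]
      exact Subgroup.inv_mem _ ihy
  obtain ⟨γ, hγ, hγv⟩ := exists_aut_of_hom F (restrict_mem F hRsT hαF) (fun y => keyα y.1 y.2)
  refine ⟨γ * β₀, mul_mem hγ hβ₀F, fun x => ?_⟩
  rw [MulAut.mul_apply, hγv]
  have hφ₀T : φ₀ x ∈ T := (E.le_of_mem hφ₀).2 x
  rw [hφeq x hφ₀T]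
  show ((α ⟨((β₀ (Subgroup.inclusion hP x) : _) : Ω), _⟩ : T) : Ω) = _
  congr 2
  exact Subtype.ext (hβ₀v x)

end Cfsg.Agent.Lib.Helper29
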