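import Cfsg.Agent.Lib.Helper29.GTQuot
import Cfsg.Agent.Lib.Helper29.StabChain

/-!
The Glauberman–Thompson criterion for fusion systems: the automizer of the maximal normal witness
is not a `p`-group, and the witness is centric.
-/
set_option autoImplicit false
universe u

namespace Cfsg.Agent.Lib.Helper29

open Cfsg

variable {Ω : Type u} [Group Ω] {T : Subgroup Ω}

theorem pow_apply_eq_self_gt {G : Type*} [Group G] (δ : MulAut G) (x : G) (h : δ x = x) (n : ℕ) :
    (δ ^ n) x = x := by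
  induction n with
  | zero => simp
  | succ n ih =>
    rw [pow_succ, MulAut.mul_apply, h, ih]

/-- automorphisms of the system stabilise a strongly closed subgroup -/
theorem autGroup_le_stabSub_gt [Finite T] (E : FusionSystem T) {Q : Subgroup Ω} (hQsc : E.StronglyClosed Q)
    {U : Subgroup Ω} (hUT : U ≤ T) : E.autGroup U ≤ stabSub U Q := by
  intro β hβ
  rw [mem_stabSub]
  intro x
  constructor
  · intro hx
    exact stronglyClosed_hom_mem E hQsc ((mem_autGroup_iff E hUT).1 hβ) x hx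
  · intro hx
    have h1 := stronglyClosed_hom_mem E hQsc
      ((mem_autGroup_iff E hUT).1 ((E.autGroup U).inv_mem hβ)) (β x) hx
    have e : ((β⁻¹ (β x) : U) : Ω) = x := by rw [MulAut.inv_apply_self]
    rw [← e]
    exact h1

theorem resAut_mem_autGroup_gt [Finite T] (E : FusionSystem T) {Q U : Subgroup Ω} (hQU : Q ≤ U)
    (hUT : U ≤ T) (β : stabSub U Q) (hβ : (β : MulAut U) ∈ E.autGroup U) :
    resAut hQU β ∈ E.autGroup Q := by
  rw [mem_autGroup_iff E (hQU.trans hUT)]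
  have h1 := restrict_mem E hQU ((mem_autGroup_iff E hUT).1 hβ)
  have e : Q.subtype.comp (resAut hQU β).toMonoidHom =
      (U.subtype.comp (β : MulAut U).toMonoidHom).comp (Subgroup.inclusion hQU) := by
    ext x
    rfl
  rw [e]
  exact h1

theorem autQ_not_pgroup [Finite T] {p : ℕ} [Fact p.Prime] (hT : IsPGroup p T) (E : FusionSystem T)
    {Q : Subgroup Ω} (hQsc : E.StronglyClosed Q)
    (hquot : ∀ U : Subgroup Ω, Q ≤ U → U ≤ T → ∀ β : MulAut U, β ∈ E.autGroup U →
      ∃ k, ∀ x : U, (x : Ω)⁻¹ * ((β ^ (p ^ k)) x : U) ∈ Q)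
    {U : Subgroup Ω} (hQU : Q ≤ U) (hUT : U ≤ T) (hU : ¬ IsPGroup p (E.autGroup U)) :
    ¬ IsPGroup p (E.autGroup Q) := by
  intro hQp
  apply hU
  haveI : Finite U := finite_of_le hUT
  have hUp : IsPGroup p U := hT.to_le hUT
  rintro ⟨β, hβ⟩
  obtain ⟨k₁, hk₁⟩ := hquot U hQU hUT β hβ
  have hβs : β ∈ stabSub U Q := autGroup_le_stabSub_gt E hQsc hUT hβ
  obtain ⟨j, hj⟩ := hQp ⟨_, resAut_mem_autGroup_gt E hQU hUT ⟨β, hβs⟩ hβ⟩
  have hj' : (resAut hQU ⟨β, hβs⟩) ^ p ^ j = 1 := by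
    have := congrArg Subtype.val hj
    simpa using this
  rw [← map_pow] at hj'
  have hfix : ∀ x : U, (x : Ω) ∈ Q → (β ^ p ^ j) x = x := by
    intro x hx
    have h1 := resAut_apply_coe hQU (⟨β, hβs⟩ ^ p ^ j) ⟨x, hx⟩
    rw [hj'] at h1
    apply Subtype.ext
    have h2 : (((⟨β, hβs⟩ : stabSub U Q) ^ p ^ j : stabSub U Q) : MulAut U) = β ^ p ^ j := by
      rw [Subgroup.coe_pow]
    rw [h2] at h1
    exact h1.symm
  obtain ⟨k', hk'⟩ := stab_step hUp (M₀ := Q.subgroupOf U) (M₁ := ⊤) le_top (β ^ p ^ k₁)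
    (fun x _ => by
      rw [Subgroup.mem_subgroupOf]
      exact hk₁ x) j
    (fun x hx => by
      rw [Subgroup.mem_subgroupOf] at hx
      rw [← pow_mul, mul_comm, pow_mul]
      exact pow_apply_eq_self_gt _ x (hfix x hx) _)
  refine ⟨k₁ + k', ?_⟩
  apply Subtype.ext
  rw [Subgroup.coe_pow]
  show β ^ p ^ (k₁ + k') = 1
  rw [pow_add, pow_mul]
  apply MulEquiv.ext
  intro x
  exact hk' x (Subgroup.mem_top _)

theorem fullyNormalized_of_stronglyClosed [Finite T] (E : FusionSystem T) {Q : Subgroup Ω}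
    (hQsc : E.StronglyClosed Q) : E.IsFullyNormalized Q := by
  refine ⟨hQsc.1, fun Q' hconj => ?_⟩
  obtain ⟨φ, hφ, hr⟩ := hconj
  have h := (weaklyClosed_of_stronglyClosed E hQsc).2 φ hφ
  rw [← hr, h]

/-- automorphisms of a strongly closed `Q` extend to `Q C_T(Q)` -/
theorem autQ_pgroup_of_sup [Finite T] {p : ℕ} [Fact p.Prime] (hT : IsPGroup p T) (E : FusionSystem T)
    (hE : E.IsSaturated p) {Q : Subgroup Ω} (hQsc : E.StronglyClosed Q)
    (hp : IsPGroup p (E.autGroup (Q ⊔ FusionSystem.centralizerIn T Q))) :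
    IsPGroup p (E.autGroup Q) := by
  have hQT : Q ≤ T := hQsc.1
  have hsat := (Cfsg.Agent.S5077.result p hT E).1 hE
  have hfn := fullyNormalized_of_stronglyClosed E hQsc
  have hrec := hsat.2 Q (hsat.1 Q hfn).1
  have hQ₂T : Q ⊔ FusionSystem.centralizerIn T Q ≤ T := sup_le hQT inf_le_left
  haveI : Finite (Q ⊔ FusionSystem.centralizerIn T Q : Subgroup Ω) := finite_of_le hQ₂T
  rintro ⟨α, hα⟩
  have hφ := (mem_autGroup_iff E hQT).1 hα
  obtain ⟨φ, hφe⟩ : ∃ φ : Q →* Ω, φ = Q.subtype.comp α.toMonoidHom := ⟨_, rfl⟩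
  rw [← hφe] at hφ
  have hφv : ∀ x : Q, φ x = (α x : Q) := fun x => by rw [hφe]; rfl
  have hr : φ.range = Q := (weaklyClosed_of_stronglyClosed E hQsc).2 φ hφ
  obtain ⟨ψ, hψ, hext⟩ := hrec.2 Q φ hφ hr
  have hQext : Q ≤ FusionSystem.extender T Q φ := le_extender E hφ
  have hCext : FusionSystem.centralizerIn T Q ≤ FusionSystem.extender T Q φ :=
    centralizerIn_le_extender Q φ
  have hle : Q ⊔ FusionSystem.centralizerIn T Q ≤ FusionSystem.extender T Q φ := sup_le hQext hCext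
  have hψ₂ := restrict_mem E hle hψ
  have hval : ∀ z : ↥(Q ⊔ FusionSystem.centralizerIn T Q),
      (ψ.comp (Subgroup.inclusion hle)) z ∈ Q ⊔ FusionSystem.centralizerIn T Q := by
    apply sup_hom_mem
    · intro x
      apply Subgroup.mem_sup_left
      have h1 : (ψ.comp (Subgroup.inclusion hle)) (Subgroup.inclusion le_sup_left x) =
          ψ ⟨x, hQext x.2⟩ := rfl
      rw [h1, hext x x.2 (hQext x.2), hφv]
      exact (α x).2
    · intro c
      apply Subgroup.mem_sup_right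
      exact ext_centralizer E hφ hr hψ hext c c.2
  obtain ⟨α₂, hα₂, hα₂e⟩ := exists_aut_of_hom E hψ₂ hval
  have hα₂s : α₂ ∈ stabSub (Q ⊔ FusionSystem.centralizerIn T Q) Q :=
    autGroup_le_stabSub_gt E hQsc hQ₂T hα₂
  obtain ⟨k, hk⟩ := hp ⟨α₂, hα₂⟩
  have hk' : α₂ ^ p ^ k = 1 := by
    have := congrArg Subtype.val hk
    simpa using this
  have hres : resAut le_sup_left ⟨α₂, hα₂s⟩ = α := by
    apply MulEquiv.ext
    intro x
    apply Subtype.ext
    rw [resAut_apply_coe]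
    show ((α₂ (Subgroup.inclusion le_sup_left x) : ↥(Q ⊔ FusionSystem.centralizerIn T Q)) : Ω) = _
    rw [hα₂e]
    have h1 : (ψ.comp (Subgroup.inclusion hle)) (Subgroup.inclusion le_sup_left x) =
        ψ ⟨x, hQext x.2⟩ := rfl
    rw [h1, hext x x.2 (hQext x.2), hφv]
  refine ⟨k, ?_⟩
  apply Subtype.ext
  rw [Subgroup.coe_pow]
  show α ^ p ^ k = 1
  rw [← hres, ← map_pow]
  have e : (⟨α₂, hα₂s⟩ : stabSub (Q ⊔ FusionSystem.centralizerIn T Q) Q) ^ p ^ k = 1 := by
    apply Subtype.ext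
    rw [Subgroup.coe_pow]
    exact hk'
  rw [e, map_one]

theorem conj_mem_centralizerIn [Finite T] (E : FusionSystem T) {Q : Subgroup Ω}
    (hQsc : E.StronglyClosed Q) {t c : Ω} (ht : t ∈ T) (hc : c ∈ FusionSystem.centralizerIn T Q) :
    t * c * t⁻¹ ∈ FusionSystem.centralizerIn T Q := by
  refine ⟨T.mul_mem (T.mul_mem ht hc.1) (T.inv_mem ht), ?_⟩
  show t * c * t⁻¹ ∈ Subgroup.centralizer (Q : Set Ω)
  have hc2 : c ∈ Subgroup.centralizer (Q : Set Ω) := hc.2
  rw [Subgroup.mem_centralizer_iff] at hc2 ⊢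
  intro y hy
  have hy' : t⁻¹ * y * t ∈ Q := by
    have := stronglyClosed_conj_mem E hQsc (T.inv_mem ht) hy
    rwa [inv_inv] at this
  have h2 := hc2 _ hy'
  calc y * (t * c * t⁻¹) = t * ((t⁻¹ * y * t) * c) * t⁻¹ := by group
    _ = t * (c * (t⁻¹ * y * t)) * t⁻¹ := by rw [h2]
    _ = t * c * t⁻¹ * y := by group

/-- the maximal normal witness is centric, so the system is constrained -/
theorem constrained_of_max [Finite T] {p : ℕ} [Fact p.Prime] (hT : IsPGroup p T) (E : FusionSystem T)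
    (hE : E.IsSaturated p) {Q : Subgroup Ω} (hQn : E.IsNormal Q)
    (hmax : ∀ R, R ≤ T → FusionSystem.normalizerIn T R = T → Nat.card Q < Nat.card R →
      ¬ PWN p E R)
    (hQa : ¬ IsPGroup p (E.autGroup Q)) : E.IsConstrained p := by
  have hQsc := stronglyClosed_of_isNormal E hQn
  have hQT : Q ≤ T := hQsc.1
  have hcent : FusionSystem.centralizerIn T Q ≤ Q := by
    by_contra hnot
    obtain ⟨Q₂, hQ₂⟩ : ∃ Q₂, Q₂ = Q ⊔ FusionSystem.centralizerIn T Q := ⟨_, rfl⟩
    have hQ₂T : Q₂ ≤ T := hQ₂ ▸ sup_le hQT inf_le_left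
    haveI : Finite Q₂ := finite_of_le hQ₂T
    have hQQ₂ : Q ≤ Q₂ := hQ₂ ▸ le_sup_left
    have hlt : Nat.card Q < Nat.card Q₂ := by
      apply lt_of_le_of_ne (Subgroup.card_le_of_le hQQ₂)
      intro heq
      have h1 := Subgroup.eq_of_le_of_card_ge hQQ₂ heq.ge
      apply hnot
      exact (le_sup_right.trans hQ₂.ge).trans h1.ge
    have hconj : ∀ t ∈ T, ∀ x ∈ Q₂, t * x * t⁻¹ ∈ Q₂ := by
      intro t ht
      have hcm : Q ⊔ FusionSystem.centralizerIn T Q ≤
          (Q ⊔ FusionSystem.centralizerIn T Q).comap (MulAut.conj t).toMonoidHom := by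
        refine sup_le ?_ ?_
        · intro x hx
          rw [Subgroup.mem_comap]
          apply Subgroup.mem_sup_left
          exact stronglyClosed_conj_mem E hQsc ht hx
        · intro c hc
          rw [Subgroup.mem_comap]
          apply Subgroup.mem_sup_right
          exact conj_mem_centralizerIn E hQsc ht hc
      intro x hx
      rw [hQ₂] at hx ⊢
      exact hcm hx
    have hN : FusionSystem.normalizerIn T Q₂ = T := by
      apply le_antisymm inf_le_left
      intro t ht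
      refine ⟨ht, ?_⟩
      show t ∈ Subgroup.normalizer (Q₂ : Set Ω)
      rw [Subgroup.mem_normalizer_iff]
      intro x
      constructor
      · intro hx
        exact hconj t ht x hx
      · intro hx
        have h1 := hconj t⁻¹ (T.inv_mem ht) _ hx
        have e : t⁻¹ * (t * x * t⁻¹) * t⁻¹⁻¹ = x := by group
        rwa [e] at h1
    have hnW := hmax Q₂ hQ₂T hN hlt
    apply hQa
    apply autQ_pgroup_of_sup hT E hE hQsc
    rw [← hQ₂]
    by_contra hnp
    apply hnW
    exact ⟨Q₂, le_rfl, le_normalizerIn hQ₂T, not_isPGroup_of_le (autGroup_le_autStab_self E Q₂) hnp⟩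
  refine ⟨hE, Q, hQn, hQT, fun Q' hconj => ?_⟩
  obtain ⟨φ, hφ, hr⟩ := hconj
  have h := (weaklyClosed_of_stronglyClosed E hQsc).2 φ hφ
  rw [← hr, h]
  exact hcent

end Cfsg.Agent.Lib.Helper29
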