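import Cfsg.Agent.Lib.Helper29.GTMain

/-!
A non-inner saturated fusion system (p odd) contains a non-inner constrained saturated subsystem over the
same group.
-/
set_option autoImplicit false
universe u

namespace Cfsg.Agent.Lib.Helper29

open Cfsg
open Cfsg.Agent.Lib.Helper13 (NPC)

variable {Ω : Type u} [Group Ω]

theorem gt_core_constrained {T : Subgroup Ω} [Finite T] {p : ℕ} [Fact p.Prime] (hT : IsPGroup p T)
    (E : FusionSystem T) (hE : E.IsSaturated p) (ih : ∀ m < Nat.card T, GTProp.{u} p m)
    {Q : Subgroup Ω} (hQ1 : Q ≠ ⊥) (hQn : E.IsNormal Q)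
    (hmax : ∀ R, R ≤ T → FusionSystem.normalizerIn T R = T → Nat.card Q < Nat.card R →
      ¬ PWN p E R)
    {U : Subgroup Ω} (hQU : Q ≤ U) (hUT : U ≤ T) (hU : ¬ IsPGroup p (E.autGroup U)) :
    E.IsConstrained p := by
  have hQsc := stronglyClosed_of_isNormal E hQn
  have hquot : ∀ U : Subgroup Ω, Q ≤ U → U ≤ T → ∀ β : MulAut U, β ∈ E.autGroup U →
      ∃ k, ∀ x : U, (x : Ω)⁻¹ * ((β ^ (p ^ k)) x : U) ∈ Q :=
    fun U hQU hUT β hβ => quot_pgroup hT E hE ih hQ1 hQsc hmax hQU hUT β hβ
  have hQa := autQ_not_pgroup hT E hQsc hquot hQU hUT hU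
  exact constrained_of_max hT E hE hQn hmax hQa

theorem transport_system {T S : Subgroup Ω} (h : T = S) (E : FusionSystem T) :
    ∃ E' : FusionSystem S, (∀ P, E'.Hom P = E.Hom P) ∧
      (∀ p, E.IsConstrained p → E'.IsConstrained p) := by
  subst h
  exact ⟨E, fun _ => rfl, fun _ h => h⟩

theorem exists_constrained_sub {S : Subgroup Ω} [Finite S] (p : ℕ) [Fact p.Prime] (hp2 : p ≠ 2)
    (hS : IsPGroup p S) (F : FusionSystem S) (hF : F.IsSaturated p) (hPW : PW p F) :
    ∃ E : FusionSystem S, E ≤ F ∧ E.IsConstrained p ∧ PW p E := by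
  have ih : ∀ m < Nat.card S, GTProp.{u} p m := fun m _ => gt_all p hp2 m
  obtain ⟨Q₀, hQ₀1, hQ₀N, hQ₀S, hQ₀w⟩ := exists_normal_PWN hS F hF ih hPW
  have key : ∀ k, ∀ Q : Subgroup Ω, Q ≠ ⊥ → FusionSystem.normalizerIn S Q = S → Q ≤ S →
      PWN p F Q → Nat.card S - Nat.card Q = k →
      ∃ E : FusionSystem S, E ≤ F ∧ E.IsConstrained p ∧ PW p E := by
    intro k
    induction k using Nat.strong_induction_on with
    | _ k ihk =>
      intro Q hQ1 hN hQS hQw hk
      haveI : Finite Q := finite_of_le hQS
      by_cases hex : ∃ R : Subgroup Ω, R ≠ ⊥ ∧ FusionSystem.normalizerIn S R = S ∧ R ≤ S ∧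
          PWN p F R ∧ Nat.card Q < Nat.card R
      · obtain ⟨R, hR1, hRN, hRS, hRw, hlt⟩ := hex
        haveI : Finite R := finite_of_le hRS
        have hle : Nat.card R ≤ Nat.card S := Subgroup.card_le_of_le hRS
        exact ihk (Nat.card S - Nat.card R) (by omega) R hR1 hRN hRS hRw rfl
      · push_neg at hex
        obtain ⟨E, hE⟩ := Cfsg.Agent.S5096.result F Q hQS
        have hQfn : F.IsFullyNormalized Q := by
          refine ⟨hQS, fun Q' _ => ?_⟩
          rw [hN]
          haveI := finite_normalizerIn (S := S) Q'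
          exact Subgroup.card_le_of_le inf_le_left
        have hEsat := Cfsg.Agent.S5098.result p hS F hF Q hQfn E hE
        have hQn : E.IsNormal Q := normalizerSystem_isNormal hE hQS
        haveI hfinT : Finite (FusionSystem.normalizerIn S Q) := finite_normalizerIn (S := S) Q
        have hTp : IsPGroup p (FusionSystem.normalizerIn S Q) := hS.to_le inf_le_left
        have hcardT : Nat.card (FusionSystem.normalizerIn S Q) = Nat.card S :=
          congrArg (fun X : Subgroup Ω => Nat.card X) hN
        have ih' : ∀ m < Nat.card (FusionSystem.normalizerIn S Q), GTProp.{u} p m := by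
          intro m hm
          exact ih m (hcardT ▸ hm)
        have hsub : ∀ P, E.Hom P ⊆ F.Hom P := normalizerSystem_hom_subset hE
        have hmax : ∀ R, R ≤ FusionSystem.normalizerIn S Q →
            FusionSystem.normalizerIn (FusionSystem.normalizerIn S Q) R =
              FusionSystem.normalizerIn S Q → Nat.card Q < Nat.card R → ¬ PWN p E R := by
          intro R hRT hRN hlt hRw
          rw [hN] at hRT hRN
          have hR1 : R ≠ ⊥ := by
            intro hbot
            rw [hbot, Subgroup.card_bot] at hlt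
            have : 0 < Nat.card Q := Nat.card_pos
            omega
          exact absurd hlt (not_lt.mpr (hex R hR1 hRN hRT (PWN_transfer hN E F hsub hRw)))
        obtain ⟨U, hQU, hUN, hU⟩ := hQw
        have hU' : ¬ IsPGroup p (E.autGroup U) :=
          not_isPGroup_of_le (autStab_le_normalizerSystem hE hQU hUN) hU
        have hcons := gt_core_constrained hTp E hEsat ih' hQ1 hQn hmax hQU hUN hU'
        obtain ⟨E', hE'hom, hE'cons⟩ := transport_system hN E
        refine ⟨E', ?_, hE'cons p hcons, U, hUN.trans inf_le_left, ?_⟩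
        · intro P φ hφ
          rw [hE'hom] at hφ
          exact hsub P hφ
        · apply not_isPGroup_of_le (autGroup_mono_gt E E' U (fun φ hφ => by rw [hE'hom]; exact hφ)) hU'
  exact key _ Q₀ hQ₀1 hQ₀N hQ₀S hQ₀w rfl

end Cfsg.Agent.Lib.Helper29
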