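import Cfsg.Agent.Lib.Helper29.KNormMain
import Cfsg.Agent.Lib.Helper29.FusionRealized
import Cfsg.Agent.Lib.Helper29.FusionNormal2
import Cfsg.Agent.Lib.Helper29.FusionEssential

set_option autoImplicit false
open Cfsg

namespace Cfsg.Agent.Lib.Helper29

variable {Ω : Type*} [Group Ω] {S : Subgroup Ω}

section normSys

variable {F : FusionSystem S} {R : Subgroup Ω} {E : FusionSystem (FusionSystem.normalizerIn S R)}

/-- a map of `F` defined on `P ≥ R`, with `P ≤ N_S(R)`, carrying `R` onto `R` and with values in `N_S(R)`,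
is a map of the normalizer system -/
theorem mem_normalizerSystem_of_map_eq (hE : F.IsNormalizerSystem R E) {P : Subgroup Ω}
    (hRP : R ≤ P) (hPN : P ≤ FusionSystem.normalizerIn S R) {ψ : P →* Ω} (hψ : ψ ∈ F.Hom P)
    (hψN : ∀ x, ψ x ∈ FusionSystem.normalizerIn S R) (hψR : (R.subgroupOf P).map ψ = R) :
    ψ ∈ E.Hom P := by
  rw [hE]
  have hle : P ⊔ R ≤ P := sup_le le_rfl hRP
  refine ⟨hψ, hPN, hψN, ψ.comp (Subgroup.inclusion hle), restrict_mem F hle hψ, fun x => ?_, ?_⟩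
  · show ψ _ = ψ x
    congr 1
  · ext y
    constructor
    · rintro ⟨z, hz, rfl⟩
      apply hψR.le
      exact ⟨Subgroup.inclusion hle z, Subgroup.mem_subgroupOf.2 (Subgroup.mem_subgroupOf.1 hz), rfl⟩
    · intro hy
      obtain ⟨z, hz, rfl⟩ := hψR.ge hy
      refine ⟨Subgroup.inclusion le_sup_left z, Subgroup.mem_subgroupOf.2 (Subgroup.mem_subgroupOf.1 hz), ?_⟩
      show ψ _ = ψ z
      congr 1

theorem normalizerSystem_isNormal (hE : F.IsNormalizerSystem R E) (hRS : R ≤ S) : E.IsNormal R := by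
  have hRN : R ≤ FusionSystem.normalizerIn S R := le_normalizerIn hRS
  refine ⟨hRN, fun P φ hφ => ?_⟩
  have hφ' := hφ
  rw [hE] at hφ'
  obtain ⟨hφF, hPN, hφN, ψ, hψ, hψP, hψR⟩ := hφ'
  refine ⟨ψ, ?_, hψP, hψR⟩
  apply mem_normalizerSystem_of_map_eq hE le_sup_right (sup_le hPN hRN) hψ ?_ hψR
  refine sup_hom_mem ψ (fun x => ?_) (fun x => ?_)
  · rw [hψP]
    exact hφN x
  · apply hRN
    apply hψR.le
    exact ⟨Subgroup.inclusion le_sup_right x, Subgroup.mem_subgroupOf.2 x.2, rfl⟩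

/-- the only `E`-conjugate of `R` is `R` -/
theorem normalizerSystem_conj_eq (hE : F.IsNormalizerSystem R E) {Q' : Subgroup Ω}
    (h : E.IsConj R Q') : Q' = R := by
  obtain ⟨φ, hφ, rfl⟩ := h
  rw [hE] at hφ
  obtain ⟨hφF, hPN, hφN, ψ, hψ, hψP, hψR⟩ := hφ
  ext y
  constructor
  · rintro ⟨x, rfl⟩
    apply hψR.le
    refine ⟨Subgroup.inclusion le_sup_left x, Subgroup.mem_subgroupOf.2 x.2, ?_⟩
    exact hψP x
  · intro hy
    obtain ⟨z, hz, rfl⟩ := hψR.ge hy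
    refine ⟨⟨z, Subgroup.mem_subgroupOf.1 hz⟩, ?_⟩
    rw [← hψP]
    congr 1

theorem normalizerSystem_isCentric (hE : F.IsNormalizerSystem R E) (hRc : F.IsCentric R) :
    E.IsCentric R := by
  have hRS := hRc.1
  have hRN : R ≤ FusionSystem.normalizerIn S R := le_normalizerIn hRS
  refine ⟨hRN, fun Q' hQ' => ?_⟩
  rw [normalizerSystem_conj_eq hE hQ']
  intro c hc
  apply hRc.2 R (isConj_refl F hRS)
  exact ⟨hc.1.1, hc.2⟩

theorem normalizerSystem_autGroup_eq (hE : F.IsNormalizerSystem R E) (hRS : R ≤ S) :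
    E.autGroup R = F.autGroup R := by
  have hRN : R ≤ FusionSystem.normalizerIn S R := le_normalizerIn hRS
  unfold FusionSystem.autGroup
  congr 1
  ext α
  constructor
  · intro h
    have h' : R.subtype.comp α.toMonoidHom ∈ E.Hom R := h
    rw [hE] at h'
    exact h'.1
  · intro h
    have h' : R.subtype.comp α.toMonoidHom ∈ F.Hom R := h
    show R.subtype.comp α.toMonoidHom ∈ E.Hom R
    apply mem_normalizerSystem_of_map_eq hE le_rfl hRN h' (fun x => hRN (α x).2)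
    ext y
    constructor
    · rintro ⟨z, _, rfl⟩
      exact (α z).2
    · intro hy
      refine ⟨α⁻¹ ⟨y, hy⟩, Subgroup.mem_subgroupOf.2 (α⁻¹ ⟨y, hy⟩).2, ?_⟩
      show ((α (α⁻¹ ⟨y, hy⟩) : R) : Ω) = y
      rw [MulAut.apply_inv_self]

theorem normalizerSystem_isRadical {p : ℕ} (hE : F.IsNormalizerSystem R E) (hRr : F.IsRadical p R) :
    E.IsRadical p R := by
  have hRS := hRr.1
  have hRN : R ≤ FusionSystem.normalizerIn S R := le_normalizerIn hRS
  refine ⟨hRN, ?_⟩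
  rw [normalizerSystem_autGroup_eq hE hRS]
  exact hRr.2

end normSys

/-- in a model of a fusion system, `O_p` of the model is the image of any normal centric radical subgroup -/
theorem pCore_eq_of_normal_centric_radical {N : Subgroup Ω} [Finite N] {p : ℕ} [Fact p.Prime]
    (hN : IsPGroup p N) (E : FusionSystem N) {R : Subgroup Ω} (hRn : E.IsNormal R) (hRc : E.IsCentric R)
    (hRr : E.IsRadical p R) {G : Type*} [Group G] (ι : N →* G) (hG : E.IsModel p G ι) :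
    pCore p G = (R.subgroupOf N).map ι := by
  obtain ⟨hfin, hreal, ⟨T, hT⟩, hC⟩ := hG
  have hKn : (pCore p G).Normal := pCore_normal' p
  have hK : pCore p G ≤ ι.range := by
    rw [← hT]
    exact pCore_le_sylow' p T
  have hU'n := isNormal_preimg_of_normal hreal hKn hK
  have hU'R : preimg ι (pCore p G) ≤ R := le_of_isNormal_of_centric_radical hN E hU'n hRc hRr
  have hRN := hRn.1
  have hU'N : preimg ι (pCore p G) ≤ N := preimg_le ι _
  have hURG : pCore p G ≤ (R.subgroupOf N).map ι := by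
    intro u hu
    obtain ⟨x, rfl⟩ := hK hu
    exact ⟨x, Subgroup.mem_subgroupOf.2 (hU'R (mem_preimg.2 ⟨x.2, hu⟩)), rfl⟩
  apply le_antisymm hURG
  apply le_pCore'
  · constructor
    intro y hy g
    have hgU : ∀ x : preimg ι (pCore p G), g * ι ⟨x, hU'N x.2⟩ * g⁻¹ ∈ ι.range := by
      intro x
      obtain ⟨hx, hxU⟩ := mem_preimg.1 x.2
      exact hK (hKn.conj_mem _ hxU g)
    obtain ⟨φ, hφ, hφS, hφe⟩ := realized_hom hreal hU'N g hgU
    obtain ⟨ψ, hψ, hψP, hψR⟩ := hRn.2 _ φ hφ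
    obtain ⟨g', hg'⟩ := realized_conj hreal hψ
    have hz : g'⁻¹ * g ∈ Subgroup.centralizer ((pCore p G : Subgroup G) : Set G) := by
      rw [Subgroup.mem_centralizer_iff]
      intro u hu
      obtain ⟨x, rfl⟩ := hK hu
      have hxU' : (x : Ω) ∈ preimg ι (pCore p G) := mem_preimg.2 ⟨x.2, hu⟩
      have h1 : ι ⟨φ ⟨x, hxU'⟩, hφS _⟩ = g * ι x * g⁻¹ := hφe ⟨x, hxU'⟩
      have h2 : ι ⟨ψ (Subgroup.inclusion le_sup_left ⟨x, hxU'⟩), (E.le_of_mem hψ).2 _⟩ =
          g' * ι x * g'⁻¹ := hg' (Subgroup.inclusion le_sup_left ⟨x, hxU'⟩)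
      have h3 : g * ι x * g⁻¹ = g' * ι x * g'⁻¹ := by
        rw [← h1, ← h2]
        congr 1
        exact Subtype.ext (hψP ⟨x, hxU'⟩).symm
      calc ι x * (g'⁻¹ * g) = g'⁻¹ * (g' * ι x * g'⁻¹) * g := by group
        _ = g'⁻¹ * (g * ι x * g⁻¹) * g := by rw [h3]
        _ = g'⁻¹ * g * ι x := by group
    have hzRG := hURG (hC hz)
    have hw : (g'⁻¹ * g) * y * (g'⁻¹ * g)⁻¹ ∈ (R.subgroupOf N).map ι :=
      Subgroup.mul_mem _ (Subgroup.mul_mem _ hzRG hy) (Subgroup.inv_mem _ hzRG)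
    obtain ⟨r, hr, hre⟩ := hw
    have hrR : (r : Ω) ∈ R := Subgroup.mem_subgroupOf.1 hr
    have h4 : ι ⟨ψ (Subgroup.inclusion le_sup_right ⟨r, hrR⟩), (E.le_of_mem hψ).2 _⟩ =
        g' * ι r * g'⁻¹ := hg' (Subgroup.inclusion le_sup_right ⟨r, hrR⟩)
    have h5 : ψ (Subgroup.inclusion le_sup_right ⟨r, hrR⟩) ∈ R :=
      hψR.le ⟨Subgroup.inclusion le_sup_right ⟨r, hrR⟩, Subgroup.mem_subgroupOf.2 hrR, rfl⟩
    have h6 : g * y * g⁻¹ = g' * ((g'⁻¹ * g) * y * (g'⁻¹ * g)⁻¹) * g'⁻¹ := by group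
    rw [h6, ← hre]
    exact ⟨⟨ψ (Subgroup.inclusion le_sup_right ⟨r, hrR⟩), hRN h5⟩, Subgroup.mem_subgroupOf.2 h5, h4⟩
  · exact (hN.to_subgroup (R.subgroupOf N)).map ι

end Cfsg.Agent.Lib.Helper29
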