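import Cfsg.Agent.Lib.Helper29.FusionAlperin
import Cfsg.Agent.Lib.Helper29.NormalizerConstrained
import Cfsg.Agent.Lib.Lead.ZJFunctor
import Cfsg.Agent.Lib.Lead.GlaubermanZJ

/-!
Witnesses for a fusion system not being inner, relative to a subgroup: automizers that are not `p`-groups.
Basic facts on `Z(J(T))`.
-/
set_option autoImplicit false
universe u

namespace Cfsg.Agent.Lib.Helper29

open Cfsg

variable {Ω : Type*} [Group Ω] {S : Subgroup Ω}

/-- the automorphisms of `U` in the system preserving `Q` -/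
def autStab (F : FusionSystem S) (U Q : Subgroup Ω) : Subgroup (MulAut U) := F.autGroup U ⊓ stabSub U Q

/-- some automizer is not a `p`-group -/
def PW (p : ℕ) (F : FusionSystem S) : Prop :=
  ∃ U : Subgroup Ω, U ≤ S ∧ ¬ IsPGroup p (F.autGroup U)

/-- some automizer in the normalizer of `Q` is not a `p`-group -/
def PWN (p : ℕ) (F : FusionSystem S) (Q : Subgroup Ω) : Prop :=
  ∃ U : Subgroup Ω, Q ≤ U ∧ U ≤ FusionSystem.normalizerIn S Q ∧ ¬ IsPGroup p (autStab F U Q)

theorem not_isPGroup_of_map_le {G H : Type*} [Group G] [Group H] {p : ℕ} (f : G →* H)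
    (hf : Function.Injective f) {A : Subgroup G} {B : Subgroup H} (h : A.map f ≤ B)
    (hA : ¬ IsPGroup p A) : ¬ IsPGroup p B := by
  intro hB
  apply hA
  intro a
  obtain ⟨k, hk⟩ := hB ⟨f a, h ⟨a, a.2, rfl⟩⟩
  refine ⟨k, ?_⟩
  apply Subtype.ext
  apply hf
  have h1 := congrArg Subtype.val hk
  rw [Subgroup.coe_pow, Subgroup.coe_one] at h1
  rw [Subgroup.coe_pow, map_pow, Subgroup.coe_one, map_one]
  exact h1

theorem not_isPGroup_of_le {G : Type*} [Group G] {p : ℕ} {A B : Subgroup G} (h : A ≤ B)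
    (hA : ¬ IsPGroup p A) : ¬ IsPGroup p B := fun hB => hA (hB.to_le h)

theorem autGroup_mono_gt {T : Subgroup Ω} (E : FusionSystem T) (F : FusionSystem S) (U : Subgroup Ω)
    (h : E.Hom U ⊆ F.Hom U) : E.autGroup U ≤ F.autGroup U := by
  unfold FusionSystem.autGroup
  apply Subgroup.closure_mono
  intro α hα
  exact h hα

theorem autStab_mono {T : Subgroup Ω} (E : FusionSystem T) (F : FusionSystem S) (U Q : Subgroup Ω)
    (h : E.Hom U ⊆ F.Hom U) : autStab E U Q ≤ autStab F U Q :=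
  inf_le_inf_right _ (autGroup_mono_gt E F U h)

theorem isPGroup_of_bot {p : ℕ} {U : Subgroup Ω} (hU : U = ⊥) (A : Subgroup (MulAut U)) :
    IsPGroup p A := by
  intro a
  refine ⟨0, ?_⟩
  apply Subtype.ext
  apply MulEquiv.ext
  intro x
  have hx : x = 1 := by
    apply Subtype.ext
    exact Subgroup.mem_bot.mp (hU.le x.2)
  rw [hx]
  simp

/-- transport of the stabilizer along an isomorphism of the system -/
theorem autStab_transport (F : FusionSystem S) {p : ℕ} {U U' Q Q' : Subgroup Ω} {θ : U →* Ω}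
    (hθ : θ ∈ F.Hom U) (hr : θ.range = U') (hQ : ∀ x : U, (x : Ω) ∈ Q ↔ θ x ∈ Q')
    (h : ¬ IsPGroup p (autStab F U Q)) : ¬ IsPGroup p (autStab F U' Q') := by
  apply not_isPGroup_of_map_le (MulAut.congr (isoOfHom F hθ hr)).toMonoidHom
    (MulAut.congr (isoOfHom F hθ hr)).injective ?_ h
  rintro _ ⟨β, hβ, rfl⟩
  obtain ⟨hβ1, hβ2'⟩ := Subgroup.mem_inf.mp hβ
  refine Subgroup.mem_inf.mpr ⟨congr_mem_autGroup F hθ hr hβ1, ?_⟩
  rw [mem_stabSub]
  intro y
  have hβ2 := mem_stabSub.mp hβ2'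
  set e := isoOfHom F hθ hr with he
  have hy : y = e (e.symm y) := (e.apply_symm_apply y).symm
  have h1 : ((y : U') : Ω) = θ (e.symm y) := by
    conv_lhs => rw [hy]
    exact isoOfHom_coe F hθ hr _
  have h2 : ((((MulAut.congr e) β) y : U') : Ω) = θ (β (e.symm y)) := by
    show ((e (β (e.symm y)) : U') : Ω) = _
    exact isoOfHom_coe F hθ hr _
  rw [h1]
  show θ (e.symm y) ∈ Q' ↔ ((((MulAut.congr e) β) y : U') : Ω) ∈ Q'
  rw [h2, ← hQ, ← hQ]
  exact hβ2 _

section W

open Cfsg.Agent.Lib.Lead.GlaubermanRepl (ZJ JA JA_le le_JA maxAbIn)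

/-- comparison with the Prelude definition (no finiteness of the ambient group) -/
theorem thompsonSubgroupAOf_eq' (S : Subgroup Ω) : Cfsg.thompsonSubgroupAOf S = JA S := by
  unfold Cfsg.thompsonSubgroupAOf Cfsg.thompsonSubgroupA
  apply le_antisymm
  · rw [Subgroup.map_le_iff_le_comap]
    apply sSup_le
    intro A' hA'
    rw [← Subgroup.map_le_iff_le_comap]
    apply le_JA
    obtain ⟨hA'c, hA'max⟩ := hA'
    refine ⟨Subgroup.map_subtype_le _, ?_, ?_⟩
    · rintro _ ⟨a, ha, rfl⟩ _ ⟨b, hb, rfl⟩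
      have := hA'c.is_comm.comm (⟨a, ha⟩ : A') ⟨b, hb⟩
      have h2 := congrArg (fun t : A' => ((t : S) : Ω)) this
      simpa using h2
    · intro B hBS hBc
      have h1 : IsMulCommutative (B.subgroupOf S) :=
        ⟨⟨fun a b => Subtype.ext (Subtype.ext (hBc _ a.2 _ b.2))⟩⟩
      have h2 := hA'max _ h1
      rw [Subgroup.card_map_of_injective S.subtype_injective]
      rwa [Nat.card_congr (Subgroup.subgroupOfEquivOfLe hBS).toEquiv] at h2
  · apply sSup_le
    intro A hA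
    obtain ⟨hAS, hAc, hAmax⟩ := hA
    have h1 : A = (A.subgroupOf S).map S.subtype := by
      rw [Subgroup.subgroupOf_map_subtype, inf_eq_left.mpr hAS]
    rw [h1]
    apply Subgroup.map_mono
    apply le_sSup
    refine ⟨⟨⟨fun a b => Subtype.ext (Subtype.ext (hAc _ a.2 _ b.2))⟩⟩, ?_⟩
    intro B' hB'
    have h2 : ∀ a ∈ B'.map S.subtype, ∀ b ∈ B'.map S.subtype, a * b = b * a := by
      rintro _ ⟨a, ha, rfl⟩ _ ⟨b, hb, rfl⟩
      have := hB'.is_comm.comm (⟨a, ha⟩ : B') ⟨b, hb⟩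
      have h3 := congrArg (fun t : B' => ((t : S) : Ω)) this
      simpa using h3
    have h3 := hAmax _ (Subgroup.map_subtype_le _) h2
    rw [Subgroup.card_map_of_injective S.subtype_injective] at h3
    rwa [Nat.card_congr (Subgroup.subgroupOfEquivOfLe hAS).toEquiv]

theorem centerThompsonAOf_eq' (S : Subgroup Ω) : Cfsg.centerThompsonAOf S = ZJ S := by
  unfold Cfsg.centerThompsonAOf ZJ
  rw [thompsonSubgroupAOf_eq']

theorem W_le (T : Subgroup Ω) : centerThompsonAOf T ≤ T := by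
  rw [centerThompsonAOf_eq']
  exact inf_le_left.trans (JA_le T)

theorem W_map {Ω' : Type*} [Group Ω'] (f : Ω →* Ω') {T : Subgroup Ω}
    (hinj : ∀ x ∈ T, f x = 1 → x = 1) :
    centerThompsonAOf (T.map f) = (centerThompsonAOf T).map f := by
  rw [centerThompsonAOf_eq',
    centerThompsonAOf_eq']
  exact Cfsg.Agent.Lib.Lead.ZJFunctor.ZJ_map_of_injOn f hinj

theorem W_conj_mem {T : Subgroup Ω} {g : Ω} (hg : g ∈ Subgroup.normalizer (T : Set Ω)) {z : Ω}
    (hz : z ∈ centerThompsonAOf T) : g * z * g⁻¹ ∈ centerThompsonAOf T := by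
  rw [centerThompsonAOf_eq'] at hz ⊢
  exact Cfsg.Agent.Lib.Lead.GlaubermanZJ.ZJ_conj hg hz

theorem normalizer_le_normalizer_W (T : Subgroup Ω) :
    Subgroup.normalizer (T : Set Ω) ≤ Subgroup.normalizer (centerThompsonAOf T : Set Ω) := by
  intro g hg
  rw [Subgroup.mem_normalizer_iff]
  intro z
  constructor
  · exact fun hz => W_conj_mem hg hz
  · intro hz
    have h1 := W_conj_mem (Subgroup.inv_mem _ hg) hz
    have e : g⁻¹ * (g * z * g⁻¹) * g⁻¹⁻¹ = z := by group
    rwa [e] at h1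

theorem W_top_map (T : Subgroup Ω) :
    centerThompsonAOf T = (centerThompsonAOf (⊤ : Subgroup T)).map T.subtype := by
  have h := W_map T.subtype (T := (⊤ : Subgroup T)) (fun x _ hx => by
    apply Subtype.ext
    exact hx)
  rw [← h]
  congr 1
  ext x
  simp

theorem W_ne_bot {p : ℕ} [Fact p.Prime] {T : Subgroup Ω} [Finite T] (hT : IsPGroup p T) (hne : T ≠ ⊥) :
    centerThompsonAOf T ≠ ⊥ := by
  rw [W_top_map T]
  intro h
  rw [Subgroup.map_eq_bot_iff_of_injective _ T.subtype_injective] at h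
  have hne' : (⊤ : Subgroup T) ≠ ⊥ := by
    intro h2
    apply hne
    rw [eq_bot_iff]
    intro x hx
    have h3 : (⟨x, hx⟩ : T) ∈ (⊤ : Subgroup T) := Subgroup.mem_top _
    rw [h2, Subgroup.mem_bot] at h3
    rw [Subgroup.mem_bot]
    exact congrArg Subtype.val h3
  have hp : IsPGroup p (⊤ : Subgroup T) := hT.to_subgroup _
  have h4 := (Cfsg.Agent.Lib.Lead.ZJFunctor.WZ_good p).ne_bot T (⊤ : Subgroup T) hp hne'
  apply h4
  show ZJ (⊤ : Subgroup T) = ⊥
  rw [← centerThompsonAOf_eq']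
  exact h

end W

end Cfsg.Agent.Lib.Helper29
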