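import Cfsg.Agent.Lib.Helper29.ModelGroup
import Cfsg.Agent.S5095
import Cfsg.Agent.Lib.Helper29.FusionChain5
import Cfsg.Agent.Lib.Helper29.FusionRS2
import Cfsg.Agent.Lib.Helper29.AutInduced

/-!
The input for the abstract model theorem extracted from a constrained fusion system.
-/
set_option autoImplicit false
universe u

namespace Cfsg.Agent.Lib.Helper29

open Cfsg
open Cfsg.Agent.S5328 (graphOf mem_graphOf graphSet graphSet_sub graphSet_func graphSet_inv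
  graphSet_comp graphSet_conj mem_graphSet_iff)

variable {Ω : Type u} [Group Ω] {S : Subgroup Ω}

theorem le_normalizer_of_isNormal (F : FusionSystem S) {Q : Subgroup Ω} (hQ : F.IsNormal Q) :
    S ≤ Subgroup.normalizer (Q : Set Ω) := by
  intro g hg
  rw [Subgroup.mem_normalizer_iff]
  intro h
  constructor
  · exact conj_mem_of_isNormal F hQ g hg h
  · intro hh
    have h1 := conj_mem_of_isNormal F hQ g⁻¹ (S.inv_mem hg) _ hh
    have e : g⁻¹ * (g * h * g⁻¹) * g⁻¹⁻¹ = h := by group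
    rwa [e] at h1

/-- conjugation action of `S` on a subgroup it normalizes -/
def cAut (Q : Subgroup Ω) (hN : S ≤ Subgroup.normalizer (Q : Set Ω)) : ↥S →* MulAut ↥Q :=
  Q.normalizerMonoidHom.comp (Subgroup.inclusion hN)

theorem cAut_apply (Q : Subgroup Ω) (hN : S ≤ Subgroup.normalizer (Q : Set Ω)) (s : S) (x : Q) :
    ((cAut Q hN s x : Q) : Ω) = (s : Ω) * x * (s : Ω)⁻¹ := rfl

theorem cAut_mem (F : FusionSystem S) {Q : Subgroup Ω} (hQS : Q ≤ S)
    (hN : S ≤ Subgroup.normalizer (Q : Set Ω)) (s : S) : cAut Q hN s ∈ F.autGroup Q :=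
  autInducedBy_le_autGroup F hQS (Subgroup.subset_closure ⟨s, s.2, fun _ => rfl⟩)

/-- the conjugation map to the automizer -/
def cHom (F : FusionSystem S) {Q : Subgroup Ω} (hQS : Q ≤ S)
    (hN : S ≤ Subgroup.normalizer (Q : Set Ω)) : ↥S →* ↥(F.autGroup Q) :=
  (cAut Q hN).codRestrict (F.autGroup Q) (cAut_mem F hQS hN)

theorem cHom_apply (F : FusionSystem S) {Q : Subgroup Ω} (hQS : Q ≤ S)
    (hN : S ≤ Subgroup.normalizer (Q : Set Ω)) (s : S) (x : Q) :
    ((((cHom F hQS hN s : F.autGroup Q) : MulAut Q) x : Q) : Ω) = (s : Ω) * x * (s : Ω)⁻¹ := rfl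

/-- the action of the automizer on `Q` viewed inside `S` -/
def actHom (F : FusionSystem S) {Q : Subgroup Ω} (hQS : Q ≤ S) :
    ↥(F.autGroup Q) →* MulAut ↥(Q.subgroupOf S) :=
  (MulAut.congr (Subgroup.subgroupOfEquivOfLe hQS).symm).toMonoidHom.comp (F.autGroup Q).subtype

theorem actHom_apply (F : FusionSystem S) {Q : Subgroup Ω} (hQS : Q ≤ S) (γ : F.autGroup Q)
    (q : Q.subgroupOf S) :
    (((actHom F hQS γ q : Q.subgroupOf S) : S) : Ω) = ((γ : MulAut Q) ⟨(q : S), q.2⟩ : Q) := rfl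

theorem over_iff (F : FusionSystem S) {Q : Subgroup Ω} (hQS : Q ≤ S) (γ : F.autGroup Q)
    (D : Subgroup (↥S × ↥S)) :
    (∀ q : Q.subgroupOf S, ((q : S), ((actHom F hQS γ q : Q.subgroupOf S) : S)) ∈ D) ↔
      ∀ x : Q, ((⟨x, hQS x.2⟩ : S),
        (⟨((γ : MulAut Q) x : Q), hQS ((γ : MulAut Q) x).2⟩ : S)) ∈ D := by
  constructor
  · intro h x
    exact h ⟨⟨x, hQS x.2⟩, x.2⟩
  · intro h q
    exact h ⟨(q : S), q.2⟩

theorem graphOf_apply {P : Subgroup Ω} {φ : P →* Ω} {a b : S} (h : (a, b) ∈ graphOf S P φ) :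
    ∃ ha : (a : Ω) ∈ P, φ ⟨a, ha⟩ = b := by
  obtain ⟨x, h1, h2⟩ := mem_graphOf.mp h
  have h1' : (a : Ω) = x := h1
  have h2' : (b : Ω) = φ x := h2
  refine ⟨by rw [h1']; exact x.2, ?_⟩
  rw [h2']
  congr 1
  exact Subtype.ext h1'

section

variable [Finite S] (p : ℕ) [Fact p.Prime] (hS : IsPGroup p S) (F : FusionSystem S)

theorem fa_rec_of_isNormal (hF : F.IsSaturated p) {Q : Subgroup Ω} (hQn : F.IsNormal Q) :
    F.IsFullyAutomized p Q ∧ F.IsReceptive Q := by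
  obtain ⟨Q', ⟨φ, hφ, hφr⟩, hfa, hrec⟩ := hF Q hQn.1
  have hwc := weaklyClosed_of_stronglyClosed F (stronglyClosed_of_isNormal F hQn)
  have : Q' = Q := by rw [← hφr]; exact hwc.2 φ hφ
  rw [this] at hfa hrec
  exact ⟨hfa, hrec⟩

theorem cHom_range (F : FusionSystem S) {Q : Subgroup Ω} (hQS : Q ≤ S)
    (hN : S ≤ Subgroup.normalizer (Q : Set Ω)) :
    (cHom F hQS hN).range = (autInducedBy S Q).subgroupOf (F.autGroup Q) := by
  ext β
  rw [MonoidHom.mem_range, Subgroup.mem_subgroupOf]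
  constructor
  · rintro ⟨s, rfl⟩
    exact Subgroup.subset_closure ⟨s, s.2, fun _ => rfl⟩
  · intro h
    rw [autInducedBy_eq_map] at h
    obtain ⟨g, hg, hgβ⟩ := h
    refine ⟨⟨g, hg⟩, ?_⟩
    apply Subtype.ext
    rw [← hgβ]
    rfl

include hS

/-- the input of the abstract model theorem -/
noncomputable def modelInput (hF : F.IsSaturated p) {Q : Subgroup Ω} (hQn : F.IsNormal Q)
    (hQc : F.IsCentric Q) : ModelInput p ↥S ↥(F.autGroup Q) where
  𝒢 := graphSet F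
  sub D hD L hL := graphSet_sub F hD L hL
  func D hD y h := graphSet_func F hD y h
  swap D hD := graphSet_inv F hD
  comp A hA B hB := graphSet_comp F hA hB
  conj g := graphSet_conj F g
  c := cHom F hQn.1 (le_normalizer_of_isNormal F hQn)
  Qs := Q.subgroupOf S
  act := actHom F hQn.1
  act_inj := (MulAut.congr (Subgroup.subgroupOfEquivOfLe hQn.1).symm).injective.comp
    Subtype.val_injective
  act_c s q := by
    apply Subtype.ext
    rfl
  ker_le z hz := by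
    rw [Subgroup.mem_subgroupOf]
    apply hQc.2 Q (isConj_refl F hQn.1)
    refine ⟨z.2, ?_⟩
    show (z : Ω) ∈ Subgroup.centralizer (Q : Set Ω)
    rw [Subgroup.mem_centralizer_iff]
    intro x hx
    have h1 := cHom_apply F hQn.1 (le_normalizer_of_isNormal F hQn) z ⟨x, hx⟩
    rw [hz] at h1
    have h2 : x = (z : Ω) * x * (z : Ω)⁻¹ := h1
    calc x * (z : Ω) = (z : Ω) * x * (z : Ω)⁻¹ * z := by rw [← h2]
      _ = z * x := by group
  recv γ := by
    have hQS := hQn.1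
    haveI : Finite Q := finite_of_le hQS
    obtain ⟨_, hrec⟩ := fa_rec_of_isNormal p F hF hQn
    have hφ : Q.subtype.comp (γ : MulAut Q).toMonoidHom ∈ F.Hom Q := (mem_autGroup_iff F hQS).1 γ.2
    have hφr : (Q.subtype.comp (γ : MulAut Q).toMonoidHom).range = Q := by
      ext y
      constructor
      · rintro ⟨x, rfl⟩
        exact ((γ : MulAut Q) x).2
      · intro hy
        exact ⟨(γ : MulAut Q).symm ⟨y, hy⟩, by simp⟩
    obtain ⟨ψ, hψ, hψe⟩ := hrec.2 Q _ hφ hφr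
    refine ⟨graphOf S _ ψ, ⟨_, ψ, hψ, rfl⟩, ?_, ?_⟩
    · rw [over_iff]
      intro x
      rw [mem_graphOf]
      refine ⟨⟨x, le_extender F hφ x.2⟩, rfl, ?_⟩
      exact (hψe x x.2 _).symm
    · intro n m hcomm
      have hn : (n : Ω) ∈ FusionSystem.extender S Q (Q.subtype.comp (γ : MulAut Q).toMonoidHom) := by
        apply Subgroup.subset_closure
        refine ⟨n.2, le_normalizer_of_isNormal F hQn n.2, m, m.2, fun x hx => ?_⟩
        have h1 := congrArg (fun β : F.autGroup Q => (((β : MulAut Q) x : Q) : Ω)) hcomm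
        have h2 : (m : Ω) * ((γ : MulAut Q) x : Q) * (m : Ω)⁻¹ =
            ((γ : MulAut Q) (cAut Q (le_normalizer_of_isNormal F hQn) n x) : Q) := h1
        show (((γ : MulAut Q) ⟨(n : Ω) * x * (n : Ω)⁻¹, hx⟩ : Q) : Ω) =
          (m : Ω) * ((γ : MulAut Q) x : Q) * (m : Ω)⁻¹
        rw [h2]
        rfl
      refine ⟨⟨ψ ⟨n, hn⟩, (F.le_of_mem hψ).2 _⟩, ?_⟩
      rw [mem_graphOf]
      exact ⟨⟨n, hn⟩, rfl, rfl⟩
  uniq K hK K' hK' γ hoK hoK' hdom := by
    have hQS := hQn.1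
    rw [over_iff] at hoK hoK'
    obtain ⟨P, φ', hφ', rfl⟩ := hK
    obtain ⟨P', φ₀, hφ₀, rfl⟩ := hK'
    have hPS : P ≤ S := (F.le_of_mem hφ').1
    have hQP : Q ≤ P := by
      intro x hx
      obtain ⟨h1, _⟩ := graphOf_apply (hoK ⟨x, hx⟩)
      exact h1
    have hPP' : P ≤ P' := by
      intro x hx
      have h1 : ((⟨x, hPS hx⟩ : S), (⟨φ' ⟨x, hx⟩, (F.le_of_mem hφ').2 _⟩ : S)) ∈ graphOf S P φ' :=
        mem_graphOf.mpr ⟨⟨x, hx⟩, rfl, rfl⟩
      obtain ⟨s', hs'⟩ := hdom _ h1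
      obtain ⟨h2, _⟩ := graphOf_apply hs'
      exact h2
    have hφ : φ₀.comp (Subgroup.inclusion hPP') ∈ F.Hom P := restrict_mem F hPP' hφ₀
    have hagree : ∀ x : P, (x : Ω) ∈ Q →
        (φ₀.comp (Subgroup.inclusion hPP')) x = φ' x := by
      intro x hx
      obtain ⟨h1, h2⟩ := graphOf_apply (hoK ⟨x, hx⟩)
      obtain ⟨h3, h4⟩ := graphOf_apply (hoK' ⟨x, hx⟩)
      have e1 : φ' x = (((γ : MulAut Q) ⟨x, hx⟩ : Q) : Ω) := h2
      have e2 : φ₀ ⟨x, h3⟩ = (((γ : MulAut Q) ⟨x, hx⟩ : Q) : Ω) := h4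
      rw [e1, ← e2]
      rfl
    obtain ⟨z, hzQ, hzC, hzy⟩ := Cfsg.Agent.S5095.result p hS F hF P Q hQP hQc _ φ' hφ hφ' hagree
    refine ⟨⟨z, hPS z.2⟩, ?_, ?_⟩
    · apply Subtype.ext
      apply MulEquiv.ext
      intro x
      apply Subtype.ext
      show (z : Ω) * x * (z : Ω)⁻¹ = x
      rw [Subgroup.mem_centralizer_iff] at hzC
      have h1 := hzC x x.2
      calc (z : Ω) * x * (z : Ω)⁻¹ = x * z * (z : Ω)⁻¹ := by rw [h1]
        _ = x := by group
    · intro t ht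
      obtain ⟨y, h1, h2⟩ := mem_graphOf.mp ht
      rw [mem_graphOf]
      refine ⟨Subgroup.inclusion hPP' (z * y * z⁻¹), ?_, ?_⟩
      · show (z : Ω) * (t.1 : Ω) * (z : Ω)⁻¹ = (z : Ω) * y * (z : Ω)⁻¹
        rw [h1]
      · show (t.2 : Ω) = φ₀ (Subgroup.inclusion hPP' (z * y * z⁻¹))
        rw [h2, hzy y]
        rfl
  ext D hD := by
    have hQS := hQn.1
    haveI : Finite Q := finite_of_le hQS
    obtain ⟨P, φ, hφ, rfl⟩ := hD
    obtain ⟨ψ, hψ, hψP, hψQ⟩ := hQn.2 P φ hφ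
    have h1 : ψ.comp (Subgroup.inclusion (le_sup_right : Q ≤ P ⊔ Q)) ∈ F.Hom Q :=
      restrict_mem F le_sup_right hψ
    have h2 : ∀ x : Q, (ψ.comp (Subgroup.inclusion (le_sup_right : Q ≤ P ⊔ Q))) x ∈ Q := by
      intro x
      have h3 : ψ (Subgroup.inclusion le_sup_right x) ∈ (Q.subgroupOf (P ⊔ Q)).map ψ := ⟨_, x.2, rfl⟩
      rw [hψQ] at h3
      exact h3
    obtain ⟨α, hα, hαv⟩ := exists_aut_of_hom F h1 h2
    refine ⟨graphOf S (P ⊔ Q) ψ, ⟨_, ψ, hψ, rfl⟩, ⟨α, hα⟩, ?_, ?_⟩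
    · intro t ht
      obtain ⟨x, h3, h4⟩ := mem_graphOf.mp ht
      rw [mem_graphOf]
      refine ⟨Subgroup.inclusion le_sup_left x, h3, ?_⟩
      rw [h4, hψP]
    · rw [over_iff]
      intro x
      rw [mem_graphOf]
      refine ⟨Subgroup.inclusion le_sup_right x, rfl, ?_⟩
      show ((α x : Q) : Ω) = _
      rw [hαv]
      rfl
  pS := hS
  idx := by
    have hQS := hQn.1
    haveI : Finite Q := finite_of_le hQS
    obtain ⟨⟨_, R, hR⟩, _⟩ := fa_rec_of_isNormal p F hF hQn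
    rw [cHom_range, ← hR]
    haveI : Finite (F.autGroup Q) := inferInstance
    exact R.not_dvd_index

theorem modelInput_graphs (hF : F.IsSaturated p) {Q : Subgroup Ω} (hQn : F.IsNormal Q)
    (hQc : F.IsCentric Q) : (modelInput p hS F hF hQn hQc).𝒢 = graphSet F := rfl

/-- a constrained fusion system has a model -/
theorem exists_model_of_constrained (hF : F.IsConstrained p) :
    ∃ (G : Type u) (_ : Group G) (ι : S →* G), F.IsModel p G ι := by
  obtain ⟨hsat, Q, hQn, hQc⟩ := hF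
  haveI : Finite Q := finite_of_le hQn.1
  haveI : Finite (F.autGroup Q) := inferInstance
  obtain ⟨G, hG, ι, hfin, hinj, hreal, hsyl, N, hNn, hNp, hNc⟩ :=
    (modelInput p hS F hsat hQn hQc).exists_model
  rw [modelInput_graphs] at hreal
  refine ⟨G, hG, ι, hfin, ⟨hinj, ?_⟩, hsyl, ?_⟩
  · intro P hP φ hφ
    rw [mem_graphSet_iff F P hP φ hφ, hreal]
    constructor
    · rintro ⟨g, hg⟩
      refine ⟨g, fun x => ?_⟩
      exact hg (⟨x, hP x.2⟩, ⟨φ x, hφ x⟩) (mem_graphOf.mpr ⟨x, rfl, rfl⟩)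
    · rintro ⟨g, hg⟩
      refine ⟨g, fun t ht => ?_⟩
      obtain ⟨x, h1, h2⟩ := mem_graphOf.mp ht
      have e1 : t.1 = ⟨x, hP x.2⟩ := Subtype.ext h1
      have e2 : t.2 = ⟨φ x, hφ x⟩ := Subtype.ext h2
      rw [e1, e2]
      exact hg x
  · have hNle : N ≤ pCore p G := le_sSup ⟨hNn, hNp⟩
    intro g hg
    apply hNle
    apply hNc
    rw [Subgroup.mem_centralizer_iff] at hg ⊢
    intro n hn
    exact hg n (hNle hn)

end

end Cfsg.Agent.Lib.Helper29
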