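import Cfsg.Agent.Lib.Helper29.GTCentric
import Cfsg.Agent.Lib.Helper29.FusionRealized
import Cfsg.Agent.Lib.Helper29.ModelInst
import Cfsg.Agent.Lib.Helper11.FrobeniusLocal
import Cfsg.Agent.Lib.Helper13.NPC
import Cfsg.Agent.S0071
import Cfsg.Agent.Lib.Lead.ZJFunctor

/-!
The Glauberman–Thompson criterion for fusion systems: the group-theoretic input, applied to a model.
-/
set_option autoImplicit false
universe u

namespace Cfsg.Agent.Lib.Helper29

open Cfsg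
open Cfsg.Agent.Lib.Helper13 (NPC npc_iff)
open Cfsg.Agent.Lib.Helper11 (LocalPNilpotent localPNilpotent_of_sylow
  isComplement'_sylow_of_coprime_of_index)

section group

variable {G : Type*} [Group G] [Finite G] {p : ℕ} [Fact p.Prime]

theorem npc_iff_frobenius (P : Sylow p G) :
    NPC p G ↔ ∀ Q : Subgroup G, Q ≤ (P : Subgroup G) → ∀ g ∈ Subgroup.normalizer (Q : Set G),
      Nat.Coprime (orderOf g) p → g ∈ Subgroup.centralizer (Q : Set G) := by
  rw [← Cfsg.Agent.S0071.result P]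
  constructor
  · rintro ⟨N, hN, hcop, k, hk⟩
    refine ⟨N, hN, isComplement'_sylow_of_coprime_of_index P N ?_ k hk⟩
    exact (Nat.Prime.coprime_iff_not_dvd Fact.out).mp hcop.symm
  · rintro ⟨N, hN, hc⟩
    exact npc_iff.mp ⟨P, N, hN, hc⟩

theorem localPNilpotent_of_npc (h : NPC p G) : LocalPNilpotent p G := by
  obtain ⟨P⟩ : Nonempty (Sylow p G) := inferInstance
  exact localPNilpotent_of_sylow P ((npc_iff_frobenius P).mp h)

end group

section realized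

variable {Ω : Type*} [Group Ω] {T : Subgroup Ω} {L : Type*} [Group L]

theorem realized_pow {ι : T →* L} {U : Subgroup Ω} (hUT : U ≤ T) (β : MulAut U) (g : L)
    (h : ∀ x : U, ι ⟨(β x : U), hUT (β x).2⟩ = g * ι ⟨x, hUT x.2⟩ * g⁻¹) (n : ℕ) :
    ∀ x : U, ι ⟨((β ^ n) x : U), hUT ((β ^ n) x).2⟩ = g ^ n * ι ⟨x, hUT x.2⟩ * (g ^ n)⁻¹ := by
  induction n with
  | zero =>
    intro x
    simp
  | succ n ih =>
    intro x
    have e : (β ^ (n + 1)) x = β ((β ^ n) x) := by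
      rw [pow_succ', MulAut.mul_apply]
    rw [e, h, ih, pow_succ']
    group

theorem autGroup_pgroup_of_npc [Finite T] [Finite L] {p : ℕ} [Fact p.Prime] (hT : IsPGroup p T)
    (E : FusionSystem T) {ι : T →* L} (hreal : E.IsRealizedBy ι) (hnpc : NPC p L)
    {U : Subgroup Ω} (hUT : U ≤ T) : IsPGroup p (E.autGroup U) := by
  have hloc := localPNilpotent_of_npc hnpc
  rintro ⟨β, hβ⟩
  have hφ := (mem_autGroup_iff E hUT).1 hβ
  obtain ⟨g, hg⟩ := (hreal.2 U hUT _ (fun x => hUT (β x).2)).1 hφ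
  have hg' : ∀ x : U, ι ⟨(β x : U), hUT (β x).2⟩ = g * ι ⟨x, hUT x.2⟩ * g⁻¹ := hg
  obtain ⟨D, hD⟩ : ∃ D : Subgroup L, D = (U.subgroupOf T).map ι := ⟨_, rfl⟩
  have hDp : IsPGroup p D := hD ▸ IsPGroup.map (hT.to_subgroup _) ι
  have hmemD : ∀ x : U, ι ⟨x, hUT x.2⟩ ∈ D := by
    intro x
    rw [hD]
    exact ⟨⟨x, hUT x.2⟩, x.2, rfl⟩
  have hDmem : ∀ d ∈ D, ∃ x : U, ι ⟨x, hUT x.2⟩ = d := by
    intro d hd
    rw [hD] at hd
    obtain ⟨t, ht, rfl⟩ := hd
    exact ⟨⟨t, ht⟩, rfl⟩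
  have hgN : ∀ n : ℕ, g ^ n ∈ Subgroup.normalizer (D : Set L) := by
    intro n
    apply Subgroup.pow_mem
    rw [Subgroup.mem_normalizer_iff]
    intro d
    constructor
    · intro hd
      obtain ⟨x, rfl⟩ := hDmem d hd
      rw [← hg']
      exact hmemD _
    · intro hd
      obtain ⟨y, hy⟩ := hDmem _ hd
      have h1 := hg' (β⁻¹ y)
      have e : β (β⁻¹ y) = y := MulAut.apply_inv_self _ β y
      have h1' : ι ⟨(y : Ω), hUT y.2⟩ = g * ι ⟨(β⁻¹ y : U), hUT (β⁻¹ y).2⟩ * g⁻¹ := by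
        rw [← h1]
        congr 1
        exact Subtype.ext (congrArg Subtype.val e).symm
      rw [hy] at h1'
      have h2 : d = ι ⟨(β⁻¹ y : U), hUT (β⁻¹ y).2⟩ := by
        have e1 : d = g⁻¹ * (g * d * g⁻¹) * g := by group
        rw [e1, h1']
        group
      rw [h2]
      exact hmemD _
  have hpos : orderOf g ≠ 0 := (orderOf_pos g).ne'
  obtain ⟨k, m, hm, hkm⟩ := Nat.exists_eq_pow_mul_and_not_dvd hpos p (Nat.Prime.ne_one Fact.out)
  have hcop : Nat.Coprime (orderOf (g ^ p ^ k)) p := by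
    have h1 : (g ^ p ^ k) ^ m = 1 := by
      rw [← pow_mul, ← hkm, pow_orderOf_eq_one]
    have h2 := orderOf_dvd_of_pow_eq_one h1
    have h3 : Nat.Coprime m p := ((Nat.Prime.coprime_iff_not_dvd Fact.out).mpr hm).symm
    exact Nat.Coprime.coprime_dvd_left h2 h3
  have hcen := hloc D hDp _ (hgN (p ^ k)) hcop
  rw [Subgroup.mem_centralizer_iff] at hcen
  refine ⟨k, ?_⟩
  apply Subtype.ext
  rw [Subgroup.coe_pow]
  show β ^ p ^ k = 1
  apply MulEquiv.ext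
  intro x
  apply Subtype.ext
  have h1 := realized_pow hUT β g hg' (p ^ k) x
  have h2 := hcen _ (hmemD x)
  have h3 : g ^ p ^ k * ι ⟨x, hUT x.2⟩ * (g ^ p ^ k)⁻¹ = ι ⟨x, hUT x.2⟩ := by
    rw [← h2]
    group
  rw [h3] at h1
  have h4 := hreal.1 h1
  exact congrArg (fun z : T => (z : Ω)) h4

open Cfsg.Agent.Lib.Lead.GlaubermanRepl (ZJ) in
theorem W_eq_preimg {ι : T →* L} (hinj : Function.Injective ι) (P : Subgroup L)
    (hP : P = ι.range) : centerThompsonAOf T = preimg ι (ZJ P) := by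
  rw [← centerThompsonAOf_eq', hP, MonoidHom.range_eq_map,
    W_map ι (fun x _ hx => hinj (hx.trans (map_one ι).symm)), W_top_map T]
  unfold preimg
  rw [Subgroup.comap_map_eq_self_of_injective hinj]

open Cfsg.Agent.Lib.Lead.GlaubermanRepl (ZJ) in
theorem PWN_of_not_npc {L : Type u} [Group L] [Finite T] [Finite L] {p : ℕ} [Fact p.Prime]
    (hp2 : p ≠ 2) (E : FusionSystem T) {ι : T →* L} (hreal : E.IsRealizedBy ι) (P : Sylow p L)
    (hP : (P : Subgroup L) = ι.range) (hn : ¬ NPC p L) : PWN p E (centerThompsonAOf T) := by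
  classical
  obtain ⟨WL, hWL⟩ : ∃ WL, WL = ZJ (P : Subgroup L) := ⟨_, rfl⟩
  have hWT : centerThompsonAOf T = preimg ι WL := hWL ▸ W_eq_preimg hreal.1 _ hP
  have hWLP : WL ≤ (P : Subgroup L) := by
    rw [hWL, ← centerThompsonAOf_eq']
    exact W_le _
  have hnM : ¬ NPC p ↥(Subgroup.normalizer (WL : Set L)) := by
    intro h
    apply hn
    rw [hWL] at h
    exact Cfsg.Agent.Lib.Lead.ZJFunctor.glauberman_thompson hp2 P h
  have hPM : (P : Subgroup L) ≤ Subgroup.normalizer (WL : Set L) := by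
    rw [hWL, ← centerThompsonAOf_eq']
    exact Subgroup.le_normalizer.trans (normalizer_le_normalizer_W _)
  obtain ⟨M, hM⟩ : ∃ M, M = Subgroup.normalizer (WL : Set L) := ⟨_, rfl⟩
  rw [← hM] at hnM hPM
  rw [npc_iff_frobenius (P.subtype hPM)] at hnM
  push_neg at hnM
  obtain ⟨Q₀, hQ₀P, g, hgN, hgo, hgC⟩ := hnM
  rw [Sylow.coe_subtype] at hQ₀P
  obtain ⟨D₀, hD₀⟩ : ∃ D₀, D₀ = Q₀.map M.subtype := ⟨_, rfl⟩
  have hD₀P : D₀ ≤ (P : Subgroup L) := by
    rw [hD₀]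
    rintro _ ⟨q, hq, rfl⟩
    exact Subgroup.mem_subgroupOf.mp (hQ₀P hq)
  have hgM : (g : L) ∈ Subgroup.normalizer (WL : Set L) := hM ▸ g.2
  have hgiM : (g : L)⁻¹ ∈ Subgroup.normalizer (WL : Set L) := Subgroup.inv_mem _ hgM
  have hgD₀ : ∀ (a : M), a ∈ Subgroup.normalizer (Q₀ : Set M) → ∀ d ∈ D₀,
      (a : L) * d * (a : L)⁻¹ ∈ D₀ := by
    intro a ha d hd
    rw [hD₀] at hd ⊢
    obtain ⟨q, hq, rfl⟩ := hd
    exact ⟨a * q * a⁻¹, (Subgroup.mem_normalizer_iff.mp ha q).1 hq, rfl⟩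
  obtain ⟨D, hD⟩ : ∃ D, D = D₀ ⊔ WL := ⟨_, rfl⟩
  have hDr : D ≤ ι.range := by
    rw [hD, ← hP]
    exact sup_le hD₀P hWLP
  have hDconj : ∀ (a : M), a ∈ Subgroup.normalizer (Q₀ : Set M) → ∀ d ∈ D,
      (a : L) * d * (a : L)⁻¹ ∈ D := by
    intro a ha
    have haM : (a : L) ∈ Subgroup.normalizer (WL : Set L) := hM ▸ a.2
    have hcm : D₀ ⊔ WL ≤ (D₀ ⊔ WL).comap (MulAut.conj (a : L)).toMonoidHom := by
      refine sup_le ?_ ?_
      · intro d hd
        rw [Subgroup.mem_comap]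
        apply Subgroup.mem_sup_left
        exact hgD₀ a ha d hd
      · intro w hw
        rw [Subgroup.mem_comap]
        apply Subgroup.mem_sup_right
        exact (Subgroup.mem_normalizer_iff.mp haM w).1 hw
    intro d hd
    rw [hD] at hd ⊢
    exact hcm hd
  have hWLD : WL ≤ D := hD ▸ le_sup_right
  have hD₀D : D₀ ≤ D := hD ▸ le_sup_left
  obtain ⟨U, hU⟩ : ∃ U, U = preimg ι D := ⟨_, rfl⟩
  have hUT : U ≤ T := hU ▸ preimg_le ι D
  haveI : Finite U := finite_of_le hUT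
  have hUiff : ∀ y : Ω, y ∈ U ↔ ∃ hy : y ∈ T, ι ⟨y, hy⟩ ∈ D := by
    intro y
    rw [hU]
    exact mem_preimg
  have hUmem : ∀ x : U, ι ⟨x, hUT x.2⟩ ∈ D := by
    intro x
    exact ((hUiff _).1 x.2).2
  have hg1 : ∀ x : U, (g : L) * ι ⟨x, hUT x.2⟩ * (g : L)⁻¹ ∈ ι.range :=
    fun x => hDr (hDconj g hgN _ (hUmem x))
  obtain ⟨φ, hφ, hφS, hφe⟩ := realized_hom hreal hUT (g : L) hg1
  have hval : ∀ x : U, φ x ∈ U := by
    intro x
    refine (hUiff _).2 ⟨hφS x, ?_⟩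
    rw [hφe]
    exact hDconj g hgN _ (hUmem x)
  obtain ⟨β, hβ, hβe⟩ := exists_aut_of_hom E hφ hval
  have hβg : ∀ x : U, ι ⟨(β x : U), hUT (β x).2⟩ = (g : L) * ι ⟨x, hUT x.2⟩ * (g : L)⁻¹ := by
    intro x
    rw [← hφe]
    congr 1
    exact Subtype.ext (hβe x)
  have hWU : centerThompsonAOf T ≤ U := by
    rw [hWT]
    intro x hx
    obtain ⟨hxT, hx'⟩ := mem_preimg.1 hx
    exact (hUiff _).2 ⟨hxT, hWLD hx'⟩
  have hUN : U ≤ FusionSystem.normalizerIn T (centerThompsonAOf T) := by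
    intro x hx
    exact ⟨hUT hx, normalizer_le_normalizer_W T (Subgroup.le_normalizer (hUT hx))⟩
  refine ⟨U, hWU, hUN, ?_⟩
  intro hpg
  have hβs : β ∈ autStab E U (centerThompsonAOf T) := by
    refine Subgroup.mem_inf.mpr ⟨hβ, ?_⟩
    rw [mem_stabSub]
    intro x
    rw [hWT]
    constructor
    · intro hx
      obtain ⟨_, hx'⟩ := mem_preimg.1 hx
      refine mem_preimg.2 ⟨hUT (β x).2, ?_⟩
      rw [hβg]
      exact (Subgroup.mem_normalizer_iff.mp hgM _).1 hx'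
    · intro hx
      obtain ⟨_, hx'⟩ := mem_preimg.1 hx
      refine mem_preimg.2 ⟨hUT x.2, ?_⟩
      rw [hβg] at hx'
      exact (Subgroup.mem_normalizer_iff.mp hgM _).2 hx'
  obtain ⟨k, hk⟩ := hpg ⟨β, hβs⟩
  have hk' : β ^ p ^ k = 1 := by
    have := congrArg Subtype.val hk
    simpa using this
  have hord : β ^ orderOf (g : L) = 1 := by
    apply MulEquiv.ext
    intro x
    apply Subtype.ext
    have h1 := realized_pow hUT β (g : L) hβg (orderOf (g : L)) x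
    rw [pow_orderOf_eq_one, one_mul, inv_one, mul_one] at h1
    exact congrArg (fun z : T => (z : Ω)) (hreal.1 h1)
  have hβ1 : β = 1 := by
    have h1 := orderOf_dvd_of_pow_eq_one hk'
    have h2 := orderOf_dvd_of_pow_eq_one hord
    rw [Subgroup.orderOf_coe] at h2
    have h3 : Nat.Coprime (orderOf g) (p ^ k) := Nat.Coprime.pow_right k hgo
    have h4 : orderOf β ∣ 1 := by
      have := Nat.dvd_gcd h2 h1
      rwa [Nat.Coprime.gcd_eq_one h3] at this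
    exact orderOf_eq_one_iff.mp (Nat.dvd_one.mp h4)
  apply hgC
  rw [Subgroup.mem_centralizer_iff]
  intro q hq
  apply Subtype.ext
  rw [Subgroup.coe_mul, Subgroup.coe_mul]
  have hqD : (q : L) ∈ D := hD₀D (hD₀ ▸ ⟨q, hq, rfl⟩)
  obtain ⟨t, ht⟩ := hDr hqD
  have htU : (t : Ω) ∈ U := by
    refine (hUiff _).2 ⟨t.2, ?_⟩
    have e : (⟨(t : Ω), t.2⟩ : T) = t := rfl
    rw [e, ht]
    exact hqD
  have h1 := hβg ⟨t, htU⟩
  rw [hβ1] at h1
  have h2 : ι ⟨((1 : MulAut U) ⟨(t : Ω), htU⟩ : U), hUT ((1 : MulAut U) ⟨(t : Ω), htU⟩).2⟩ = ι t := rfl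
  rw [h2] at h1
  have h3 : ι ⟨((⟨(t : Ω), htU⟩ : U) : Ω), hUT (⟨(t : Ω), htU⟩ : U).2⟩ = ι t := rfl
  rw [h3, ht] at h1
  calc (q : L) * (g : L) = ((g : L) * (q : L) * (g : L)⁻¹) * (g : L) := by rw [← h1]
    _ = (g : L) * (q : L) := by group

end realized

end Cfsg.Agent.Lib.Helper29
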