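import Cfsg.Agent.Lib.Helper29.SurjMorphism2
import Cfsg.Agent.Lib.Helper29.FusionChain5
import Cfsg.Agent.Lib.Helper29.FactorSystemExists
import Cfsg.Agent.Lib.Helper1.FusionSup

/-!
Solvable fusion systems (in the sense of factor systems by strongly closed subgroups having nontrivial core):
characterisation by series of strongly closed subgroups with abelian factors, and constrainedness.
-/

set_option autoImplicit false
open Cfsg
open scoped commutatorElement

namespace Cfsg.Agent.Lib.Helper29

variable {Ω : Type*} [Group Ω] {S : Subgroup Ω} {Ω' : Type*} [Group Ω'] {S' : Subgroup Ω'}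

section morphism

variable {F : FusionSystem S} {F' : FusionSystem S'} {α : S →* Ω'}

/-- the preimage of a strongly closed subgroup under a morphism is strongly closed -/
theorem stronglyClosed_preimageAlong (hα : F.IsMorphism F' α) {X' : Subgroup Ω'}
    (hX' : F'.StronglyClosed X') : F.StronglyClosed (FusionSystem.preimageAlong α X') := by
  refine ⟨preimageAlong_le α X', fun R hR φ hφ x => ?_⟩
  obtain ⟨φ', hφ', hP, hφS, hP', hind⟩ := hα.2 R φ hφ
  have hle : FusionSystem.imageAlong α R ≤ X' := by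
    intro y hy
    obtain ⟨s, hs, rfl⟩ := mem_imageAlong.1 hy
    exact (mem_preimageAlong.1 (hR hs)).2
  have h1 := hX'.2 _ hle φ' hφ' ⟨α ⟨x, hP x.2⟩, hP' x⟩
  rw [hind] at h1
  exact mem_preimageAlong.2 ⟨hφS x, h1⟩

/-- the image of a strongly closed subgroup under a surjective morphism is strongly closed -/
theorem stronglyClosed_imageAlong [Finite S] (hα : F.IsSurjectiveMorphism F' α) {X : Subgroup Ω}
    (hX : F.StronglyClosed X) : F'.StronglyClosed (FusionSystem.imageAlong α X) := by
  refine ⟨imageAlong_le hα.1 X, fun P' hP' φ' hφ' y => ?_⟩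
  have hP'S' : P' ≤ S' := hP'.trans (imageAlong_le hα.1 X)
  obtain ⟨φ, hφ, hP, hφS, hPP', hind⟩ := hα.2.2 P' hP'S' φ' hφ'
  obtain ⟨x, hxX, hxy⟩ := mem_imageAlong.1 (hP' y.2)
  have hxpre : (x : Ω) ∈ FusionSystem.preimageAlong α P' :=
    mem_preimageAlong.2 ⟨x.2, by rw [hxy]; exact y.2⟩
  have h1 := hind ⟨x, hxpre⟩
  have e : (⟨α ⟨(x : Ω), hP hxpre⟩, hPP' ⟨x, hxpre⟩⟩ : P') = y := Subtype.ext hxy
  rw [e] at h1
  rw [h1]
  exact mem_imageAlong.2 ⟨⟨φ ⟨x, hxpre⟩, hφS _⟩, stronglyClosed_hom_mem F hX hφ ⟨x, hxpre⟩ hxX, rfl⟩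

end morphism

/-- the centre of a subgroup normal in a fusion system is strongly closed -/
theorem stronglyClosed_center_of_isNormal (F : FusionSystem S) {Q : Subgroup Ω} (hQ : F.IsNormal Q) :
    F.StronglyClosed (Q ⊓ Subgroup.centralizer (Q : Set Ω)) := by
  refine ⟨inf_le_left.trans hQ.1, fun R hR φ hφ x => ?_⟩
  obtain ⟨ψ, hψ, hψP, hψQ⟩ := hQ.2 R φ hφ
  have hxQ : (x : Ω) ∈ Q := (hR x.2).1
  have hxc : (x : Ω) ∈ Subgroup.centralizer (Q : Set Ω) := (hR x.2).2
  rw [← hψP x]
  refine Subgroup.mem_inf.2 ⟨?_, ?_⟩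
  · exact hψQ.le ⟨Subgroup.inclusion le_sup_left x, Subgroup.mem_subgroupOf.2 hxQ, rfl⟩
  · rw [Subgroup.mem_centralizer_iff]
    intro q hq
    have hq' : q ∈ (Q.subgroupOf (R ⊔ Q)).map ψ := hψQ.ge hq
    obtain ⟨q₀, hq₀, rfl⟩ := hq'
    rw [← map_mul, ← map_mul]
    congr 1
    apply Subtype.ext
    exact (Subgroup.mem_centralizer_iff.1 hxc) (q₀ : Ω) (Subgroup.mem_subgroupOf.1 hq₀)

/-- a nontrivial finite `p`-subgroup has a nontrivial central element -/
theorem exists_center_ne_one {G : Type*} [Group G] {p : ℕ} [Fact p.Prime] {Q : Subgroup G} [Finite Q]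
    (hQp : IsPGroup p Q) (hQ : Q ≠ ⊥) :
    ∃ z ∈ Q ⊓ Subgroup.centralizer (Q : Set G), z ≠ 1 := by
  have hnt : Nontrivial Q := (Subgroup.nontrivial_iff_ne_bot Q).2 hQ
  have := hQp.center_nontrivial
  obtain ⟨z, hz⟩ := exists_ne (1 : Subgroup.center Q)
  refine ⟨((z : Q) : G), Subgroup.mem_inf.2 ⟨(z : Q).2, ?_⟩, ?_⟩
  · rw [Subgroup.mem_centralizer_iff]
    intro q hq
    have h := (Subgroup.mem_center_iff.1 z.2) ⟨q, hq⟩
    exact congrArg Subtype.val h
  · intro h
    apply hz
    apply Subtype.ext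
    apply Subtype.ext
    exact h

section factor

variable [Finite S] (p : ℕ) [Fact p.Prime] (hS : IsPGroup p S) (F : FusionSystem S) (hF : F.IsSaturated p)
  {R : Subgroup Ω} (hR : F.StronglyClosed R) {θ : S →* Ω'} (E : FusionSystem S')
  (hE : F.IsFactorSystem R θ E)

include hE in
theorem finite_of_isFactorSystem : Finite S' := by
  obtain ⟨hRS, hker, hrange, hhom⟩ := hE
  rw [← hrange]
  exact Finite.of_surjective θ.rangeRestrict θ.rangeRestrict_surjective

include hS hE in
theorem isPGroup_of_isFactorSystem : IsPGroup p S' := by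
  obtain ⟨hRS, hker, hrange, hhom⟩ := hE
  have hθS' : ∀ s : S, θ s ∈ S' := fun s => hrange.le ⟨s, rfl⟩
  apply hS.of_surjective (θ.codRestrict S' hθS')
  rintro ⟨y, hy⟩
  obtain ⟨s, rfl⟩ := hrange.ge hy
  exact ⟨s, rfl⟩

include hS hF hR hE in
/-- a strongly closed subgroup `X` not in the kernel `R` with `[X, X] ≤ R` gives a nontrivial normal subgroup
of the factor system -/
theorem core_ne_bot_of_abelian_section {X : Subgroup Ω} (hX : F.StronglyClosed X) (hXX : ⁅X, X⁆ ≤ R)
    (hXR : ¬ X ≤ R) : E.core ≠ ⊥ := by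
  have hsm := factorSystem_surjectiveMorphism p hS F hF R hR θ E hE
  have hfinS' : Finite S' := finite_of_isFactorSystem F E hE
  have hS'p : IsPGroup p S' := isPGroup_of_isFactorSystem p hS F E hE
  obtain ⟨hRS, hker, hrange, hhom⟩ := hE
  have hEsat : E.IsSaturated p := saturated_image hS hF hsm
  have hQ'sc : E.StronglyClosed (FusionSystem.imageAlong θ X) := stronglyClosed_imageAlong hsm hX
  have hQ'ab : ⁅FusionSystem.imageAlong θ X, FusionSystem.imageAlong θ X⁆ ≤ ⊥ := by
    rw [Subgroup.commutator_le]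
    intro a ha b hb
    obtain ⟨x, hx, rfl⟩ := mem_imageAlong.1 ha
    obtain ⟨y, hy, rfl⟩ := mem_imageAlong.1 hb
    rw [Subgroup.mem_bot, ← map_commutatorElement]
    apply (hker _).2
    exact hXX (Subgroup.commutator_mem_commutator hx hy)
  have hQ'n : E.IsNormal (FusionSystem.imageAlong θ X) := by
    apply isNormal_of_weaklyClosed_chain p hS'p E hEsat _ hQ'sc 1 ![⊥, FusionSystem.imageAlong θ X] rfl rfl
    · intro i j _
      fin_cases i <;> fin_cases j <;> simp_all
    · intro i
      fin_cases i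
      exact hQ'ab
    · intro i
      fin_cases i
      exact weaklyClosed_bot E
  have hne : FusionSystem.imageAlong θ X ≠ ⊥ := by
    intro h
    apply hXR
    intro x hx
    have hxS : x ∈ S := hX.1 hx
    have h1 : θ ⟨x, hxS⟩ ∈ FusionSystem.imageAlong θ X := mem_imageAlong.2 ⟨⟨x, hxS⟩, hx, rfl⟩
    rw [h, Subgroup.mem_bot] at h1
    exact (hker _).1 h1
  intro hcore
  apply hne
  rw [eq_bot_iff, ← hcore]
  exact le_sSup hQ'n

include hS hF hR hE in
/-- if the factor system by `R` has a nontrivial normal subgroup, there is a larger strongly closed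
subgroup that is abelian modulo `R` -/
theorem exists_stronglyClosed_succ (hcore : E.core ≠ ⊥) :
    ∃ R' : Subgroup Ω, F.StronglyClosed R' ∧ R ≤ R' ∧ ¬ R' ≤ R ∧ ⁅R', R'⁆ ≤ R := by
  have hsm := factorSystem_surjectiveMorphism p hS F hF R hR θ E hE
  have hfinS' : Finite S' := finite_of_isFactorSystem F E hE
  have hS'p : IsPGroup p S' := isPGroup_of_isFactorSystem p hS F E hE
  obtain ⟨hRS, hker, hrange, hhom⟩ := hE
  have hcn : E.IsNormal E.core := Cfsg.Agent.Lib.Helper1.isNormal_core E
  have hZsc := stronglyClosed_center_of_isNormal E hcn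
  have hfinQ : Finite E.core := finite_of_le hcn.1
  obtain ⟨z, hz, hz1⟩ := exists_center_ne_one (hS'p.to_le hcn.1) hcore
  refine ⟨FusionSystem.preimageAlong θ (E.core ⊓ Subgroup.centralizer (E.core : Set Ω')),
    stronglyClosed_preimageAlong hsm.1 hZsc, ?_, ?_, ?_⟩
  · intro r hr
    refine mem_preimageAlong.2 ⟨hRS hr, ?_⟩
    rw [(hker ⟨r, hRS hr⟩).2 hr]
    exact Subgroup.one_mem _
  · intro hle
    have hzS' : z ∈ S' := hcn.1 hz.1
    obtain ⟨s, rfl⟩ := hrange.ge hzS'
    have h1 : (s : Ω) ∈ R := hle (mem_preimageAlong.2 ⟨s.2, hz⟩)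
    exact hz1 ((hker s).2 h1)
  · rw [Subgroup.commutator_le]
    intro a ha b hb
    obtain ⟨haS, ha'⟩ := mem_preimageAlong.1 ha
    obtain ⟨hbS, hb'⟩ := mem_preimageAlong.1 hb
    have h1 : θ ⁅(⟨a, haS⟩ : S), ⟨b, hbS⟩⁆ = 1 := by
      rw [map_commutatorElement, commutatorElement_eq_one_iff_commute]
      exact ((Subgroup.mem_centralizer_iff.1 ha'.2) _ hb'.1).symm
    exact (hker _).1 h1

end factor

section solvable

variable [Finite S] (p : ℕ) [Fact p.Prime] (hS : IsPGroup p S) (F : FusionSystem S) (hF : F.IsSaturated p)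

include hS hF in
theorem solvable_of_chain (n : ℕ) (T : Fin (n + 1) → Subgroup Ω)
    (h0 : T 0 = ⊥) (hn : T (Fin.last n) = S) (hsc : ∀ i, F.StronglyClosed (T i))
    (hcomm : ∀ i : Fin n, ⁅T i.succ, T i.succ⁆ ≤ T (Fin.castSucc i)) : F.IsSolvableSystem := by
  intro R hR hne inst E hE
  have hex : ∃ i : Fin n, T i.castSucc ≤ R ∧ ¬ T i.succ ≤ R := by
    by_contra hcon
    push_neg at hcon
    have hall : ∀ i : Fin (n + 1), T i ≤ R := by
      intro i
      induction i using Fin.induction with
      | zero =>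
        rw [h0]
        exact bot_le
      | succ i ih => exact hcon i ih
    apply hne
    exact le_antisymm hR.1 (hn ▸ hall (Fin.last n))
  obtain ⟨i, hi1, hi2⟩ := hex
  exact core_ne_bot_of_abelian_section p hS F hF hR E hE (hsc i.succ) ((hcomm i).trans hi1) hi2

theorem normal_subgroupOf_of_stronglyClosed {R : Subgroup Ω} (hR : F.StronglyClosed R) :
    (R.subgroupOf S).Normal := by
  constructor
  intro n hn g
  rw [Subgroup.mem_subgroupOf] at hn ⊢
  exact stronglyClosed_conj_mem F hR g.2 hn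

include hS hF in
theorem exists_chain_from (h : F.IsSolvableSystem) :
    ∀ k : ℕ, ∀ R : Subgroup Ω, F.StronglyClosed R → Nat.card S - Nat.card R = k →
      ∃ (n : ℕ) (T : Fin (n + 1) → Subgroup Ω), T 0 = R ∧ T (Fin.last n) = S ∧ Monotone T ∧
        (∀ i, F.StronglyClosed (T i)) ∧ ∀ i : Fin n, ⁅T i.succ, T i.succ⁆ ≤ T (Fin.castSucc i) := by
  intro k
  induction k using Nat.strong_induction_on with
  | _ k ih =>
    intro R hR hk
    by_cases hne : R = S
    · refine ⟨0, fun _ => S, hne.symm, rfl, monotone_const, fun _ => ?_, fun i => i.elim0⟩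
      exact hne ▸ hR
    · haveI inst : (R.subgroupOf S).Normal := normal_subgroupOf_of_stronglyClosed F hR
      have hker : ∀ s : S, QuotientGroup.mk' (R.subgroupOf S) s = 1 ↔ (s : Ω) ∈ R := by
        intro s
        rw [QuotientGroup.mk'_apply, QuotientGroup.eq_one_iff, Subgroup.mem_subgroupOf]
      have hrange : (QuotientGroup.mk' (R.subgroupOf S)).range = ⊤ :=
        MonoidHom.range_eq_top.2 (QuotientGroup.mk'_surjective _)
      have hE := factorSys_isFactorSystem F hR (QuotientGroup.mk' (R.subgroupOf S)) hker hrange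
      have hcore := h R hR hne _ hE
      obtain ⟨R', hR'sc, hRR', hR'R, hcommR⟩ := exists_stronglyClosed_succ p hS F hF hR _ hE hcore
      have hfinR' : Finite R' := finite_of_le hR'sc.1
      have hlt : Nat.card R < Nat.card R' := by
        have hle := Subgroup.card_le_of_le hRR'
        rcases Nat.lt_or_ge (Nat.card R) (Nat.card R') with h1 | h1
        · exact h1
        · exfalso
          apply hR'R
          exact (Subgroup.eq_of_le_of_card_ge hRR' h1).ge
      have hle' : Nat.card R' ≤ Nat.card S := Subgroup.card_le_of_le hR'sc.1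
      obtain ⟨n, T', hT0, hTn, hTmono, hTsc, hTcomm⟩ :=
        ih (Nat.card S - Nat.card R') (by omega) R' hR'sc rfl
      refine ⟨n + 1, Fin.cons R T', Fin.cons_zero _ _, ?_, ?_, ?_, ?_⟩
      · have e : Fin.last (n + 1) = (Fin.last n).succ := rfl
        rw [e, Fin.cons_succ]
        exact hTn
      · rw [Fin.monotone_iff_le_succ]
        intro i
        induction i using Fin.cases with
        | zero =>
          have e1 : (Fin.castSucc (0 : Fin (n + 1))) = 0 := rfl
          rw [e1, Fin.cons_zero, Fin.cons_succ, hT0]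
          exact hRR'
        | succ j =>
          have e1 : Fin.castSucc j.succ = (Fin.castSucc j).succ := rfl
          rw [e1, Fin.cons_succ, Fin.cons_succ]
          exact hTmono (Fin.castSucc_le_succ j)
      · intro i
        induction i using Fin.cases with
        | zero =>
          rw [Fin.cons_zero]
          exact hR
        | succ j =>
          rw [Fin.cons_succ]
          exact hTsc j
      · intro i
        induction i using Fin.cases with
        | zero =>
          have e1 : (Fin.castSucc (0 : Fin (n + 1))) = 0 := rfl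
          rw [e1, Fin.cons_zero, Fin.cons_succ, hT0]
          exact hcommR
        | succ j =>
          have e1 : Fin.castSucc j.succ = (Fin.castSucc j).succ := rfl
          rw [e1, Fin.cons_succ, Fin.cons_succ]
          exact hTcomm j

include hS hF in
theorem solvable_iff_chain : F.IsSolvableSystem ↔ ∃ (n : ℕ) (T : Fin (n + 1) → Subgroup Ω),
    T 0 = ⊥ ∧ T (Fin.last n) = S ∧ Monotone T ∧ (∀ i, F.StronglyClosed (T i)) ∧
      ∀ i : Fin n, ⁅T i.succ, T i.succ⁆ ≤ T (Fin.castSucc i) := by
  constructor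
  · intro h
    exact exists_chain_from p hS F hF h _ ⊥ (stronglyClosed_bot F) rfl
  · rintro ⟨n, T, h0, hn, _, hsc, hcomm⟩
    exact solvable_of_chain p hS F hF n T h0 hn hsc hcomm

end solvable

end Cfsg.Agent.Lib.Helper29
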