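import Cfsg.Agent.Lib.Helper29.KNormBasic

set_option autoImplicit false
open Cfsg

namespace Cfsg.Agent.Lib.Helper29

variable {Ω : Type*} [Group Ω] {S : Subgroup Ω}

theorem congr_apply {R₁ R₂ : Subgroup Ω} (ι : R₁ ≃* R₂) (α : MulAut R₁) (y : R₂) :
    MulAut.congr ι α y = ι (α (ι.symm y)) := rfl

theorem congr_mem_stabSub {R₁ R₂ P₁ P₂ : Subgroup Ω} (ι : R₁ ≃* R₂)
    (h : ∀ x : R₁, (x : Ω) ∈ P₁ ↔ ((ι x : R₂) : Ω) ∈ P₂) {α : MulAut R₁} :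
    α ∈ stabSub R₁ P₁ ↔ MulAut.congr ι α ∈ stabSub R₂ P₂ := by
  constructor
  · intro hα y
    rw [congr_apply, ← h]
    have h1 := h (ι.symm y)
    rw [MulEquiv.apply_symm_apply] at h1
    rw [← h1]
    exact hα _
  · intro hα x
    have h1 := hα (ι x)
    rw [congr_apply, MulEquiv.symm_apply_apply, ← h, ← h] at h1
    exact h1

theorem congr_mem_admSub {R₁ R₂ Q : Subgroup Ω} {K : Subgroup (MulAut Q)} (hQ₁ : Q ≤ R₁) (hQ₂ : Q ≤ R₂)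
    (ι : R₁ ≃* R₂) {κ₀ : MulAut Q} (hκ₀ : κ₀ ∈ K)
    (h : ∀ q : Q, ((ι (Subgroup.inclusion hQ₁ q) : R₂) : Ω) = (κ₀ q : Q)) {α : MulAut R₁} :
    α ∈ admSub K hQ₁ ↔ MulAut.congr ι α ∈ admSub K hQ₂ := by
  have h' : ∀ q : Q, ι (Subgroup.inclusion hQ₁ q) = Subgroup.inclusion hQ₂ (κ₀ q) :=
    fun q => Subtype.ext (h q)
  have h'' : ∀ q : Q, ι.symm (Subgroup.inclusion hQ₂ q) = Subgroup.inclusion hQ₁ (κ₀⁻¹ q) := by
    intro q
    apply ι.injective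
    rw [MulEquiv.apply_symm_apply, h', MulAut.apply_inv_self]
  rw [mem_admSub_iff, mem_admSub_iff]
  constructor
  · rintro ⟨κ, hκ, hκe⟩
    refine ⟨κ₀ * κ * κ₀⁻¹, K.mul_mem (K.mul_mem hκ₀ hκ) (K.inv_mem hκ₀), fun q => ?_⟩
    rw [congr_apply, h'']
    have h1 : α (Subgroup.inclusion hQ₁ (κ₀⁻¹ q)) = Subgroup.inclusion hQ₁ (κ (κ₀⁻¹ q)) :=
      Subtype.ext (hκe _)
    rw [h1, h']
    rfl
  · rintro ⟨κ', hκ', hκ'e⟩
    refine ⟨κ₀⁻¹ * κ' * κ₀, K.mul_mem (K.mul_mem (K.inv_mem hκ₀) hκ') hκ₀, fun q => ?_⟩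
    have h1 := hκ'e (κ₀ q)
    rw [congr_apply, ← h', MulEquiv.symm_apply_apply] at h1
    have h2 : ι (α (Subgroup.inclusion hQ₁ q)) = Subgroup.inclusion hQ₂ (κ' (κ₀ q)) := Subtype.ext h1
    have h3 : α (Subgroup.inclusion hQ₁ q) = ι.symm (Subgroup.inclusion hQ₂ (κ' (κ₀ q))) := by
      rw [← h2, MulEquiv.symm_apply_apply]
    rw [h3, h'']
    rfl

theorem congr_symm_congr {R₁ R₂ : Subgroup Ω} (ι : R₁ ≃* R₂) (α : MulAut R₁) :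
    MulAut.congr ι.symm (MulAut.congr ι α) = α := by
  ext x
  simp [congr_apply]

/-- conjugation by a `K`-admissible isomorphism `P ⊔ Q → P' ⊔ Q` carrying `P` to `P'` identifies the
groups `AutK` -/
theorem conj_AutK {F : FusionSystem S} {Q : Subgroup Ω} {K : Subgroup (MulAut Q)} {P P' : Subgroup Ω}
    {ρ : ↥(P ⊔ Q) →* Ω} (hρ : ρ ∈ F.Hom (P ⊔ Q)) (hr : ρ.range = P' ⊔ Q)
    (hP' : ∀ x : ↥(P ⊔ Q), (x : Ω) ∈ P ↔ ρ x ∈ P') {κ₀ : MulAut Q} (hκ₀ : κ₀ ∈ K)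
    (hκ₀e : ∀ q : Q, ρ (Subgroup.inclusion le_sup_right q) = (κ₀ q : Q)) (α : MulAut ↥(P ⊔ Q)) :
    α ∈ AutK F K P ↔ MulAut.congr (isoOfHom F hρ hr) α ∈ AutK F K P' := by
  unfold AutK
  rw [Subgroup.mem_inf, Subgroup.mem_inf, Subgroup.mem_inf, Subgroup.mem_inf]
  have h1 : α ∈ F.autGroup (P ⊔ Q) ↔ MulAut.congr (isoOfHom F hρ hr) α ∈ F.autGroup (P' ⊔ Q) := by
    constructor
    · exact congr_mem_autGroup F hρ hr
    · intro h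
      have := congr_symm_mem_autGroup F hρ hr h
      rwa [congr_symm_congr] at this
  have h2 := congr_mem_stabSub (isoOfHom F hρ hr) (P₁ := P) (P₂ := P') (fun x => hP' x) (α := α)
  have h3 := congr_mem_admSub (K := K) le_sup_right le_sup_right (isoOfHom F hρ hr) hκ₀
    (fun q => hκ₀e q) (α := α)
  rw [h1, h2, h3]

end Cfsg.Agent.Lib.Helper29
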