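import Cfsg.Agent.Lib.Helper29.SurjMorphism
import Cfsg.Agent.Lib.Helper29.KNormConj

set_option autoImplicit false
open Cfsg

namespace Cfsg.Agent.Lib.Helper29

variable {Ω : Type*} [Group Ω] {S : Subgroup Ω} {Ω' : Type*} [Group Ω'] {S' : Subgroup Ω'}

variable [Finite S] {F : FusionSystem S} {F' : FusionSystem S'} {α : S →* Ω'}

/-- the image of a fully automized receptive subgroup containing the kernel is receptive -/
theorem receptive_image {p : ℕ} [Fact p.Prime] (hS : IsPGroup p S) (hα : F.IsSurjectiveMorphism F' α)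
    {Q : Subgroup Ω} (hKQ : kerSub α ≤ Q) (hfa : F.IsFullyAutomized p Q) (hrec : F.IsReceptive Q) :
    F'.IsReceptive (FusionSystem.imageAlong α Q) := by
  have hQS := hfa.1
  have hfinQ : Finite Q := finite_of_le hQS
  have hK := kerSub_stronglyClosed hα.1
  have heqQ := preimageAlong_imageAlong_of_le α hQS hKQ
  refine ⟨imageAlong_le hα.1 Q, fun P₁' φ' hφ' hr' => ?_⟩
  have hP₁'S' := (F'.le_of_mem hφ').1
  obtain ⟨φ, hφ, hP₁S, hφS, hθP', hind⟩ := hα.2.2 P₁' hP₁'S' φ' hφ'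
  have hr : φ.range = Q := by
    apply le_antisymm
    · rintro _ ⟨x, rfl⟩
      apply heqQ.le
      refine mem_preimageAlong.2 ⟨hφS x, ?_⟩
      rw [← hind x]
      exact hr'.le ⟨_, rfl⟩
    · intro q hq
      have hqS := hQS hq
      have h1 : α ⟨q, hqS⟩ ∈ FusionSystem.imageAlong α Q := mem_imageAlong.2 ⟨⟨q, hqS⟩, hq, rfl⟩
      obtain ⟨y, hy⟩ := hr'.ge h1
      obtain ⟨x, hx⟩ := exists_preimage_of_mem α hα.2.1 hP₁'S' y
      have e : y = ⟨α ⟨x, hP₁S x.2⟩, hθP' x⟩ := Subtype.ext hx.symm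
      rw [e, hind] at hy
      have h2 : (φ x)⁻¹ * q ∈ kerSub α := by
        have h3 : α (⟨φ x, hφS x⟩⁻¹ * ⟨q, hqS⟩) = 1 := by
          rw [map_mul, map_inv, hy, inv_mul_cancel]
        exact (mem_kerSub_iff α _).1 h3
      have h3 := stronglyClosed_le_range F hK (kerSub_le_preimageAlong α P₁') hφ h2
      have e2 : q = φ x * ((φ x)⁻¹ * q) := by group
      rw [e2]
      exact Subgroup.mul_mem _ ⟨x, rfl⟩ h3
  have hfinP₁ : Finite ↥(FusionSystem.preimageAlong α P₁') := finite_of_le hP₁S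
  have hXS : FusionSystem.preimageAlong α (FusionSystem.extender S' P₁' φ') ≤ S := preimageAlong_le α _
  -- facts about the elements of `X`
  have hXfacts : ∀ g : Ω, g ∈ FusionSystem.preimageAlong α (FusionSystem.extender S' P₁' φ') →
      g ∈ Subgroup.normalizer ((FusionSystem.preimageAlong α P₁' : Subgroup Ω) : Set Ω) ∧
      ∃ h : S, (h : Ω) ∈ Subgroup.normalizer (Q : Set Ω) ∧
        ∀ (x : ↥(FusionSystem.preimageAlong α P₁')) (hx : g * (x : Ω) * g⁻¹ ∈ FusionSystem.preimageAlong α P₁'),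
          α ⟨φ ⟨g * x * g⁻¹, hx⟩, hφS _⟩ = α h * α ⟨φ x, hφS x⟩ * (α h)⁻¹ := by
    intro g hg
    obtain ⟨hgS, hgX'⟩ := mem_preimageAlong.1 hg
    obtain ⟨_, hgN', h', hh'S', hh'⟩ := mem_extender_iff.1 hgX'
    have hh'r : h' ∈ α.range := hα.2.1.ge hh'S'
    obtain ⟨h, rfl⟩ := hh'r
    have hconj : ∀ x : ↥(FusionSystem.preimageAlong α P₁'), g * (x : Ω) * g⁻¹ ∈ S := fun x =>
      S.mul_mem (S.mul_mem hgS (hP₁S x.2)) (S.inv_mem hgS)
    have hαconj : ∀ x : ↥(FusionSystem.preimageAlong α P₁'),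
        α ⟨g * (x : Ω) * g⁻¹, hconj x⟩ = α ⟨g, hgS⟩ * α ⟨x, hP₁S x.2⟩ * (α ⟨g, hgS⟩)⁻¹ := by
      intro x
      rw [← map_inv, ← map_mul, ← map_mul]
      rfl
    have hgP₁' : ∀ x : ↥(FusionSystem.preimageAlong α P₁'),
        α ⟨g, hgS⟩ * α ⟨x, hP₁S x.2⟩ * (α ⟨g, hgS⟩)⁻¹ ∈ P₁' := fun x =>
      (Subgroup.mem_normalizer_iff.1 hgN' _).1 (hθP' x)
    have hgN : g ∈ Subgroup.normalizer ((FusionSystem.preimageAlong α P₁' : Subgroup Ω) : Set Ω) := by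
      apply mem_normalizer_of_conj_le'
      intro x hx
      refine mem_preimageAlong.2 ⟨hconj ⟨x, hx⟩, ?_⟩
      rw [hαconj ⟨x, hx⟩]
      exact hgP₁' ⟨x, hx⟩
    have hkey : ∀ (x : ↥(FusionSystem.preimageAlong α P₁'))
        (hx : g * (x : Ω) * g⁻¹ ∈ FusionSystem.preimageAlong α P₁'),
        α ⟨φ ⟨g * x * g⁻¹, hx⟩, hφS _⟩ = α h * α ⟨φ x, hφS x⟩ * (α h)⁻¹ := by
      intro x hx
      rw [← hind ⟨g * x * g⁻¹, hx⟩, ← hind x, ← hh' ⟨α ⟨x, hP₁S x.2⟩, hθP' x⟩ (hgP₁' x)]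
      congr 1
      exact Subtype.ext (hαconj x)
    refine ⟨hgN, h, ?_, hkey⟩
    apply mem_normalizer_of_conj_le'
    intro q hq
    have hq' : q ∈ φ.range := hr.ge hq
    obtain ⟨x, rfl⟩ := hq'
    have hx : g * (x : Ω) * g⁻¹ ∈ FusionSystem.preimageAlong α P₁' :=
      (Subgroup.mem_normalizer_iff.1 hgN x).1 x.2
    have hS1 : (h : Ω) * φ x * (h : Ω)⁻¹ ∈ S := S.mul_mem (S.mul_mem h.2 (hφS x)) (S.inv_mem h.2)
    apply heqQ.le
    refine mem_preimageAlong.2 ⟨hS1, ?_⟩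
    have h1 : α ⟨(h : Ω) * φ x * (h : Ω)⁻¹, hS1⟩ = α h * α ⟨φ x, hφS x⟩ * (α h)⁻¹ := by
      rw [← map_inv, ← map_mul, ← map_mul]
      rfl
    rw [h1, ← hkey x hx]
    exact mem_imageAlong.2 ⟨_, hr.le ⟨_, rfl⟩, rfl⟩
  set ι := isoOfHom F hφ hr with hιdef
  obtain ⟨Sy, hSy⟩ := hfa.2
  -- the subgroup `L`
  have hXn : ∀ g ∈ FusionSystem.preimageAlong α (FusionSystem.extender S' P₁' φ'),
      g ∈ Subgroup.normalizer ((FusionSystem.preimageAlong α P₁' : Subgroup Ω) : Set Ω) :=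
    fun g hg => (hXfacts g hg).1
  have hlF : ∀ (g : Ω) (hg : g ∈ FusionSystem.preimageAlong α (FusionSystem.extender S' P₁' φ')),
      MulAut.congr ι ((FusionSystem.preimageAlong α P₁').normalizerMonoidHom ⟨g, hXn g hg⟩) ∈
        F.autGroup Q := by
    intro g hg
    apply congr_mem_autGroup F hφ hr
    apply autInducedBy_le_autGroup F hP₁S
    rw [autInducedBy_eq_map]
    exact ⟨⟨g, hXn g hg⟩, hXS hg, rfl⟩
  have hlΘ : ∀ (g : Ω) (hg : g ∈ FusionSystem.preimageAlong α (FusionSystem.extender S' P₁' φ')),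
      ∃ t : F.autGroup Q, t ∈ (Sy : Subgroup ↥(F.autGroup Q)) ∧
        autImageHom hα.1 hQS ⟨_, hlF g hg⟩ = autImageHom hα.1 hQS t := by
    intro g hg
    obtain ⟨hgN, h, hhN, hkey⟩ := hXfacts g hg
    have hcS : Q.normalizerMonoidHom ⟨h, hhN⟩ ∈ autInducedBy S Q := by
      rw [autInducedBy_eq_map]
      exact ⟨⟨h, hhN⟩, h.2, rfl⟩
    have hcF : Q.normalizerMonoidHom ⟨h, hhN⟩ ∈ F.autGroup Q := autInducedBy_le_autGroup F hQS hcS
    refine ⟨⟨_, hcF⟩, ?_, ?_⟩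
    · rw [hSy]
      exact Subgroup.mem_subgroupOf.2 hcS
    · ext y
      obtain ⟨q, rfl⟩ := projAlong_surjective α hQS y
      rw [autImageHom_apply, autImageHom_apply]
      obtain ⟨x, hx⟩ := ι.surjective q
      have hxN : g * (x : Ω) * g⁻¹ ∈ FusionSystem.preimageAlong α P₁' :=
        (Subgroup.mem_normalizer_iff.1 hgN x).1 x.2
      have e1 : MulAut.congr ι ((FusionSystem.preimageAlong α P₁').normalizerMonoidHom ⟨g, hXn g hg⟩) q =
          ι ⟨g * x * g⁻¹, hxN⟩ := by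
        rw [congr_apply, ← hx, MulEquiv.symm_apply_apply]
        rfl
      have hqφ : (q : Ω) = φ x := by rw [← hx]; rfl
      have e2 : (⟨((MulAut.congr ι ((FusionSystem.preimageAlong α P₁').normalizerMonoidHom
          ⟨g, hXn g hg⟩) q : Q) : Ω), hQS (MulAut.congr ι _ q).2⟩ : S) =
          ⟨φ ⟨g * x * g⁻¹, hxN⟩, hφS _⟩ := by
        apply Subtype.ext
        show ((MulAut.congr ι _ q : Q) : Ω) = φ ⟨g * x * g⁻¹, hxN⟩
        rw [e1]
        rfl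
      have e3 : (⟨((Q.normalizerMonoidHom ⟨h, hhN⟩ q : Q) : Ω), hQS (Q.normalizerMonoidHom ⟨h, hhN⟩ q).2⟩ : S) =
          h * ⟨φ x, hφS x⟩ * h⁻¹ := by
        apply Subtype.ext
        show (h : Ω) * (q : Ω) * (h : Ω)⁻¹ = (h : Ω) * φ x * (h : Ω)⁻¹
        rw [hqφ]
      show α ⟨((MulAut.congr ι _ q : Q) : Ω), _⟩ = α ⟨((Q.normalizerMonoidHom ⟨h, hhN⟩ q : Q) : Ω), _⟩
      rw [e2, e3, map_mul, map_mul, map_inv]
      exact hkey x hxN
  set L₀ : Subgroup (MulAut Q) :=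
    (autInducedBy (FusionSystem.preimageAlong α (FusionSystem.extender S' P₁' φ'))
      (FusionSystem.preimageAlong α P₁')).map (MulAut.congr ι).toMonoidHom with hL₀def
  have hL₀mem : ∀ l ∈ L₀, ∃ (g : Ω)
      (hg : g ∈ FusionSystem.preimageAlong α (FusionSystem.extender S' P₁' φ')),
      l = MulAut.congr ι ((FusionSystem.preimageAlong α P₁').normalizerMonoidHom ⟨g, hXn g hg⟩) := by
    rintro _ ⟨β, hβ, rfl⟩
    rw [autInducedBy_eq_map] at hβ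
    obtain ⟨n, hn, rfl⟩ := hβ
    exact ⟨n, hn, rfl⟩
  have hmemL₀ : ∀ (g : Ω) (hg : g ∈ FusionSystem.preimageAlong α (FusionSystem.extender S' P₁' φ')),
      MulAut.congr ι ((FusionSystem.preimageAlong α P₁').normalizerMonoidHom ⟨g, hXn g hg⟩) ∈ L₀ := by
    intro g hg
    refine ⟨_, ?_, rfl⟩
    rw [autInducedBy_eq_map]
    exact ⟨⟨g, hXn g hg⟩, hg, rfl⟩
  have hL₀p : IsPGroup p L₀ := (isPGroup_autInducedBy (hS.to_le hXS) _).map _
  have hL₀A : L₀ ≤ F.autGroup Q := by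
    intro l hl
    obtain ⟨g, hg, rfl⟩ := hL₀mem l hl
    exact hlF g hg
  have hL'p : IsPGroup p (L₀.subgroupOf (F.autGroup Q)) :=
    (isPGroup_subgroupOf_iff_of_le hL₀A).2 hL₀p
  obtain ⟨b, hbker, hbL⟩ := exists_ker_conj_le (isSylowSub_top_of_sylow Sy)
    (autImageHom hα.1 hQS) hL'p (by
      intro l hl'
      obtain ⟨g, hg, hlg⟩ := hL₀mem l hl'
      obtain ⟨t, ht, hte⟩ := hlΘ g hg
      refine ⟨t, ht, ?_⟩
      rw [← hte]
      congr 1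
      exact Subtype.ext hlg)
  have hbfix : ∀ q : Q, α ⟨(((b : MulAut Q) q : Q) : Ω), hQS ((b : MulAut Q) q).2⟩ = α ⟨q, hQS q.2⟩ := by
    intro q
    have h1 : autImageHom hα.1 hQS b = 1 := hbker
    have h2 := autImageHom_apply hα.1 hQS b q
    rw [h1] at h2
    exact h2.symm
  have hbconj : ∀ l ∈ L₀, (b : MulAut Q) * l * (b : MulAut Q)⁻¹ ∈ autInducedBy S Q := by
    intro l hlL
    have h1 : (⟨l, hL₀A hlL⟩ : ↥(F.autGroup Q)) ∈ L₀.subgroupOf (F.autGroup Q) :=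
      Subgroup.mem_subgroupOf.2 hlL
    have h2 := hbL (conj_mem_cj (g := b) h1)
    have h3 : b * ⟨l, hL₀A hlL⟩ * b⁻¹ ∈ (Sy : Subgroup ↥(F.autGroup Q)) := h2
    rw [hSy, Subgroup.mem_subgroupOf] at h3
    exact h3
  have hbF : Q.subtype.comp (b : MulAut Q).toMonoidHom ∈ F.Hom Q := (mem_autGroup_iff F hQS).1 b.2
  set φ₂ : ↥(FusionSystem.preimageAlong α P₁') →* Ω :=
    Q.subtype.comp ((b : MulAut Q).toMonoidHom.comp ι.toMonoidHom) with hφ₂def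
  have hφ₂val : ∀ z, φ₂ z = (((b : MulAut Q) (ι z) : Q) : Ω) := fun z => rfl
  have hφ₂F : φ₂ ∈ F.Hom (FusionSystem.preimageAlong α P₁') :=
    comp_mem' F hφ hbF (fun x => (ι x).2) (fun x => rfl)
  have hφ₂r : φ₂.range = Q := by
    ext y
    constructor
    · rintro ⟨z, rfl⟩
      exact ((b : MulAut Q) (ι z)).2
    · intro hy
      refine ⟨ι.symm ((b : MulAut Q)⁻¹ ⟨y, hy⟩), ?_⟩
      rw [hφ₂val, MulEquiv.apply_symm_apply, MulAut.apply_inv_self]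
  have hXle : FusionSystem.preimageAlong α (FusionSystem.extender S' P₁' φ') ≤
      FusionSystem.extender S (FusionSystem.preimageAlong α P₁') φ₂ := by
    intro g hg
    rw [mem_extender_iff]
    refine ⟨hXS hg, hXn g hg, ?_⟩
    have h1 := hbconj _ (hmemL₀ g hg)
    rw [autInducedBy_eq_map] at h1
    obtain ⟨n, hnS, hne⟩ := h1
    refine ⟨n, hnS, fun x hx => ?_⟩
    have h2 : (n : Ω) * (((b : MulAut Q) (ι x) : Q) : Ω) * (n : Ω)⁻¹ =
        ((((b : MulAut Q) * MulAut.congr ι ((FusionSystem.preimageAlong α P₁').normalizerMonoidHom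
          ⟨g, hXn g hg⟩) * (b : MulAut Q)⁻¹) ((b : MulAut Q) (ι x)) : Q) : Ω) :=
      congrArg (fun a : MulAut Q => ((a ((b : MulAut Q) (ι x)) : Q) : Ω)) hne
    have h3 : ((b : MulAut Q) * MulAut.congr ι ((FusionSystem.preimageAlong α P₁').normalizerMonoidHom
        ⟨g, hXn g hg⟩) * (b : MulAut Q)⁻¹) ((b : MulAut Q) (ι x)) =
        (b : MulAut Q) (ι (⟨g * (x : Ω) * g⁻¹, hx⟩ : ↥(FusionSystem.preimageAlong α P₁'))) := by
      rw [MulAut.mul_apply, MulAut.mul_apply, MulAut.inv_apply_self, congr_apply,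
        MulEquiv.symm_apply_apply]
      rfl
    rw [hφ₂val, hφ₂val, ← h3]
    exact h2.symm
  obtain ⟨Ψ, hΨ, hΨe⟩ := hrec.2 _ φ₂ hφ₂F hφ₂r
  have hΨX := restrict_mem F hXle hΨ
  obtain ⟨Ψ', hΨ', hPX, hΨS, hΨP', hΨind⟩ := hα.1.2 _ _ hΨX
  have hX'r : FusionSystem.extender S' P₁' φ' ≤ α.range := by
    rw [hα.2.1]
    exact extender_le _ _
  have heqX := imageAlong_preimageAlong α hX'r
  refine ⟨Ψ'.comp (Subgroup.inclusion heqX.ge), hom_cast_mem F' heqX.symm hΨ', fun y hP hN => ?_⟩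
  obtain ⟨s, rfl⟩ := hX'r hN
  have hsP₁ : (s : Ω) ∈ FusionSystem.preimageAlong α P₁' := mem_preimageAlong.2 ⟨s.2, hP⟩
  have hsX : (s : Ω) ∈ FusionSystem.preimageAlong α (FusionSystem.extender S' P₁' φ') :=
    mem_preimageAlong.2 ⟨s.2, hN⟩
  have h1 := hΨind ⟨s, hsX⟩
  have h2 : (Ψ'.comp (Subgroup.inclusion heqX.ge)) ⟨α s, hN⟩ =
      Ψ' ⟨α ⟨((⟨(s : Ω), hsX⟩ : ↥(FusionSystem.preimageAlong α (FusionSystem.extender S' P₁' φ'))) : Ω),
        hPX hsX⟩, hΨP' ⟨s, hsX⟩⟩ := rfl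
  rw [h2, h1]
  have h3 : (Ψ.comp (Subgroup.inclusion hXle)) ⟨s, hsX⟩ = φ₂ ⟨s, hsP₁⟩ := hΨe s hsP₁ (hXle hsX)
  have h4 := hind ⟨s, hsP₁⟩
  have h5 : φ' ⟨α s, hP⟩ = α ⟨φ ⟨s, hsP₁⟩, hφS _⟩ := h4
  rw [h5]
  have h6 : (⟨(Ψ.comp (Subgroup.inclusion hXle)) ⟨s, hsX⟩, hΨS _⟩ : S) =
      ⟨(((b : MulAut Q) (ι ⟨s, hsP₁⟩) : Q) : Ω), hQS ((b : MulAut Q) (ι ⟨s, hsP₁⟩)).2⟩ :=
    Subtype.ext h3
  rw [h6, hbfix]
  rfl

/-- the image of a saturated fusion system under a surjective morphism is saturated -/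
theorem saturated_image {p : ℕ} [Fact p.Prime] (hS : IsPGroup p S) (hF : F.IsSaturated p)
    (hα : F.IsSurjectiveMorphism F' α) : F'.IsSaturated p := by
  have hsat := (Cfsg.Agent.S5077.result p hS F).1 hF
  have hK := kerSub_stronglyClosed hα.1
  intro P' hP'S'
  have hPS := preimageAlong_le α P'
  obtain ⟨Q, hconj, hfn⟩ := exists_fullyNormalized_conj F hPS
  obtain ⟨hfc, hfa⟩ := hsat.1 Q hfn
  have hrec := hsat.2 Q hfc
  obtain ⟨ψ, hψ, hψr⟩ := hconj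
  have hKQ : kerSub α ≤ Q := by
    rw [← hψr]
    exact stronglyClosed_le_range F hK (kerSub_le_preimageAlong α P') hψ
  refine ⟨FusionSystem.imageAlong α Q, ?_, fullyAutomized_image hα hKQ hfa,
    receptive_image hS hα hKQ hfa hrec⟩
  obtain ⟨ψ', hψ', hP, hψS, hψP', hψind⟩ := hα.1.2 _ ψ hψ
  have hP'r : P' ≤ α.range := by
    rw [hα.2.1]
    exact hP'S'
  have heq := imageAlong_preimageAlong α hP'r
  refine ⟨ψ'.comp (Subgroup.inclusion heq.ge), hom_cast_mem F' heq.symm hψ', ?_⟩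
  ext y
  constructor
  · rintro ⟨z, rfl⟩
    obtain ⟨x, hx⟩ := exists_preimage_of_mem α hα.2.1 hP'S' z
    have e : Subgroup.inclusion heq.ge z = ⟨α ⟨x, hP x.2⟩, hψP' x⟩ := Subtype.ext hx.symm
    show ψ' (Subgroup.inclusion heq.ge z) ∈ _
    rw [e, hψind]
    exact mem_imageAlong.2 ⟨⟨ψ x, hψS x⟩, hψr.le ⟨x, rfl⟩, rfl⟩
  · intro hy
    obtain ⟨q, hq, rfl⟩ := mem_imageAlong.1 hy
    obtain ⟨x, hx⟩ := hψr.ge hq
    refine ⟨⟨α ⟨x, hP x.2⟩, (mem_preimageAlong.1 x.2).2⟩, ?_⟩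
    show ψ' ⟨α ⟨x, hP x.2⟩, _⟩ = α q
    rw [hψind]
    congr 1
    exact Subtype.ext hx

end Cfsg.Agent.Lib.Helper29
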