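import Cfsg.Agent.Lib.Helper29.GTStep2
import Cfsg.Agent.Lib.Helper29.SurjMorphism2
import Cfsg.Agent.Lib.Helper29.FactorMorphism
import Cfsg.Agent.Lib.Helper29.SolvableSystem

/-!
The Glauberman–Thompson criterion for fusion systems: lifting witnesses from a quotient system.
-/
set_option autoImplicit false
universe u

namespace Cfsg.Agent.Lib.Helper29

open Cfsg

section lift

variable {Ω : Type*} [Group Ω] {S : Subgroup Ω} {Ω' : Type*} [Group Ω'] {S' : Subgroup Ω'}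
variable [Finite S] {F : FusionSystem S} {F' : FusionSystem S'} {α : S →* Ω'}

theorem lift_autStab {p : ℕ} (hα : F.IsSurjectiveMorphism F' α) {U : Subgroup Ω} (hUS : U ≤ S)
    (hKU : kerSub α ≤ U) (W' : Subgroup Ω')
    (h : IsPGroup p (autStab F U (FusionSystem.preimageAlong α W'))) :
    IsPGroup p (autStab F' (FusionSystem.imageAlong α U) W') := by
  rintro ⟨β', hβ'⟩
  obtain ⟨hβ'1, hβ'2⟩ := Subgroup.mem_inf.mp hβ'
  rw [autGroup_image_eq_range hα hUS hKU] at hβ'1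
  obtain ⟨β, rfl⟩ := hβ'1
  rw [mem_stabSub] at hβ'2
  have hβs : (β : MulAut U) ∈ autStab F U (FusionSystem.preimageAlong α W') := by
    refine Subgroup.mem_inf.mpr ⟨β.2, ?_⟩
    rw [mem_stabSub]
    intro x
    have h1 := hβ'2 (projAlong α hUS x)
    rw [autImageHom_apply] at h1
    constructor
    · intro hx
      obtain ⟨hxS, hx'⟩ := mem_preimageAlong.1 hx
      exact mem_preimageAlong.2 ⟨hUS ((β : MulAut U) x).2, h1.1 hx'⟩
    · intro hx
      obtain ⟨hxS, hx'⟩ := mem_preimageAlong.1 hx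
      exact mem_preimageAlong.2 ⟨hUS x.2, h1.2 hx'⟩
  obtain ⟨k, hk⟩ := h ⟨β, hβs⟩
  refine ⟨k, ?_⟩
  apply Subtype.ext
  have hk' : (β : MulAut U) ^ p ^ k = 1 := by
    have := congrArg Subtype.val hk
    simpa using this
  have hk'' : β ^ p ^ k = 1 := by
    apply Subtype.ext
    rw [Subgroup.coe_pow, hk']
    rfl
  show (autImageHom hα.1 hUS β) ^ p ^ k = 1
  rw [← map_pow, hk'', map_one]

theorem lift_PWN {p : ℕ} (hα : F.IsSurjectiveMorphism F' α) {W' : Subgroup Ω'}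
    (h : PWN p F' W') : PWN p F (FusionSystem.preimageAlong α W') := by
  obtain ⟨U', hWU', hU'N, hU'⟩ := h
  have hU'S' : U' ≤ S' := hU'N.trans inf_le_left
  have hU'r : U' ≤ α.range := hα.2.1 ▸ hU'S'
  have himg := imageAlong_preimageAlong α hU'r
  have hUS := preimageAlong_le α U'
  refine ⟨FusionSystem.preimageAlong α U', ?_, ?_, ?_⟩
  · intro x hx
    obtain ⟨hxS, hx'⟩ := mem_preimageAlong.1 hx
    exact mem_preimageAlong.2 ⟨hxS, hWU' hx'⟩
  · intro u hu
    obtain ⟨huS, hu'⟩ := mem_preimageAlong.1 hu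
    refine ⟨huS, ?_⟩
    have hn : α ⟨u, huS⟩ ∈ Subgroup.normalizer (W' : Set Ω') := (hU'N hu').2
    show u ∈ Subgroup.normalizer ((FusionSystem.preimageAlong α W' : Subgroup Ω) : Set Ω)
    rw [Subgroup.mem_normalizer_iff] at hn ⊢
    intro r
    constructor
    · intro hr
      obtain ⟨hrS, hr'⟩ := mem_preimageAlong.1 hr
      refine mem_preimageAlong.2 ⟨S.mul_mem (S.mul_mem huS hrS) (S.inv_mem huS), ?_⟩
      have e : (⟨u * r * u⁻¹, S.mul_mem (S.mul_mem huS hrS) (S.inv_mem huS)⟩ : S) =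
          ⟨u, huS⟩ * ⟨r, hrS⟩ * ⟨u, huS⟩⁻¹ := rfl
      rw [e, map_mul, map_mul, map_inv]
      exact (hn _).1 hr'
    · intro hr
      obtain ⟨hrS, hr'⟩ := mem_preimageAlong.1 hr
      have hrS' : r ∈ S := by
        have e : r = u⁻¹ * (u * r * u⁻¹) * u := by group
        rw [e]
        exact S.mul_mem (S.mul_mem (S.inv_mem huS) hrS) huS
      refine mem_preimageAlong.2 ⟨hrS', ?_⟩
      have e : (⟨u * r * u⁻¹, hrS⟩ : S) = ⟨u, huS⟩ * ⟨r, hrS'⟩ * ⟨u, huS⟩⁻¹ := rfl
      rw [e, map_mul, map_mul, map_inv] at hr'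
      exact (hn _).2 hr'
  · intro hp
    have h1 := lift_autStab hα hUS (kerSub_le_preimageAlong α U') W' hp
    rw [himg] at h1
    exact hU' h1

end lift

end Cfsg.Agent.Lib.Helper29
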