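import Cfsg.Agent.Lib.Helper29.GTGroup

/-!
The Glauberman–Thompson criterion for fusion systems: the main induction.
-/
set_option autoImplicit false
universe u

namespace Cfsg.Agent.Lib.Helper29

open Cfsg
open Cfsg.Agent.Lib.Helper13 (NPC)

section core

variable {Ω : Type u} [Group Ω]

theorem gt_core {T : Subgroup Ω} [Finite T] {p : ℕ} [Fact p.Prime] (hp2 : p ≠ 2) (hT : IsPGroup p T)
    (E : FusionSystem T) (hE : E.IsSaturated p) (ih : ∀ m < Nat.card T, GTProp.{u} p m)
    {Q : Subgroup Ω} (hQ1 : Q ≠ ⊥) (hQn : E.IsNormal Q)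
    (hmax : ∀ R, R ≤ T → FusionSystem.normalizerIn T R = T → Nat.card Q < Nat.card R →
      ¬ PWN p E R)
    {U : Subgroup Ω} (hQU : Q ≤ U) (hUT : U ≤ T) (hU : ¬ IsPGroup p (E.autGroup U)) :
    PWN p E (centerThompsonAOf T) := by
  have hQsc := stronglyClosed_of_isNormal E hQn
  have hquot : ∀ U : Subgroup Ω, Q ≤ U → U ≤ T → ∀ β : MulAut U, β ∈ E.autGroup U →
      ∃ k, ∀ x : U, (x : Ω)⁻¹ * ((β ^ (p ^ k)) x : U) ∈ Q :=
    fun U hQU hUT β hβ => quot_pgroup hT E hE ih hQ1 hQsc hmax hQU hUT β hβ
  have hQa := autQ_not_pgroup hT E hQsc hquot hQU hUT hU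
  have hcons := constrained_of_max hT E hE hQn hmax hQa
  obtain ⟨L, hL, ι, hmodel⟩ := exists_model_of_constrained p hT E hcons
  obtain ⟨hfin, hreal, ⟨P, hP⟩, _⟩ := hmodel
  have hn : ¬ NPC p L := fun h => hU (autGroup_pgroup_of_npc hT E hreal h hUT)
  exact PWN_of_not_npc hp2 E hreal P hP hn

theorem PWN_transfer {T S : Subgroup Ω} (hTS : T = S) (E : FusionSystem T) (F : FusionSystem S)
    (hsub : ∀ P, E.Hom P ⊆ F.Hom P) {p : ℕ} {R : Subgroup Ω} (h : PWN p E R) : PWN p F R := by
  subst hTS
  obtain ⟨U, h1, h2, h3⟩ := h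
  exact ⟨U, h1, h2, not_isPGroup_of_le (autStab_mono E F U R (hsub U)) h3⟩

theorem gt_all (p : ℕ) [Fact p.Prime] (hp2 : p ≠ 2) : ∀ n, GTProp.{u} p n := by
  intro n
  induction n using Nat.strong_induction_on with
  | _ n ih =>
    intro Ω _ S _ hS F hF hcard hPW
    subst hcard
    obtain ⟨Q₀, hQ₀1, hQ₀N, hQ₀S, hQ₀w⟩ := exists_normal_PWN hS F hF ih hPW
    have key : ∀ k, ∀ Q : Subgroup Ω, Q ≠ ⊥ → FusionSystem.normalizerIn S Q = S → Q ≤ S →
        PWN p F Q → Nat.card S - Nat.card Q = k → PWN p F (centerThompsonAOf S) := by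
      intro k
      induction k using Nat.strong_induction_on with
      | _ k ihk =>
        intro Q hQ1 hN hQS hQw hk
        haveI : Finite Q := finite_of_le hQS
        by_cases hex : ∃ R : Subgroup Ω, R ≠ ⊥ ∧ FusionSystem.normalizerIn S R = S ∧ R ≤ S ∧
            PWN p F R ∧ Nat.card Q < Nat.card R
        · obtain ⟨R, hR1, hRN, hRS, hRw, hlt⟩ := hex
          haveI : Finite R := finite_of_le hRS
          have hle : Nat.card R ≤ Nat.card S := Subgroup.card_le_of_le hRS
          exact ihk (Nat.card S - Nat.card R) (by omega) R hR1 hRN hRS hRw rfl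
        · push_neg at hex
          obtain ⟨E, hE⟩ := Cfsg.Agent.S5096.result F Q hQS
          have hQfn : F.IsFullyNormalized Q := by
            refine ⟨hQS, fun Q' _ => ?_⟩
            rw [hN]
            haveI := finite_normalizerIn (S := S) Q'
            exact Subgroup.card_le_of_le inf_le_left
          have hEsat := Cfsg.Agent.S5098.result p hS F hF Q hQfn E hE
          have hQn : E.IsNormal Q := normalizerSystem_isNormal hE hQS
          haveI hfinT : Finite (FusionSystem.normalizerIn S Q) := finite_normalizerIn (S := S) Q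
          have hTp : IsPGroup p (FusionSystem.normalizerIn S Q) := hS.to_le inf_le_left
          have hcardT : Nat.card (FusionSystem.normalizerIn S Q) = Nat.card S :=
            congrArg (fun X : Subgroup Ω => Nat.card X) hN
          have ih' : ∀ m < Nat.card (FusionSystem.normalizerIn S Q), GTProp.{u} p m := by
            intro m hm
            exact ih m (hcardT ▸ hm)
          have hsub : ∀ P, E.Hom P ⊆ F.Hom P := normalizerSystem_hom_subset hE
          have hmax : ∀ R, R ≤ FusionSystem.normalizerIn S Q →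
              FusionSystem.normalizerIn (FusionSystem.normalizerIn S Q) R =
                FusionSystem.normalizerIn S Q → Nat.card Q < Nat.card R → ¬ PWN p E R := by
            intro R hRT hRN hlt hRw
            rw [hN] at hRT hRN
            have hR1 : R ≠ ⊥ := by
              intro hbot
              rw [hbot, Subgroup.card_bot] at hlt
              have : 0 < Nat.card Q := Nat.card_pos
              omega
            exact absurd hlt (not_lt.mpr (hex R hR1 hRN hRT (PWN_transfer hN E F hsub hRw)))
          obtain ⟨U, hQU, hUN, hU⟩ := hQw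
          have hU' : ¬ IsPGroup p (E.autGroup U) :=
            not_isPGroup_of_le (autStab_le_normalizerSystem hE hQU hUN) hU
          have hres := gt_core hp2 hTp E hEsat ih' hQ1 hQn hmax hQU hUN hU'
          have hres' := PWN_transfer hN E F hsub hres
          rw [hN] at hres'
          exact hres'
    exact key _ Q₀ hQ₀1 hQ₀N hQ₀S hQ₀w rfl

end core

end Cfsg.Agent.Lib.Helper29
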