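import Cfsg.Agent.Lib.Helper29.GTLift

/-!
The Glauberman–Thompson criterion for fusion systems: the quotient by a maximal normal witness
has only `p`-automizers.
-/
set_option autoImplicit false
universe u

namespace Cfsg.Agent.Lib.Helper29

open Cfsg

variable {Ω : Type u} [Group Ω] {T : Subgroup Ω}

theorem quot_pgroup [Finite T] {p : ℕ} [Fact p.Prime] (hT : IsPGroup p T) (E : FusionSystem T)
    (hE : E.IsSaturated p) (ih : ∀ m < Nat.card T, GTProp.{u} p m) {Q : Subgroup Ω} (hQ1 : Q ≠ ⊥)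
    (hQsc : E.StronglyClosed Q)
    (hmax : ∀ R, R ≤ T → FusionSystem.normalizerIn T R = T → Nat.card Q < Nat.card R →
      ¬ PWN p E R)
    {U : Subgroup Ω} (hQU : Q ≤ U) (hUT : U ≤ T) (β : MulAut U) (hβ : β ∈ E.autGroup U) :
    ∃ k, ∀ x : U, (x : Ω)⁻¹ * ((β ^ (p ^ k)) x : U) ∈ Q := by
  classical
  haveI inst : (Q.subgroupOf T).Normal := normal_subgroupOf_of_stronglyClosed E hQsc
  have hQT : Q ≤ T := hQsc.1
  obtain ⟨θ, hθ⟩ : ∃ θ : T →* T ⧸ Q.subgroupOf T, θ = QuotientGroup.mk' (Q.subgroupOf T) := ⟨_, rfl⟩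
  have hker : ∀ s : T, θ s = 1 ↔ (s : Ω) ∈ Q := by
    intro s
    rw [hθ, QuotientGroup.mk'_apply, QuotientGroup.eq_one_iff, Subgroup.mem_subgroupOf]
  have hθsurj : Function.Surjective θ := hθ ▸ QuotientGroup.mk'_surjective _
  have hrange : θ.range = ⊤ := MonoidHom.range_eq_top.2 hθsurj
  have hfac := factorSys_isFactorSystem E hQsc θ hker hrange
  obtain ⟨E', hE'⟩ : ∃ E', E' = factorSys E hQsc θ hker hrange := ⟨_, rfl⟩
  rw [← hE'] at hfac
  have hsurj := factorSystem_surjectiveMorphism p hT E hE Q hQsc θ E' hfac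
  have hE'sat := saturated_image hT hE hsurj
  have hkerSub : kerSub θ = Q := by
    ext x
    constructor
    · rintro ⟨s, hs, rfl⟩
      exact (hker s).1 hs
    · intro hx
      exact ⟨⟨x, hQT hx⟩, (hker _).2 hx, rfl⟩
  haveI hfinQ : Finite Q := finite_of_le hQT
  haveI hfinq : Finite (T ⧸ Q.subgroupOf T) := inferInstance
  have hcardtop : Nat.card (⊤ : Subgroup (T ⧸ Q.subgroupOf T)) < Nat.card T := by
    rw [Subgroup.card_top]
    have h1 := Subgroup.card_eq_card_quotient_mul_card_subgroup (Q.subgroupOf T)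
    have h2 : Nat.card (Q.subgroupOf T) = Nat.card Q :=
      Nat.card_congr (Subgroup.subgroupOfEquivOfLe hQT).toEquiv
    have h3 : 1 < Nat.card Q := by
      rw [Subgroup.one_lt_card_iff_ne_bot]
      exact hQ1
    have h4 : 0 < Nat.card (T ⧸ Q.subgroupOf T) := Nat.card_pos
    rw [h2] at h1
    rw [h1]
    nlinarith
  have htopp : IsPGroup p (⊤ : Subgroup (T ⧸ Q.subgroupOf T)) := by
    have h1 : IsPGroup p (T ⧸ Q.subgroupOf T) := hT.to_quotient _
    exact h1.to_subgroup _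
  have hnPW : ¬ PW p E' := by
    intro hPW
    have hW := ih _ hcardtop (T ⧸ Q.subgroupOf T) ⊤ htopp E' hE'sat rfl hPW
    obtain ⟨W', hW'⟩ : ∃ W', W' = centerThompsonAOf (⊤ : Subgroup (T ⧸ Q.subgroupOf T)) :=
      ⟨_, rfl⟩
    rw [← hW'] at hW
    have hR := lift_PWN hsurj hW
    have htopne : (⊤ : Subgroup (T ⧸ Q.subgroupOf T)) ≠ ⊥ := by
      intro hbot
      obtain ⟨U₀, hU₀, hU₀n⟩ := hPW
      apply hU₀n
      apply isPGroup_of_bot
      exact le_bot_iff.mp (hU₀.trans hbot.le)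
    have hW'ne : W' ≠ ⊥ := hW' ▸ W_ne_bot htopp htopne
    have hW'n : ∀ (g w : T ⧸ Q.subgroupOf T), w ∈ W' → g * w * g⁻¹ ∈ W' := by
      intro g w hw
      rw [hW'] at hw ⊢
      apply W_conj_mem _ hw
      rw [Subgroup.mem_normalizer_iff]
      intro h
      exact ⟨fun _ => Subgroup.mem_top _, fun _ => Subgroup.mem_top _⟩
    refine hmax _ (preimageAlong_le θ W') ?_ ?_ hR
    · apply le_antisymm inf_le_left
      intro t ht
      refine ⟨ht, ?_⟩
      show t ∈ Subgroup.normalizer ((FusionSystem.preimageAlong θ W' : Subgroup Ω) : Set Ω)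
      rw [Subgroup.mem_normalizer_iff]
      intro r
      constructor
      · intro hr
        obtain ⟨hrT, hr'⟩ := mem_preimageAlong.1 hr
        refine mem_preimageAlong.2 ⟨T.mul_mem (T.mul_mem ht hrT) (T.inv_mem ht), ?_⟩
        have e : (⟨t * r * t⁻¹, T.mul_mem (T.mul_mem ht hrT) (T.inv_mem ht)⟩ : T) =
            ⟨t, ht⟩ * ⟨r, hrT⟩ * ⟨t, ht⟩⁻¹ := rfl
        rw [e, map_mul, map_mul, map_inv]
        exact hW'n _ _ hr'
      · intro hr
        obtain ⟨hrT, hr'⟩ := mem_preimageAlong.1 hr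
        have hrT' : r ∈ T := by
          have e : r = t⁻¹ * (t * r * t⁻¹) * t := by group
          rw [e]
          exact T.mul_mem (T.mul_mem (T.inv_mem ht) hrT) ht
        refine mem_preimageAlong.2 ⟨hrT', ?_⟩
        have e : (⟨t * r * t⁻¹, hrT⟩ : T) = ⟨t, ht⟩ * ⟨r, hrT'⟩ * ⟨t, ht⟩⁻¹ := rfl
        rw [e, map_mul, map_mul, map_inv] at hr'
        have h2 := hW'n (θ ⟨t, ht⟩)⁻¹ _ hr'
        have e2 : (θ ⟨t, ht⟩)⁻¹ * (θ ⟨t, ht⟩ * θ ⟨r, hrT'⟩ * (θ ⟨t, ht⟩)⁻¹) * (θ ⟨t, ht⟩)⁻¹⁻¹ =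
            θ ⟨r, hrT'⟩ := by group
        rwa [e2] at h2
    · have hQR : Q ≤ FusionSystem.preimageAlong θ W' :=
        hkerSub.ge.trans (kerSub_le_preimageAlong θ W')
      haveI : Finite (FusionSystem.preimageAlong θ W' : Subgroup Ω) :=
        finite_of_le (preimageAlong_le θ W')
      apply lt_of_le_of_ne (Subgroup.card_le_of_le hQR)
      intro heq
      have heq' := Subgroup.eq_of_le_of_card_ge hQR heq.ge
      apply hW'ne
      rw [eq_bot_iff]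
      intro w hw
      obtain ⟨t, rfl⟩ := hθsurj w
      have h1 : (t : Ω) ∈ FusionSystem.preimageAlong θ W' := mem_preimageAlong.2 ⟨t.2, hw⟩
      rw [← heq'] at h1
      rw [Subgroup.mem_bot]
      exact (hker t).2 h1
  have hKU : kerSub θ ≤ U := hkerSub.le.trans hQU
  have hp1 : IsPGroup p (E'.autGroup (FusionSystem.imageAlong θ U)) := by
    by_contra hnp
    exact hnPW ⟨_, imageAlong_le hsurj.1 U, hnp⟩
  have hmem : autImageHom hsurj.1 hUT ⟨β, hβ⟩ ∈ E'.autGroup (FusionSystem.imageAlong θ U) := by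
    rw [autGroup_image_eq_range hsurj hUT hKU]
    exact ⟨_, rfl⟩
  obtain ⟨k, hk⟩ := hp1 ⟨_, hmem⟩
  have hk' : (autImageHom hsurj.1 hUT ⟨β, hβ⟩) ^ p ^ k = 1 := by
    have := congrArg Subtype.val hk
    simpa using this
  rw [← map_pow] at hk'
  refine ⟨k, fun x => ?_⟩
  have h1 := autImageHom_apply hsurj.1 hUT (⟨β, hβ⟩ ^ p ^ k) x
  rw [hk'] at h1
  have h2 : θ ⟨x, hUT x.2⟩ = θ ⟨((β ^ p ^ k) x : U), hUT ((β ^ p ^ k) x).2⟩ := h1
  rw [← hker ⟨(x : Ω)⁻¹ * ((β ^ (p ^ k)) x : U), T.mul_mem (T.inv_mem (hUT x.2)) (hUT ((β ^ p ^ k) x).2)⟩]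
  have e : (⟨(x : Ω)⁻¹ * ((β ^ (p ^ k)) x : U), T.mul_mem (T.inv_mem (hUT x.2)) (hUT ((β ^ p ^ k) x).2)⟩ : T)
      = (⟨x, hUT x.2⟩ : T)⁻¹ * ⟨((β ^ p ^ k) x : U), hUT ((β ^ p ^ k) x).2⟩ := rfl
  rw [e, map_mul, map_inv, h2, inv_mul_cancel]

end Cfsg.Agent.Lib.Helper29
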