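import Cfsg.Agent.Lib.Helper29.GTDefs
import Cfsg.Agent.S5096
import Cfsg.Agent.S5098

/-!
The Glauberman–Thompson criterion for fusion systems: reduction to a subgroup normal in `S`.
-/
set_option autoImplicit false
universe u

namespace Cfsg.Agent.Lib.Helper29

open Cfsg

/-- the statement proved by induction on the order of `S` -/
def GTProp (p n : ℕ) : Prop :=
  ∀ (Ω : Type u) [Group Ω] (S : Subgroup Ω) [Finite S], IsPGroup p S → ∀ F : FusionSystem S,
    F.IsSaturated p → Nat.card S = n → PW p F → PWN p F (centerThompsonAOf S)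

section

variable {Ω : Type u} [Group Ω] {S : Subgroup Ω}

theorem autGroup_le_autStab_self (F : FusionSystem S) (U : Subgroup Ω) :
    F.autGroup U ≤ autStab F U U := by
  intro β hβ
  refine Subgroup.mem_inf.mpr ⟨hβ, ?_⟩
  rw [mem_stabSub]
  intro x
  exact ⟨fun _ => (β x).2, fun _ => x.2⟩

theorem exists_fn_PWN [Finite S] {p : ℕ} (F : FusionSystem S) (h : PW p F) :
    ∃ Q, Q ≠ ⊥ ∧ F.IsFullyNormalized Q ∧ PWN p F Q := by
  obtain ⟨U, hUS, hU⟩ := h
  obtain ⟨Q, ⟨θ, hθ, hr⟩, hfn⟩ := exists_fullyNormalized_conj F hUS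
  have hnp : ¬ IsPGroup p (autStab F Q Q) := by
    apply autStab_transport F hθ hr (Q := U) ?_
      (not_isPGroup_of_le (autGroup_le_autStab_self F U) hU)
    intro x
    constructor
    · intro _
      rw [← hr]
      exact ⟨x, rfl⟩
    · intro _
      exact x.2
  refine ⟨Q, ?_, hfn, Q, le_rfl, le_normalizerIn hfn.1, hnp⟩
  intro hQ
  exact hnp (isPGroup_of_bot hQ _)

theorem autStab_le_normalizerSystem {F : FusionSystem S} {Q : Subgroup Ω}
    {E : FusionSystem (FusionSystem.normalizerIn S Q)} (hE : F.IsNormalizerSystem Q E)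
    {U : Subgroup Ω} (hQU : Q ≤ U) (hUN : U ≤ FusionSystem.normalizerIn S Q) :
    autStab F U Q ≤ E.autGroup U := by
  intro β hβ
  obtain ⟨hβ1, hβ2⟩ := Subgroup.mem_inf.mp hβ
  have hUS : U ≤ S := hUN.trans inf_le_left
  rw [mem_stabSub] at hβ2
  apply Subgroup.subset_closure
  show U.subtype.comp β.toMonoidHom ∈ E.Hom U
  apply mem_normalizerSystem_of_map_eq hE hQU hUN ((mem_autGroup_iff F hUS).1 hβ1)
    (fun x => hUN (β x).2)
  ext y
  constructor
  · rintro ⟨x, hx, rfl⟩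
    exact (hβ2 x).1 hx
  · intro hy
    refine ⟨β⁻¹ ⟨y, hQU hy⟩, ?_, ?_⟩
    · show ((β⁻¹ ⟨y, hQU hy⟩ : U) : Ω) ∈ Q
      rw [hβ2, MulAut.apply_inv_self]
      exact hy
    · show ((β (β⁻¹ ⟨y, hQU hy⟩) : U) : Ω) = y
      rw [MulAut.apply_inv_self]

theorem normalizerSystem_hom_subset {F : FusionSystem S} {Q : Subgroup Ω}
    {E : FusionSystem (FusionSystem.normalizerIn S Q)} (hE : F.IsNormalizerSystem Q E)
    (P : Subgroup Ω) : E.Hom P ⊆ F.Hom P := by
  intro φ hφ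
  rw [hE] at hφ
  exact hφ.1

theorem gt_step2 [Finite S] {p : ℕ} [Fact p.Prime] (hS : IsPGroup p S) (F : FusionSystem S)
    (hF : F.IsSaturated p) (ih : ∀ m < Nat.card S, GTProp.{u} p m)
    {Q : Subgroup Ω} (hQ1 : Q ≠ ⊥) (hQfn : F.IsFullyNormalized Q) (hQw : PWN p F Q)
    (hlt : FusionSystem.normalizerIn S Q ≠ S) :
    ∃ Q', Q' ≠ ⊥ ∧ F.IsFullyNormalized Q' ∧ PWN p F Q' ∧
      Nat.card (FusionSystem.normalizerIn S Q) < Nat.card (FusionSystem.normalizerIn S Q') := by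
  classical
  obtain ⟨R, hR⟩ : ∃ R, R = FusionSystem.normalizerIn S Q := ⟨_, rfl⟩
  have hRS : R ≤ S := hR ▸ inf_le_left
  have hQS : Q ≤ S := hQfn.1
  have hQR : Q ≤ R := hR ▸ le_normalizerIn hQS
  haveI : Finite R := hR ▸ finite_normalizerIn (S := S) Q
  have hRp : IsPGroup p R := hS.to_le hRS
  obtain ⟨E, hE⟩ := Cfsg.Agent.S5096.result F Q hQS
  have hEsat := Cfsg.Agent.S5098.result p hS F hF Q hQfn E hE
  have hRne : R ≠ S := hR ▸ hlt
  have hcard : Nat.card R < Nat.card S :=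
    lt_of_le_of_ne (Subgroup.card_le_of_le hRS)
      (fun heq => hRne (Subgroup.eq_of_le_of_card_ge hRS heq.ge))
  obtain ⟨U, hQU, hUR, hU⟩ := hQw
  have hPWE : PW p E := ⟨U, hUR, not_isPGroup_of_le (autStab_le_normalizerSystem hE hQU hUR) hU⟩
  subst hR
  obtain ⟨U₁, hWU₁, hU₁N, hU₁⟩ :=
    ih _ hcard Ω (FusionSystem.normalizerIn S Q) hRp E hEsat rfl hPWE
  obtain ⟨W₁, hW₁⟩ : ∃ W₁, W₁ = centerThompsonAOf (FusionSystem.normalizerIn S Q) := ⟨_, rfl⟩
  rw [← hW₁] at hWU₁ hU₁N hU₁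
  have hW₁R : W₁ ≤ FusionSystem.normalizerIn S Q := hW₁ ▸ W_le _
  have hW₁S : W₁ ≤ S := hW₁R.trans hRS
  have hU₁R : U₁ ≤ FusionSystem.normalizerIn S Q := hU₁N.trans inf_le_left
  have hU₁' : ¬ IsPGroup p (autStab F U₁ W₁) :=
    not_isPGroup_of_le (autStab_mono E F U₁ W₁ (normalizerSystem_hom_subset hE U₁)) hU₁
  obtain ⟨W₁', ⟨η, hη, hηr⟩, hfn'⟩ := exists_fullyNormalized_conj F hW₁S
  have hsat := (Cfsg.Agent.S5077.result p hS F).1 hF
  obtain ⟨hfc, hfa⟩ := hsat.1 W₁' hfn'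
  have hrec := hsat.2 W₁' hfc
  obtain ⟨α, hα, hαN, hαW, hαmap⟩ := exists_hom_normalizer p hS F W₁' W₁ hfa hrec ⟨η, hη, hηr⟩
  have hNRW : FusionSystem.normalizerIn S (FusionSystem.normalizerIn S Q) ≤
      FusionSystem.normalizerIn S W₁ := by
    intro g hg
    refine ⟨hg.1, ?_⟩
    rw [hW₁]
    exact normalizer_le_normalizer_W _ hg.2
  have hRN : FusionSystem.normalizerIn S Q ≤ FusionSystem.normalizerIn S W₁ :=
    (le_normalizerIn hRS).trans hNRW
  obtain ⟨θ, hθ⟩ : ∃ θ : U₁ →* Ω, θ = α.comp (Subgroup.inclusion (hU₁R.trans hRN)) := ⟨_, rfl⟩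
  have hθF : θ ∈ F.Hom U₁ := hθ ▸ restrict_mem F (hU₁R.trans hRN) hα
  have hθv : ∀ x : U₁, θ x = α ⟨x, (hU₁R.trans hRN) x.2⟩ := fun x => by rw [hθ]; rfl
  have hαinj := F.injective_of_mem hα
  have hQ' : ∀ x : U₁, (x : Ω) ∈ W₁ ↔ θ x ∈ W₁' := by
    intro x
    rw [hθv]
    constructor
    · intro hx
      exact hαW x hx _
    · intro hx
      rw [← hαmap] at hx
      obtain ⟨w, hw, hwx⟩ := hx
      have h1 : w = ⟨x, (hU₁R.trans hRN) x.2⟩ := hαinj hwx
      have hw' : (w : Ω) ∈ W₁ := hw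
      rw [h1] at hw'
      exact hw'
  have hnp := autStab_transport F hθF rfl hQ' hU₁'
  refine ⟨W₁', ?_, hfn', ⟨θ.range, ?_, ?_, hnp⟩, ?_⟩
  · intro hbot
    have hW₁ne : W₁ ≠ ⊥ := by
      rw [hW₁]
      exact W_ne_bot hRp (fun h => hQ1 (le_bot_iff.mp (hQR.trans (le_of_eq h))))
    have hc := card_eq_of_isConj F ⟨η, hη, hηr⟩
    rw [hbot, Subgroup.card_bot] at hc
    exact hW₁ne (Subgroup.card_eq_one.mp hc)
  · intro y hy
    rw [← hαmap] at hy
    obtain ⟨w, hw, rfl⟩ := hy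
    have hw' : (w : Ω) ∈ W₁ := hw
    refine ⟨⟨w, hWU₁ hw'⟩, ?_⟩
    rw [hθv]
  · rintro _ ⟨x, rfl⟩
    rw [hθv]
    exact hαN _
  · have h1 : Nat.card (FusionSystem.normalizerIn S Q) <
        Nat.card (FusionSystem.normalizerIn S (FusionSystem.normalizerIn S Q)) := by
      have h2 := normalizerIn_ne_self hS hRS hRne
      have h3 : FusionSystem.normalizerIn S Q ≤
          FusionSystem.normalizerIn S (FusionSystem.normalizerIn S Q) := le_normalizerIn hRS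
      haveI := finite_normalizerIn (S := S) (FusionSystem.normalizerIn S Q)
      exact lt_of_le_of_ne (Subgroup.card_le_of_le h3)
        (fun heq => h2 (Subgroup.eq_of_le_of_card_ge h3 heq.ge).symm)
    have h4 : Nat.card (FusionSystem.normalizerIn S (FusionSystem.normalizerIn S Q)) ≤
        Nat.card (FusionSystem.normalizerIn S W₁) := by
      haveI := finite_normalizerIn (S := S) W₁
      exact Subgroup.card_le_of_le hNRW
    have h5 := hfn'.2 W₁ (isConj_symm F ⟨η, hη, hηr⟩)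
    omega

theorem exists_normal_PWN [Finite S] {p : ℕ} [Fact p.Prime] (hS : IsPGroup p S) (F : FusionSystem S)
    (hF : F.IsSaturated p) (ih : ∀ m < Nat.card S, GTProp.{u} p m) (h : PW p F) :
    ∃ Q, Q ≠ ⊥ ∧ FusionSystem.normalizerIn S Q = S ∧ Q ≤ S ∧ PWN p F Q := by
  obtain ⟨Q₀, h1, h2, h3⟩ := exists_fn_PWN F h
  have key : ∀ k, ∀ Q, Q ≠ ⊥ → F.IsFullyNormalized Q → PWN p F Q →
      Nat.card S - Nat.card (FusionSystem.normalizerIn S Q) = k →
      ∃ Q', Q' ≠ ⊥ ∧ FusionSystem.normalizerIn S Q' = S ∧ Q' ≤ S ∧ PWN p F Q' := by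
    intro k
    induction k using Nat.strong_induction_on with
    | _ k ihk =>
      intro Q hQ1 hQfn hQw hk
      by_cases hN : FusionSystem.normalizerIn S Q = S
      · exact ⟨Q, hQ1, hN, hQfn.1, hQw⟩
      · obtain ⟨Q', hQ'1, hQ'fn, hQ'w, hlt⟩ := gt_step2 hS F hF ih hQ1 hQfn hQw hN
        have hle : Nat.card (FusionSystem.normalizerIn S Q') ≤ Nat.card S :=
          Subgroup.card_le_of_le inf_le_left
        exact ihk (Nat.card S - Nat.card (FusionSystem.normalizerIn S Q')) (by omega) Q' hQ'1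
          hQ'fn hQ'w rfl
  exact key _ Q₀ h1 h2 h3 rfl

end

end Cfsg.Agent.Lib.Helper29
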