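import Cfsg.Agent.Lib.Helper29.FusionRS

set_option autoImplicit false
open Cfsg

namespace Cfsg.Agent.Lib.Helper29

variable {Ω : Type*} [Group Ω] {S : Subgroup Ω}

/-- the maps of `F` that lie in `E` whenever their source is larger than `R` or `F`-conjugate to `R` -/
def filtSys [Finite S] (F E : FusionSystem S) (R : Subgroup Ω) : FusionSystem S where
  Hom P := {φ | φ ∈ F.Hom P ∧ ((Nat.card R < Nat.card P ∨ F.IsConj R P) → φ ∈ E.Hom P)}
  le_of_mem h := F.le_of_mem h.1
  injective_of_mem h := F.injective_of_mem h.1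
  conj_mem hP hg := ⟨F.conj_mem hP hg, fun _ => E.conj_mem hP hg⟩
  comp_mem := by
    intro P Q φ ψ hφ hψ h
    refine ⟨F.comp_mem hφ.1 hψ.1 h, fun hc => ?_⟩
    have hφE := hφ.2 hc
    have hQS : Q ≤ S := (F.le_of_mem hψ.1).1
    have hfinQ : Finite Q := finite_of_le hQS
    have hinj : Function.Injective (φ.codRestrict Q h) := by
      intro a b hab
      apply F.injective_of_mem hφ.1
      exact congrArg Subtype.val hab
    have hle : Nat.card P ≤ Nat.card Q := Nat.card_le_card_of_injective _ hinj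
    have hcQ : Nat.card R < Nat.card Q ∨ F.IsConj R Q := by
      rcases hc with hc | hc
      · exact Or.inl (lt_of_lt_of_le hc hle)
      · rcases lt_or_eq_of_le hle with hlt | heq
        · left
          have hfinS : Finite S := inferInstance
          rw [card_eq_of_isConj F hc]
          exact hlt
        · right
          have hfinP : Finite P := finite_of_le (F.le_of_mem hφ.1).1
          have hbij : Function.Bijective (φ.codRestrict Q h) :=
            (Nat.bijective_iff_injective_and_card _).2 ⟨hinj, heq⟩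
          refine isConj_trans F hc ⟨φ, hφ.1, ?_⟩
          ext y
          constructor
          · rintro ⟨x, rfl⟩
            exact h x
          · intro hy
            obtain ⟨x, hx⟩ := hbij.2 ⟨y, hy⟩
            exact ⟨x, congrArg Subtype.val hx⟩
    exact E.comp_mem hφE (hψ.2 hcQ) h
  inv_mem := by
    intro P φ hφ
    obtain ⟨θ, hθ, hθe⟩ := F.inv_mem hφ.1
    refine ⟨θ, ⟨hθ, fun hc => ?_⟩, hθe⟩
    have hPS : P ≤ S := (F.le_of_mem hφ.1).1
    have hconj : F.IsConj P φ.range := ⟨φ, hφ.1, rfl⟩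
    have hcP : Nat.card R < Nat.card P ∨ F.IsConj R P := by
      rcases hc with hc | hc
      · left
        rw [card_eq_of_isConj F hconj]
        exact hc
      · right
        exact isConj_trans F hc (isConj_symm F hconj)
    have hφE := hφ.2 hcP
    obtain ⟨θ', hθ', hθ'e⟩ := E.inv_mem hφE
    have : θ = θ' := by
      ext y
      obtain ⟨x, hx⟩ := y.2
      have e : y = ⟨φ x, ⟨x, rfl⟩⟩ := Subtype.ext hx.symm
      rw [e, hθe, hθ'e]
    rw [this]
    exact hθ'

theorem autGroup_le_of_step [Finite S] (F E : FusionSystem S) {𝒬 : Set (Subgroup Ω)}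
    (hcl : ∀ R ∈ 𝒬, ∀ R' : Subgroup Ω, F.IsConj R R' → R' ∈ 𝒬)
    (hg : ∀ E' : FusionSystem S, (∀ R ∈ 𝒬, F.autGroup R ≤ E'.autGroup R) → F ≤ E')
    {R : Subgroup Ω} (hRS : R ≤ S) (hR : R ∉ 𝒬)
    (IH : ∀ R' ∈ 𝒬, R' ≤ S → Nat.card R < Nat.card R' → F.autGroup R' ≤ E.autGroup R') :
    F.autGroup R ≤ E.autGroup R := by
  have hFE' : F ≤ filtSys F E R := by
    apply hg
    intro R' hR'
    unfold FusionSystem.autGroup
    apply Subgroup.closure_mono
    intro α hα
    have hα' : R'.subtype.comp α.toMonoidHom ∈ F.Hom R' := hα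
    have hR'S : R' ≤ S := (F.le_of_mem hα').1
    refine ⟨hα', fun hc => ?_⟩
    rcases hc with hc | hc
    · have h1 := IH R' hR' hR'S hc (Subgroup.subset_closure hα)
      exact (mem_autGroup_iff E hR'S).1 h1
    · exact absurd (hcl R' hR' R (isConj_symm F hc)) hR
  unfold FusionSystem.autGroup
  apply Subgroup.closure_mono
  intro α hα
  have hα' : R.subtype.comp α.toMonoidHom ∈ F.Hom R := hα
  exact (hFE' R hα').2 (Or.inr (isConj_refl F hRS))

theorem generating_inter [Finite S] (F : FusionSystem S) (𝒬₁ 𝒬₂ : Set (Subgroup Ω))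
    (h₁ : ∀ R ∈ 𝒬₁, ∀ R' : Subgroup Ω, F.IsConj R R' → R' ∈ 𝒬₁)
    (h₂ : ∀ R ∈ 𝒬₂, ∀ R' : Subgroup Ω, F.IsConj R R' → R' ∈ 𝒬₂)
    (hg₁ : ∀ E : FusionSystem S, (∀ R ∈ 𝒬₁, F.autGroup R ≤ E.autGroup R) → F ≤ E)
    (hg₂ : ∀ E : FusionSystem S, (∀ R ∈ 𝒬₂, F.autGroup R ≤ E.autGroup R) → F ≤ E)
    (E : FusionSystem S) (hE : ∀ R ∈ 𝒬₁ ∩ 𝒬₂, F.autGroup R ≤ E.autGroup R) : F ≤ E := by
  have key : ∀ n : ℕ, ∀ R : Subgroup Ω, R ≤ S → (R ∈ 𝒬₁ ∨ R ∈ 𝒬₂) → Nat.card S - Nat.card R = n →
      F.autGroup R ≤ E.autGroup R := by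
    intro n
    induction n using Nat.strong_induction_on with
    | _ n ih =>
      intro R hRS hR hn
      have hfinS : Finite S := inferInstance
      have IH : ∀ R' : Subgroup Ω, (R' ∈ 𝒬₁ ∨ R' ∈ 𝒬₂) → R' ≤ S → Nat.card R < Nat.card R' →
          F.autGroup R' ≤ E.autGroup R' := by
        intro R' hR' hR'S hlt
        have hle : Nat.card R' ≤ Nat.card S := Subgroup.card_le_of_le hR'S
        exact ih (Nat.card S - Nat.card R') (by omega) R' hR'S hR' rfl
      by_cases hR₁ : R ∈ 𝒬₁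
      · by_cases hR₂ : R ∈ 𝒬₂
        · exact hE R ⟨hR₁, hR₂⟩
        · exact autGroup_le_of_step F E h₂ hg₂ hRS hR₂ (fun R' hR' => IH R' (Or.inr hR'))
      · exact autGroup_le_of_step F E h₁ hg₁ hRS hR₁ (fun R' hR' => IH R' (Or.inl hR'))
  apply hg₁
  intro R hR
  unfold FusionSystem.autGroup
  rw [Subgroup.closure_le]
  intro α hα
  have hα' : R.subtype.comp α.toMonoidHom ∈ F.Hom R := hα
  have hRS : R ≤ S := (F.le_of_mem hα').1
  exact key _ R hRS (Or.inl hR) rfl (Subgroup.subset_closure hα)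

end Cfsg.Agent.Lib.Helper29
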