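import Cfsg.Agent.Lib.Helper29.ResidualLimit
import Cfsg.Agent.Lib.Helper29.FusionSubgroupSys
import Cfsg.Agent.Lib.Helper29.HyperfocalPPower
import Cfsg.Agent.S5093

/-!
The `p`-residual subsystem of the fusion system of a finite group `G` is the fusion system of `O^p(G)`.
-/

set_option autoImplicit false
open Cfsg

namespace Cfsg.Agent.Lib.Helper29

variable {G : Type*} [Group G]

theorem aut_pow_conj {P : Subgroup G} (α : MulAut P) (x : G)
    (h : ∀ y : P, ((α y : P) : G) = x * y * x⁻¹) (n : ℕ) :
    ∀ y : P, (((α ^ n) y : P) : G) = x ^ n * y * (x ^ n)⁻¹ := by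
  induction n with
  | zero =>
    intro y
    simp
  | succ n ih =>
    intro y
    rw [pow_succ', MulAut.mul_apply, h, ih, pow_succ']
    group

/-- `F_{S ∩ O^p(G)}(O^p(G))` has `p`-power index in `F_S(G)` -/
theorem subgroupSys_pResidual_pPowerIndex [Finite G] (p : ℕ) [Fact p.Prime] (S : Sylow p G) :
    (fusionSystemOfSubgroup (pResidual p G) ((S : Subgroup G) ⊓ pResidual p G) inf_le_right).HasPPowerIndexIn
      (groupFusionSystem (S : Subgroup G)) p := by
  refine ⟨subgroupSys_isSubsystemOf (S : Subgroup G) (pResidual p G),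
    (Cfsg.Agent.S5093.result p S).le, fun P hPT => ?_⟩
  have hPS : P ≤ (S : Subgroup G) := hPT.trans inf_le_left
  have hfinP : Finite P := inferInstance
  rintro _ ⟨a, ha, rfl⟩
  unfold pResidual at ha
  induction ha using Subgroup.closure_induction with
  | mem g hg =>
    have hg' : Nat.Coprime (orderOf g) p := hg
    have hgF := (mem_autGroup_iff (groupFusionSystem (S : Subgroup G)) hPS).1 g.2
    obtain ⟨-, -, x, hx⟩ := hgF
    obtain ⟨k, hk⟩ := exists_pow_mem_pResidual p x
    have hord : orderOf (g : MulAut P) = orderOf g := Subgroup.orderOf_coe g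
    have hcop : Nat.Coprime (p ^ k) (orderOf (g : MulAut P)) := by
      rw [hord]
      exact (Nat.Coprime.pow_right k hg').symm
    obtain ⟨j, hj⟩ := exists_pow_eq_self_of_coprime hcop
    rw [mem_autGroup_iff _ hPT]
    refine ⟨hPT, fun y => hPT ((g : MulAut P) y).2, (x ^ (p ^ k)) ^ j,
      Subgroup.pow_mem _ hk j, fun y => ?_⟩
    have h1 := aut_pow_conj (g : MulAut P) x hx (p ^ k)
    have h2 := aut_pow_conj ((g : MulAut P) ^ (p ^ k)) (x ^ (p ^ k)) h1 j
    rw [hj] at h2
    exact h2 y
  | one => exact Subgroup.one_mem _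
  | mul a b _ _ iha ihb =>
    have e : ((groupFusionSystem (S : Subgroup G)).autGroup P).subtype (a * b) =
      ((groupFusionSystem (S : Subgroup G)).autGroup P).subtype a *
        ((groupFusionSystem (S : Subgroup G)).autGroup P).subtype b := rfl
    rw [e]
    exact Subgroup.mul_mem _ iha ihb
  | inv a _ iha =>
    have e : ((groupFusionSystem (S : Subgroup G)).autGroup P).subtype a⁻¹ =
      (((groupFusionSystem (S : Subgroup G)).autGroup P).subtype a)⁻¹ := rfl
    rw [e]
    exact Subgroup.inv_mem _ iha

theorem group_pResidual_unique_aux [Finite G] (p : ℕ) [Fact p.Prime] (S : Sylow p G) (H : Subgroup G)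
    (hH : H = (S : Subgroup G) ⊓ pResidual p G) (E : FusionSystem H) (hEs : E.IsSaturated p)
    (hEi : E.HasPPowerIndexIn (groupFusionSystem (S : Subgroup G)) p) :
    ∀ P : Subgroup G, E.Hom P =
      (fusionSystemOfSubgroup (pResidual p G) ((S : Subgroup G) ⊓ pResidual p G) inf_le_right).Hom P := by
  subst hH
  haveI : (pResidual p G).Normal := pResidual_normal' p
  have hsat := fusionSystemOfSubgroup_saturated p (pResidual p G) ((S : Subgroup G) ⊓ pResidual p G)
    inf_le_right (isSylowSub_inf_normal S (pResidual p G))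
  have := pPowerIndex_unique p S.isPGroup' (groupFusionSystem (S : Subgroup G)) E _ hEs hEi hsat
    (subgroupSys_pResidual_pPowerIndex p S)
  rw [this]
  intro P
  rfl

end Cfsg.Agent.Lib.Helper29
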