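import Mathlib
import Cfsg.Prelude.Def_Transfer
import Cfsg.Agent.Lib.Helper2.PGroupFrattini
import Cfsg.Agent.Lib.Helper3.BurnsideFrattini
import Cfsg.Agent.Lib.Helper11.FrobeniusLocal
import Cfsg.Agent.Lib.Helper13.NPC
import Cfsg.Agent.Lib.Helper24.OmegaAll
import Cfsg.Agent.Lib.Helper24.HyperfocalGroup
import Cfsg.Agent.Lib.Helper24.Tate
import Cfsg.Agent.Lib.Helper24.NilMax

/-!
p-nilpotency from strongly closed subgroups of a fixed order (Asaad): via Tate's theorem and the
hyperfocal subgroup theorem it suffices that `[Q, h] ≤ Φ(P)` for `Q ≤ P`, `h ∈ N_G(Q)` a `p'`-element.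
-/

set_option autoImplicit false

namespace Cfsg.Agent.Lib.Helper29

open Subgroup

section HSub

variable {G : Type*} [Group G]

/-- A `p'`-element whose order is prime to `p - 1` acts trivially on a quotient of order `p`. -/
theorem conj_trivial_on_index_prime {p : ℕ} [hp : Fact p.Prime]
    (Q₀ Q : Subgroup G) (hle : Q₀ ≤ Q) (hnorm : Q ≤ normalizer (Q₀ : Set G))
    (hidx : Q₀.relIndex Q = p) (h : G) (hfin : 0 < orderOf h)
    (hQ : ∀ x ∈ Q, h * x * h⁻¹ ∈ Q) (hQ₀ : ∀ x ∈ Q₀, h * x * h⁻¹ ∈ Q₀)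
    (hcop : (orderOf h).Coprime (p - 1)) :
    ∀ x ∈ Q, x⁻¹ * (h * x * h⁻¹) ∈ Q₀ := by
  haveI hN : (Q₀.subgroupOf Q).Normal := (normal_subgroupOf_iff_le_normalizer hle).mpr hnorm
  let f : Q →* Q :=
    { toFun := fun x => ⟨h * x * h⁻¹, hQ x x.2⟩
      map_one' := by apply Subtype.ext; simp
      map_mul' := fun a b => by apply Subtype.ext; simp [mul_assoc] }
  have hfN : Q₀.subgroupOf Q ≤ (Q₀.subgroupOf Q).comap f := by
    intro x hx
    rw [mem_comap, mem_subgroupOf]
    exact hQ₀ x (mem_subgroupOf.mp hx)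
  let F := QuotientGroup.map (Q₀.subgroupOf Q) (Q₀.subgroupOf Q) f hfN
  have hcard : Nat.card (Q ⧸ Q₀.subgroupOf Q) = p := by
    rw [← Subgroup.index_eq_card]; exact hidx
  haveI : IsCyclic (Q ⧸ Q₀.subgroupOf Q) := isCyclic_of_prime_card hcard
  obtain ⟨m, hm⟩ := MonoidHom.map_cyclic F
  have hfk : ∀ (k : ℕ) (x : Q), ((f^[k] x : Q) : G) = h ^ k * x * (h ^ k)⁻¹ := by
    intro k
    induction k with
    | zero => intro x; simp
    | succ k ih =>
      intro x
      rw [Function.iterate_succ_apply']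
      show h * ((f^[k] x : Q) : G) * h⁻¹ = _
      rw [ih, pow_succ']; group
  have hFk : ∀ (k : ℕ) (x : Q), F^[k] (QuotientGroup.mk x) = QuotientGroup.mk (f^[k] x) := by
    intro k
    induction k with
    | zero => intro x; rfl
    | succ k ih =>
      intro x
      rw [Function.iterate_succ_apply', ih, Function.iterate_succ_apply']; rfl
  have hFm : ∀ (k : ℕ) (c : Q ⧸ Q₀.subgroupOf Q), F^[k] c = c ^ (m ^ k) := by
    intro k
    induction k with
    | zero => intro c; simp
    | succ k ih =>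
      intro c
      rw [Function.iterate_succ_apply', ih, hm, ← zpow_mul, pow_succ]
  have hfix : ∀ c : Q ⧸ Q₀.subgroupOf Q, c ^ (m ^ orderOf h) = c := by
    intro c
    induction c using QuotientGroup.induction_on with
    | H x =>
      rw [← hFm, hFk]
      congr 1
      apply Subtype.ext
      rw [hfk, pow_orderOf_eq_one]; simp
  have hcm : ∀ c : Q ⧸ Q₀.subgroupOf Q, c ^ m = c := by
    intro c
    by_cases hc : c = 1
    · rw [hc, one_zpow]
    have hoc : orderOf c = p := by
      have h0 := orderOf_dvd_natCard c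
      rw [hcard] at h0
      rcases (Nat.dvd_prime hp.out).mp h0 with h1 | h1
      · exact absurd (orderOf_eq_one_iff.mp h1) hc
      · exact h1
    have h1 : c ^ (m ^ orderOf h - 1) = 1 := by
      rw [zpow_sub, zpow_one, hfix c, mul_inv_cancel]
    have h2 : (p : ℤ) ∣ m ^ orderOf h - 1 := by
      rw [← hoc]; exact orderOf_dvd_iff_zpow_eq_one.mpr h1
    have h3 : ((m : ZMod p)) ^ orderOf h = 1 := by
      have h0 := (ZMod.intCast_zmod_eq_zero_iff_dvd _ p).mpr h2
      push_cast at h0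
      exact sub_eq_zero.mp h0
    have h4 : (m : ZMod p) = 1 := by
      have hne : (m : ZMod p) ≠ 0 := by
        intro h0
        rw [h0, zero_pow hfin.ne'] at h3
        exact zero_ne_one h3
      have h5 : (m : ZMod p) ^ (p - 1) = 1 := ZMod.pow_card_sub_one_eq_one hne
      have h6 := pow_gcd_eq_one.mpr ⟨h3, h5⟩
      rw [Nat.Coprime.gcd_eq_one hcop, pow_one] at h6
      exact h6
    have h7 : (p : ℤ) ∣ m - 1 := by
      have h0 : ((m - 1 : ℤ) : ZMod p) = 0 := by push_cast; rw [h4]; ring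
      exact (ZMod.intCast_zmod_eq_zero_iff_dvd _ p).mp h0
    have h8 : c ^ (m - 1) = 1 := by
      rw [← hoc] at h7; exact orderOf_dvd_iff_zpow_eq_one.mp h7
    calc c ^ m = c ^ (m - 1 + 1) := by ring_nf
      _ = c := by rw [zpow_add, h8, one_mul, zpow_one]
  intro x hx
  have h9 := hm (QuotientGroup.mk ⟨x, hx⟩)
  rw [hcm] at h9
  have h10 : (QuotientGroup.mk (f ⟨x, hx⟩) : Q ⧸ Q₀.subgroupOf Q) = QuotientGroup.mk ⟨x, hx⟩ := h9
  have h11 := QuotientGroup.eq.mp h10.symm
  exact mem_subgroupOf.mp h11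

/-- A `p'`-element of order prime to `p - 1` normalizing a cyclic `p`-group centralizes it. -/
theorem centralizes_cyclic_pgroup [Finite G] {p : ℕ} [hp : Fact p.Prime]
    (E : Subgroup G) (hE : IsPGroup p E) (hcyc : IsCyclic E) (h : G)
    (hh : h ∈ normalizer (E : Set G)) (hcop : (orderOf h).Coprime p)
    (hcop' : (orderOf h).Coprime (p - 1)) : ∀ x ∈ E, h * x * h⁻¹ = x := by
  set α := E.normalizerMonoidHom ⟨h, hh⟩ with hα
  have h1 : orderOf α ∣ orderOf h := by
    have h0 : α ^ orderOf h = 1 := by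
      rw [hα, ← map_pow]
      have : (⟨h, hh⟩ : normalizer (E : Set G)) ^ orderOf h = 1 := by
        apply Subtype.ext; simp [pow_orderOf_eq_one]
      rw [this, map_one]
    exact orderOf_dvd_of_pow_eq_one h0
  have h2 : orderOf α ∣ Nat.card (MulAut E) := orderOf_dvd_natCard α
  rw [IsCyclic.card_mulAut] at h2
  obtain ⟨k, hk⟩ := IsPGroup.iff_card.mp hE
  rw [hk] at h2
  have h3 : orderOf α = 1 := by
    rcases k with _ | k
    · simpa using h2
    · rw [Nat.totient_prime_pow_succ hp.out] at h2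
      have hc : (orderOf α).Coprime (p ^ k * (p - 1)) :=
        Nat.Coprime.mul_right ((hcop.coprime_dvd_left h1).pow_right k) (hcop'.coprime_dvd_left h1)
      exact Nat.Coprime.eq_one_of_dvd hc h2
  have h4 : α = 1 := orderOf_eq_one_iff.mp h3
  intro x hx
  have h5 := congrArg (fun β : MulAut E => ((β ⟨x, hx⟩ : E) : G)) h4
  simpa [hα] using h5

/-- An `H`-subgroup contained in a `p`-group `P` is normal in `P`. -/
theorem le_normalizer_of_hsub [Finite G] {p : ℕ} [Fact p.Prime] (P E : Subgroup G)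
    (hP : IsPGroup p P) (hEP : E ≤ P)
    (hgood : ∀ g : G, E.map (MulAut.conj g).toMonoidHom ⊓ normalizer (E : Set G) ≤ E) :
    P ≤ normalizer (E : Set G) := by
  by_contra hnot
  set N := P ⊓ normalizer (E : Set G) with hN
  have hlt : N < P := by
    refine lt_of_le_of_ne inf_le_left (fun h => hnot ?_)
    rw [← h]; exact inf_le_right
  have h1 := Cfsg.Agent.Lib.Helper11.lt_inf_normalizer_of_lt P N hP hlt
  obtain ⟨x, hx, hxN⟩ := SetLike.exists_of_lt h1
  apply hxN
  rw [hN]
  refine mem_inf.mpr ⟨(mem_inf.mp hx).1, ?_⟩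
  apply Cfsg.Agent.Lib.Helper24.mem_normalizer_of_conj_mem E
  intro y hy
  apply hgood x
  have hyN : y ∈ N := mem_inf.mpr ⟨hEP hy, le_normalizer hy⟩
  have h2 := (mem_normalizer_iff.mp (mem_inf.mp hx).2 y).mp hyN
  exact mem_inf.mpr ⟨⟨y, hy, rfl⟩, (mem_inf.mp h2).2⟩

/-- Between subgroups of prescribed `p`-power order inside a `p`-group. -/
theorem exists_between_card [Finite G] {p : ℕ} [Fact p.Prime] (Q Z : Subgroup G) (hZQ : Z ≤ Q)
    {j m : ℕ} (hZ : Nat.card Z = p ^ j) (hjm : j ≤ m) (hQ : p ^ m ∣ Nat.card Q) :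
    ∃ E : Subgroup G, Z ≤ E ∧ E ≤ Q ∧ Nat.card E = p ^ m := by
  have hZ' : Nat.card (Z.subgroupOf Q) = p ^ j := by
    rw [← hZ]; exact Nat.card_congr (Subgroup.subgroupOfEquivOfLe hZQ).toEquiv
  obtain ⟨K, hK, hZK⟩ := Sylow.exists_subgroup_card_pow_prime_le p hQ (Z.subgroupOf Q) hZ' hjm
  refine ⟨K.map Q.subtype, ?_, ?_, ?_⟩
  · intro z hz
    exact ⟨⟨z, hZQ hz⟩, hZK (mem_subgroupOf.mpr hz), rfl⟩
  · rintro _ ⟨y, -, rfl⟩; exact y.2
  · rw [Subgroup.card_map_of_injective Q.subtype_injective]; exact hK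

end HSub

section HMain

variable {G : Type*} [Group G]

/-- `E` is strongly closed in `P` with respect to `G` (element form). -/
def SCl (P E : Subgroup G) : Prop :=
  ∀ g y : G, y ∈ E → g * y * g⁻¹ ∈ P → g * y * g⁻¹ ∈ E

/-- The hypotheses on the `p`-subgroup `P`: subgroups of order `p ^ d` (and `4` if `p ^ d = 2`) are
strongly closed, and orders of elements are prime to `p - 1`. -/
structure HSData (p : ℕ) (P : Subgroup G) (d : ℕ) : Prop where
  hd : 1 ≤ d
  sc : ∀ E : Subgroup G, E ≤ P → (Nat.card E = p ^ d ∨ (p ^ d = 2 ∧ Nat.card E = 4)) → SCl P E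
  cop : ∀ h : G, (orderOf h).Coprime (p - 1)

theorem orderOf_normalizerMonoidHom_dvd (E : Subgroup G) (h : G) (hh : h ∈ normalizer (E : Set G)) :
    orderOf (E.normalizerMonoidHom ⟨h, hh⟩) ∣ orderOf h := by
  have h0 : (E.normalizerMonoidHom ⟨h, hh⟩) ^ orderOf h = 1 := by
    rw [← map_pow]
    have : (⟨h, hh⟩ : normalizer (E : Set G)) ^ orderOf h = 1 := by
      apply Subtype.ext; simp [pow_orderOf_eq_one]
    rw [this, map_one]
  exact orderOf_dvd_of_pow_eq_one h0

/-- Lemma A: a `p'`-element normalizing a subgroup of `P` of order `> p ^ d` centralizes it. -/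
theorem centralizes_of_card_gt [Finite G] {p : ℕ} [hp : Fact p.Prime] {P : Subgroup G}
    (hP : IsPGroup p P) {d : ℕ} (D : HSData p P d)
    (Q : Subgroup G) (hQP : Q ≤ P) (hQ : p ^ (d + 1) ∣ Nat.card Q) (h : G)
    (hh : h ∈ normalizer (Q : Set G)) (hcop : (orderOf h).Coprime p) :
    ∀ x ∈ Q, h * x * h⁻¹ = x := by
  have hQp : IsPGroup p Q := hP.to_le hQP
  have hnorm : ∀ x ∈ Q, h * x * h⁻¹ ∈ Q := fun x hx => (mem_normalizer_iff.mp hh x).mp hx
  have hinv : ∀ E : Subgroup G, E ≤ Q → (Nat.card E = p ^ d ∨ (p ^ d = 2 ∧ Nat.card E = 4)) →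
      h ∈ normalizer (E : Set G) := by
    intro E hEQ hE
    apply Cfsg.Agent.Lib.Helper24.mem_normalizer_of_conj_mem E
    intro y hy
    exact D.sc E (hEQ.trans hQP) hE h y hy (hQP (hnorm y (hEQ hy)))
  apply Cfsg.Agent.Lib.Helper24.coprime_centralizes_of_omega hcop Q hQp hnorm
  intro x hxQ hsmall
  have hxp : IsPGroup p (zpowers x) := hQp.to_le (zpowers_le.mpr hxQ)
  obtain ⟨j, hj⟩ := IsPGroup.iff_card.mp hxp
  by_cases hjd : j ≤ d
  · obtain ⟨E, hZE, hEQ, hE⟩ := exists_between_card Q (zpowers x) (zpowers_le.mpr hxQ) hj hjd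
      (dvd_trans (pow_dvd_pow p (Nat.le_succ d)) hQ)
    have hxE : x ∈ E := hZE (mem_zpowers x)
    have hhE := hinv E hEQ (Or.inl hE)
    by_cases hcyc : IsCyclic E
    · exact centralizes_cyclic_pgroup E (hQp.to_le hEQ) hcyc h hhE hcop (D.cop h) x hxE
    · obtain ⟨E', hEE', hE'Q, hE'⟩ := exists_between_card Q E hEQ hE (Nat.le_succ d) hQ
      have hE'p : IsPGroup p E' := hQp.to_le hE'Q
      have hncyc : ¬ IsCyclic E' := fun hc => hcyc (by
        haveI := hc
        exact isCyclic_of_injective (Subgroup.inclusion hEE') (Subgroup.inclusion_injective hEE'))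
      have hE'inv : ∀ y ∈ E', h * y * h⁻¹ ∈ E' := by
        intro y hy
        have hyp : IsPGroup p (zpowers y) := hE'p.to_le (zpowers_le.mpr hy)
        obtain ⟨i, hi⟩ := IsPGroup.iff_card.mp hyp
        have hid : i ≤ d := by
          by_contra hlt
          push_neg at hlt
          have heq : zpowers y = E' := by
            apply Subgroup.eq_of_le_of_card_ge (zpowers_le.mpr hy)
            rw [hi, hE']; exact Nat.pow_le_pow_right hp.out.pos hlt
          apply hncyc
          rw [← heq]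
          infer_instance
        obtain ⟨F, hZF, hFE', hF⟩ := exists_between_card E' (zpowers y) (zpowers_le.mpr hy) hi hid
          (by rw [hE']; exact pow_dvd_pow p (Nat.le_succ d))
        have hhF := hinv F (hFE'.trans hE'Q) (Or.inl hF)
        exact hFE' ((mem_normalizer_iff.mp hhF y).mp (hZF (mem_zpowers y)))
      have hhE' : h ∈ normalizer (E' : Set G) :=
        Cfsg.Agent.Lib.Helper24.mem_normalizer_of_conj_mem E' hE'inv
      set α := E'.normalizerMonoidHom ⟨h, hhE'⟩ with hα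
      have htriv : α ∈ Cfsg.Agent.Lib.Helper3.trivOnFrattiniQuot E' := by
        rw [Cfsg.Agent.Lib.Helper3.mem_trivOnFrattiniQuot]
        intro y
        simp only [frattini, Order.radical, Subgroup.mem_iInf, Set.mem_setOf_eq]
        intro K hK
        have hKidx : K.index = p := Cfsg.Agent.Lib.Helper2.index_of_isCoatom_of_isPGroup hE'p hK
        haveI hKn : K.Normal := Cfsg.Agent.Lib.Helper2.normal_of_isCoatom_of_isPGroup hE'p hK
        set F := K.map E'.subtype with hFdef
        have hFK : F.subgroupOf E' = K :=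
          Subgroup.comap_map_eq_self_of_injective E'.subtype_injective K
        have hFE' : F ≤ E' := by rintro _ ⟨z, -, rfl⟩; exact z.2
        have hFcard : Nat.card F = p ^ d := by
          rw [hFdef, Subgroup.card_map_of_injective E'.subtype_injective]
          have h1 := Subgroup.card_mul_index K
          rw [hKidx, hE', pow_succ] at h1
          exact Nat.eq_of_mul_eq_mul_right hp.out.pos h1
        have hhF := hinv F (hFE'.trans hE'Q) (Or.inl hFcard)
        have hnormF : E' ≤ normalizer (F : Set G) := by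
          rw [← normal_subgroupOf_iff_le_normalizer hFE', hFK]; exact hKn
        have hidx : F.relIndex E' = p := by
          show (F.subgroupOf E').index = p
          rw [hFK]; exact hKidx
        have h1 := conj_trivial_on_index_prime F E' hFE' hnormF hidx h (orderOf_pos h) hE'inv
          (fun z hz => (mem_normalizer_iff.mp hhF z).mp hz) (D.cop h) (y : G)⁻¹ (E'.inv_mem y.2)
        have h2 : (h * (y : G) * h⁻¹) * (y : G)⁻¹ ∈ F := by
          have := F.inv_mem h1
          have e : ((y : G)⁻¹⁻¹ * (h * (y : G)⁻¹ * h⁻¹))⁻¹ = (h * (y : G) * h⁻¹) * (y : G)⁻¹ := by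
            group
          rwa [e] at this
        obtain ⟨z, hz, hzeq⟩ := h2
        have : z = α y * y⁻¹ := by
          apply Subtype.ext
          have hzeq' : (z : G) = (h * (y : G) * h⁻¹) * (y : G)⁻¹ := hzeq
          rw [hzeq']
          simp [hα]
        rw [← this]; exact hz
      obtain ⟨a, ha⟩ := Cfsg.Agent.Lib.Helper3.exists_pow_eq_one_of_trivOnFrattiniQuot hE'p α htriv
      have h1 : orderOf α ∣ orderOf h := orderOf_normalizerMonoidHom_dvd E' h hhE'
      have h2 : orderOf α ∣ p ^ a := orderOf_dvd_of_pow_eq_one ha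
      have h3 : orderOf α = 1 :=
        Nat.Coprime.eq_one_of_dvd ((hcop.coprime_dvd_left h1).pow_right a) h2
      have h4 : α = 1 := orderOf_eq_one_iff.mp h3
      have h5 := congrArg (fun β : MulAut E' => ((β ⟨x, hEE' hxE⟩ : E') : G)) h4
      simpa [hα] using h5
  · push_neg at hjd
    have hox : orderOf x = p ^ j := by rw [← hj, Nat.card_zpowers]
    have hd1 := D.hd
    rcases hsmall with hxp1 | ⟨hp2, hx4⟩
    · exfalso
      have h1 : p ^ j ∣ p := by rw [← hox]; exact orderOf_dvd_of_pow_eq_one hxp1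
      have h2 : j ≤ 1 := by
        have := (Nat.pow_dvd_pow_iff_le_right hp.out.one_lt).mp (by simpa using h1 : p ^ j ∣ p ^ 1)
        exact this
      omega
    · have h1 : p ^ j ∣ p ^ 2 := by
        rw [← hox, hp2]; exact orderOf_dvd_of_pow_eq_one (by simpa using hx4)
      have h2 : j ≤ 2 := (Nat.pow_dvd_pow_iff_le_right hp.out.one_lt).mp h1
      have hj2 : j = 2 := by omega
      have hd1' : d = 1 := by omega
      have hZ4 : Nat.card (zpowers x) = 4 := by rw [hj, hj2, hp2]; norm_num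
      have hpd : p ^ d = 2 := by rw [hd1', hp2]; norm_num
      have hhZ := hinv (zpowers x) (zpowers_le.mpr hxQ) (Or.inr ⟨hpd, hZ4⟩)
      exact centralizes_cyclic_pgroup (zpowers x) hxp inferInstance h hhZ hcop (D.cop h) x
        (mem_zpowers x)

end HMain

section HFinal

variable {G : Type*} [Group G]

/-- Case A: for a small `h`-invariant subgroup `Q ≤ P` the commutators `[x, h]` lie in every
maximal subgroup of `P`. -/
theorem comm_mem_coatom_of_card_le [Finite G] {p : ℕ} [hp : Fact p.Prime] {P : Subgroup G}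
    (hP : IsPGroup p P) {d n : ℕ} (D : HSData p P d) (hPn : Nat.card P = p ^ n) (hdn : d < n)
    (Q : Subgroup G) (hQP : Q ≤ P) (hQ : Nat.card Q ∣ p ^ (d + 1)) (h : G)
    (hh : h ∈ normalizer (Q : Set G)) (K : Subgroup P) (hK : IsCoatom K) :
    ∀ x ∈ Q, x⁻¹ * (h * x * h⁻¹) ∈ K.map P.subtype := by
  have hnorm : ∀ x ∈ Q, h * x * h⁻¹ ∈ Q := fun x hx => (mem_normalizer_iff.mp hh x).mp hx
  have hKidx : K.index = p := Cfsg.Agent.Lib.Helper2.index_of_isCoatom_of_isPGroup hP hK
  haveI hKn : K.Normal := Cfsg.Agent.Lib.Helper2.normal_of_isCoatom_of_isPGroup hP hK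
  set M := K.map P.subtype with hMdef
  have hMK : M.subgroupOf P = K := Subgroup.comap_map_eq_self_of_injective P.subtype_injective K
  have hMP : M ≤ P := by rintro _ ⟨z, -, rfl⟩; exact z.2
  have hMcard : Nat.card M * p = p ^ n := by
    rw [hMdef, Subgroup.card_map_of_injective P.subtype_injective]
    have h1 := Subgroup.card_mul_index K
    rw [hKidx, hPn] at h1
    exact h1
  have hMnorm : P ≤ normalizer (M : Set G) := by
    rw [← normal_subgroupOf_iff_le_normalizer hMP, hMK]; exact hKn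
  intro x hx
  by_cases hQM : Q ≤ M
  · exact hQM (Q.mul_mem (Q.inv_mem hx) (hnorm x hx))
  · set Q₀ := M ⊓ Q with hQ₀
    have hQp : IsPGroup p Q := hP.to_le hQP
    have hQ₀lt : Q₀ < Q := by
      refine lt_of_le_of_ne inf_le_right (fun heq => hQM ?_)
      rw [← heq]; exact inf_le_left
    obtain ⟨a, ha⟩ := IsPGroup.iff_card.mp hQp
    obtain ⟨b, hb⟩ := IsPGroup.iff_card.mp (hQp.to_le (inf_le_right : Q₀ ≤ Q))
    have hab : b < a := by
      have h1 : Nat.card Q₀ < Nat.card Q := Cfsg.Agent.Lib.Helper11.card_lt_card_of_lt hQ₀lt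
      rw [ha, hb] at h1
      exact (Nat.pow_lt_pow_iff_right hp.out.one_lt).mp h1
    have had : a ≤ d + 1 := by
      rw [ha] at hQ
      exact (Nat.pow_dvd_pow_iff_le_right hp.out.one_lt).mp hQ
    have hbd : b ≤ d := by omega
    have hMd : p ^ d ∣ Nat.card M := by
      have h1 : Nat.card M = p ^ (n - 1) := by
        have h2 : p ^ n = p ^ (n - 1) * p := by
          rw [← pow_succ]; congr 1; omega
        rw [h2] at hMcard
        exact Nat.eq_of_mul_eq_mul_right hp.out.pos hMcard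
      rw [h1]; exact pow_dvd_pow p (by omega)
    obtain ⟨E, hQ₀E, hEM, hE⟩ := exists_between_card M Q₀ inf_le_left hb hbd hMd
    have hsc := D.sc E (hEM.trans hMP) (Or.inl hE)
    have hQ₀inv : ∀ y ∈ Q₀, h * y * h⁻¹ ∈ Q₀ := by
      intro y hy
      have hyQ : y ∈ Q := (mem_inf.mp hy).2
      have h1 : h * y * h⁻¹ ∈ Q := hnorm y hyQ
      exact mem_inf.mpr ⟨hEM (hsc h y (hQ₀E hy) (hQP h1)), h1⟩
    have hQnorm : Q ≤ normalizer (Q₀ : Set G) := by
      intro q hq
      apply Cfsg.Agent.Lib.Helper24.mem_normalizer_of_conj_mem Q₀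
      intro y hy
      obtain ⟨hyM, hyQ⟩ := mem_inf.mp hy
      exact mem_inf.mpr ⟨(mem_normalizer_iff.mp (hMnorm (hQP hq)) y).mp hyM,
        Q.mul_mem (Q.mul_mem hq hyQ) (Q.inv_mem hq)⟩
    have hidx : Q₀.relIndex Q = p := by
      rw [hQ₀, inf_relIndex_right, ← relIndex_subgroupOf hQP, hMK]
      have h1 : K.relIndex (Q.subgroupOf P) ∣ p := by
        rw [← hKidx]; exact relIndex_dvd_index_of_normal K (Q.subgroupOf P)
      rcases (Nat.dvd_prime hp.out).mp h1 with h2 | h2
      · exfalso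
        apply hQM
        have h3 := relIndex_eq_one.mp h2
        intro q hq
        exact ⟨⟨q, hQP hq⟩, h3 (mem_subgroupOf.mpr hq), rfl⟩
      · exact h2
    have h1 := conj_trivial_on_index_prime Q₀ Q inf_le_right hQnorm hidx h (orderOf_pos h) hnorm
      hQ₀inv (D.cop h) x hx
    exact (mem_inf.mp h1).1

/-- Reduction: Tate's theorem plus the hyperfocal subgroup theorem. -/
theorem hasNormalPComplement_of_comm_mem_coatom [Finite G] {p : ℕ} [hp : Fact p.Prime]
    (P : Sylow p G)
    (key : ∀ Q : Subgroup G, Q ≤ (P : Subgroup G) → ∀ h ∈ normalizer (Q : Set G),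
      (orderOf h).Coprime p → ∀ x ∈ Q, ∀ K : Subgroup (P : Subgroup G), IsCoatom K →
        x⁻¹ * (h * x * h⁻¹) ∈ K.map (P : Subgroup G).subtype) :
    Cfsg.HasNormalPComplement p G := by
  have hyp : Cfsg.Agent.Lib.Helper24.hypG p (P : Subgroup G) ≤
      (frattini (P : Subgroup G)).map (P : Subgroup G).subtype := by
    unfold Cfsg.Agent.Lib.Helper24.hypG
    rw [closure_le]
    rintro _ ⟨Q, h, x, hQS, hh, hc, hx, rfl⟩
    have hyP : x⁻¹ * (h * x * h⁻¹) ∈ (P : Subgroup G) :=
      hQS (Q.mul_mem (Q.inv_mem hx) ((mem_normalizer_iff.mp hh x).mp hx))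
    refine ⟨⟨_, hyP⟩, ?_, rfl⟩
    simp only [frattini, Order.radical, SetLike.mem_coe, Subgroup.mem_iInf, Set.mem_setOf_eq]
    intro K hK
    obtain ⟨z, hz, hzeq⟩ := key Q hQS h hh hc x hx K hK
    have : z = ⟨_, hyP⟩ := Subtype.ext hzeq
    rwa [← this]
  haveI : (Cfsg.pResidual p G).Normal := pResidual_normal' p
  have hT := Cfsg.Agent.Lib.Helper24.tate_hasNormalPComplement P (Cfsg.pResidual p G)
    (by rw [inf_comm]; exact (Cfsg.Agent.Lib.Helper24.inf_pResidual_le_hypG P).trans hyp)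
  rw [Cfsg.Agent.Lib.Helper13.npc_iff] at hT ⊢
  obtain ⟨K, hKn, hKcop, k, hk⟩ := hT
  have hKtop : K = ⊤ := by
    rw [eq_top_iff, ← Cfsg.Agent.Lib.Helper24.pResidual_pResidual_eq_top (G := G) (p := p)]
    show Subgroup.closure {g : ↥(Cfsg.pResidual p G) | Nat.Coprime (orderOf g) p} ≤ K
    rw [closure_le]
    intro g hg
    have hg' : (orderOf g).Coprime p := hg
    have h1 : (QuotientGroup.mk g : _ ⧸ K) ^ (orderOf g) = 1 := by
      rw [← QuotientGroup.mk_pow, pow_orderOf_eq_one]; rfl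
    have h2 : (QuotientGroup.mk g : _ ⧸ K) ^ (p ^ k) = 1 := by
      rw [← hk, Subgroup.index_eq_card]; exact pow_card_eq_one'
    have h3 : orderOf (QuotientGroup.mk g : _ ⧸ K) = 1 :=
      Nat.Coprime.eq_one_of_dvd
        ((hg'.coprime_dvd_left (orderOf_dvd_of_pow_eq_one h1)).pow_right k)
        (orderOf_dvd_of_pow_eq_one h2)
    exact (QuotientGroup.eq_one_iff g).mp (orderOf_eq_one_iff.mp h3)
  have hRcop : (Nat.card (Cfsg.pResidual p G)).Coprime p := by
    rw [hKtop] at hKcop; simpa using hKcop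
  apply Cfsg.Agent.Lib.Helper24.npc_of_sylow_inf_pResidual_eq_bot P
  rw [eq_bot_iff]
  intro x hx
  obtain ⟨hxP, hxR⟩ := mem_inf.mp hx
  obtain ⟨j, hj⟩ := (IsPGroup.iff_orderOf.mp P.2) ⟨x, hxP⟩
  have hox : orderOf x = p ^ j := by rw [← hj]; exact (Subgroup.orderOf_mk x hxP).symm
  have h1 : orderOf x ∣ Nat.card (Cfsg.pResidual p G) := by
    rw [← Subgroup.orderOf_mk x hxR]; exact orderOf_dvd_natCard _
  have h2 : orderOf x = 1 := by
    apply Nat.Coprime.eq_one_of_dvd _ h1
    rw [hox]; exact (hRcop.symm.pow_left j)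
  rw [mem_bot]; exact orderOf_eq_one_iff.mp h2

end HFinal

end Cfsg.Agent.Lib.Helper29
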