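import Mathlib
import Cfsg.Agent.Lib.Helper25.SuperSolAux

/-!
Supersolvable actions: a group `N` acting on a finite `p`-group `G` such that a normal subgroup `N₁`
acting as a `p`-group has `N / N₁` abelian of exponent dividing `p - 1` stabilizes a chain of normal
subgroups of `G` with cyclic steps.
-/

set_option autoImplicit false

universe u v

namespace Cfsg.Agent.Lib.Helper29

open Subgroup Cfsg.Agent.Lib.Helper25.SuperSol

section CommPow

/-- The subgroup generated by commutators and `k`-th powers. -/
def commPow (N : Type*) [Group N] (k : ℕ) : Subgroup N :=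
  Subgroup.closure ({x | ∃ a b : N, x = a * b * a⁻¹ * b⁻¹} ∪ {x | ∃ a : N, x = a ^ k})

theorem comm_mem_commPow {N : Type*} [Group N] (k : ℕ) (a b : N) :
    a * b * a⁻¹ * b⁻¹ ∈ commPow N k :=
  Subgroup.subset_closure (Or.inl ⟨a, b, rfl⟩)

theorem pow_mem_commPow {N : Type*} [Group N] (k : ℕ) (a : N) : a ^ k ∈ commPow N k :=
  Subgroup.subset_closure (Or.inr ⟨a, rfl⟩)

theorem commPow_map_pow_eq_one {N A : Type*} [Group N] [Group A] (k m : ℕ) (Ψ : N →* A)
    (hc : ∀ a b : A, a * b = b * a) (hpow : ∀ a : A, a ^ (k * m) = 1) :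
    ∀ β ∈ commPow N k, Ψ β ^ m = 1 := by
  intro β hβ
  unfold commPow at hβ
  induction hβ using Subgroup.closure_induction with
  | mem x hx =>
    rcases hx with ⟨a, b, rfl⟩ | ⟨a, rfl⟩
    · have : Ψ (a * b * a⁻¹ * b⁻¹) = 1 := by
        simp only [map_mul, map_inv]
        rw [hc (Ψ a) (Ψ b)]; group
      rw [this, one_pow]
    · rw [map_pow, ← pow_mul]; exact hpow _
  | one => simp
  | mul x y _ _ hx hy =>
    rw [map_mul, (show Commute (Ψ x) (Ψ y) from hc _ _).mul_pow, hx, hy, one_mul]
  | inv x _ hx => rw [map_inv, inv_pow, hx, inv_one]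

end CommPow

section Chain

theorem ss_rtg_chain (p : ℕ) [hp : Fact p.Prime] {N : Type v} [Group N] (N₁ : Subgroup N)
    (hN₁ : IsPGroup p N₁)
    (h1 : ∀ a b : N, a * b * a⁻¹ * b⁻¹ ∈ N₁) (h2 : ∀ a : N, a ^ (p - 1) ∈ N₁) :
    ∀ (n : ℕ) (G : Type u) [Group G] [Finite G], IsPGroup p G → Nat.card G = n →
    ∀ φ : N → (G →* G), (∀ x, φ 1 x = x) → (∀ a b x, φ (a * b) x = φ a (φ b x)) →
    (∀ g : G, ∃ a : N, ∀ x, φ a x = g * x * g⁻¹) →
    Relation.ReflTransGen (RelH (Set.range φ)) ⊥ ⊤ := by
  intro n
  induction n using Nat.strong_induction_on with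
  | _ n ih =>
    intro G _ _ hG hn φ hφ1 hφm hinn
    rcases subsingleton_or_nontrivial G with hsub | hnt
    · have : (⊤ : Subgroup G) = ⊥ := Subgroup.eq_bot_of_subsingleton ⊤
      rw [this]
    · -- fixed points of `N₁`
      letI act : MulAction N₁ G :=
        { smul := fun β x => φ β x
          one_smul := fun x => hφ1 x
          mul_smul := fun a b x => hφm a b x }
      have hsmul : ∀ (β : N₁) (x : G), β • x = φ β x := fun _ _ => rfl
      have hpdvd : p ∣ Nat.card G := by
        obtain ⟨k, hk⟩ := IsPGroup.iff_card.mp hG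
        have hk0 : k ≠ 0 := by
          intro h0
          rw [h0, pow_zero] at hk
          have := Finite.one_lt_card_iff_nontrivial.mpr hnt
          omega
        rw [hk]; exact dvd_pow_self p hk0
      have hfix1 : (1 : G) ∈ MulAction.fixedPoints N₁ G := by
        intro β; rw [hsmul, map_one]
      obtain ⟨w, hw, hw1⟩ := hN₁.exists_fixed_point_of_prime_dvd_card_of_fixed_point G hpdvd hfix1
      let W : Subgroup G :=
        { carrier := {x | ∀ β ∈ N₁, φ β x = x}
          one_mem' := fun β _ => map_one _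
          mul_mem' := fun {x y} hx hy β hβ => by rw [map_mul, hx β hβ, hy β hβ]
          inv_mem' := fun {x} hx β hβ => by rw [map_inv, hx β hβ] }
      have hwW : w ∈ W := fun β hβ => hw ⟨β, hβ⟩
      have hnorm : ∀ a : N, ∀ β ∈ N₁, a⁻¹ * β * a ∈ N₁ := by
        intro a β hβ
        have h := h1 a⁻¹ β
        have e : a⁻¹ * β * a = (a⁻¹ * β * a⁻¹⁻¹ * β⁻¹) * β := by group
        rw [e]; exact N₁.mul_mem h hβ
      have hWinv : ∀ a : N, ∀ x ∈ W, φ a x ∈ W := by
        intro a x hx β hβ
        have h3 : β * a = a * (a⁻¹ * β * a) := by group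
        rw [← hφm, h3, hφm, hx _ (hnorm a β hβ)]
      haveI : Nontrivial W :=
        ⟨⟨⟨w, hwW⟩, 1, fun h => hw1 (by simpa using (congrArg Subtype.val h).symm)⟩⟩
      let r : N → (W →* W) := fun a =>
        { toFun := fun x => ⟨φ a x, hWinv a x x.2⟩
          map_one' := Subtype.ext (map_one _)
          map_mul' := fun x y => Subtype.ext (map_mul _ _ _) }
      have hTWc : ∀ f ∈ Set.range r, ∀ g ∈ Set.range r, ∀ x, f (g x) = g (f x) := by
        rintro _ ⟨a, rfl⟩ _ ⟨b, rfl⟩ x
        apply Subtype.ext
        show φ a (φ b x) = φ b (φ a x)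
        have hc : a⁻¹ * b⁻¹ * a * b ∈ N₁ := by
          have := h1 a⁻¹ b⁻¹
          simpa using this
        have h3 : a * b = b * a * (a⁻¹ * b⁻¹ * a * b) := by group
        rw [← hφm, h3, hφm, x.2 _ hc, hφm]
      have hiter : ∀ (a : N) (k : ℕ) (x : G), (φ a)^[k] x = φ (a ^ k) x := by
        intro a k
        induction k with
        | zero => intro x; simp [hφ1]
        | succ k ih => intro x; rw [Function.iterate_succ_apply', ih, pow_succ', hφm]
      have hTWp : ∀ f ∈ Set.range r, ∀ x, f^[p - 1] x = x := by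
        rintro _ ⟨a, rfl⟩ x
        have hk : ∀ k : ℕ, (((r a)^[k] x : W) : G) = (φ a)^[k] x := by
          intro k
          induction k with
          | zero => rfl
          | succ k ih =>
            rw [Function.iterate_succ_apply', Function.iterate_succ_apply', ← ih]; rfl
        apply Subtype.ext
        rw [hk, hiter]
        exact x.2 _ (h2 a)
      obtain ⟨v, hv1, -, hvp, hvT⟩ :=
        exists_common_eigen p (hG.to_subgroup W) (Set.range r) hTWc hTWp
      have hv1' : (v : G) ≠ 1 := fun h => hv1 (Subtype.ext h)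
      have hvφ : ∀ a : N, ∃ c : ℕ, φ a (v : G) = (v : G) ^ c := by
        intro a
        obtain ⟨c, hc⟩ := hvT (r a) ⟨a, rfl⟩
        have h := congrArg Subtype.val hc
        rw [SubmonoidClass.coe_pow] at h
        exact ⟨c, h⟩
      have hNT : ∀ a : N, ∀ x ∈ Subgroup.zpowers (v : G), φ a x ∈ Subgroup.zpowers (v : G) := by
        intro a x hx
        obtain ⟨k, rfl⟩ := Subgroup.mem_zpowers_iff.mp hx
        obtain ⟨c, hc⟩ := hvφ a
        rw [map_zpow, hc]
        exact Subgroup.zpow_mem _ (Subgroup.pow_mem _ (Subgroup.mem_zpowers _) c) k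
      haveI hNn : (Subgroup.zpowers (v : G)).Normal := by
        constructor
        intro x hx g
        obtain ⟨a, ha⟩ := hinn g
        rw [← ha]; exact hNT a x hx
      have hNT' : ∀ a : N, Subgroup.zpowers (v : G) ≤ (Subgroup.zpowers (v : G)).comap (φ a) :=
        fun a x hx => hNT a x hx
      have hstep0 : RelH (Set.range φ) ⊥ (Subgroup.zpowers (v : G)) :=
        ⟨bot_le, ⟨hNn, by rintro _ ⟨a, rfl⟩ x hx; exact hNT a x hx⟩, v, by rw [bot_sup_eq]⟩
      let φq : N → ((G ⧸ Subgroup.zpowers (v : G)) →* (G ⧸ Subgroup.zpowers (v : G))) :=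
        fun a => QuotientGroup.map _ _ (φ a) (hNT' a)
      have hcard : Nat.card (G ⧸ Subgroup.zpowers (v : G)) < n := by
        have h1 := Subgroup.card_eq_card_quotient_mul_card_subgroup (Subgroup.zpowers (v : G))
        have h2 : 1 < Nat.card (Subgroup.zpowers (v : G)) := by
          rw [Subgroup.one_lt_card_iff_ne_bot]
          intro hbot
          have := Subgroup.mem_zpowers (v : G)
          rw [hbot, Subgroup.mem_bot] at this
          exact hv1' this
        have h3 : 0 < Nat.card (G ⧸ Subgroup.zpowers (v : G)) := Nat.card_pos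
        rw [← hn, h1]
        nlinarith
      have hq1 : ∀ x, φq 1 x = x := by
        intro x
        induction x using QuotientGroup.induction_on with
        | H x =>
          show (QuotientGroup.mk (φ 1 x) : G ⧸ Subgroup.zpowers (v : G)) = QuotientGroup.mk x
          rw [hφ1]
      have hqm : ∀ a b x, φq (a * b) x = φq a (φq b x) := by
        intro a b x
        induction x using QuotientGroup.induction_on with
        | H x =>
          show (QuotientGroup.mk (φ (a * b) x) : G ⧸ Subgroup.zpowers (v : G)) =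
            QuotientGroup.mk (φ a (φ b x))
          rw [hφm]
      have hqinn : ∀ g : G ⧸ Subgroup.zpowers (v : G), ∃ a : N, ∀ x, φq a x = g * x * g⁻¹ := by
        intro g
        induction g using QuotientGroup.induction_on with
        | H g =>
          obtain ⟨a, ha⟩ := hinn g
          refine ⟨a, fun x => ?_⟩
          induction x using QuotientGroup.induction_on with
          | H x =>
            show (QuotientGroup.mk (φ a x) : G ⧸ Subgroup.zpowers (v : G)) = _
            rw [ha]; rfl
      have hrec := ih _ hcard (G ⧸ Subgroup.zpowers (v : G)) (hG.to_quotient _) rfl φq hq1 hqm hqinn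
      have hlift := Relation.ReflTransGen.lift
        (fun D : Subgroup (G ⧸ Subgroup.zpowers (v : G)) =>
          D.comap (QuotientGroup.mk' (Subgroup.zpowers (v : G)))) (p := RelH (Set.range φ)) ?_ _ _ hrec
      · have e1 : (⊥ : Subgroup (G ⧸ Subgroup.zpowers (v : G))).comap
            (QuotientGroup.mk' (Subgroup.zpowers (v : G))) = Subgroup.zpowers (v : G) := by
          rw [MonoidHom.comap_bot, QuotientGroup.ker_mk']
        have e2 : (⊤ : Subgroup (G ⧸ Subgroup.zpowers (v : G))).comap
            (QuotientGroup.mk' (Subgroup.zpowers (v : G))) = ⊤ := Subgroup.comap_top _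
        have hlift' : Relation.ReflTransGen (RelH (Set.range φ))
            ((⊥ : Subgroup (G ⧸ Subgroup.zpowers (v : G))).comap
              (QuotientGroup.mk' (Subgroup.zpowers (v : G))))
            ((⊤ : Subgroup (G ⧸ Subgroup.zpowers (v : G))).comap
              (QuotientGroup.mk' (Subgroup.zpowers (v : G)))) := hlift
        rw [e1, e2] at hlift'
        exact Relation.ReflTransGen.head hstep0 hlift'
      · rintro A B ⟨hAB, ⟨hBn, hBT⟩, xq, hx⟩
        refine ⟨Subgroup.comap_mono hAB, ⟨hBn.comap _, ?_⟩, ?_⟩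
        · rintro _ ⟨a, rfl⟩ x hx'
          rw [Subgroup.mem_comap] at hx' ⊢
          exact hBT _ ⟨a, rfl⟩ _ hx'
        · obtain ⟨x, rfl⟩ := QuotientGroup.mk'_surjective (Subgroup.zpowers (v : G)) xq
          exact ⟨x, by rw [hx]; exact comap_step _ A x⟩

end Chain

end Cfsg.Agent.Lib.Helper29
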