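import Mathlib
import Cfsg.Agent.Lib.Helper29.HSubgroup
import Cfsg.Agent.Lib.Helper29.SSAction
import Cfsg.Agent.Lib.Helper17.Supersolvable
import Cfsg.Agent.S3031

/-!
Supersolvability from strongly closed subgroups of a fixed order (Asaad).
-/

set_option autoImplicit false

namespace Cfsg.Agent.Lib.Helper29

open Subgroup

section QuotAut

variable {Y : Type*} [Group Y]

/-- The automorphism induced on a quotient by an automorphism preserving the normal subgroup. -/
def quotAut (K : Subgroup Y) [K.Normal] (α : MulAut Y)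
    (h1 : ∀ y ∈ K, α y ∈ K) (h2 : ∀ y ∈ K, α⁻¹ y ∈ K) : MulAut (Y ⧸ K) :=
  { toFun := QuotientGroup.map K K α.toMonoidHom h1
    invFun := QuotientGroup.map K K (α⁻¹ : MulAut Y).toMonoidHom h2
    left_inv := by
      intro c
      induction c using QuotientGroup.induction_on with
      | H y =>
        show (QuotientGroup.mk (α⁻¹ (α y)) : Y ⧸ K) = QuotientGroup.mk y
        simp
    right_inv := by
      intro c
      induction c using QuotientGroup.induction_on with
      | H y =>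
        show (QuotientGroup.mk (α (α⁻¹ y)) : Y ⧸ K) = QuotientGroup.mk y
        simp
    map_mul' := map_mul _ }

/-- The induced action on a quotient, as a homomorphism. -/
def quotAutHom {𝒩 : Type*} [Group 𝒩] (K : Subgroup Y) [K.Normal] (ρ : 𝒩 →* MulAut Y)
    (hK : ∀ n : 𝒩, ∀ y ∈ K, ρ n y ∈ K) : 𝒩 →* MulAut (Y ⧸ K) :=
  MonoidHom.mk'
    (fun n => quotAut K (ρ n) (hK n) (by intro y hy; rw [← map_inv]; exact hK n⁻¹ y hy))
    (by
      intro a b
      apply MulEquiv.ext
      intro c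
      induction c using QuotientGroup.induction_on with
      | H y =>
        show (QuotientGroup.mk (ρ (a * b) y) : Y ⧸ K) = QuotientGroup.mk (ρ a (ρ b y))
        rw [map_mul]; rfl)

theorem commPow_trivial_on_prime_quot {𝒩 : Type*} [Group 𝒩] (q : ℕ) [hq : Fact q.Prime]
    (K : Subgroup Y) [K.Normal] (hidx : K.index = q) (ρ : 𝒩 →* MulAut Y)
    (hK : ∀ n : 𝒩, ∀ y ∈ K, ρ n y ∈ K) :
    ∀ β ∈ commPow 𝒩 (q - 1), ∀ y : Y, y⁻¹ * ρ β y ∈ K := by
  intro β hβ y
  have hcard : Nat.card (Y ⧸ K) = q := by rw [← Subgroup.index_eq_card]; exact hidx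
  haveI : IsCyclic (Y ⧸ K) := isCyclic_of_prime_card hcard
  haveI : Finite (Y ⧸ K) := Nat.finite_of_card_ne_zero (by rw [hcard]; exact hq.out.ne_zero)
  have hcomm : ∀ a b : MulAut (Y ⧸ K), a * b = b * a := by
    intro a b
    apply (IsCyclic.mulAutMulEquiv (Y ⧸ K)).injective
    rw [map_mul, map_mul, mul_comm]
  have hpow : ∀ a : MulAut (Y ⧸ K), a ^ ((q - 1) * 1) = 1 := by
    intro a
    rw [mul_one]
    have h0 := IsCyclic.card_mulAut (G := Y ⧸ K)
    rw [hcard, Nat.totient_prime hq.out] at h0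
    rw [← h0]; exact pow_card_eq_one'
  have h := commPow_map_pow_eq_one (q - 1) 1 (quotAutHom K ρ hK) hcomm hpow β hβ
  rw [pow_one] at h
  have h2 := congrArg (fun e : MulAut (Y ⧸ K) => e (QuotientGroup.mk y)) h
  have h3 : (QuotientGroup.mk (ρ β y) : Y ⧸ K) = QuotientGroup.mk y := h2
  exact QuotientGroup.eq.mp h3.symm

theorem commPow_pow_eq_one_of_cyclic {𝒩 : Type*} [Group 𝒩] (q : ℕ) [hq : Fact q.Prime] [Finite Y]
    [IsCyclic Y] {j : ℕ} (hcard : Nat.card Y = q ^ j) (ρ : 𝒩 →* MulAut Y) :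
    ∀ β ∈ commPow 𝒩 (q - 1), ρ β ^ (q ^ j) = 1 := by
  have hcomm : ∀ a b : MulAut Y, a * b = b * a := by
    intro a b
    apply (IsCyclic.mulAutMulEquiv Y).injective
    rw [map_mul, map_mul, mul_comm]
  have hpow : ∀ a : MulAut Y, a ^ ((q - 1) * q ^ j) = 1 := by
    intro a
    have h1 := IsCyclic.card_mulAut (G := Y)
    rw [hcard] at h1
    have hdvd : Nat.card (MulAut Y) ∣ (q - 1) * q ^ j := by
      rw [h1]
      rcases j with _ | j
      · simp
      · rw [Nat.totient_prime_pow_succ hq.out, pow_succ]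
        exact ⟨q, by ring⟩
    obtain ⟨c, hc⟩ := hdvd
    rw [hc, pow_mul, pow_card_eq_one', one_pow]
  exact commPow_map_pow_eq_one (q - 1) (q ^ j) ρ hcomm hpow

end QuotAut

section LemmaA

variable {G : Type*} [Group G]

theorem commPow_centralizes_cyclic [Finite G] {q : ℕ} [hq : Fact q.Prime] (N E : Subgroup G)
    (hNE : N ≤ normalizer (E : Set G)) (hE : IsPGroup q E) (hcyc : IsCyclic E) (β : ↥N)
    (hβ : β ∈ commPow ↥N (q - 1)) (hcop : (orderOf β).Coprime q) :
    ∀ x ∈ E, (β : G) * x * (β : G)⁻¹ = x := by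
  obtain ⟨j, hj⟩ := IsPGroup.iff_card.mp hE
  set ρ : ↥N →* MulAut ↥E := E.normalizerMonoidHom.comp (Subgroup.inclusion hNE) with hρ
  have h1 := commPow_pow_eq_one_of_cyclic q hj ρ β hβ
  have h2 : ρ β ^ orderOf β = 1 := by rw [← map_pow, pow_orderOf_eq_one, map_one]
  have h3 : orderOf (ρ β) = 1 :=
    Nat.Coprime.eq_one_of_dvd
      ((hcop.coprime_dvd_left (orderOf_dvd_of_pow_eq_one h2)).pow_right j)
      (orderOf_dvd_of_pow_eq_one h1)
  have h4 : ρ β = 1 := orderOf_eq_one_iff.mp h3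
  intro x hx
  have h5 := congrArg (fun α : MulAut E => ((α ⟨x, hx⟩ : E) : G)) h4
  simpa [hρ] using h5

theorem commPow_comm_mem_of_relIndex {q : ℕ} [hq : Fact q.Prime] (N X₀ X : Subgroup G)
    (hle : X₀ ≤ X) (hXn : X ≤ normalizer (X₀ : Set G)) (hidx : X₀.relIndex X = q)
    (hNX : N ≤ normalizer (X : Set G)) (hNX₀ : N ≤ normalizer (X₀ : Set G))
    (β : ↥N) (hβ : β ∈ commPow ↥N (q - 1)) :
    ∀ x ∈ X, x⁻¹ * ((β : G) * x * (β : G)⁻¹) ∈ X₀ := by
  haveI hKn : (X₀.subgroupOf X).Normal := (normal_subgroupOf_iff_le_normalizer hle).mpr hXn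
  set ρ : ↥N →* MulAut ↥X := X.normalizerMonoidHom.comp (Subgroup.inclusion hNX) with hρ
  have hK : ∀ n : ↥N, ∀ y ∈ X₀.subgroupOf X, ρ n y ∈ X₀.subgroupOf X := by
    intro n y hy
    rw [mem_subgroupOf] at hy ⊢
    have := (mem_normalizer_iff.mp (hNX₀ n.2) (y : G)).mp hy
    simpa [hρ] using this
  intro x hx
  have h := commPow_trivial_on_prime_quot q (X₀.subgroupOf X) hidx ρ hK β hβ ⟨x, hx⟩
  rw [mem_subgroupOf] at h
  simpa [hρ] using h

/-- Lemma A for the subgroup generated by commutators and `(q-1)`-th powers of `N_G(Q)`. -/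
theorem commPow_centralizes [Finite G] {q : ℕ} [hq : Fact q.Prime] (Q : Subgroup G)
    (hQp : IsPGroup q Q) {d : ℕ} (hd : 1 ≤ d) (hQd : q ^ (d + 1) ∣ Nat.card Q)
    (sc : ∀ E : Subgroup G, E ≤ Q → (Nat.card E = q ^ d ∨ (q ^ d = 2 ∧ Nat.card E = 4)) → SCl Q E)
    (N : Subgroup G) (hN : N ≤ normalizer (Q : Set G))
    (β : ↥N) (hβ : β ∈ commPow ↥N (q - 1))
    (hcop : (orderOf β).Coprime q) : ∀ x ∈ Q, (β : G) * x * (β : G)⁻¹ = x := by
  have hcop' : (orderOf (β : G)).Coprime q := by rwa [Subgroup.orderOf_coe]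
  have hnormN : ∀ n ∈ N, ∀ x ∈ Q, n * x * n⁻¹ ∈ Q :=
    fun n hn x hx => (mem_normalizer_iff.mp (hN hn) x).mp hx
  have hinv : ∀ E : Subgroup G, E ≤ Q → (Nat.card E = q ^ d ∨ (q ^ d = 2 ∧ Nat.card E = 4)) →
      N ≤ normalizer (E : Set G) := by
    intro E hEQ hE n hn
    apply Cfsg.Agent.Lib.Helper24.mem_normalizer_of_conj_mem E
    intro y hy
    exact sc E hEQ hE n y hy (hnormN n hn y (hEQ hy))
  apply Cfsg.Agent.Lib.Helper24.coprime_centralizes_of_omega hcop' Q hQp (hnormN β β.2)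
  intro x hxQ hsmall
  have hxp : IsPGroup q (zpowers x) := hQp.to_le (zpowers_le.mpr hxQ)
  obtain ⟨j, hj⟩ := IsPGroup.iff_card.mp hxp
  by_cases hjd : j ≤ d
  · obtain ⟨E, hZE, hEQ, hE⟩ := exists_between_card Q (zpowers x) (zpowers_le.mpr hxQ) hj hjd
      (dvd_trans (pow_dvd_pow q (Nat.le_succ d)) hQd)
    have hxE : x ∈ E := hZE (mem_zpowers x)
    have hNE := hinv E hEQ (Or.inl hE)
    by_cases hcyc : IsCyclic E
    · exact commPow_centralizes_cyclic N E hNE (hQp.to_le hEQ) hcyc β hβ hcop x hxE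
    · obtain ⟨E', hEE', hE'Q, hE'⟩ := exists_between_card Q E hEQ hE (Nat.le_succ d) hQd
      have hE'p : IsPGroup q E' := hQp.to_le hE'Q
      have hncyc : ¬ IsCyclic E' := fun hc => hcyc (by
        haveI := hc
        exact isCyclic_of_injective (Subgroup.inclusion hEE') (Subgroup.inclusion_injective hEE'))
      have hNE' : N ≤ normalizer (E' : Set G) := by
        intro n hn
        apply Cfsg.Agent.Lib.Helper24.mem_normalizer_of_conj_mem E'
        intro y hy
        have hyp : IsPGroup q (zpowers y) := hE'p.to_le (zpowers_le.mpr hy)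
        obtain ⟨i, hi⟩ := IsPGroup.iff_card.mp hyp
        have hid : i ≤ d := by
          by_contra hlt
          push_neg at hlt
          have heq : zpowers y = E' := by
            apply Subgroup.eq_of_le_of_card_ge (zpowers_le.mpr hy)
            rw [hi, hE']; exact Nat.pow_le_pow_right hq.out.pos hlt
          apply hncyc
          rw [← heq]
          infer_instance
        obtain ⟨F, hZF, hFE', hF⟩ := exists_between_card E' (zpowers y) (zpowers_le.mpr hy) hi hid
          (by rw [hE']; exact pow_dvd_pow q (Nat.le_succ d))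
        have hNF := hinv F (hFE'.trans hE'Q) (Or.inl hF)
        exact hFE' ((mem_normalizer_iff.mp (hNF hn) y).mp (hZF (mem_zpowers y)))
      set ρ : ↥N →* MulAut ↥E' := E'.normalizerMonoidHom.comp (Subgroup.inclusion hNE') with hρ
      set α := ρ β with hα
      have htriv : α ∈ Cfsg.Agent.Lib.Helper3.trivOnFrattiniQuot E' := by
        rw [Cfsg.Agent.Lib.Helper3.mem_trivOnFrattiniQuot]
        intro y
        simp only [frattini, Order.radical, Subgroup.mem_iInf, Set.mem_setOf_eq]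
        intro K hK
        have hKidx : K.index = q := Cfsg.Agent.Lib.Helper2.index_of_isCoatom_of_isPGroup hE'p hK
        haveI hKn : K.Normal := Cfsg.Agent.Lib.Helper2.normal_of_isCoatom_of_isPGroup hE'p hK
        set F := K.map E'.subtype with hFdef
        have hFK : F.subgroupOf E' = K :=
          Subgroup.comap_map_eq_self_of_injective E'.subtype_injective K
        have hFE' : F ≤ E' := by rintro _ ⟨z, -, rfl⟩; exact z.2
        have hFcard : Nat.card F = q ^ d := by
          rw [hFdef, Subgroup.card_map_of_injective E'.subtype_injective]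
          have h1 := Subgroup.card_mul_index K
          rw [hKidx, hE', pow_succ] at h1
          exact Nat.eq_of_mul_eq_mul_right hq.out.pos h1
        have hNF := hinv F (hFE'.trans hE'Q) (Or.inl hFcard)
        have hnormF : E' ≤ normalizer (F : Set G) := by
          rw [← normal_subgroupOf_iff_le_normalizer hFE', hFK]; exact hKn
        have hidx : F.relIndex E' = q := by
          show (F.subgroupOf E').index = q
          rw [hFK]; exact hKidx
        have h1 := commPow_comm_mem_of_relIndex N F E' hFE' hnormF hidx hNE' hNF β hβ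
          (y : G)⁻¹ (E'.inv_mem y.2)
        have h2 : ((β : G) * (y : G) * (β : G)⁻¹) * (y : G)⁻¹ ∈ F := by
          have := F.inv_mem h1
          have e : ((y : G)⁻¹⁻¹ * ((β : G) * (y : G)⁻¹ * (β : G)⁻¹))⁻¹ =
              ((β : G) * (y : G) * (β : G)⁻¹) * (y : G)⁻¹ := by
            group
          rwa [e] at this
        obtain ⟨z, hz, hzeq⟩ := h2
        have : z = α y * y⁻¹ := by
          apply Subtype.ext
          have hzeq' : (z : G) = ((β : G) * (y : G) * (β : G)⁻¹) * (y : G)⁻¹ := hzeq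
          rw [hzeq']
          simp [hα, hρ]
        rw [← this]; exact hz
      obtain ⟨a, ha⟩ := Cfsg.Agent.Lib.Helper3.exists_pow_eq_one_of_trivOnFrattiniQuot hE'p α htriv
      have h1 : orderOf α ∣ orderOf β := by
        apply orderOf_dvd_of_pow_eq_one
        rw [hα, ← map_pow, pow_orderOf_eq_one, map_one]
      have h2 : orderOf α ∣ q ^ a := orderOf_dvd_of_pow_eq_one ha
      have h3 : orderOf α = 1 :=
        Nat.Coprime.eq_one_of_dvd ((hcop.coprime_dvd_left h1).pow_right a) h2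
      have h4 : α = 1 := orderOf_eq_one_iff.mp h3
      have h5 := congrArg (fun γ : MulAut E' => ((γ ⟨x, hEE' hxE⟩ : E') : G)) h4
      simpa [hα, hρ] using h5
  · push_neg at hjd
    have hox : orderOf x = q ^ j := by rw [← hj, Nat.card_zpowers]
    rcases hsmall with hxp1 | ⟨hp2, hx4⟩
    · exfalso
      have h1 : q ^ j ∣ q := by rw [← hox]; exact orderOf_dvd_of_pow_eq_one hxp1
      have h2 : j ≤ 1 := by
        have := (Nat.pow_dvd_pow_iff_le_right hq.out.one_lt).mp (by simpa using h1 : q ^ j ∣ q ^ 1)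
        exact this
      omega
    · have h1 : q ^ j ∣ q ^ 2 := by
        rw [← hox, hp2]; exact orderOf_dvd_of_pow_eq_one (by simpa using hx4)
      have h2 : j ≤ 2 := (Nat.pow_dvd_pow_iff_le_right hq.out.one_lt).mp h1
      have hj2 : j = 2 := by omega
      have hd1' : d = 1 := by omega
      have hZ4 : Nat.card (zpowers x) = 4 := by rw [hj, hj2, hp2]; norm_num
      have hpd : q ^ d = 2 := by rw [hd1', hp2]; norm_num
      have hNZ := hinv (zpowers x) (zpowers_le.mpr hxQ) (Or.inr ⟨hpd, hZ4⟩)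
      exact commPow_centralizes_cyclic N (zpowers x) hNZ hxp inferInstance β hβ hcop x
        (mem_zpowers x)

end LemmaA

section SSN

variable {G : Type*} [Group G]

open Cfsg.Agent.Lib.Helper17 Cfsg.Agent.Lib.Helper25.SuperSol

theorem normalizerMonoidHom_coe' (H : Subgroup G) (n : normalizer (H : Set G)) (x : H) :
    ((H.normalizerMonoidHom n x : H) : G) = (n : G) * x * (n : G)⁻¹ := rfl

theorem normalizerMonoidHom_pow_coe' (H : Subgroup G) (n : normalizer (H : Set G)) (k : ℕ) (x : H) :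
    (((H.normalizerMonoidHom n ^ k) x : H) : G) = (n : G) ^ k * x * ((n : G) ^ k)⁻¹ := by
  rw [← map_pow]; rfl

/-- If `N` normalizes `T` and `X`, `T ≤ T ⊔ X`, and `N ⊔ T = ⊤`, then `T ⊔ X` is normal. -/
theorem normal_sup_of_normalizer [Finite G] (N T X : Subgroup G) (hT : T.Normal)
    (hNX : N ≤ normalizer (X : Set G)) (htop : N ⊔ T = ⊤) : (T ⊔ X).Normal := by
  have hnorm : normalizer ((T ⊔ X : Subgroup G) : Set G) = ⊤ := by
    rw [eq_top_iff, ← htop]
    apply sup_le
    · intro n hn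
      apply Cfsg.Agent.Lib.Helper24.mem_normalizer_of_conj_mem
      intro w hw
      have h1 : (T ⊔ X).map (MulAut.conj n).toMonoidHom ≤ T ⊔ X := by
        rw [Subgroup.map_sup]
        apply sup_le
        · refine le_trans ?_ le_sup_left
          rintro _ ⟨t, ht, rfl⟩
          exact hT.conj_mem t ht n
        · refine le_trans ?_ le_sup_right
          rintro _ ⟨x, hx, rfl⟩
          exact (mem_normalizer_iff.mp (hNX hn) x).mp hx
      exact h1 ⟨w, hw, rfl⟩
    · exact le_trans le_sup_left le_normalizer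
  exact normalizer_eq_top_iff.mp hnorm

/-- The chain from `T` to `T ⊔ Q`. -/
theorem ssChain_sup_of_hsub [Finite G] {q : ℕ} [hq : Fact q.Prime] (Q : Subgroup G)
    (hQp : IsPGroup q Q)
    (hyp : IsCyclic Q ∨ ∃ d : ℕ, 1 ≤ d ∧ q ^ (d + 1) ∣ Nat.card Q ∧
      ∀ E : Subgroup G, E ≤ Q → (Nat.card E = q ^ d ∨ (q ^ d = 2 ∧ Nat.card E = 4)) → SCl Q E)
    (T : Subgroup G) (hT : T.Normal) (htop : normalizer (Q : Set G) ⊔ T = ⊤) :
    SSChain T (T ⊔ Q) := by
  set N := normalizer (Q : Set G) with hN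
  -- `q'`-elements of `commPow` centralize `Q`
  have hcent : ∀ β : ↥N, β ∈ commPow ↥N (q - 1) → (orderOf β).Coprime q →
      ∀ x ∈ Q, (β : G) * x * (β : G)⁻¹ = x := by
    intro β hβ hcop
    rcases hyp with hcyc | ⟨d, hd, hQd, sc⟩
    · exact commPow_centralizes_cyclic N Q le_rfl hQp hcyc β hβ hcop
    · exact commPow_centralizes Q hQp hd hQd sc N le_rfl β hβ hcop
  set ρ : ↥N →* MulAut ↥Q := Q.normalizerMonoidHom with hρ
  set N₁ : Subgroup ↥ρ.range := (commPow ↥N (q - 1)).map ρ.rangeRestrict with hN₁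
  have hN₁p : IsPGroup q N₁ := by
    rintro ⟨g, β, hβ, rfl⟩
    have ho : orderOf β ≠ 0 := (orderOf_pos β).ne'
    obtain ⟨k, m, hm, hkm⟩ := Nat.exists_eq_pow_mul_and_not_dvd ho q hq.out.ne_one
    refine ⟨k, ?_⟩
    have hγ : β ^ (q ^ k) ∈ commPow ↥N (q - 1) := Subgroup.pow_mem _ hβ _
    have hγm : (β ^ (q ^ k)) ^ m = 1 := by rw [← pow_mul, ← hkm, pow_orderOf_eq_one]
    have hγcop : (orderOf (β ^ (q ^ k))).Coprime q :=
      Nat.Coprime.coprime_dvd_left (orderOf_dvd_of_pow_eq_one hγm)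
        ((Nat.Prime.coprime_iff_not_dvd hq.out).mpr hm).symm
    have h1 := hcent _ hγ hγcop
    apply Subtype.ext
    apply Subtype.ext
    apply MulEquiv.ext
    intro x
    apply Subtype.ext
    have h2 := h1 x x.2
    show (((Q.normalizerMonoidHom β ^ q ^ k) x : Q) : G) = x
    rw [normalizerMonoidHom_pow_coe']
    exact h2
  have h1 : ∀ a b : ↥ρ.range, a * b * a⁻¹ * b⁻¹ ∈ N₁ := by
    intro a b
    obtain ⟨a', rfl⟩ := ρ.rangeRestrict_surjective a
    obtain ⟨b', rfl⟩ := ρ.rangeRestrict_surjective b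
    exact ⟨a' * b' * a'⁻¹ * b'⁻¹, comm_mem_commPow _ _ _, by simp only [map_mul, map_inv]⟩
  have h2 : ∀ a : ↥ρ.range, a ^ (q - 1) ∈ N₁ := by
    intro a
    obtain ⟨a', rfl⟩ := ρ.rangeRestrict_surjective a
    exact ⟨a' ^ (q - 1), pow_mem_commPow _ _, by simp only [map_pow]⟩
  let φ : ↥ρ.range → (↥Q →* ↥Q) := fun a => (a : MulAut ↥Q).toMonoidHom
  have hφ1 : ∀ x, φ 1 x = x := fun x => rfl
  have hφm : ∀ a b x, φ (a * b) x = φ a (φ b x) := fun a b x => rfl
  have hinn : ∀ g : ↥Q, ∃ a : ↥ρ.range, ∀ x, φ a x = g * x * g⁻¹ := by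
    intro g
    refine ⟨ρ.rangeRestrict ⟨g, le_normalizer g.2⟩, fun x => ?_⟩
    apply Subtype.ext
    exact normalizerMonoidHom_coe' Q _ x
  have hchain := ss_rtg_chain q N₁ hN₁p h1 h2 (Nat.card Q) ↥Q hQp rfl φ hφ1 hφm hinn
  have key : ∀ D : Subgroup ↥Q, Relation.ReflTransGen (RelH (Set.range φ)) ⊥ D →
      SSChain T (T ⊔ D.map Q.subtype) := by
    intro D hD
    induction hD with
    | refl =>
      rw [Subgroup.map_bot, sup_bot_eq]
      exact SSChain.refl T hT
    | @tail b c _ hbc ih =>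
      obtain ⟨-, ⟨-, hcT⟩, x, hx⟩ := hbc
      have e : T ⊔ c.map Q.subtype = (T ⊔ b.map Q.subtype) ⊔ zpowers (x : G) := by
        rw [hx, Subgroup.map_sup, MonoidHom.map_zpowers, sup_assoc]
        rfl
      have hnormal : (T ⊔ c.map Q.subtype).Normal := by
        apply normal_sup_of_normalizer N T (c.map Q.subtype) hT _ htop
        intro n hn
        apply Cfsg.Agent.Lib.Helper24.mem_normalizer_of_conj_mem
        rintro _ ⟨z, hz, rfl⟩
        have h3 := hcT (φ (ρ.rangeRestrict ⟨n, hn⟩)) ⟨_, rfl⟩ z hz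
        refine ⟨_, h3, ?_⟩
        exact normalizerMonoidHom_coe' Q ⟨n, hn⟩ z
      rw [e]
      apply SSChain.step (x : G) ih
      rw [← e]; exact hnormal
  have hfin := key ⊤ hchain
  have e2 : (⊤ : Subgroup ↥Q).map Q.subtype = Q := by
    rw [← MonoidHom.range_eq_map, Subgroup.range_subtype]
  rwa [e2] at hfin

end SSN

section Main

variable {G : Type*} [Group G]

open Cfsg.Agent.Lib.Helper17

/-- The hypothesis of the statement. -/
def HypS (E : Subgroup G) : Prop :=
  ∀ (p : ℕ), p.Prime → ∀ P : Subgroup G, P ≤ E → IsPGroup p P → ¬ p ∣ P.relIndex E →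
    ¬ IsCyclic ↥P →
      ∃ D : Subgroup G, D ≤ P ∧ 1 < Nat.card D ∧ Nat.card D < Nat.card P ∧
        ∀ F : Subgroup G, F ≤ P → (Nat.card F = Nat.card D ∨ (Nat.card D = 2 ∧ Nat.card F = 4)) →
          ∀ g : G, F.map (MulAut.conj g).toMonoidHom ⊓ Subgroup.normalizer (F : Set G) ≤ F

theorem hsub_data_of_hypS [Finite G] {q : ℕ} [hq : Fact q.Prime] (E Q : Subgroup G) (hE : HypS E)
    (hQE : Q ≤ E) (hQp : IsPGroup q Q) (hidx : ¬ q ∣ Q.relIndex E) :
    IsCyclic Q ∨ ∃ d : ℕ, 1 ≤ d ∧ q ^ (d + 1) ∣ Nat.card Q ∧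
      ∀ F : Subgroup G, F ≤ Q → (Nat.card F = q ^ d ∨ (q ^ d = 2 ∧ Nat.card F = 4)) → SCl Q F := by
  by_cases hcyc : IsCyclic Q
  · exact Or.inl hcyc
  · right
    obtain ⟨D, hDQ, hD1, hDlt, hgood⟩ := hE q hq.out Q hQE hQp hidx hcyc
    obtain ⟨d, hd⟩ := IsPGroup.iff_card.mp (hQp.to_le hDQ)
    obtain ⟨n, hn⟩ := IsPGroup.iff_card.mp hQp
    have hd1 : 1 ≤ d := by
      rcases Nat.eq_zero_or_pos d with h0 | h0
      · rw [h0, pow_zero] at hd; omega
      · exact h0
    have hdn : d < n := by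
      apply (Nat.pow_lt_pow_iff_right hq.out.one_lt).mp
      rw [← hd, ← hn]; exact hDlt
    refine ⟨d, hd1, by rw [hn]; exact pow_dvd_pow q (by omega), ?_⟩
    intro F hFQ hF g y hy hgy
    have hgoodF := hgood F hFQ (by rw [hd]; exact hF)
    have hN := le_normalizer_of_hsub Q F hQp hFQ hgoodF
    exact hgoodF g (mem_inf.mpr ⟨⟨y, hy, rfl⟩, hN hgy⟩)

theorem hasNPC_of_hypS [Finite G] {q : ℕ} [hq : Fact q.Prime] (E : Subgroup G) (hE : HypS E)
    (hdiv : q ∣ Nat.card E) (hmin : ∀ r : ℕ, r.Prime → r ∣ Nat.card E → q ≤ r) (S : Sylow q ↥E) :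
    Cfsg.HasNormalPComplement q ↥E := by
  apply Cfsg.Agent.S3031.result hdiv hmin S
  set Q := (S : Subgroup ↥E).map E.subtype with hQ
  have hQE : Q ≤ E := by rintro _ ⟨y, -, rfl⟩; exact y.2
  have hQp : IsPGroup q Q := S.2.map E.subtype
  have hSQ : Q.subgroupOf E = (S : Subgroup ↥E) :=
    comap_map_eq_self_of_injective E.subtype_injective _
  have hidx : ¬ q ∣ Q.relIndex E := by
    show ¬ q ∣ (Q.subgroupOf E).index
    rw [hSQ]; exact S.not_dvd_index
  by_cases hcyc : IsCyclic ↥(S : Subgroup ↥E)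
  · exact Or.inl hcyc
  right
  have hcycQ : ¬ IsCyclic Q := by
    intro hc
    apply hcyc
    haveI := hc
    exact isCyclic_of_injective
      ((S : Subgroup ↥E).equivMapOfInjective E.subtype E.subtype_injective).toMonoidHom
      (MulEquiv.injective _)
  obtain ⟨D, hDQ, hD1, hDlt, hgood⟩ := hE q hq.out Q hQE hQp hidx hcycQ
  have hcardmap : ∀ F : Subgroup ↥E, Nat.card (F.map E.subtype) = Nat.card F :=
    fun F => card_map_of_injective E.subtype_injective
  have hcD : Nat.card (D.subgroupOf E) = Nat.card D :=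
    Nat.card_congr (subgroupOfEquivOfLe (hDQ.trans hQE)).toEquiv
  refine ⟨D.subgroupOf E, ?_, ?_, ?_, ?_⟩
  · intro x hx
    rw [mem_subgroupOf] at hx
    obtain ⟨s, hs, hsx⟩ := hDQ hx
    have : s = x := Subtype.ext hsx
    rwa [← this]
  · rw [hcD]; exact hD1
  · rw [hcD, ← hcardmap]; exact hDlt
  · intro F hFS hF g
    have hFQ : F.map E.subtype ≤ Q := Subgroup.map_mono hFS
    have hgoodF := hgood (F.map E.subtype) hFQ (by rw [hcardmap, ← hcD]; exact hF) (g : G)
    intro y hy
    obtain ⟨⟨f, hf, hfy⟩, hyN⟩ := mem_inf.mp hy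
    have h1 : (y : G) ∈ (F.map E.subtype).map (MulAut.conj (g : G)).toMonoidHom ⊓
        normalizer ((F.map E.subtype : Subgroup G) : Set G) := by
      refine mem_inf.mpr ⟨⟨(f : G), ⟨f, hf, rfl⟩, ?_⟩, ?_⟩
      · rw [← hfy]; simp
      · apply Cfsg.Agent.Lib.Helper24.mem_normalizer_of_conj_mem
        rintro _ ⟨z, hz, rfl⟩
        exact ⟨y * z * y⁻¹, (mem_normalizer_iff.mp hyN z).mp hz, by simp⟩
    obtain ⟨f', hf', hf'y⟩ := hgoodF h1
    have : f' = y := Subtype.ext hf'y
    rwa [← this]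

theorem map_normal_of_npc [Finite G] {q : ℕ} [hq : Fact q.Prime] (E : Subgroup G) [hEn : E.Normal]
    (K : Subgroup ↥E) (hKn : K.Normal) (hKcop : (Nat.card K).Coprime q) {k : ℕ}
    (hk : K.index = q ^ k) : (K.map E.subtype).Normal := by
  constructor
  rintro _ ⟨x, hx, rfl⟩ g
  have hyE : g * (x : G) * g⁻¹ ∈ E := hEn.conj_mem _ x.2 g
  refine ⟨⟨_, hyE⟩, ?_, rfl⟩
  set y : ↥E := ⟨g * (x : G) * g⁻¹, hyE⟩ with hy
  have h1 : y ^ Nat.card K = 1 := by
    apply Subtype.ext
    show (g * (x : G) * g⁻¹) ^ Nat.card K = 1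
    rw [conj_pow]
    have h0 : (x : ↥E) ^ Nat.card K = 1 := by
      have := pow_card_eq_one' (G := K) (x := ⟨x, hx⟩)
      exact congrArg Subtype.val this
    have h0' : (x : G) ^ Nat.card K = 1 := by
      have := congrArg Subtype.val h0
      simpa using this
    rw [h0']; simp
  have h2 : (QuotientGroup.mk y : ↥E ⧸ K) ^ Nat.card K = 1 := by
    rw [← QuotientGroup.mk_pow, h1]; rfl
  have h3 : (QuotientGroup.mk y : ↥E ⧸ K) ^ (q ^ k) = 1 := by
    rw [← hk, Subgroup.index_eq_card]; exact pow_card_eq_one'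
  have h4 : orderOf (QuotientGroup.mk y : ↥E ⧸ K) = 1 :=
    Nat.Coprime.eq_one_of_dvd
      ((hKcop.coprime_dvd_left (orderOf_dvd_of_pow_eq_one h2)).pow_right k)
      (orderOf_dvd_of_pow_eq_one h3)
  exact (QuotientGroup.eq_one_iff y).mp (orderOf_eq_one_iff.mp h4)

theorem ssChain_bot_of_hypS [Finite G] : ∀ (n : ℕ) (E : Subgroup G), E.Normal → Nat.card E = n →
    HypS E → SSChain (⊥ : Subgroup G) E := by
  intro n
  induction n using Nat.strong_induction_on with
  | _ n ih =>
    intro E hEn hcard hE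
    by_cases hbot : E = ⊥
    · rw [hbot]; exact SSChain.refl ⊥ normal_bot
    have hcard1 : Nat.card E ≠ 1 := fun h1 => hbot (Subgroup.card_eq_one.mp h1)
    set q := (Nat.card E).minFac with hqdef
    have hqp : q.Prime := Nat.minFac_prime hcard1
    haveI : Fact q.Prime := ⟨hqp⟩
    have hdiv : q ∣ Nat.card E := Nat.minFac_dvd _
    have hmin : ∀ r : ℕ, r.Prime → r ∣ Nat.card E → q ≤ r :=
      fun r hr hrd => Nat.minFac_le_of_dvd hr.two_le hrd
    let S : Sylow q ↥E := default
    have hnpc := hasNPC_of_hypS E hE hdiv hmin S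
    rw [Cfsg.Agent.Lib.Helper13.npc_iff] at hnpc
    obtain ⟨K, hKn, hKcop, k, hk⟩ := hnpc
    set T := K.map E.subtype with hTdef
    have hTE : T ≤ E := by rintro _ ⟨y, -, rfl⟩; exact y.2
    haveI hTn : T.Normal := map_normal_of_npc E K hKn hKcop hk
    have hTcard : Nat.card T = Nat.card K := card_map_of_injective E.subtype_injective
    have hTcop : (Nat.card T).Coprime q := by rw [hTcard]; exact hKcop
    have hcardE : Nat.card E = Nat.card T * q ^ k := by
      rw [hTcard, ← hk]; exact (Subgroup.card_mul_index K).symm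
    have hTlt : Nat.card T < n := by
      rw [← hcard]
      have hle : Nat.card T ≤ Nat.card E := Subgroup.card_le_of_le hTE
      rcases hle.lt_or_eq with h | h
      · exact h
      · exfalso
        rw [← h] at hdiv
        have := Nat.Coprime.eq_one_of_dvd hTcop.symm hdiv
        exact hqp.one_lt.ne' this
    have hTrel : T.relIndex E = q ^ k := by
      show (T.subgroupOf E).index = q ^ k
      have hTK : T.subgroupOf E = K := comap_map_eq_self_of_injective E.subtype_injective K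
      rw [hTK]; exact hk
    have hT : HypS T := by
      intro p hp P hPT hPp hPidx hPcyc
      haveI : Fact p.Prime := ⟨hp⟩
      have hPidxE : ¬ p ∣ P.relIndex E := by
        rw [← relIndex_mul_relIndex P T E hPT hTE, hTrel]
        intro hdvd
        rcases (Nat.Prime.dvd_mul hp).mp hdvd with h | h
        · exact hPidx h
        · have hpq : p = q := (Nat.prime_dvd_prime_iff_eq hp hqp).mp (hp.dvd_of_dvd_pow h)
          apply hPcyc
          have hPbot : P = ⊥ := by
            rw [← Subgroup.card_eq_one]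
            obtain ⟨a, ha⟩ := IsPGroup.iff_card.mp hPp
            have h1 : Nat.card P ∣ Nat.card T := Subgroup.card_dvd_of_le hPT
            rw [ha, hpq] at h1
            rw [ha, hpq]
            exact Nat.Coprime.eq_one_of_dvd (hTcop.symm.pow_left a) h1
          rw [hPbot]; infer_instance
      exact hE p hp P (hPT.trans hTE) hPp hPidxE hPcyc
    have hchainT := ih (Nat.card T) hTlt T hTn rfl hT
    set Q := (S : Subgroup ↥E).map E.subtype with hQdef
    have hQE : Q ≤ E := by rintro _ ⟨y, -, rfl⟩; exact y.2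
    have hQp : IsPGroup q Q := S.2.map E.subtype
    have hSQ : Q.subgroupOf E = (S : Subgroup ↥E) :=
      comap_map_eq_self_of_injective E.subtype_injective _
    have hidx : ¬ q ∣ Q.relIndex E := by
      show ¬ q ∣ (Q.subgroupOf E).index
      rw [hSQ]; exact S.not_dvd_index
    have hyp := hsub_data_of_hypS E Q hE hQE hQp hidx
    have hsup : T ⊔ Q = E := by
      apply Subgroup.eq_of_le_of_card_ge (sup_le hTE hQE)
      have h1 : Nat.card T ∣ Nat.card (T ⊔ Q : Subgroup G) := Subgroup.card_dvd_of_le le_sup_left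
      have h2 : Nat.card Q ∣ Nat.card (T ⊔ Q : Subgroup G) := Subgroup.card_dvd_of_le le_sup_right
      have hQcard : Nat.card Q = q ^ (Nat.card E).factorization q := by
        rw [hQdef, card_map_of_injective E.subtype_injective]; exact S.card_eq_multiplicity
      have hkle : q ^ k ∣ Nat.card Q := by
        rw [hQcard]
        apply pow_dvd_pow
        have : q ^ k ∣ Nat.card E := ⟨Nat.card T, by rw [hcardE]; ring⟩
        exact (hqp.pow_dvd_iff_le_factorization (Nat.card_pos.ne')).mp this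
      have hcop : (Nat.card T).Coprime (Nat.card Q) := by
        rw [hQcard]; exact hTcop.pow_right _
      have h3 : Nat.card T * Nat.card Q ∣ Nat.card (T ⊔ Q : Subgroup G) :=
        hcop.mul_dvd_of_dvd_of_dvd h1 h2
      have h4 : Nat.card E ∣ Nat.card (T ⊔ Q : Subgroup G) := by
        rw [hcardE]; exact dvd_trans (Nat.mul_dvd_mul_left _ hkle) h3
      exact Nat.le_of_dvd Nat.card_pos h4
    have htop : normalizer (Q : Set G) ⊔ T = ⊤ := by
      have hfr := Sylow.normalizer_sup_eq_top S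
      have hfr' : normalizer (Q : Set G) ⊔ E = ⊤ := hfr
      rw [← hsup, sup_comm T Q, ← sup_assoc, sup_eq_left.mpr (le_normalizer : Q ≤ normalizer (Q : Set G))]
        at hfr'
      exact hfr'
    have hfin := ssChain_sup_of_hsub Q hQp hyp T hTn htop
    rw [hsup] at hfin
    exact hchainT.trans hfin

end Main

end Cfsg.Agent.Lib.Helper29
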