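import Cfsg.Agent.Lib.Helper29.FusionInvariant
import Cfsg.Agent.Lib.Helper29.ExtendableAut

/-!
A subgroup `Q` of a fully automized receptive subgroup `Qh` such that every map onto `Q` extends uniquely to a
map onto `Qh` has, in its orbit under `Aut_E(Qh)`, a fully automized receptive member.
-/
set_option autoImplicit false

namespace Cfsg.Agent.Lib.Helper29
open Cfsg

variable {Ω : Type*} [Group Ω] {S : Subgroup Ω}

/-- the image of `Q ∩ Qh` under an automorphism of `Qh` -/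
def autMap {Qh : Subgroup Ω} (χ : MulAut Qh) (Q : Subgroup Ω) : Subgroup Ω :=
  (Q.subgroupOf Qh).map (Qh.subtype.comp χ.toMonoidHom)

theorem mem_autMap {Qh : Subgroup Ω} {χ : MulAut Qh} {Q : Subgroup Ω} {y : Ω} :
    y ∈ autMap χ Q ↔ ∃ x : Qh, (x : Ω) ∈ Q ∧ ((χ x : Qh) : Ω) = y := by
  constructor
  · rintro ⟨x, hx, rfl⟩
    exact ⟨x, hx, rfl⟩
  · rintro ⟨x, hx, rfl⟩
    exact ⟨x, hx, rfl⟩

theorem autMap_le {Qh : Subgroup Ω} (χ : MulAut Qh) (Q : Subgroup Ω) : autMap χ Q ≤ Qh := by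
  intro y hy
  obtain ⟨x, _, rfl⟩ := mem_autMap.1 hy
  exact (χ x).2

theorem coe_mem_autMap_iff {Qh : Subgroup Ω} {χ : MulAut Qh} {Q : Subgroup Ω} (x : Qh) :
    ((χ x : Qh) : Ω) ∈ autMap χ Q ↔ (x : Ω) ∈ Q := by
  rw [mem_autMap]
  constructor
  · rintro ⟨x', hx', h⟩
    have : x' = x := χ.injective (Subtype.ext h)
    rw [← this]
    exact hx'
  · intro h
    exact ⟨x, h, rfl⟩

/-- the stabilizer of `Q` in a subgroup `A` of `Aut(Qh)` -/
def stabIn {Qh : Subgroup Ω} (A : Subgroup (MulAut Qh)) (Q : Subgroup Ω) : Subgroup A where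
  carrier := {a | ∀ x : Qh, ((a : MulAut Qh) x : Ω) ∈ Q ↔ (x : Ω) ∈ Q}
  one_mem' := fun x => Iff.rfl
  mul_mem' := by
    intro a b ha hb x
    show (((a : MulAut Qh) ((b : MulAut Qh) x) : Qh) : Ω) ∈ Q ↔ _
    rw [ha, hb]
  inv_mem' := by
    intro a ha x
    have := ha ((a : MulAut Qh)⁻¹ x)
    rw [MulAut.apply_inv_self] at this
    exact this.symm

theorem mem_stabIn {Qh : Subgroup Ω} {A : Subgroup (MulAut Qh)} {Q : Subgroup Ω} {a : A} :
    a ∈ stabIn A Q ↔ ∀ x : Qh, ((a : MulAut Qh) x : Ω) ∈ Q ↔ (x : Ω) ∈ Q := Iff.rfl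

theorem stabIn_autMap {Qh : Subgroup Ω} {A : Subgroup (MulAut Qh)} {Q : Subgroup Ω} (χ : A) (a : A) :
    a ∈ stabIn A (autMap (χ : MulAut Qh) Q) ↔ χ⁻¹ * a * χ ∈ stabIn A Q := by
  rw [mem_stabIn, mem_stabIn]
  constructor
  · intro h x
    have h1 := h ((χ : MulAut Qh) x)
    rw [coe_mem_autMap_iff] at h1
    rw [← h1]
    show ((((χ : MulAut Qh)⁻¹ ((a : MulAut Qh) ((χ : MulAut Qh) x)) : Qh)) : Ω) ∈ Q ↔ _
    rw [← coe_mem_autMap_iff (χ := (χ : MulAut Qh)), MulAut.apply_inv_self]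
  · intro h x
    have h1 := h ((χ : MulAut Qh)⁻¹ x)
    have e : ((χ⁻¹ * a * χ : A) : MulAut Qh) ((χ : MulAut Qh)⁻¹ x) =
        (χ : MulAut Qh)⁻¹ ((a : MulAut Qh) x) := by
      show (χ : MulAut Qh)⁻¹ ((a : MulAut Qh) ((χ : MulAut Qh) ((χ : MulAut Qh)⁻¹ x))) = _
      rw [MulAut.apply_inv_self]
    rw [e] at h1
    rw [← coe_mem_autMap_iff (χ := (χ : MulAut Qh)) (Q := Q), MulAut.apply_inv_self] at h1
    rw [← coe_mem_autMap_iff (χ := (χ : MulAut Qh)) (Q := Q) ((χ : MulAut Qh)⁻¹ x),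
      MulAut.apply_inv_self] at h1
    exact h1

/-- the hypotheses on the candidate subgroups of `Qh` -/
structure HullData (E : FusionSystem S) (Qh : Subgroup Ω) (C : Subgroup Ω → Prop) : Prop where
  le : ∀ Q, C Q → Q ≤ Qh
  aut : ∀ Q, C Q → ∀ χ ∈ E.autGroup Qh, C (autMap χ Q)
  ext : ∀ Q, C Q → ∀ (R : Subgroup Ω) (φ : R →* Ω), φ ∈ E.Hom R → φ.range = Q →
    ∃ (Rh : Subgroup Ω) (hR : R ≤ Rh),
      FusionSystem.normalizerIn S R ≤ Subgroup.normalizer (Rh : Set Ω) ∧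
      ∃ φh ∈ E.Hom Rh, φh.range = Qh ∧ ∀ x : R, φh (Subgroup.inclusion hR x) = φ x
  extAut : ∀ Q, C Q → ∀ α ∈ E.autGroup Q, ∃ αh ∈ E.autGroup Qh,
    ∀ (x : Q) (hx : (x : Ω) ∈ Qh), ((αh ⟨x, hx⟩ : Qh) : Ω) = (α x : Q)
  uniq : ∀ Q, C Q → ∀ α ∈ E.autGroup Qh, (∀ x : Qh, (x : Ω) ∈ Q → α x = x) → α = 1
  norm : ∀ Q, C Q → FusionSystem.normalizerIn S Q ≤ Subgroup.normalizer (Qh : Set Ω)

theorem HullData.uniq' {E : FusionSystem S} {Qh : Subgroup Ω} {C : Subgroup Ω → Prop} (hd : HullData E Qh C)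
    {Q : Subgroup Ω} (hQ : C Q) {a b : MulAut Qh} (ha : a ∈ E.autGroup Qh) (hb : b ∈ E.autGroup Qh)
    (h : ∀ x : Qh, (x : Ω) ∈ Q → a x = b x) : a = b := by
  have h1 : b⁻¹ * a = 1 := by
    apply hd.uniq Q hQ _ (Subgroup.mul_mem _ (Subgroup.inv_mem _ hb) ha)
    intro x hx
    rw [MulAut.mul_apply, h x hx, MulAut.inv_apply_self]
  exact (inv_mul_eq_one.1 h1).symm

/-- the receptivity part of the hull lemma -/
theorem receptive_of_hull [Finite S] {E : FusionSystem S} {Qh : Subgroup Ω} {C : Subgroup Ω → Prop}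
    (hd : HullData E Qh C) (hrec : E.IsReceptive Qh) {Q : Subgroup Ω} (hQ : C Q) : E.IsReceptive Q := by
  have hQhS : Qh ≤ S := hrec.1
  have hQle : Q ≤ Qh := hd.le Q hQ
  have hQS : Q ≤ S := hQle.trans hQhS
  refine ⟨hQS, fun R φ hφ hr => ?_⟩
  obtain ⟨Rh, hR, hN, φh, hφh, hφhr, hφhe⟩ := hd.ext Q hQ R φ hφ hr
  obtain ⟨ψ, hψ, hψe⟩ := hrec.2 Rh φh hφh hφhr
  have hRhS : Rh ≤ S := (E.le_of_mem hφh).1
  have hφQ : ∀ x : R, φ x ∈ Q := fun x => hr ▸ ⟨x, rfl⟩
  have hle : FusionSystem.extender S R φ ≤ FusionSystem.extender S Rh φh := by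
    unfold FusionSystem.extender
    rw [Subgroup.closure_le]
    rintro g ⟨hgS, hgN, h, hhS, hrel⟩
    apply Subgroup.subset_closure
    have hgNh : g ∈ Subgroup.normalizer (Rh : Set Ω) := hN ⟨hgS, hgN⟩
    refine ⟨hgS, hgNh, h, hhS, ?_⟩
    -- `h` normalizes `Q`
    have hhQ : h ∈ Subgroup.normalizer (Q : Set Ω) := by
      have key1 : ∀ q ∈ Q, h * q * h⁻¹ ∈ Q := by
        intro q hq
        obtain ⟨x, rfl⟩ := hr.ge hq
        have hx : g * (x : Ω) * g⁻¹ ∈ R := (Subgroup.mem_normalizer_iff.1 hgN x).1 x.2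
        rw [← hrel x hx]
        exact hφQ _
      have key2 : ∀ q ∈ Q, h⁻¹ * q * h⁻¹⁻¹ ∈ Q := by
        intro q hq
        obtain ⟨x', rfl⟩ := hr.ge hq
        have hx : g⁻¹ * (x' : Ω) * g⁻¹⁻¹ ∈ R :=
          (Subgroup.mem_normalizer_iff.1 (Subgroup.inv_mem _ hgN) x').1 x'.2
        have hx2 : g * (g⁻¹ * (x' : Ω) * g⁻¹⁻¹) * g⁻¹ ∈ R := by
          have e : g * (g⁻¹ * (x' : Ω) * g⁻¹⁻¹) * g⁻¹ = x' := by group
          rw [e]
          exact x'.2
        have h3 := hrel ⟨_, hx⟩ hx2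
        have e : (⟨g * (g⁻¹ * (x' : Ω) * g⁻¹⁻¹) * g⁻¹, hx2⟩ : R) = x' := by
          apply Subtype.ext
          show g * (g⁻¹ * (x' : Ω) * g⁻¹⁻¹) * g⁻¹ = x'
          group
        rw [e] at h3
        rw [h3]
        have e2 : h⁻¹ * (h * φ ⟨_, hx⟩ * h⁻¹) * h⁻¹⁻¹ = φ ⟨_, hx⟩ := by group
        rw [e2]
        exact hφQ _
      rw [Subgroup.mem_normalizer_iff]
      intro q
      constructor
      · exact key1 q
      · intro hq
        have h4 := key2 _ hq
        have e : h⁻¹ * (h * q * h⁻¹) * h⁻¹⁻¹ = q := by group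
        rwa [e] at h4
    have hhQh : h ∈ Subgroup.normalizer (Qh : Set Ω) := hd.norm Q hQ ⟨hhS, hhQ⟩
    -- the two automorphisms of `Qh`
    have hb : Qh.normalizerMonoidHom ⟨h, hhQh⟩ ∈ E.autGroup Qh :=
      autInducedBy_le_autGroup E hQhS (Subgroup.subset_closure ⟨h, hhS, fun x => rfl⟩)
    have hcg : Rh.normalizerMonoidHom ⟨g, hgNh⟩ ∈ E.autGroup Rh :=
      autInducedBy_le_autGroup E hRhS (Subgroup.subset_closure ⟨g, hgS, fun x => rfl⟩)
    have ha := congr_mem_autGroup E hφh hφhr hcg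
    have hab : MulAut.congr (isoOfHom E hφh hφhr) (Rh.normalizerMonoidHom ⟨g, hgNh⟩) =
        Qh.normalizerMonoidHom ⟨h, hhQh⟩ := by
      apply hd.uniq' hQ ha hb
      intro y hy
      obtain ⟨x, hxy⟩ := hr.ge hy
      have hy' : y = isoOfHom E hφh hφhr (Subgroup.inclusion hR x) := by
        apply Subtype.ext
        rw [isoOfHom_coe, hφhe, hxy]
      rw [hy']
      apply Subtype.ext
      show ((isoOfHom E hφh hφhr (Rh.normalizerMonoidHom ⟨g, hgNh⟩
        ((isoOfHom E hφh hφhr).symm (isoOfHom E hφh hφhr (Subgroup.inclusion hR x)))) : Qh) : Ω) = _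
      rw [MulEquiv.symm_apply_apply, isoOfHom_coe]
      have hx : g * (x : Ω) * g⁻¹ ∈ R := (Subgroup.mem_normalizer_iff.1 hgN x).1 x.2
      have e1 : Rh.normalizerMonoidHom ⟨g, hgNh⟩ (Subgroup.inclusion hR x) =
          Subgroup.inclusion hR ⟨g * (x : Ω) * g⁻¹, hx⟩ := Subtype.ext rfl
      rw [e1, hφhe, hrel x hx]
      show _ = h * ((isoOfHom E hφh hφhr (Subgroup.inclusion hR x) : Qh) : Ω) * h⁻¹
      rw [isoOfHom_coe, hφhe]
    intro x hx
    have e2 := congrArg (fun f : MulAut Qh => ((f (isoOfHom E hφh hφhr x) : Qh) : Ω)) hab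
    have e3 : ((MulAut.congr (isoOfHom E hφh hφhr) (Rh.normalizerMonoidHom ⟨g, hgNh⟩)
        (isoOfHom E hφh hφhr x) : Qh) : Ω) = φh ⟨g * (x : Ω) * g⁻¹, hx⟩ := by
      show ((isoOfHom E hφh hφhr (Rh.normalizerMonoidHom ⟨g, hgNh⟩
        ((isoOfHom E hφh hφhr).symm (isoOfHom E hφh hφhr x))) : Qh) : Ω) = _
      rw [MulEquiv.symm_apply_apply, isoOfHom_coe]
      rfl
    rw [← e3]
    exact e2
  refine ⟨ψ.comp (Subgroup.inclusion hle), restrict_mem E hle hψ, fun x hP hN' => ?_⟩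
  have := hψe x (hR hP) (hle hN')
  rw [← hφhe ⟨x, hP⟩]
  exact this

/-- the hull lemma: some `Aut_E(Qh)`-image of a candidate is fully automized and receptive -/
theorem exists_fa_rec_of_hull [Finite S] {p : ℕ} [Fact p.Prime] (hS : IsPGroup p S) {E : FusionSystem S}
    {Qh : Subgroup Ω} {C : Subgroup Ω → Prop} (hd : HullData E Qh C) (hfa : E.IsFullyAutomized p Qh)
    (hrec : E.IsReceptive Qh) {Q₀ : Subgroup Ω} (hQ₀ : C Q₀) :
    ∃ Q, C Q ∧ E.IsConj Q₀ Q ∧ E.IsFullyAutomized p Q ∧ E.IsReceptive Q := by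
  have hQhS : Qh ≤ S := hrec.1
  haveI : Finite Qh := finite_of_le hQhS
  obtain ⟨_, Sy, hSy⟩ := hfa
  obtain ⟨T⟩ : Nonempty (Sylow p (stabIn (E.autGroup Qh) Q₀)) := inferInstance
  have hTp : IsPGroup p ((T : Subgroup (stabIn (E.autGroup Qh) Q₀)).map
      (stabIn (E.autGroup Qh) Q₀).subtype) := T.isPGroup'.map _
  obtain ⟨χ, hχ⟩ := exists_cj_le_sylow Sy hTp
  have hQ : C (autMap (χ : MulAut Qh) Q₀) := hd.aut Q₀ hQ₀ χ χ.2
  have hQle : autMap (χ : MulAut Qh) Q₀ ≤ Qh := hd.le _ hQ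
  have hQS : autMap (χ : MulAut Qh) Q₀ ≤ S := hQle.trans hQhS
  haveI : Finite (autMap (χ : MulAut Qh) Q₀) := finite_of_le hQS
  refine ⟨autMap (χ : MulAut Qh) Q₀, hQ, ?_, ?_, receptive_of_hull hd hrec hQ⟩
  · -- conjugacy
    have hχE : Qh.subtype.comp (χ : MulAut Qh).toMonoidHom ∈ E.Hom Qh := (mem_autGroup_iff E hQhS).1 χ.2
    refine ⟨_, restrict_mem E (hd.le Q₀ hQ₀) hχE, ?_⟩
    ext y
    rw [mem_autMap]
    constructor
    · rintro ⟨x, rfl⟩
      exact ⟨Subgroup.inclusion (hd.le Q₀ hQ₀) x, x.2, rfl⟩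
    · rintro ⟨x, hx, rfl⟩
      exact ⟨⟨x, hx⟩, rfl⟩
  · -- fully automized
    refine ⟨hQS, ?_⟩
    have hex : ∀ α : E.autGroup (autMap (χ : MulAut Qh) Q₀), ∃ αh : E.autGroup Qh,
        ∀ x : autMap (χ : MulAut Qh) Q₀, (((αh : MulAut Qh) ⟨x, hQle x.2⟩ : Qh) : Ω) =
          ((α : MulAut (autMap (χ : MulAut Qh) Q₀)) x : autMap (χ : MulAut Qh) Q₀) := by
      intro α
      obtain ⟨αh, hαh, h⟩ := hd.extAut _ hQ α α.2
      exact ⟨⟨αh, hαh⟩, fun x => h x _⟩
    choose ε hε using hex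
    have huniq : ∀ a b : E.autGroup Qh, (∀ x : autMap (χ : MulAut Qh) Q₀,
        (a : MulAut Qh) ⟨x, hQle x.2⟩ = (b : MulAut Qh) ⟨x, hQle x.2⟩) → a = b := by
      intro a b h
      apply Subtype.ext
      apply hd.uniq' hQ a.2 b.2
      intro x hx
      exact h ⟨x, hx⟩
    have hεmul : ∀ α β, ε (α * β) = ε α * ε β := by
      intro α β
      apply huniq
      intro x
      apply Subtype.ext
      rw [hε]
      show _ = (((ε α : MulAut Qh) ((ε β : MulAut Qh) ⟨x, hQle x.2⟩) : Qh) : Ω)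
      have e : (ε β : MulAut Qh) ⟨x, hQle x.2⟩ =
          ⟨((β : MulAut (autMap (χ : MulAut Qh) Q₀)) x : autMap (χ : MulAut Qh) Q₀), hQle (Subtype.property _)⟩ :=
        Subtype.ext (hε β x)
      rw [e, hε α]
      rfl
    have hεinj : Function.Injective (MonoidHom.mk' ε hεmul) := by
      intro α β h
      have h' : ε α = ε β := h
      apply Subtype.ext
      ext x
      rw [← hε α x, ← hε β x, h']
    -- the image of ε is the stabilizer
    have hεstab : ∀ α, ε α ∈ stabIn (E.autGroup Qh) (autMap (χ : MulAut Qh) Q₀) := by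
      intro α
      have hfwd : ∀ (β : E.autGroup (autMap (χ : MulAut Qh) Q₀)) (x : Qh),
          (x : Ω) ∈ autMap (χ : MulAut Qh) Q₀ → (((ε β : MulAut Qh) x : Qh) : Ω) ∈ autMap (χ : MulAut Qh) Q₀ := by
        intro β x hx
        have := hε β ⟨x, hx⟩
        rw [this]
        exact Subtype.property _
      intro x
      constructor
      · intro hx
        have h1 := hfwd α⁻¹ _ hx
        have h2 : ε α⁻¹ = (ε α)⁻¹ := map_inv (MonoidHom.mk' ε hεmul) α
        rw [h2] at h1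
        have h3 : (((ε α)⁻¹ : E.autGroup Qh) : MulAut Qh) ((ε α : MulAut Qh) x) = x := by
          show (ε α : MulAut Qh)⁻¹ ((ε α : MulAut Qh) x) = x
          rw [MulAut.inv_apply_self]
        rw [h3] at h1
        exact h1
      · exact hfwd α x
    have hstabε : ∀ a ∈ stabIn (E.autGroup Qh) (autMap (χ : MulAut Qh) Q₀), ∃ α, ε α = a := by
      intro a ha
      have haE : Qh.subtype.comp (a : MulAut Qh).toMonoidHom ∈ E.Hom Qh := (mem_autGroup_iff E hQhS).1 a.2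
      have h1 := restrict_mem E hQle haE
      have h2 : ∀ x : autMap (χ : MulAut Qh) Q₀,
          ((Qh.subtype.comp (a : MulAut Qh).toMonoidHom).comp (Subgroup.inclusion hQle)) x ∈
            autMap (χ : MulAut Qh) Q₀ := by
        intro x
        exact (ha (Subgroup.inclusion hQle x)).2 x.2
      obtain ⟨α, hα, hαv⟩ := exists_aut_of_hom E h1 h2
      refine ⟨⟨α, hα⟩, ?_⟩
      apply huniq
      intro x
      apply Subtype.ext
      rw [hε]
      exact hαv x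
    -- sizes
    have hrange : (MonoidHom.mk' ε hεmul).range = stabIn (E.autGroup Qh) (autMap (χ : MulAut Qh) Q₀) := by
      ext a
      constructor
      · rintro ⟨α, rfl⟩
        exact hεstab α
      · intro ha
        obtain ⟨α, hα⟩ := hstabε a ha
        exact ⟨α, hα⟩
    have hstabcj : stabIn (E.autGroup Qh) (autMap (χ : MulAut Qh) Q₀) =
        cj χ (stabIn (E.autGroup Qh) Q₀) := by
      ext a
      rw [stabIn_autMap, mem_cj]
    have hT'stab : cj χ ((T : Subgroup (stabIn (E.autGroup Qh) Q₀)).map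
        (stabIn (E.autGroup Qh) Q₀).subtype) ≤ stabIn (E.autGroup Qh) (autMap (χ : MulAut Qh) Q₀) := by
      rw [hstabcj]
      apply cj_mono
      rintro _ ⟨t, _, rfl⟩
      exact t.2
    have hcardX : Nat.card (E.autGroup (autMap (χ : MulAut Qh) Q₀)) =
        Nat.card (stabIn (E.autGroup Qh) Q₀) := by
      rw [← card_cj χ (stabIn (E.autGroup Qh) Q₀), ← hstabcj, ← hrange]
      exact (Nat.card_congr (MonoidHom.ofInjective hεinj).toEquiv)
    have hcardT' : Nat.card (cj χ ((T : Subgroup (stabIn (E.autGroup Qh) Q₀)).map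
        (stabIn (E.autGroup Qh) Q₀).subtype)) =
        p ^ (Nat.card (E.autGroup (autMap (χ : MulAut Qh) Q₀))).factorization p := by
      rw [card_cj, Subgroup.card_map_of_injective (Subgroup.subtype_injective _), hcardX]
      exact T.card_eq_multiplicity
    have hcardU : Nat.card ((cj χ ((T : Subgroup (stabIn (E.autGroup Qh) Q₀)).map
        (stabIn (E.autGroup Qh) Q₀).subtype)).comap (MonoidHom.mk' ε hεmul)) =
        p ^ (Nat.card (E.autGroup (autMap (χ : MulAut Qh) Q₀))).factorization p := by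
      rw [← hcardT', ← Subgroup.card_map_of_injective hεinj, Subgroup.map_comap_eq, hrange,
        inf_eq_right.2 hT'stab]
    -- the Sylow subgroup
    have hUle : (cj χ ((T : Subgroup (stabIn (E.autGroup Qh) Q₀)).map
        (stabIn (E.autGroup Qh) Q₀).subtype)).comap (MonoidHom.mk' ε hεmul) ≤
        (autInducedBy S (autMap (χ : MulAut Qh) Q₀)).subgroupOf (E.autGroup (autMap (χ : MulAut Qh) Q₀)) := by
      intro α hα
      have h1 : ε α ∈ (Sy : Subgroup (E.autGroup Qh)) := hχ hα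
      rw [hSy, Subgroup.mem_subgroupOf, autInducedBy_eq_map] at h1
      obtain ⟨s, hsS, hs⟩ := h1
      have hst := hεstab α
      have hsN : (s : Ω) ∈ Subgroup.normalizer ((autMap (χ : MulAut Qh) Q₀ : Subgroup Ω) : Set Ω) := by
        rw [Subgroup.mem_normalizer_iff]
        intro y
        constructor
        · intro hy
          have h3 := (hst ⟨y, hQle hy⟩).2 hy
          rw [← hs] at h3
          exact h3
        · intro hy
          have hyQh : y ∈ Qh := by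
            have h4 := (Subgroup.mem_normalizer_iff.1 s.2 y).2 (hQle hy)
            exact h4
          have h3 := (hst ⟨y, hyQh⟩).1
          rw [← hs] at h3
          exact h3 hy
      rw [Subgroup.mem_subgroupOf]
      apply Subgroup.subset_closure
      refine ⟨s, hsS, fun x => ?_⟩
      rw [← hε α x, ← hs]
      rfl
    have hYp : IsPGroup p ((autInducedBy S (autMap (χ : MulAut Qh) Q₀)).subgroupOf
        (E.autGroup (autMap (χ : MulAut Qh) Q₀))) :=
      (isPGroup_autInducedBy hS _).comap_subtype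
    have hYeq := (Sylow.ofCard _ hcardU).is_maximal' hYp hUle
    exact ⟨Sylow.ofCard _ hcardU, hYeq.symm⟩

end Cfsg.Agent.Lib.Helper29
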