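import Mathlib.GroupTheory.Sylow

set_option autoImplicit false

namespace Cfsg.Agent.Lib.Helper29

section

variable {A B : Type*} [Group A] [Group B] (π : A →* B)

/-- automorphisms of `A` preserving the kernel of `π` -/
def kerStab : Subgroup (MulAut A) where
  carrier := {β | ∀ x, π x = 1 ↔ π (β x) = 1}
  one_mem' := fun _ => Iff.rfl
  mul_mem' := by
    intro β γ hβ hγ x
    exact (hγ x).trans (hβ (γ x))
  inv_mem' := by
    intro β hβ x
    have h := hβ (β⁻¹ x)
    rw [MulAut.apply_inv_self] at h
    exact h.symm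

variable {π}

theorem kerStab_ker_le (β : kerStab π) : π.ker ≤ (π.comp (β : MulAut A).toMonoidHom).ker := by
  intro x hx
  rw [MonoidHom.mem_ker] at hx ⊢
  exact (β.2 x).1 hx

variable (hπ : Function.Surjective π)

/-- the endomorphism of `B` induced by `β` -/
noncomputable def indEnd (β : kerStab π) : B →* B :=
  π.liftOfSurjective hπ ⟨π.comp (β : MulAut A).toMonoidHom, kerStab_ker_le β⟩

theorem indEnd_apply (β : kerStab π) (x : A) : indEnd hπ β (π x) = π ((β : MulAut A) x) :=
  MonoidHom.liftOfRightInverse_comp_apply π _ _ ⟨π.comp (β : MulAut A).toMonoidHom, kerStab_ker_le β⟩ x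

/-- the automorphism of `B` induced by `β` -/
noncomputable def indAut (β : kerStab π) : MulAut B where
  toFun := indEnd hπ β
  invFun := indEnd hπ β⁻¹
  left_inv := by
    intro y
    obtain ⟨x, rfl⟩ := hπ y
    rw [indEnd_apply, indEnd_apply]
    show π ((β : MulAut A)⁻¹ ((β : MulAut A) x)) = π x
    rw [MulAut.inv_apply_self]
  right_inv := by
    intro y
    obtain ⟨x, rfl⟩ := hπ y
    rw [indEnd_apply, indEnd_apply]
    show π ((β : MulAut A) ((β : MulAut A)⁻¹ x)) = π x
    rw [MulAut.apply_inv_self]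
  map_mul' := map_mul _

theorem indAut_apply (β : kerStab π) (x : A) : indAut hπ β (π x) = π ((β : MulAut A) x) :=
  indEnd_apply hπ β x

/-- the induced action on the quotient, as a homomorphism -/
noncomputable def indHom : kerStab π →* MulAut B where
  toFun := indAut hπ
  map_one' := by
    ext y
    obtain ⟨x, rfl⟩ := hπ y
    rw [indAut_apply]
    rfl
  map_mul' := by
    intro β γ
    ext y
    obtain ⟨x, rfl⟩ := hπ y
    rw [indAut_apply, MulAut.mul_apply, indAut_apply, indAut_apply]
    rfl

theorem indHom_apply (β : kerStab π) (x : A) : indHom hπ β (π x) = π ((β : MulAut A) x) :=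
  indAut_apply hπ β x

end

/-- the image of a Sylow subgroup under a homomorphism is a Sylow subgroup of the range -/
theorem exists_sylow_range {G H : Type*} [Group G] [Group H] [Finite G] {p : ℕ} [Fact p.Prime]
    (Θ : G →* H) (Sy : Sylow p G) :
    ∃ R : Sylow p Θ.range, (R : Subgroup Θ.range) = ((Sy : Subgroup G).map Θ).subgroupOf Θ.range := by
  refine ⟨Sy.mapSurjective (f := Θ.rangeRestrict) Θ.rangeRestrict_surjective, ?_⟩
  rw [Sylow.coe_mapSurjective]
  ext y
  rw [Subgroup.mem_subgroupOf]
  constructor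
  · rintro ⟨x, hx, rfl⟩
    exact ⟨x, hx, rfl⟩
  · rintro ⟨x, hx, hxy⟩
    exact ⟨x, hx, Subtype.ext hxy⟩

end Cfsg.Agent.Lib.Helper29
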