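import Cfsg.Agent.Lib.Helper29.TateMain
import Cfsg.Agent.Lib.Helper29.FocalClosed
import Cfsg.Agent.Lib.Helper29.FusionInner

/-!
Criteria for a saturated fusion system to be the inner fusion system, via Tate's theorem.
-/
set_option autoImplicit false

namespace Cfsg.Agent.Lib.Helper29
open Cfsg
open scoped commutatorElement

universe u
variable {Ω : Type u} [Group Ω] {S : Subgroup Ω}

theorem isPGroup_of_pResidual_eq_bot {A : Type*} [Group A] [Finite A] (p : ℕ) [Fact p.Prime]
    (h : pResidual p A = ⊥) : IsPGroup p A := by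
  intro g
  have hpos : 0 < orderOf g := orderOf_pos g
  obtain ⟨k, m, hm, hkm⟩ := Nat.exists_eq_pow_mul_and_not_dvd hpos.ne' p (Fact.out : p.Prime).ne_one
  refine ⟨k, ?_⟩
  have hcop : Nat.Coprime m p := by
    rw [Nat.coprime_comm]
    exact (Nat.Prime.coprime_iff_not_dvd (Fact.out : p.Prime)).2 hm
  have h1 : (g ^ p ^ k) ^ m = 1 := by
    rw [← pow_mul, ← hkm]
    exact pow_orderOf_eq_one g
  have h2 := mem_pResidual_of_pow_eq_one (p := p) hcop h1
  rw [h, Subgroup.mem_bot] at h2
  exact h2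

theorem inner_of_hyperfocal_eq_bot [Finite S] (p : ℕ) [Fact p.Prime] (hS : IsPGroup p S)
    (F : FusionSystem S) (hF : F.IsSaturated p) (h : F.hyperfocalSubgroup p = ⊥) :
    ∀ P : Subgroup Ω, F.Hom P = (innerFusionSystem S).Hom P := by
  have hp : ∀ P : Subgroup Ω, P ≤ S → IsPGroup p (F.autGroup P) := by
    intro P hPS
    haveI : Finite P := finite_of_le hPS
    apply isPGroup_of_pResidual_eq_bot
    rw [eq_bot_iff]
    intro a ha
    rw [Subgroup.mem_bot]
    apply Subtype.ext
    ext x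
    have hmem : (x : Ω)⁻¹ * (((a : MulAut P) x : P) : Ω) ∈ F.hyperfocalSubgroup p := by
      apply Subgroup.subset_closure
      exact ⟨P, a, x, hPS, ha, rfl⟩
    rw [h, Subgroup.mem_bot, inv_mul_eq_one] at hmem
    exact hmem.symm
  intro P
  ext φ
  constructor
  · intro hφ
    have hPS : P ≤ S := le_of_hom_mem F hφ
    obtain ⟨g, hg, hgv⟩ := hom_eq_conj_of_isPGroup_aut p hS F hF hp _ P hPS rfl φ hφ
    exact ⟨hPS, g, hg, hgv⟩
  · rintro ⟨hPS, g, hg, hgv⟩
    have e : φ = conjHom P g := by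
      ext x
      exact hgv x
    rw [e]
    exact F.conj_mem hPS hg

/-- a saturated system with `Aut_F(S)` inner and a strongly closed subgroup between `[S,S]` and `Φ(S)` is inner -/
theorem inner_of_closed [Finite S] (p : ℕ) [Fact p.Prime] (hS : IsPGroup p S) (F : FusionSystem S)
    (hF : F.IsSaturated p) (R : Subgroup Ω) (hR : F.StronglyClosed R) (hcomm : ⁅S, S⁆ ≤ R)
    (hRΦ : R ≤ (frattini S).map S.subtype)
    (hAutS : ∀ α ∈ F.autGroup S, ∃ s ∈ S, ∀ x : S, ((α x : S) : Ω) = s * x * s⁻¹) :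
    ∀ P : Subgroup Ω, F.Hom P = (innerFusionSystem S).Hom P := by
  apply inner_of_hyperfocal_eq_bot p hS F hF
  have hfoc := focal_le_of_stronglyClosed p hS F hF R hR hcomm hAutS
  have hhyp : F.hyperfocalSubgroup p ≤ (frattini S).map S.subtype := by
    refine le_trans ?_ (hfoc.trans hRΦ)
    rw [focal_eq_hyperfocal_sup p hS F hF]
    exact le_sup_left
  rw [eq_bot_iff]
  apply hyperfocal_le_of_frattini p hS F hF ⊥ bot_le
  · intro s _ u hu
    rw [Subgroup.mem_bot] at hu ⊢
    rw [hu]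
    group
  · exact hhyp.trans le_sup_left

end Cfsg.Agent.Lib.Helper29
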