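import Cfsg.Agent.Lib.Helper29.KNormConj

set_option autoImplicit false
open Cfsg

namespace Cfsg.Agent.Lib.Helper29

variable {Ω : Type*} [Group Ω] {S : Subgroup Ω}

theorem mem_normalizer_sup' {n : Ω} {A B : Subgroup Ω} [Finite ↥(A ⊔ B)]
    (hA : n ∈ Subgroup.normalizer (A : Set Ω)) (hB : n ∈ Subgroup.normalizer (B : Set Ω)) :
    n ∈ Subgroup.normalizer ((A ⊔ B : Subgroup Ω) : Set Ω) := by
  have hfin : Finite ↥((A ⊔ B : Subgroup Ω) : Set Ω) := ‹Finite ↥(A ⊔ B)›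
  apply Subgroup.mem_normalizer_fintype
  intro x hx
  have h1 : cj n (A ⊔ B) ≤ A ⊔ B := by
    rw [cj_sup]
    refine sup_le_sup ?_ ?_
    · rintro _ ⟨y, hy, rfl⟩
      exact (Subgroup.mem_normalizer_iff.1 hA y).1 hy
    · rintro _ ⟨y, hy, rfl⟩
      exact (Subgroup.mem_normalizer_iff.1 hB y).1 hy
  exact h1 (conj_mem_cj hx)

/-- goodness of `P ≤ N₀` -/
def GoodK (p : ℕ) (F : FusionSystem S) {Q : Subgroup Ω} (K : Subgroup (MulAut Q)) (N₀ P : Subgroup Ω) :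
    Prop :=
  P ≤ N₀ ∧ F.IsReceptive (P ⊔ Q) ∧ IsSylowSub p (TK N₀ Q P) (AutK F K P)

theorem AutK_le_stabSub (F : FusionSystem S) {Q : Subgroup Ω} (K : Subgroup (MulAut Q)) (P : Subgroup Ω) :
    AutK F K P ≤ stabSub (P ⊔ Q) P := fun _ h => h.1.2

/-- restriction `AutK → Aut(P)` -/
def resK (F : FusionSystem S) {Q : Subgroup Ω} (K : Subgroup (MulAut Q)) (P : Subgroup Ω) :
    ↥(AutK F K P) →* MulAut P :=
  (resAut le_sup_left).comp (Subgroup.inclusion (AutK_le_stabSub F K P))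

theorem resK_apply_coe (F : FusionSystem S) {Q : Subgroup Ω} (K : Subgroup (MulAut Q)) (P : Subgroup Ω)
    (α : AutK F K P) (x : P) :
    ((resK F K P α x : P) : Ω) =
      (((α : MulAut ↥(P ⊔ Q)) (Subgroup.inclusion le_sup_left x) : ↥(P ⊔ Q)) : Ω) := rfl

variable {F : FusionSystem S} {Q : Subgroup Ω} {K : Subgroup (MulAut Q)} {N₀ : Subgroup Ω}
  {E : FusionSystem N₀}

/-- `Aut_E(P)` is the image of `AutK` under restriction -/
theorem autGroup_eq_range_resK [Finite S] (h : KNorm F Q K N₀ E) {P : Subgroup Ω} (hP : P ≤ N₀) :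
    E.autGroup P = (resK F K P).range := by
  have hRS := h.sup_le_S hP
  have : Finite ↥(P ⊔ Q) := finite_of_le hRS
  ext α
  rw [mem_autGroup_iff E hP, h.mem_hom]
  constructor
  · rintro ⟨_, _, _, ψ, hψ, hψP, κ, hκ, hκe⟩
    have hval : ∀ z, ψ z ∈ P ⊔ Q := sup_hom_mem ψ
      (fun x => by rw [hψP]; exact (le_sup_left : P ≤ P ⊔ Q) (α x).2)
      (fun x => by rw [hκe]; exact (le_sup_right : Q ≤ P ⊔ Q) (κ x).2)
    obtain ⟨α', hα', hα'e⟩ := exists_aut_of_hom F hψ hval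
    have hmem : α' ∈ AutK F K P := by
      rw [mem_AutK]
      refine ⟨hα', fun x => ?_, κ, hκ, fun x => ?_⟩
      · constructor
        · intro hx
          rw [hα'e]
          have e : x = Subgroup.inclusion le_sup_left (⟨(x : Ω), hx⟩ : P) := Subtype.ext rfl
          rw [e, hψP]
          exact (α ⟨x, hx⟩).2
        · intro hx
          have h1 : ψ (Subgroup.inclusion le_sup_left (α⁻¹ ⟨_, hx⟩)) = ψ x := by
            rw [hψP]
            show ((α (α⁻¹ ⟨_, hx⟩) : P) : Ω) = _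
            rw [MulAut.apply_inv_self]
            exact hα'e x
          have h2 := F.injective_of_mem hψ h1
          rw [← h2]
          exact (α⁻¹ ⟨_, hx⟩).2
      · rw [hα'e]
        exact hκe x
    refine ⟨⟨α', hmem⟩, ?_⟩
    ext x
    rw [resK_apply_coe]
    show ((α' (Subgroup.inclusion le_sup_left x) : ↥(P ⊔ Q)) : Ω) = _
    rw [hα'e, hψP]
    rfl
  · rintro ⟨α', rfl⟩
    obtain ⟨hα'F, hα'P, κ, hκ, hκe⟩ := mem_AutK.1 α'.2
    have hψ := (mem_autGroup_iff F hRS).1 hα'F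
    refine ⟨restrict_mem F le_sup_left hψ, hP, fun x => hP (resK F K P α' x).2, _, hψ,
      fun x => rfl, κ, hκ, fun x => hκe x⟩

/-- `Aut_{N₀}(P)` is the image of `TK` under restriction -/
theorem autInducedBy_eq_map_resK [Finite S] (h : KNorm F Q K N₀ E) {P : Subgroup Ω} (hP : P ≤ N₀) :
    autInducedBy N₀ P = ((TK N₀ Q P).subgroupOf (AutK F K P)).map (resK F K P) := by
  have hRS := h.sup_le_S hP
  have : Finite ↥(P ⊔ Q) := finite_of_le hRS
  apply le_antisymm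
  · rw [autInducedBy_eq_map]
    rintro _ ⟨n, hn, rfl⟩
    have hnN₀ : (n : Ω) ∈ N₀ := hn
    have hnR : (n : Ω) ∈ Subgroup.normalizer ((P ⊔ Q : Subgroup Ω) : Set Ω) :=
      mem_normalizer_sup' n.2 (h.N₀_le_normalizer hnN₀)
    have hT : (P ⊔ Q).normalizerMonoidHom ⟨n, hnR⟩ ∈ TK N₀ Q P :=
      mem_TK.2 ⟨⟨n, hnR⟩, ⟨hnN₀, n.2⟩, rfl⟩
    refine ⟨⟨_, TK_le_AutK h hP hT⟩, Subgroup.mem_subgroupOf.2 hT, ?_⟩
    ext x
    rfl
  · rintro _ ⟨t, ht, rfl⟩
    obtain ⟨n, hn, hnt⟩ := mem_TK.1 (Subgroup.mem_subgroupOf.1 ht)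
    apply Subgroup.subset_closure
    refine ⟨n, hn.1, fun x => ?_⟩
    rw [resK_apply_coe, ← hnt]
    rfl

/-- Thm A: a good subgroup is fully automized in `E` -/
theorem fullyAutomized_of_goodK [Finite S] {p : ℕ} [Fact p.Prime] (h : KNorm F Q K N₀ E)
    {P : Subgroup Ω} (hg : GoodK p F K N₀ P) : E.IsFullyAutomized p P := by
  obtain ⟨hP, _, Sy, hSy⟩ := hg
  refine ⟨hP, ?_⟩
  have key : ∀ A B : Subgroup (MulAut P), A = (resK F K P).range →
      B = ((TK N₀ Q P).subgroupOf (AutK F K P)).map (resK F K P) →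
      ∃ R : Sylow p ↥A, (R : Subgroup ↥A) = B.subgroupOf A := by
    rintro _ _ rfl rfl
    have hRS := h.sup_le_S hP
    have : Finite ↥(P ⊔ Q) := finite_of_le hRS
    refine ⟨Sy.mapSurjective (f := (resK F K P).rangeRestrict)
      (resK F K P).rangeRestrict_surjective, ?_⟩
    rw [Sylow.coe_mapSurjective, hSy]
    ext y
    rw [Subgroup.mem_subgroupOf]
    constructor
    · rintro ⟨x, hx, rfl⟩
      exact ⟨x, hx, rfl⟩
    · rintro ⟨x, hx, hxy⟩
      exact ⟨x, hx, Subtype.ext hxy⟩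
  exact key _ _ (autGroup_eq_range_resK h hP) (autInducedBy_eq_map_resK h hP)

end Cfsg.Agent.Lib.Helper29
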