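import Cfsg.Agent.Lib.Helper29.KNormExt

set_option autoImplicit false
open Cfsg

namespace Cfsg.Agent.Lib.Helper29

variable {Ω : Type*} [Group Ω] {S : Subgroup Ω}

section recept

variable {F : FusionSystem S} {Q : Subgroup Ω} {K : Subgroup (MulAut Q)} {N₀ : Subgroup Ω}
  {E : FusionSystem N₀} {P₁ P : Subgroup Ω} {φ : P₁ →* Ω} {φh : ↥(P₁ ⊔ Q) →* Ω}

theorem range_ext (hr : φ.range = P)
    (hφhP : ∀ x : P₁, φh (Subgroup.inclusion le_sup_left x) = φ x) {κ₁ : MulAut Q}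
    (hκ₁e : ∀ x : Q, φh (Subgroup.inclusion le_sup_right x) = ((κ₁ x : Q) : Ω)) :
    φh.range = P ⊔ Q := by
  apply range_sup_hom
  · rw [← hr]
    congr 1
    ext x
    exact hφhP x
  · ext y
    constructor
    · rintro ⟨x, rfl⟩
      show φh (Subgroup.inclusion le_sup_right x) ∈ Q
      rw [hκ₁e]
      exact (κ₁ x).2
    · intro hy
      refine ⟨κ₁⁻¹ ⟨y, hy⟩, ?_⟩
      show φh (Subgroup.inclusion le_sup_right _) = y
      rw [hκ₁e, MulAut.apply_inv_self]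

theorem mem_iff_ext (hinj : Function.Injective φh) (hr : φ.range = P)
    (hφhP : ∀ x : P₁, φh (Subgroup.inclusion le_sup_left x) = φ x) (x : ↥(P₁ ⊔ Q)) :
    (x : Ω) ∈ P₁ ↔ φh x ∈ P := by
  constructor
  · intro hx
    have e : x = Subgroup.inclusion le_sup_left (⟨(x : Ω), hx⟩ : P₁) := Subtype.ext rfl
    rw [e, hφhP, ← hr]
    exact ⟨_, rfl⟩
  · intro hx
    rw [← hr] at hx
    obtain ⟨y, hy⟩ := hx
    rw [← hφhP] at hy
    have := hinj hy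
    rw [← this]
    exact y.2

end recept

variable {F : FusionSystem S} {Q : Subgroup Ω} {K : Subgroup (MulAut Q)} {N₀ : Subgroup Ω}
  {E : FusionSystem N₀}

theorem mem_normalizer_of_conj_le {P : Subgroup Ω} [Finite P] {n : Ω}
    (h : ∀ y ∈ P, n * y * n⁻¹ ∈ P) : n ∈ Subgroup.normalizer (P : Set Ω) := by
  have hfin : Finite ↥(P : Set Ω) := ‹Finite P›
  apply Subgroup.mem_normalizer_fintype
  intro x hx
  exact h x hx

/-- Thm B: a good subgroup is receptive in `E` -/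
theorem receptive_of_goodK [Finite S] {p : ℕ} [Fact p.Prime] (hS : IsPGroup p S) (h : KNorm F Q K N₀ E)
    {P : Subgroup Ω} (hg : GoodK p F K N₀ P) : E.IsReceptive P := by
  obtain ⟨hP, hrec, T, hT⟩ := hg
  refine ⟨hP, fun P₁ φ hφ hr => ?_⟩
  obtain ⟨hφF, hP₁, hφN, φh, hφh, hφhP, κ₁, hκ₁, hκ₁e⟩ := (h.mem_hom P₁ φ).1 hφ
  have hrh : φh.range = P ⊔ Q := range_ext hr hφhP hκ₁e
  have hRS := h.sup_le_S hP
  have hR₁S := h.sup_le_S hP₁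
  have hfinR : Finite ↥(P ⊔ Q) := finite_of_le hRS
  have hfinR₁ : Finite ↥(P₁ ⊔ Q) := finite_of_le hR₁S
  have hfinP : Finite P := finite_of_le (hP.trans h.N₀_le)
  have hiff := mem_iff_ext (F.injective_of_mem hφh) hr hφhP
  have hconjA := conj_AutK hφh hrh hiff hκ₁ hκ₁e
  set X := FusionSystem.extender N₀ P₁ φ with hXdef
  have hXmem : ∀ g ∈ X, g ∈ N₀ ∧ g ∈ Subgroup.normalizer (P₁ : Set Ω) ∧
      ∃ h' ∈ N₀, ∀ (x : P₁) (hx : g * (x : Ω) * g⁻¹ ∈ P₁), φ ⟨g * x * g⁻¹, hx⟩ = h' * φ x * h'⁻¹ :=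
    fun g hg => mem_extender_iff.1 hg
  have hXN₀ : X ≤ N₀ := fun g hg => (hXmem g hg).1
  have hXn : ∀ g ∈ X, g ∈ Subgroup.normalizer ((P₁ ⊔ Q : Subgroup Ω) : Set Ω) := fun g hg =>
    mem_normalizer_sup' (hXmem g hg).2.1 (h.N₀_le_normalizer (hXN₀ hg))
  set ι := isoOfHom F hφh hrh with hιdef
  have hιP : ∀ x : P₁, ι (Subgroup.inclusion le_sup_left x) =
      Subgroup.inclusion le_sup_left (⟨φ x, by rw [← hr]; exact ⟨x, rfl⟩⟩ : P) := by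
    intro x
    apply Subtype.ext
    show φh (Subgroup.inclusion le_sup_left x) = φ x
    exact hφhP x
  -- the automorphisms of `P ⊔ Q` coming from `X`
  have hl : ∀ (g : Ω) (hg : g ∈ X),
      MulAut.congr ι ((P₁ ⊔ Q).normalizerMonoidHom ⟨g, hXn g hg⟩) ∈ AutK F K P ∧
      ∃ t ∈ TK N₀ Q P, ∀ y : P,
        MulAut.congr ι ((P₁ ⊔ Q).normalizerMonoidHom ⟨g, hXn g hg⟩) (Subgroup.inclusion le_sup_left y) =
          t (Subgroup.inclusion le_sup_left y) := by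
    intro g hg
    obtain ⟨hgN₀, hgP₁, h', hh'N₀, hh'⟩ := hXmem g hg
    constructor
    · rw [← hconjA]
      apply TK_le_AutK h hP₁
      exact mem_TK.2 ⟨⟨g, hXn g hg⟩, ⟨hgN₀, hgP₁⟩, rfl⟩
    · have hh'P : h' ∈ Subgroup.normalizer (P : Set Ω) := by
        apply mem_normalizer_of_conj_le
        intro y hy
        have hy' : y ∈ φ.range := hr.ge hy
        obtain ⟨x, rfl⟩ := hy'
        have hx : g * (x : Ω) * g⁻¹ ∈ P₁ := (Subgroup.mem_normalizer_iff.1 hgP₁ x).1 x.2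
        rw [← hh' x hx]
        exact hr.le ⟨_, rfl⟩
      have hh'R : h' ∈ Subgroup.normalizer ((P ⊔ Q : Subgroup Ω) : Set Ω) :=
        mem_normalizer_sup' hh'P (h.N₀_le_normalizer hh'N₀)
      refine ⟨(P ⊔ Q).normalizerMonoidHom ⟨h', hh'R⟩, mem_TK.2 ⟨⟨h', hh'R⟩, ⟨hh'N₀, hh'P⟩, rfl⟩, ?_⟩
      intro y
      have hy : (y : Ω) ∈ φ.range := hr.ge y.2
      obtain ⟨x, hx⟩ := hy
      have hx' : g * (x : Ω) * g⁻¹ ∈ P₁ := (Subgroup.mem_normalizer_iff.1 hgP₁ x).1 x.2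
      have e1 : ι.symm (Subgroup.inclusion le_sup_left y) = Subgroup.inclusion le_sup_left x := by
        apply ι.injective
        rw [MulEquiv.apply_symm_apply, hιP]
        apply Subtype.ext
        exact hx.symm
      apply Subtype.ext
      rw [congr_apply, e1]
      have e2 : (P₁ ⊔ Q).normalizerMonoidHom ⟨g, hXn g hg⟩ (Subgroup.inclusion le_sup_left x) =
          Subgroup.inclusion le_sup_left (⟨g * (x : Ω) * g⁻¹, hx'⟩ : P₁) := Subtype.ext rfl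
      rw [e2, hιP]
      show φ ⟨g * (x : Ω) * g⁻¹, hx'⟩ = h' * (y : Ω) * h'⁻¹
      rw [hh' x hx', hx]
  -- the subgroup `L`
  set L : Subgroup (MulAut ↥(P ⊔ Q)) :=
    (autInducedBy X (P₁ ⊔ Q)).map (MulAut.congr ι).toMonoidHom with hLdef
  have hLmem : ∀ l ∈ L, ∃ (g : Ω) (hg : g ∈ X),
      l = MulAut.congr ι ((P₁ ⊔ Q).normalizerMonoidHom ⟨g, hXn g hg⟩) := by
    rintro _ ⟨α, hα, rfl⟩
    rw [autInducedBy_eq_map] at hα
    obtain ⟨n, hn, rfl⟩ := hα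
    exact ⟨n, hn, rfl⟩
  have hmemL : ∀ (g : Ω) (hg : g ∈ X),
      MulAut.congr ι ((P₁ ⊔ Q).normalizerMonoidHom ⟨g, hXn g hg⟩) ∈ L := by
    intro g hg
    refine ⟨_, ?_, rfl⟩
    rw [autInducedBy_eq_map]
    exact ⟨⟨g, hXn g hg⟩, hg, rfl⟩
  have hLp : IsPGroup p L := by
    have hXp : IsPGroup p X := hS.to_le (hXN₀.trans h.N₀_le)
    exact (isPGroup_autInducedBy hXp _).map _
  have hLA : L ≤ AutK F K P := by
    intro l hlL
    obtain ⟨g, hg, rfl⟩ := hLmem l hlL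
    exact (hl g hg).1
  have hL'p : IsPGroup p (L.subgroupOf (AutK F K P)) := (isPGroup_subgroupOf_iff_of_le hLA).2 hLp
  obtain ⟨b, hbker, hbL⟩ := exists_ker_conj_le (isSylowSub_top_of_sylow T) (resK F K P) hL'p (by
    intro l hl'
    obtain ⟨g, hg, hlg⟩ := hLmem l hl'
    obtain ⟨t, ht, hte⟩ := (hl g hg).2
    refine ⟨⟨t, TK_le_AutK h hP ht⟩, ?_, ?_⟩
    · show _ ∈ (T : Subgroup ↥(AutK F K P))
      rw [hT]
      exact Subgroup.mem_subgroupOf.2 ht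
    · ext y
      rw [resK_apply_coe, resK_apply_coe]
      show (((l : MulAut ↥(P ⊔ Q)) (Subgroup.inclusion le_sup_left y) : ↥(P ⊔ Q)) : Ω) = _
      rw [hlg, hte])
  set b₀ : MulAut ↥(P ⊔ Q) := (b : MulAut ↥(P ⊔ Q)) with hb₀def
  have hb₀A : b₀ ∈ AutK F K P := b.2
  obtain ⟨hb₀F, hb₀P, κb, hκb, hκbe⟩ := mem_AutK.1 hb₀A
  have hb₀fix : ∀ y : P, b₀ (Subgroup.inclusion le_sup_left y) = Subgroup.inclusion le_sup_left y := by
    intro y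
    have h1 : resK F K P b = 1 := hbker
    have h2 := congrArg (fun a : MulAut P => ((a y : P) : Ω)) h1
    apply Subtype.ext
    exact h2
  have hbconj : ∀ l ∈ L, b₀ * l * b₀⁻¹ ∈ TK N₀ Q P := by
    intro l hlL
    have h1 : (⟨l, hLA hlL⟩ : ↥(AutK F K P)) ∈ L.subgroupOf (AutK F K P) :=
      Subgroup.mem_subgroupOf.2 hlL
    have h2 := hbL (conj_mem_cj (g := b) h1)
    have h3 : b * ⟨l, hLA hlL⟩ * b⁻¹ ∈ (T : Subgroup ↥(AutK F K P)) := h2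
    rw [hT, Subgroup.mem_subgroupOf] at h3
    exact h3
  set φ' : ↥(P₁ ⊔ Q) →* Ω := (P ⊔ Q).subtype.comp (b₀.toMonoidHom.comp ι.toMonoidHom) with hφ'def
  have hφ'val : ∀ z, φ' z = ((b₀ (ι z) : ↥(P ⊔ Q)) : Ω) := fun z => rfl
  have hφ'F : φ' ∈ F.Hom (P₁ ⊔ Q) := by
    have hb₀hom := (mem_autGroup_iff F hRS).1 hb₀F
    exact comp_mem' F hφh hb₀hom (fun x => (ι x).2) (fun x => rfl)
  have hφ'P : ∀ x : P₁, φ' (Subgroup.inclusion le_sup_left x) = φ x := by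
    intro x
    rw [hφ'val, hιP, hb₀fix]
    rfl
  have hφ'Q : ∀ x : Q, φ' (Subgroup.inclusion le_sup_right x) = (((κb * κ₁) x : Q) : Ω) := by
    intro x
    have e : ι (Subgroup.inclusion le_sup_right x) = Subgroup.inclusion le_sup_right (κ₁ x) :=
      Subtype.ext (hκ₁e x)
    rw [hφ'val, e, hκbe]
    rfl
  have hφ'r : φ'.range = P ⊔ Q := by
    ext y
    constructor
    · rintro ⟨z, rfl⟩
      exact (b₀ (ι z)).2
    · intro hy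
      refine ⟨ι.symm (b₀⁻¹ ⟨y, hy⟩), ?_⟩
      rw [hφ'val, MulEquiv.apply_symm_apply, MulAut.apply_inv_self]
  have hXle : X ≤ FusionSystem.extender S (P₁ ⊔ Q) φ' := by
    intro g hg
    rw [mem_extender_iff]
    refine ⟨h.N₀_le (hXN₀ hg), hXn g hg, ?_⟩
    obtain ⟨n, hn, hne⟩ := mem_TK.1 (hbconj _ (hmemL g hg))
    refine ⟨n, h.N₀_le hn.1, fun x hx => ?_⟩
    have h1 := congrArg (fun a : MulAut ↥(P ⊔ Q) => ((a (b₀ (ι x)) : ↥(P ⊔ Q)) : Ω)) hne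
    have h2 : (b₀ * MulAut.congr ι ((P₁ ⊔ Q).normalizerMonoidHom ⟨g, hXn g hg⟩) * b₀⁻¹) (b₀ (ι x)) =
        b₀ (ι (⟨g * (x : Ω) * g⁻¹, hx⟩ : ↥(P₁ ⊔ Q))) := by
      rw [MulAut.mul_apply, MulAut.mul_apply, MulAut.inv_apply_self, congr_apply,
        MulEquiv.symm_apply_apply]
      rfl
    rw [hφ'val, ← h2]
    exact h1.symm
  obtain ⟨Ψ, hΨ, hΨe⟩ := hrec.2 (P₁ ⊔ Q) φ' hφ'F hφ'r
  have hRle : P₁ ⊔ Q ≤ FusionSystem.extender S (P₁ ⊔ Q) φ' := le_extender F hφ'F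
  have hQle : Q ≤ FusionSystem.extender S (P₁ ⊔ Q) φ' := le_sup_right.trans hRle
  have hΨQ : ∀ q : Q, Ψ ⟨q, hQle q.2⟩ = (((κb * κ₁) q : Q) : Ω) := by
    intro q
    rw [hΨe q ((le_sup_right : Q ≤ P₁ ⊔ Q) q.2) (hQle q.2)]
    exact hφ'Q q
  refine ⟨Ψ.comp (Subgroup.inclusion hXle), ?_, ?_⟩
  · rw [h.mem_hom]
    refine ⟨restrict_mem F hXle hΨ, hXN₀, ?_, ?_⟩
    · intro g
      rw [h.mem_N₀]
      refine ⟨(F.le_of_mem hΨ).2 _, ?_⟩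
      obtain ⟨_, κg, hκg, hκge⟩ := (h.mem_N₀ g).1 (hXN₀ g.2)
      have hκ'K : κb * κ₁ ∈ K := K.mul_mem hκb hκ₁
      refine ⟨(κb * κ₁) * κg * (κb * κ₁)⁻¹, K.mul_mem (K.mul_mem hκ'K hκg) (K.inv_mem hκ'K),
        fun q => ?_⟩
      have hq : (q : Ω) = Ψ ⟨(((κb * κ₁)⁻¹ q : Q) : Ω), hQle ((κb * κ₁)⁻¹ q).2⟩ := by
        rw [hΨQ, MulAut.apply_inv_self]
      have e : Subgroup.inclusion hXle g * ⟨(((κb * κ₁)⁻¹ q : Q) : Ω), hQle ((κb * κ₁)⁻¹ q).2⟩ *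
          (Subgroup.inclusion hXle g)⁻¹ =
          ⟨((κg ((κb * κ₁)⁻¹ q) : Q) : Ω), hQle (κg ((κb * κ₁)⁻¹ q)).2⟩ :=
        Subtype.ext (hκge ((κb * κ₁)⁻¹ q))
      calc (Ψ.comp (Subgroup.inclusion hXle)) g * (q : Ω) * ((Ψ.comp (Subgroup.inclusion hXle)) g)⁻¹
          = Ψ (Subgroup.inclusion hXle g) *
              Ψ ⟨(((κb * κ₁)⁻¹ q : Q) : Ω), hQle ((κb * κ₁)⁻¹ q).2⟩ *
              (Ψ (Subgroup.inclusion hXle g))⁻¹ := by rw [← hq]; rfl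
        _ = Ψ ⟨((κg ((κb * κ₁)⁻¹ q) : Q) : Ω), hQle (κg ((κb * κ₁)⁻¹ q)).2⟩ := by
            rw [← map_inv, ← map_mul, ← map_mul, e]
        _ = _ := by rw [hΨQ]; rfl
    · refine ⟨Ψ.comp (Subgroup.inclusion (sup_le hXle hQle)), restrict_mem F _ hΨ, fun x => rfl,
        κb * κ₁, K.mul_mem hκb hκ₁, fun q => ?_⟩
      exact hΨQ q
  · intro x hP' hN
    show Ψ ⟨x, hXle hN⟩ = φ ⟨x, hP'⟩
    rw [hΨe x ((le_sup_left : P₁ ≤ P₁ ⊔ Q) hP') (hXle hN)]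
    exact hφ'P ⟨x, hP'⟩

end Cfsg.Agent.Lib.Helper29
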