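import Cfsg.Agent.Lib.Helper29.KNormVia

set_option autoImplicit false
open Cfsg

namespace Cfsg.Agent.Lib.Helper29

variable {Ω : Type*} [Group Ω] {S : Subgroup Ω}

variable {F : FusionSystem S} {Q : Subgroup Ω} {K : Subgroup (MulAut Q)} {N₀ : Subgroup Ω}
  {E : FusionSystem N₀}

/-- Thm C: every subgroup of `N₀` is `E`-conjugate to a good one -/
theorem exists_goodK_conj [Finite S] {p : ℕ} [Fact p.Prime] (hS : IsPGroup p S) (hF : F.IsSaturated p)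
    (h : KNorm F Q K N₀ E) {P : Subgroup Ω} (hP : P ≤ N₀) :
    ∃ P', E.IsConj P P' ∧ GoodK p F K N₀ P' := by
  have hsat := (Cfsg.Agent.S5077.result p hS F).1 hF
  have hRS := h.sup_le_S hP
  have hfinR : Finite ↥(P ⊔ Q) := finite_of_le hRS
  obtain ⟨Rs, hconj, hfn⟩ := exists_fullyNormalized_conj F hRS
  obtain ⟨hfc, hfa⟩ := hsat.1 Rs hfn
  have hXle : AutK F K P ≤ F.autGroup (P ⊔ Q) := fun α hα => (mem_AutK.1 hα).1
  obtain ⟨ψ, hψ, hr, hY⟩ := exists_hom_sylow_via F hconj hfa hXle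
  set ι := isoOfHom F hψ hr with hι
  set ψ₀ : Q →* Ω := ψ.comp (Subgroup.inclusion le_sup_right) with hψ₀def
  have hψ₀ : ψ₀ ∈ F.Hom Q := restrict_mem F le_sup_right hψ
  obtain ⟨χ, hχ, κ, hκ, hκe⟩ := h.HQ ψ₀ hψ₀
  have hPD : ∀ g : P, ψ (Subgroup.inclusion le_sup_left g) ∈ NKmark S K ψ₀ := by
    intro g
    apply Subgroup.subset_closure
    refine ⟨(F.le_of_mem hψ).2 _, ?_⟩
    obtain ⟨_, κg, hκg, hκge⟩ := (h.mem_N₀ g).1 (hP g.2)
    refine ⟨κg, hκg, fun x => ?_⟩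
    show ψ (Subgroup.inclusion le_sup_left g) * ψ (Subgroup.inclusion le_sup_right x) *
      (ψ (Subgroup.inclusion le_sup_left g))⁻¹ = ψ (Subgroup.inclusion le_sup_right (κg x))
    rw [← map_inv, ← map_mul, ← map_mul]
    congr 1
    exact Subtype.ext (hκge x)
  have hRsD : Rs ≤ NKmark S K ψ₀ ⊔ ψ₀.range := by
    intro y hy
    have hy' : y ∈ ψ.range := hr.ge hy
    obtain ⟨z, rfl⟩ := hy'
    refine sup_hom_mem ψ (fun x => Subgroup.mem_sup_left (hPD x)) (fun x => ?_) z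
    apply Subgroup.mem_sup_right
    exact (⟨x, rfl⟩ : ψ₀ x ∈ ψ₀.range)
  have hnD : ∀ α ∈ AutK F K P, ∀ n : Subgroup.normalizer (Rs : Set Ω), (n : Ω) ∈ S →
      Rs.normalizerMonoidHom n = MulAut.congr ι α → (n : Ω) ∈ NKmark S K ψ₀ := by
    intro α hα n hnS hnα
    obtain ⟨_, _, κα, hκα, hκαe⟩ := mem_AutK.1 hα
    apply Subgroup.subset_closure
    refine ⟨hnS, κα, hκα, fun x => ?_⟩
    have h1 : (n : Ω) * ((ι (Subgroup.inclusion le_sup_right x) : Rs) : Ω) * (n : Ω)⁻¹ =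
        ((MulAut.congr ι α (ι (Subgroup.inclusion le_sup_right x)) : Rs) : Ω) :=
      congrArg (fun a : MulAut Rs => ((a (ι (Subgroup.inclusion le_sup_right x)) : Rs) : Ω)) hnα
    have h2 : MulAut.congr ι α (ι (Subgroup.inclusion le_sup_right x)) =
        ι (Subgroup.inclusion le_sup_right (κα x)) := by
      rw [congr_apply, MulEquiv.symm_apply_apply]
      congr 1
      exact Subtype.ext (hκαe x)
    rw [h2] at h1
    exact h1
  have hCD : FusionSystem.centralizerIn S Rs ≤ NKmark S K ψ₀ := by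
    intro c hc
    apply Subgroup.subset_closure
    refine ⟨hc.1, 1, K.one_mem, fun x => ?_⟩
    have hx : ψ₀ x ∈ Rs := hr.le ⟨_, rfl⟩
    have h1 := Subgroup.mem_centralizer_iff.1 hc.2 (ψ₀ x) hx
    show c * ψ₀ x * c⁻¹ = ψ₀ x
    rw [← h1, mul_inv_cancel_right]
  have hψD : ∀ z, ψ z ∈ NKmark S K ψ₀ ⊔ ψ₀.range := fun z => hRsD (hr.le ⟨z, rfl⟩)
  set ρ : ↥(P ⊔ Q) →* Ω := χ.comp (ψ.codRestrict (NKmark S K ψ₀ ⊔ ψ₀.range) hψD) with hρdef
  have hρ : ρ ∈ F.Hom (P ⊔ Q) := F.comp_mem hψ hχ hψD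
  have hρQ : ∀ x : Q, ρ (Subgroup.inclusion le_sup_right x) = ((κ x : Q) : Ω) := fun x => hκe x
  set φ : P →* Ω := ρ.comp (Subgroup.inclusion le_sup_left) with hφdef
  set P' := φ.range with hP'def
  have hρr : ρ.range = P' ⊔ Q := range_ext (φ := φ) rfl (fun x => rfl) hρQ
  have hiff := mem_iff_ext (φ := φ) (F.injective_of_mem hρ) rfl (fun x => rfl)
  have hconjA := conj_AutK hρ hρr hiff hκ hρQ
  have hφN : ∀ g : P, φ g ∈ N₀ := by
    intro g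
    rw [h.mem_N₀]
    refine ⟨(F.le_of_mem hρ).2 _, ?_⟩
    obtain ⟨_, κg, hκg, hκge⟩ := (h.mem_N₀ g).1 (hP g.2)
    refine ⟨κ * κg * κ⁻¹, K.mul_mem (K.mul_mem hκ hκg) (K.inv_mem hκ), fun q => ?_⟩
    have hq : (q : Ω) = ρ (Subgroup.inclusion le_sup_right (κ⁻¹ q)) := by
      rw [hρQ, MulAut.apply_inv_self]
    have e : (Subgroup.inclusion le_sup_left g : ↥(P ⊔ Q)) * Subgroup.inclusion le_sup_right (κ⁻¹ q) *
        (Subgroup.inclusion le_sup_left g)⁻¹ = Subgroup.inclusion le_sup_right (κg (κ⁻¹ q)) :=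
      Subtype.ext (hκge (κ⁻¹ q))
    calc φ g * (q : Ω) * (φ g)⁻¹
        = ρ (Subgroup.inclusion le_sup_left g) * ρ (Subgroup.inclusion le_sup_right (κ⁻¹ q)) *
            (ρ (Subgroup.inclusion le_sup_left g))⁻¹ := by rw [← hq]; rfl
      _ = ρ (Subgroup.inclusion le_sup_right (κg (κ⁻¹ q))) := by
          rw [← map_inv, ← map_mul, ← map_mul, e]
      _ = _ := by rw [hρQ]; rfl
  have hφE : φ ∈ E.Hom P := by
    rw [h.mem_hom]
    exact ⟨restrict_mem F le_sup_left hρ, hP, hφN, ρ, hρ, fun x => rfl, κ, hκ, hρQ⟩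
  have hP'N₀ : P' ≤ N₀ := by
    rintro _ ⟨g, rfl⟩
    exact hφN g
  have hR'S : P' ⊔ Q ≤ S := h.sup_le_S hP'N₀
  have hρval : ∀ z, ρ z = χ ⟨ψ z, hψD z⟩ := fun z => rfl
  refine ⟨P', ⟨φ, hφE, rfl⟩, hP'N₀, ?_, ?_⟩
  · apply hsat.2
    refine ⟨hR'S, fun Q' hQ' => ?_⟩
    have hc1 : F.IsConj (P ⊔ Q) (P' ⊔ Q) := ⟨ρ, hρ, hρr⟩
    have hc2 : F.IsConj Rs Q' :=
      isConj_trans F (isConj_trans F (isConj_symm F ⟨ψ, hψ, hr⟩) hc1) hQ'
    refine (hfc.2 Q' hc2).trans ?_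
    have hCD' : FusionSystem.centralizerIn S Rs ≤ NKmark S K ψ₀ ⊔ ψ₀.range := hCD.trans le_sup_left
    have hmap : ∀ c : FusionSystem.centralizerIn S Rs,
        χ ⟨c, hCD' c.2⟩ ∈ FusionSystem.centralizerIn S (P' ⊔ Q) := by
      intro c
      refine ⟨(F.le_of_mem hχ).2 _, ?_⟩
      show χ ⟨c, hCD' c.2⟩ ∈ Subgroup.centralizer ((P' ⊔ Q : Subgroup Ω) : Set Ω)
      rw [Subgroup.mem_centralizer_iff]
      intro w hw
      have hw' : w ∈ ρ.range := hρr.ge hw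
      obtain ⟨z, rfl⟩ := hw'
      rw [hρval, ← map_mul, ← map_mul]
      congr 1
      apply Subtype.ext
      exact Subgroup.mem_centralizer_iff.1 c.2.2 (ψ z) (hr.le ⟨z, rfl⟩)
    have hfinC : Finite (FusionSystem.centralizerIn S (P' ⊔ Q)) := finite_centralizerIn _
    exact Nat.card_le_card_of_injective
      (fun c => (⟨χ ⟨c, hCD' c.2⟩, hmap c⟩ : FusionSystem.centralizerIn S (P' ⊔ Q))) (by
        intro c c' hcc
        have h1 : χ ⟨c, hCD' c.2⟩ = χ ⟨c', hCD' c'.2⟩ := congrArg Subtype.val hcc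
        have h2 := F.injective_of_mem hχ h1
        have h3 : (c : Ω) = c' := congrArg (fun z : ↥(NKmark S K ψ₀ ⊔ ψ₀.range) => (z : Ω)) h2
        exact Subtype.ext h3)
  · have hfinR' : Finite ↥(P' ⊔ Q) := finite_of_le hR'S
    have hfinP' : Finite P' := finite_of_le (hP'N₀.trans h.N₀_le)
    set ιρ := isoOfHom F hρ hρr with hιρ
    have hmapA : (AutK F K P).map (MulAut.congr ιρ).toMonoidHom = AutK F K P' := by
      ext β
      rw [Subgroup.mem_map_equiv, hconjA, MulEquiv.apply_symm_apply]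
    have hY' := hY.map_equiv (MulAut.congr ιρ)
    rw [hmapA] at hY'
    refine hY'.of_le_pgroup ?_ (TK_le_AutK h hP'N₀)
      (isPGroup_autInducedBy (hS.to_le ((normalizerIn_le_left N₀ P').trans h.N₀_le)) _)
    rintro _ ⟨α, ⟨hαT, hαA⟩, rfl⟩
    have hαT' : MulAut.congr ι α ∈ autInducedBy S Rs := hαT
    rw [autInducedBy_eq_map] at hαT'
    obtain ⟨n, hnS, hnα⟩ := hαT'
    have hnD' : (n : Ω) ∈ NKmark S K ψ₀ ⊔ ψ₀.range :=
      Subgroup.mem_sup_left (hnD α hαA n hnS hnα)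
    have hkey : ∀ w : ↥(P' ⊔ Q), ((MulAut.congr ιρ α w : ↥(P' ⊔ Q)) : Ω) =
        χ ⟨n, hnD'⟩ * w * (χ ⟨n, hnD'⟩)⁻¹ := by
      intro w
      obtain ⟨z, rfl⟩ := ιρ.surjective w
      rw [congr_apply, MulEquiv.symm_apply_apply]
      have h1 : ψ (α z) = (n : Ω) * ψ z * (n : Ω)⁻¹ := by
        have h2 : (n : Ω) * ((ι z : Rs) : Ω) * (n : Ω)⁻¹ = ((MulAut.congr ι α (ι z) : Rs) : Ω) :=
          congrArg (fun a : MulAut Rs => ((a (ι z) : Rs) : Ω)) hnα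
        rw [congr_apply, MulEquiv.symm_apply_apply] at h2
        exact h2.symm
      show ρ (α z) = χ ⟨n, hnD'⟩ * ρ z * (χ ⟨n, hnD'⟩)⁻¹
      rw [hρval, hρval, ← map_inv, ← map_mul, ← map_mul]
      congr 1
      exact Subtype.ext h1
    have hβA : MulAut.congr ιρ α ∈ AutK F K P' := (hconjA α).1 hαA
    obtain ⟨_, hβP, κm, hκm, hκme⟩ := mem_AutK.1 hβA
    have hmS : χ ⟨n, hnD'⟩ ∈ S := (F.le_of_mem hχ).2 _
    have hmR : χ ⟨n, hnD'⟩ ∈ Subgroup.normalizer ((P' ⊔ Q : Subgroup Ω) : Set Ω) := by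
      apply mem_normalizer_of_conj_le
      intro y hy
      rw [← hkey ⟨y, hy⟩]
      exact (MulAut.congr ιρ α ⟨y, hy⟩).2
    have hmP' : χ ⟨n, hnD'⟩ ∈ Subgroup.normalizer (P' : Set Ω) := by
      apply mem_normalizer_of_conj_le
      intro y hy
      have h1 := (hβP ⟨y, (le_sup_left : P' ≤ P' ⊔ Q) hy⟩).1 hy
      rw [hkey] at h1
      exact h1
    have hmN₀ : χ ⟨n, hnD'⟩ ∈ N₀ := by
      rw [h.mem_N₀]
      refine ⟨hmS, κm, hκm, fun q => ?_⟩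
      rw [← hκme q, hkey]
      rfl
    refine mem_TK.2 ⟨⟨χ ⟨n, hnD'⟩, hmR⟩, ⟨hmN₀, hmP'⟩, ?_⟩
    ext w
    exact (hkey w).symm

end Cfsg.Agent.Lib.Helper29
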