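import Cfsg.Agent.Lib.Helper29.KNormRec

set_option autoImplicit false
open Cfsg

namespace Cfsg.Agent.Lib.Helper29

variable {Ω : Type*} [Group Ω] {S : Subgroup Ω}

theorem congr_mem_autGroup_iff (F : FusionSystem S) {Q P : Subgroup Ω} {φ : Q →* Ω} (hφ : φ ∈ F.Hom Q)
    (hr : φ.range = P) (α : MulAut Q) :
    α ∈ F.autGroup Q ↔ MulAut.congr (isoOfHom F hφ hr) α ∈ F.autGroup P := by
  constructor
  · exact congr_mem_autGroup F hφ hr
  · intro h
    have := congr_symm_mem_autGroup F hφ hr h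
    rwa [congr_symm_congr] at this

/-- an isomorphism `ψ : R → R*` onto a fully automized subgroup can be chosen so that the automorphisms
in `X ≤ Aut_F(R)` which become conjugations by elements of `S` form a Sylow subgroup of `X` -/
theorem exists_hom_sylow_via [Finite S] {p : ℕ} [Fact p.Prime] (F : FusionSystem S) {R Rs : Subgroup Ω}
    (hconj : F.IsConj R Rs) (hfa : F.IsFullyAutomized p Rs) {X : Subgroup (MulAut R)}
    (hX : X ≤ F.autGroup R) :
    ∃ (ψ : R →* Ω) (hψ : ψ ∈ F.Hom R) (hr : ψ.range = Rs),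
      IsSylowSub p ((autInducedBy S Rs).comap (MulAut.congr (isoOfHom F hψ hr)).toMonoidHom ⊓ X) X := by
  obtain ⟨ψ₁, hψ₁, hr₁⟩ := hconj
  have hRS : R ≤ S := (F.le_of_mem hψ₁).1
  have hfinR : Finite R := finite_of_le hRS
  set ι₁ := isoOfHom F hψ₁ hr₁ with hι₁
  set T₁ : Subgroup (MulAut R) := (autInducedBy S Rs).comap (MulAut.congr ι₁).toMonoidHom with hT₁def
  have hT₁ : IsSylowSub p T₁ (F.autGroup R) :=
    sylow_transport (MulAut.congr ι₁) (fun α => congr_mem_autGroup_iff F hψ₁ hr₁ α)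
      (fun α => Iff.rfl) hfa.2
  have hT₁le : T₁ ≤ F.autGroup R := by
    intro α hα
    rw [congr_mem_autGroup_iff F hψ₁ hr₁]
    exact autInducedBy_le_autGroup F hfa.1 hα
  obtain ⟨γ, hγ, hγS⟩ := exists_conj_inf_sylow hT₁le hT₁ hX
  have hγinv : R.subtype.comp (γ⁻¹ : MulAut R).toMonoidHom ∈ F.Hom R :=
    (mem_autGroup_iff F hRS).1 ((F.autGroup R).inv_mem hγ)
  set ψ : R →* Ω := ψ₁.comp (γ⁻¹ : MulAut R).toMonoidHom with hψdef
  have hψ : ψ ∈ F.Hom R := comp_mem' F hγinv hψ₁ (fun x => (γ⁻¹ x).2) (fun x => rfl)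
  have hr : ψ.range = Rs := by
    rw [← hr₁]
    ext y
    constructor
    · rintro ⟨z, rfl⟩
      exact ⟨_, rfl⟩
    · rintro ⟨z, rfl⟩
      refine ⟨γ z, ?_⟩
      show ψ₁ (γ⁻¹ (γ z)) = ψ₁ z
      rw [MulAut.inv_apply_self]
  refine ⟨ψ, hψ, hr, ?_⟩
  set ι := isoOfHom F hψ hr with hι
  have hιι₁ : ∀ z, ι z = ι₁ (γ⁻¹ z) := fun z => Subtype.ext rfl
  have hsymm : ∀ y, ι.symm y = γ (ι₁.symm y) := by
    intro y
    apply ι.injective
    rw [MulEquiv.apply_symm_apply, hιι₁, MulAut.inv_apply_self, MulEquiv.apply_symm_apply]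
  have e : ∀ α : MulAut R, MulAut.congr ι α = MulAut.congr ι₁ (γ⁻¹ * α * γ) := by
    intro α
    ext y
    rw [congr_apply, congr_apply, hsymm, hιι₁]
    rfl
  have hcomap : (autInducedBy S Rs).comap (MulAut.congr ι).toMonoidHom = cj γ T₁ := by
    ext α
    rw [mem_cj, Subgroup.mem_comap, hT₁def, Subgroup.mem_comap]
    show MulAut.congr ι α ∈ _ ↔ MulAut.congr ι₁ (γ⁻¹ * α * γ) ∈ _
    rw [e]
  rw [hcomap]
  exact hγS

end Cfsg.Agent.Lib.Helper29
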