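import Cfsg.Agent.Lib.Helper29.ModelBiset

/-!
The ambient group of permutations of the biset, its projection to the automizer and the lifts of the
elements of the automizer.
-/
set_option autoImplicit false
universe u

namespace Cfsg.Agent.Lib.Helper29

open Cfsg.Agent.S5328 (swapS compS diagConj mem_swapS mem_compS mem_diagConj)

/-- equivariant maps for two actions twisted by homomorphisms, from a choice on orbit representatives -/
theorem exists_twisted_equivariant {H K X Y : Type*} [Group H] [Group K] [MulAction K X] [MulAction K Y]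
    (θ₁ θ₂ : H →* K) (good : X → Y → Prop)
    (hgood : ∀ x, ∃ y, good x y ∧ ∀ g : H, θ₁ g • x = x → θ₂ g • y = y)
    (hmul : ∀ x y (g : H), good x y → good (θ₁ g • x) (θ₂ g • y)) :
    ∃ f : X → Y, (∀ (g : H) x, f (θ₁ g • x) = θ₂ g • f x) ∧ ∀ x, good x (f x) := by
  classical
  let r : Setoid X :=
    { r := fun x x' => ∃ g : H, θ₁ g • x = x'
      iseqv := ⟨fun x => ⟨1, by rw [map_one, one_smul]⟩,
        fun {x x'} ⟨g, h⟩ => ⟨g⁻¹, by rw [← h, map_inv, inv_smul_smul]⟩,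
        fun {x x' x''} ⟨g, h⟩ ⟨g', h'⟩ => ⟨g' * g, by rw [map_mul, mul_smul, h, h']⟩⟩ }
  choose y₀ hy₀ using hgood
  have hdec : ∀ x : X, ∃ g : H, θ₁ g • (Quotient.mk r x).out = x := fun x =>
    Quotient.exact (s := r) (Quotient.out_eq (Quotient.mk r x))
  choose a ha using hdec
  refine ⟨fun x => θ₂ (a x) • y₀ (Quotient.mk r x).out, ?_, ?_⟩
  · intro g x
    have e : Quotient.mk r (θ₁ g • x) = Quotient.mk r x :=
      Quotient.sound (s := r) ⟨g⁻¹, by rw [map_inv, inv_smul_smul]⟩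
    have h1 : θ₁ (a (θ₁ g • x)) • (Quotient.mk r x).out = θ₁ g • x := by
      have := ha (θ₁ g • x)
      rwa [e] at this
    have h2 : θ₁ ((g * a x)⁻¹ * a (θ₁ g • x)) • (Quotient.mk r x).out = (Quotient.mk r x).out := by
      rw [map_mul, mul_smul, h1, map_inv, inv_smul_eq_iff, map_mul, mul_smul, ha x]
    have h3 := (hy₀ (Quotient.mk r x).out).2 _ h2
    show θ₂ (a (θ₁ g • x)) • y₀ (Quotient.mk r (θ₁ g • x)).out =
      θ₂ g • θ₂ (a x) • y₀ (Quotient.mk r x).out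
    rw [e]
    rw [map_mul, mul_smul, map_inv, inv_smul_eq_iff] at h3
    rw [h3, map_mul, mul_smul]
  · intro x
    have h1 := hmul _ _ (a x) (hy₀ (Quotient.mk r x).out).1
    rw [ha x] at h1
    exact h1

namespace ModelInput

variable {p : ℕ} {Sg : Type u} [Group Sg] {Γ : Type u} [Group Γ] (M : ModelInput p Sg Γ)

/-- the ambient group: permutations of the biset commuting with the right action and lying over a left
translation of the automizer -/
def Amb : Subgroup (Equiv.Perm M.X) where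
  carrier := {g | (∀ (s : Sg) (x : M.X), g (((1 : Sg), s) • x) = ((1 : Sg), s) • g x) ∧
    ∃ γ : Γ, ∀ x, M.pi (g x) = γ * M.pi x}
  one_mem' := ⟨fun _ _ => rfl, 1, fun x => by rw [one_mul]; rfl⟩
  mul_mem' := by
    rintro g h ⟨hg1, γ, hg2⟩ ⟨hh1, δ, hh2⟩
    refine ⟨fun s x => ?_, γ * δ, fun x => ?_⟩
    · show g (h _) = _ • g (h x)
      rw [hh1, hg1]
    · show M.pi (g (h x)) = _
      rw [hg2, hh2, mul_assoc]
  inv_mem' := by
    rintro g ⟨hg1, γ, hg2⟩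
    refine ⟨fun s x => ?_, γ⁻¹, fun x => ?_⟩
    · apply g.injective
      rw [hg1, Equiv.Perm.inv_def, Equiv.apply_symm_apply, Equiv.apply_symm_apply]
    · have h := hg2 (g⁻¹ x)
      rw [Equiv.Perm.inv_def, Equiv.apply_symm_apply] at h
      rw [Equiv.Perm.inv_def, h, inv_mul_cancel_left]

theorem mem_Amb_iff {g : Equiv.Perm M.X} : g ∈ M.Amb ↔
    (∀ (s : Sg) (x : M.X), g (((1 : Sg), s) • x) = ((1 : Sg), s) • g x) ∧
      ∃ γ : Γ, ∀ x, M.pi (g x) = γ * M.pi x := Iff.rfl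

theorem Amb_comm (g : M.Amb) (s : Sg) (x : M.X) :
    (g : Equiv.Perm M.X) (((1 : Sg), s) • x) = ((1 : Sg), s) • (g : Equiv.Perm M.X) x :=
  (M.mem_Amb_iff.mp g.2).1 s x

/-- the projection of the ambient group to the automizer -/
noncomputable def rhoFun (g : M.Amb) : Γ := Classical.choose (M.mem_Amb_iff.mp g.2).2

theorem rhoFun_spec (g : M.Amb) (x : M.X) :
    M.pi ((g : Equiv.Perm M.X) x) = M.rhoFun g * M.pi x :=
  Classical.choose_spec (M.mem_Amb_iff.mp g.2).2 x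

theorem rhoFun_unique (g : M.Amb) {γ : Γ} (h : ∀ x, M.pi ((g : Equiv.Perm M.X) x) = γ * M.pi x) :
    M.rhoFun g = γ := by
  obtain ⟨x, _⟩ := M.pi_surj 1
  have := (M.rhoFun_spec g x).symm.trans (h x)
  exact mul_right_cancel this

/-- the projection of the ambient group to the automizer -/
noncomputable def rho : M.Amb →* Γ where
  toFun := M.rhoFun
  map_one' := M.rhoFun_unique 1 (fun x => by rw [one_mul]; rfl)
  map_mul' g h := M.rhoFun_unique (g * h) (fun x => by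
    show M.pi ((g : Equiv.Perm M.X) ((h : Equiv.Perm M.X) x)) = _
    rw [M.rhoFun_spec, M.rhoFun_spec, mul_assoc])

theorem rho_spec (g : M.Amb) (x : M.X) : M.pi ((g : Equiv.Perm M.X) x) = M.rho g * M.pi x :=
  M.rhoFun_spec g x

theorem rho_unique (g : M.Amb) {γ : Γ} (h : ∀ x, M.pi ((g : Equiv.Perm M.X) x) = γ * M.pi x) :
    M.rho g = γ := M.rhoFun_unique g h

/-- the left action of `S` -/
noncomputable def iota : Sg →* M.Amb :=
  ((MulAction.toPermHom (Sg × Sg) M.X).comp (MonoidHom.inl Sg Sg)).codRestrict M.Amb (by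
    intro s
    refine ⟨fun s' x => ?_, M.c s, fun x => ?_⟩
    · show ((s, 1) : Sg × Sg) • (((1 : Sg), s') • x) = ((1 : Sg), s') • (((s, 1) : Sg × Sg) • x)
      rw [smul_smul, smul_smul]
      congr 1
      ext <;> simp
    · show M.pi (((s, 1) : Sg × Sg) • x) = _
      rw [M.pi_smul]
      simp)

theorem iota_apply (s : Sg) (x : M.X) :
    ((M.iota s : M.Amb) : Equiv.Perm M.X) x = ((s, 1) : Sg × Sg) • x := rfl

theorem rho_iota (s : Sg) : M.rho (M.iota s) = M.c s :=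
  M.rho_unique _ (fun x => by
    rw [M.iota_apply, M.pi_smul]
    simp)

theorem iota_injective : Function.Injective M.iota := by
  rw [injective_iff_map_eq_one]
  intro s hs
  obtain ⟨x, _⟩ := M.pi_surj 1
  have h1 : ((M.iota s : M.Amb) : Equiv.Perm M.X) x = x := by rw [hs]; rfl
  rw [M.iota_apply] at h1
  exact M.free_left h1

theorem ker_apply {k : M.Amb} (hk : M.rho k = 1) (x : M.X) :
    ∃ z : Sg, M.c z = 1 ∧ (k : Equiv.Perm M.X) x = ((1 : Sg), z) • x := by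
  have h : M.pi x = M.pi ((k : Equiv.Perm M.X) x) := by rw [M.rho_spec, hk, one_mul]
  exact M.pi_eq_imp h

theorem ker_commute {k k' : M.Amb} (hk : M.rho k = 1) (hk' : M.rho k' = 1) : k * k' = k' * k := by
  apply Subtype.ext
  apply Equiv.ext
  intro x
  show (k : Equiv.Perm M.X) ((k' : Equiv.Perm M.X) x) = (k' : Equiv.Perm M.X) ((k : Equiv.Perm M.X) x)
  obtain ⟨z, hz, hzx⟩ := M.ker_apply hk x
  obtain ⟨z', hz', hzx'⟩ := M.ker_apply hk' x
  rw [hzx', hzx, M.Amb_comm, M.Amb_comm, hzx, hzx', smul_smul, smul_smul]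
  congr 1
  ext
  · rfl
  · exact (M.ker_comm hz hz').symm

theorem ker_pow_apply (k : M.Amb) (x : M.X) {z : Sg}
    (hz : (k : Equiv.Perm M.X) x = ((1 : Sg), z) • x) (n : ℕ) :
    ((k ^ n : M.Amb) : Equiv.Perm M.X) x = ((1 : Sg), z ^ n) • x := by
  induction n with
  | zero =>
    rw [pow_zero, pow_zero]
    exact (one_smul (Sg × Sg) x).symm
  | succ n ih =>
    rw [pow_succ', Subgroup.coe_mul, Equiv.Perm.mul_apply, ih, M.Amb_comm, hz, smul_smul]
    congr 1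
    ext
    · show (1 : Sg) * 1 = 1
      rw [one_mul]
    · show z ^ n * z = z ^ (n + 1)
      rw [pow_succ]

theorem ker_pow_card [Finite Sg] {k : M.Amb} (hk : M.rho k = 1) : k ^ Nat.card Sg = 1 := by
  apply Subtype.ext
  apply Equiv.ext
  intro x
  obtain ⟨z, _, hz⟩ := M.ker_apply hk x
  rw [M.ker_pow_apply k x hz, pow_card_eq_one']
  exact one_smul (Sg × Sg) x

theorem smul_left_eq (x : M.X) (q : M.Qs) : (((q : Sg), 1) : Sg × Sg) • x =
    ((1 : Sg), ((M.act (M.pi x)⁻¹ q : M.Qs) : Sg)⁻¹) • x := by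
  have h := M.stab_over x q
  rw [MulAction.mem_stabilizer_iff] at h
  set w := ((M.act (M.pi x)⁻¹ q : M.Qs) : Sg) with hw
  calc (((q : Sg), 1) : Sg × Sg) • x = (((1 : Sg), w⁻¹) * ((q : Sg), w)) • x := by
        congr 1
        ext <;> simp
    _ = ((1 : Sg), w⁻¹) • (((q : Sg), w) • x) := mul_smul _ _ _
    _ = ((1 : Sg), w⁻¹) • x := by rw [h]

theorem conj_iota (g : M.Amb) (q : M.Qs) :
    g * M.iota q = M.iota ((M.act (M.rho g) q : M.Qs) : Sg) * g := by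
  apply Subtype.ext
  apply Equiv.ext
  intro x
  show (g : Equiv.Perm M.X) ((((q : Sg), 1) : Sg × Sg) • x) =
    ((((M.act (M.rho g) q : M.Qs) : Sg), 1) : Sg × Sg) • (g : Equiv.Perm M.X) x
  have e : M.act (M.rho g * M.pi x)⁻¹ (M.act (M.rho g) q) = M.act (M.pi x)⁻¹ q := by
    rw [mul_inv_rev, map_mul, MulAut.mul_apply]
    simp only [map_inv, MulAut.inv_apply_self]
  rw [M.smul_left_eq x q, M.Amb_comm, M.smul_left_eq ((g : Equiv.Perm M.X) x) (M.act (M.rho g) q),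
    M.rho_spec, e]

/-- every element of the automizer lifts to the ambient group, compatibly with a full graph over it -/
theorem exists_lift [Finite Sg] [Finite Γ] (γ : Γ) : ∃ h : M.Amb, M.rho h = γ ∧
    ∀ t ∈ M.Dg γ, ∀ x : M.X, (h : Equiv.Perm M.X) (((t.1, 1) : Sg × Sg) • x) =
      ((t.2, 1) : Sg × Sg) • (h : Equiv.Perm M.X) x := by
  classical
  let θ₁ : (M.Dg γ) × Sg →* Sg × Sg :=
    MonoidHom.prodMap ((MonoidHom.fst Sg Sg).comp (M.Dg γ).subtype) (MonoidHom.id Sg)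
  let θ₂ : (M.Dg γ) × Sg →* Sg × Sg :=
    MonoidHom.prodMap ((MonoidHom.snd Sg Sg).comp (M.Dg γ).subtype) (MonoidHom.id Sg)
  have hθ₁ : ∀ g : (M.Dg γ) × Sg, θ₁ g = ((g.1 : Sg × Sg).1, g.2) := fun g => rfl
  have hθ₂ : ∀ g : (M.Dg γ) × Sg, θ₂ g = ((g.1 : Sg × Sg).2, g.2) := fun g => rfl
  have hgood : ∀ x : M.X, ∃ y : M.X, M.pi y = γ * M.pi x ∧ ∀ g : (M.Dg γ) × Sg, θ₁ g • x = x → θ₂ g • y = y := by
    intro x
    obtain ⟨y₀, hy₀⟩ := M.pi_surj (γ * M.pi x)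
    have hKG : compS (swapS (M.Dg γ)) (MulAction.stabilizer (Sg × Sg) x) ∈ M.𝒢 :=
      M.comp _ (M.swap _ (M.Dg_mem γ)) _ (M.stab_mem x)
    have hKo : M.Over (M.pi y₀)⁻¹ (compS (swapS (M.Dg γ)) (MulAction.stabilizer (Sg × Sg) x)) := by
      have := M.over_comp (M.over_swap (M.Dg_over γ)) (M.stab_over x)
      rw [hy₀, mul_inv_rev]
      exact this
    have hdom : ∀ t ∈ compS (swapS (M.Dg γ)) (MulAction.stabilizer (Sg × Sg) x),
        ∃ s' : Sg, (t.1, s') ∈ MulAction.stabilizer (Sg × Sg) y₀ := by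
      intro t ht
      obtain ⟨n, hn1, hn2⟩ := mem_compS.mp ht
      have h1 := M.over_comm (M.Dg_mem γ) (M.Dg_over γ) (mem_swapS.mp hn1)
      have h2 := M.over_comm (M.stab_mem x) (M.stab_over x) hn2
      have e : γ⁻¹ * M.c t.1 = M.c n * γ⁻¹ := by
        calc γ⁻¹ * M.c t.1 = γ⁻¹ * (M.c t.1 * γ) * γ⁻¹ := by group
          _ = γ⁻¹ * (γ * M.c n) * γ⁻¹ := by rw [h1]
          _ = M.c n * γ⁻¹ := by group
      obtain ⟨m', hm'⟩ := M.stab_full y₀ (n := t.1) (m := t.2) (by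
        rw [hy₀, mul_inv_rev]
        calc M.c t.2 * ((M.pi x)⁻¹ * γ⁻¹) = (M.c t.2 * (M.pi x)⁻¹) * γ⁻¹ := (mul_assoc _ _ _).symm
          _ = ((M.pi x)⁻¹ * M.c n) * γ⁻¹ := by rw [h2]
          _ = (M.pi x)⁻¹ * (M.c n * γ⁻¹) := mul_assoc _ _ _
          _ = (M.pi x)⁻¹ * (γ⁻¹ * M.c t.1) := by rw [e]
          _ = (M.pi x)⁻¹ * γ⁻¹ * M.c t.1 := (mul_assoc _ _ _).symm)
      exact ⟨m', MulAction.mem_stabilizer_iff.mpr hm'⟩
    obtain ⟨z, hz, hzK⟩ := M.uniq _ hKG _ (M.stab_mem y₀) (M.pi y₀)⁻¹ hKo (M.stab_over y₀) hdom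
    refine ⟨((z⁻¹, 1) : Sg × Sg) • y₀, ?_, ?_⟩
    · show M.pi (((z⁻¹, 1) : Sg × Sg) • y₀) = γ * M.pi x
      rw [M.pi_smul]
      show M.c z⁻¹ * M.pi y₀ * (M.c 1)⁻¹ = _
      rw [map_inv, hz, map_one, inv_one, one_mul, mul_one, hy₀]
    · intro g hg
      rw [hθ₁] at hg
      rw [hθ₂]
      have hmem : (((g.1 : Sg × Sg).2, g.2) : Sg × Sg) ∈
          compS (swapS (M.Dg γ)) (MulAction.stabilizer (Sg × Sg) x) :=
        mem_compS.mpr ⟨(g.1 : Sg × Sg).1, mem_swapS.mpr g.1.2, MulAction.mem_stabilizer_iff.mpr hg⟩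
      have h3 := hzK _ hmem
      rw [MulAction.mem_stabilizer_iff] at h3
      rw [smul_smul]
      have e : (((g.1 : Sg × Sg).2, g.2) : Sg × Sg) * (z⁻¹, 1) =
          (z⁻¹, 1) * (z * (g.1 : Sg × Sg).2 * z⁻¹, g.2) := by
        ext
        · show (g.1 : Sg × Sg).2 * z⁻¹ = z⁻¹ * (z * (g.1 : Sg × Sg).2 * z⁻¹)
          group
        · show g.2 * 1 = 1 * g.2
          rw [mul_one, one_mul]
      rw [e, mul_smul, h3]
  have hmul : ∀ (x y : M.X) (g : (M.Dg γ) × Sg), M.pi y = γ * M.pi x → M.pi (θ₂ g • y) = γ * M.pi (θ₁ g • x) := by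
    intro x y g hxy
    have hxy' : M.pi y = γ * M.pi x := hxy
    show M.pi (θ₂ g • y) = γ * M.pi (θ₁ g • x)
    rw [hθ₁, hθ₂, M.pi_smul, M.pi_smul, hxy']
    have h1 := M.over_comm (M.Dg_mem γ) (M.Dg_over γ) g.1.2
    show M.c (g.1 : Sg × Sg).2 * (γ * M.pi x) * (M.c g.2)⁻¹ =
      γ * (M.c (g.1 : Sg × Sg).1 * M.pi x * (M.c g.2)⁻¹)
    calc M.c (g.1 : Sg × Sg).2 * (γ * M.pi x) * (M.c g.2)⁻¹
        = (M.c (g.1 : Sg × Sg).2 * γ) * M.pi x * (M.c g.2)⁻¹ := by group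
      _ = (γ * M.c (g.1 : Sg × Sg).1) * M.pi x * (M.c g.2)⁻¹ := by rw [h1]
      _ = γ * (M.c (g.1 : Sg × Sg).1 * M.pi x * (M.c g.2)⁻¹) := by group
  obtain ⟨f, hf1, hf2⟩ := exists_twisted_equivariant (X := M.X) (Y := M.X) θ₁ θ₂
    (fun x y => M.pi y = γ * M.pi x) hgood hmul
  have hf2' : ∀ x, M.pi (f x) = γ * M.pi x := hf2
  have hfr : ∀ (s : Sg) x, f (((1 : Sg), s) • x) = ((1 : Sg), s) • f x := by
    intro s x
    have := hf1 ((1 : M.Dg γ), s) x
    rw [hθ₁, hθ₂] at this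
    exact this
  have hfl : ∀ t ∈ M.Dg γ, ∀ x, f (((t.1, 1) : Sg × Sg) • x) = ((t.2, 1) : Sg × Sg) • f x := by
    intro t ht x
    have := hf1 (⟨t, ht⟩, (1 : Sg)) x
    rw [hθ₁, hθ₂] at this
    exact this
  have hinj : Function.Injective f := by
    intro x x' hxx
    have h1 : M.pi x = M.pi x' := by
      have := (hf2' x).symm.trans ((congrArg M.pi hxx).trans (hf2' x'))
      exact mul_left_cancel this
    obtain ⟨z, _, rfl⟩ := M.pi_eq_imp h1
    rw [hfr] at hxx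
    have hz1 := M.free_right hxx.symm
    rw [hz1]
    exact (one_smul (Sg × Sg) x).symm
  have hbij : Function.Bijective f := ⟨hinj, Finite.surjective_of_injective hinj⟩
  refine ⟨⟨Equiv.ofBijective f hbij, ⟨hfr, γ, hf2'⟩⟩, ?_, hfl⟩
  exact M.rho_unique _ hf2'

end ModelInput

end Cfsg.Agent.Lib.Helper29
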