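import Mathlib.GroupTheory.Sylow
import Mathlib.GroupTheory.Index
import Mathlib.GroupTheory.PGroup

/-!
Averaging a bi-equivariant set-theoretic section modulo an abelian normal subgroup to a homomorphism
(the splitting part of Gaschütz's theorem, in the form needed for the uniqueness of models).
-/
set_option autoImplicit false

namespace Cfsg.Agent.Lib.Helper29

section averaging

variable {G H : Type*} [Group G] [Group H]

/-- Let `t : G → H` be a map that is multiplicative modulo the abelian normal subgroup `A` of `H` and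
equivariant on both sides for a homomorphism `σ` defined on the subgroup `T` of finite index of `G`. If the
`[G : T]`-th power map is bijective on `A`, there is a homomorphism `τ : G → H` congruent to `t` modulo `A`
and extending `σ`. -/
theorem exists_hom_of_biequivariant (T : Subgroup G) [T.FiniteIndex] (σ : T →* H)
    (A : Subgroup H) [hAn : A.Normal] (hAcomm : ∀ a b : A, a * b = b * a)
    (t : G → H) (hf : ∀ x y, t x * t y * (t (x * y))⁻¹ ∈ A)
    (hL : ∀ (s : T) (x : G), t (s * x) = σ s * t x) (hR : ∀ (x : G) (s : T), t (x * s) = t x * σ s)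
    (hinj : Function.Injective (fun a : A => a ^ T.index))
    (hsurj : Function.Surjective (fun a : A => a ^ T.index)) :
    ∃ τ : G →* H, (∀ x, τ x * (t x)⁻¹ ∈ A) ∧ ∀ s : T, τ s = σ s := by
  classical
  letI : CommGroup A := { (inferInstance : Group A) with mul_comm := hAcomm }
  haveI : Fintype (G ⧸ T) := Fintype.ofFinite _
  -- the factor set
  set f : G → G → A := fun x y => ⟨t x * t y * (t (x * y))⁻¹, hf x y⟩ with hfdef
  -- the cocycle identity
  have hcoc : ∀ x y z, f x y * f (x * y) z = MulAut.conjNormal (t x) (f y z) * f x (y * z) := by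
    intro x y z
    apply Subtype.ext
    show t x * t y * (t (x * y))⁻¹ * (t (x * y) * t z * (t (x * y * z))⁻¹) =
      t x * (t y * t z * (t (y * z))⁻¹) * (t x)⁻¹ * (t x * t (y * z) * (t (x * (y * z)))⁻¹)
    rw [mul_assoc x y z]
    group
  -- invariance in the second variable
  have hinv2 : ∀ x y (s : T), f x (y * s) = f x y := by
    intro x y s
    apply Subtype.ext
    show t x * t (y * s) * (t (x * (y * s)))⁻¹ = t x * t y * (t (x * y))⁻¹
    rw [← mul_assoc x y s, hR, hR]
    group
  have hcos : ∀ (x y : G) (q : G ⧸ T), f x (y * q.out) = f x ((y • q).out) := by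
    intro x y q
    have h1 : ((y • q).out)⁻¹ * (y * q.out) ∈ T := by
      rw [← QuotientGroup.eq, QuotientGroup.out_eq']
      have : ((y * q.out : G) : G ⧸ T) = y • ((q.out : G) : G ⧸ T) := rfl
      rw [this, QuotientGroup.out_eq']
    have h2 : (y • q).out = y * q.out * ((⟨_, T.inv_mem h1⟩ : T) : G) := by
      show (y • q).out = y * q.out * (((y • q).out)⁻¹ * (y * q.out))⁻¹
      group
    rw [h2, hinv2]
  set c : G → A := fun x => ∏ q : G ⧸ T, f x q.out with hcdef
  have hkey : ∀ x y, f x y ^ T.index * c (x * y) = MulAut.conjNormal (t x) (c y) * c x := by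
    intro x y
    have h1 : ∏ q : G ⧸ T, (f x y * f (x * y) q.out) =
        ∏ q : G ⧸ T, (MulAut.conjNormal (t x) (f y q.out) * f x (y * q.out)) :=
      Finset.prod_congr rfl (fun q _ => hcoc x y q.out)
    rw [Finset.prod_mul_distrib, Finset.prod_mul_distrib, Finset.prod_const, Finset.card_univ,
      ← map_prod] at h1
    have h2 : ∏ q : G ⧸ T, f x (y * q.out) = c x := by
      simp_rw [hcos]
      exact Fintype.prod_equiv (MulAction.toPerm y) _ _ (fun q => rfl)
    rw [h2] at h1
    rw [Subgroup.index_eq_card, Nat.card_eq_fintype_card]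
    exact h1
  -- roots
  choose d hd using fun x => hsurj (c x)
  have hd' : ∀ x, d x ^ T.index = c x := hd
  have hfd : ∀ x y, f x y = MulAut.conjNormal (t x) (d y) * d x * (d (x * y))⁻¹ := by
    intro x y
    apply hinj
    show f x y ^ T.index = (MulAut.conjNormal (t x) (d y) * d x * (d (x * y))⁻¹) ^ T.index
    rw [mul_pow, mul_pow, inv_pow, ← map_pow, hd', hd', hd', ← hkey, mul_inv_cancel_right]
  have hmul : ∀ x y, ((d (x * y))⁻¹ : A) * t (x * y) = ((d x)⁻¹ : A) * t x * (((d y)⁻¹ : A) * t y) := by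
    intro x y
    have h1 : ((f x y : A) : H) = ((MulAut.conjNormal (t x) (d y) * d x * (d (x * y))⁻¹ : A) : H) :=
      congrArg (fun a : A => (a : H)) (hfd x y)
    have h2 : ((f x y : A) : H) = t x * t y * (t (x * y))⁻¹ := rfl
    have h3 : ((MulAut.conjNormal (t x) (d y) * d x * (d (x * y))⁻¹ : A) : H) =
        ((d x : A) : H) * (t x * (d y : H) * (t x)⁻¹) * ((d (x * y) : A) : H)⁻¹ := by
      rw [mul_comm (MulAut.conjNormal (t x) (d y)) (d x)]
      rfl
    rw [h2, h3] at h1
    have h4 : t x * t y = ((d x : A) : H) * (t x * (d y : H) * (t x)⁻¹) * ((d (x * y) : A) : H)⁻¹ * t (x * y) := by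
      rw [← h1]
      group
    show ((d (x * y) : A) : H)⁻¹ * t (x * y) = ((d x : A) : H)⁻¹ * t x * (((d y : A) : H)⁻¹ * t y)
    have h5 : ((d x : A) : H)⁻¹ * t x * (((d y : A) : H)⁻¹ * t y) =
        ((d x : A) : H)⁻¹ * (t x * ((d y : A) : H) * (t x)⁻¹)⁻¹ * (t x * t y) := by group
    rw [h5, h4]
    have hcomm : ((d x : A) : H) * (t x * ((d y : A) : H) * (t x)⁻¹) =
        (t x * ((d y : A) : H) * (t x)⁻¹) * ((d x : A) : H) :=
      congrArg (fun a : A => (a : H)) (hAcomm (d x) (MulAut.conjNormal (t x) (d y)))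
    have h6 : ((d x : A) : H)⁻¹ * (t x * ((d y : A) : H) * (t x)⁻¹)⁻¹ *
        (((d x : A) : H) * (t x * ((d y : A) : H) * (t x)⁻¹) * ((d (x * y) : A) : H)⁻¹ * t (x * y)) =
        (((d x : A) : H)⁻¹ * (t x * ((d y : A) : H) * (t x)⁻¹)⁻¹ *
        (((d x : A) : H) * (t x * ((d y : A) : H) * (t x)⁻¹))) * (((d (x * y) : A) : H)⁻¹ * t (x * y)) := by
      group
    rw [h6, hcomm]
    group
  refine ⟨MonoidHom.mk' (fun x => ((d x)⁻¹ : A) * t x) hmul, fun x => ?_, fun s => ?_⟩
  · show ((d x)⁻¹ : A) * t x * (t x)⁻¹ ∈ A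
    rw [mul_inv_cancel_right]
    exact ((d x)⁻¹ : A).2
  · show ((d s)⁻¹ : A) * t s = σ s
    -- `f s y` does not depend on `y`
    have ht1 : t 1 ∈ A := by
      have := hf 1 1
      rwa [mul_one, mul_inv_cancel_right] at this
    have hts : t s = σ s * t 1 := by
      have := hL s 1
      rwa [mul_one] at this
    have hfs : ∀ y, f s y = MulAut.conjNormal (σ s) ⟨t 1, ht1⟩ := by
      intro y
      apply Subtype.ext
      show t s * t y * (t (s * y))⁻¹ = σ s * t 1 * (σ s)⁻¹
      rw [hL, hts]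
      group
    have hcs : c s = (MulAut.conjNormal (σ s) ⟨t 1, ht1⟩ : A) ^ T.index := by
      show ∏ q : G ⧸ T, f s q.out = _
      simp_rw [hfs]
      rw [Finset.prod_const, Finset.card_univ, Subgroup.index_eq_card, Nat.card_eq_fintype_card]
    have hds : d s = MulAut.conjNormal (σ s) ⟨t 1, ht1⟩ := by
      apply hinj
      show d s ^ T.index = _
      rw [hd', hcs]
    rw [hds, hts]
    show (σ s * t 1 * (σ s)⁻¹)⁻¹ * (σ s * t 1) = σ s
    group

end averaging


section biequivariant

variable {G H : Type*} [Group G] [Group H]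

/-- the double coset relation for a subgroup `T` -/
def dcSetoid (T : Subgroup G) : Setoid G where
  r g g' := ∃ s s' : T, g' = s * g * s'
  iseqv := ⟨fun g => ⟨1, 1, by simp⟩,
    fun {g g'} ⟨s, s', h⟩ => ⟨s⁻¹, s'⁻¹, by
      rw [h]
      push_cast
      group⟩,
    fun {g g' g''} ⟨s, s', h⟩ ⟨u, u', h'⟩ => ⟨u * s, s' * u', by
      rw [h', h]
      push_cast
      group⟩⟩

/-- a choice of elements over double coset representatives compatible with the stabilizers extends to a
bi-equivariant map -/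
theorem exists_biequivariant (T : Subgroup G) (σ : T →* H) (good : G → H → Prop)
    (hgood : ∀ g, ∃ h, good g h ∧ ∀ s s' : T, (s : G) * g = g * s' → σ s * h = h * σ s')
    (hmul : ∀ g h (s s' : T), good g h → good (s * g * s') (σ s * h * σ s')) :
    ∃ t : G → H, (∀ g, good g (t g)) ∧ (∀ (s : T) g, t (s * g) = σ s * t g) ∧
      ∀ g (s : T), t (g * s) = t g * σ s := by
  classical
  choose h₀ hh₀ using hgood
  have hdec : ∀ g : G, ∃ s s' : T, g = s * (Quotient.mk (dcSetoid T) g).out * s' := by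
    intro g
    exact Quotient.exact (s := dcSetoid T) (Quotient.out_eq (Quotient.mk (dcSetoid T) g))
  choose a b hab using hdec
  have key : ∀ (g₀ : G) (s₁ s₁' s₂ s₂' : T), (s₁ : G) * g₀ * s₁' = s₂ * g₀ * s₂' →
      σ s₁ * h₀ g₀ * σ s₁' = σ s₂ * h₀ g₀ * σ s₂' := by
    intro g₀ s₁ s₁' s₂ s₂' h
    have h1 : ((s₂⁻¹ * s₁ : T) : G) * g₀ = g₀ * ((s₂' * s₁'⁻¹ : T) : G) := by
      push_cast
      calc (s₂ : G)⁻¹ * s₁ * g₀ = (s₂ : G)⁻¹ * ((s₁ : G) * g₀ * s₁') * (s₁' : G)⁻¹ := by group
        _ = (s₂ : G)⁻¹ * ((s₂ : G) * g₀ * s₂') * (s₁' : G)⁻¹ := by rw [h]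
        _ = g₀ * ((s₂' : G) * (s₁' : G)⁻¹) := by group
    have h2 := (hh₀ g₀).2 _ _ h1
    rw [map_mul, map_mul, map_inv, map_inv] at h2
    calc σ s₁ * h₀ g₀ * σ s₁' = σ s₂ * ((σ s₂)⁻¹ * σ s₁ * h₀ g₀) * σ s₁' := by group
      _ = σ s₂ * (h₀ g₀ * (σ s₂' * (σ s₁')⁻¹)) * σ s₁' := by rw [h2]
      _ = σ s₂ * h₀ g₀ * σ s₂' := by group
  have hchar : ∀ g (s s' : T), g = s * (Quotient.mk (dcSetoid T) g).out * s' →
      σ (a g) * h₀ (Quotient.mk (dcSetoid T) g).out * σ (b g) =
        σ s * h₀ (Quotient.mk (dcSetoid T) g).out * σ s' := by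
    intro g s s' h
    exact key _ _ _ _ _ ((hab g).symm.trans h)
  refine ⟨fun g => σ (a g) * h₀ (Quotient.mk (dcSetoid T) g).out * σ (b g), ?_, ?_, ?_⟩
  · intro g
    have h1 := hmul _ _ (a g) (b g) (hh₀ (Quotient.mk (dcSetoid T) g).out).1
    rw [← hab g] at h1
    exact h1
  · intro s g
    have e : Quotient.mk (dcSetoid T) ((s : G) * g) = Quotient.mk (dcSetoid T) g :=
      Quotient.sound (s := dcSetoid T) ⟨s⁻¹, 1, by
        push_cast
        group⟩
    have h1 : (s : G) * g = ((s * a g : T) : G) * (Quotient.mk (dcSetoid T) ((s : G) * g)).out * (b g) := by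
      rw [e]
      conv_lhs => rw [hab g]
      push_cast
      group
    show σ (a (↑s * g)) * h₀ (Quotient.mk (dcSetoid T) (↑s * g)).out * σ (b (↑s * g)) = _
    rw [hchar _ _ _ h1, e, map_mul]
    group
  · intro g s
    have e : Quotient.mk (dcSetoid T) (g * (s : G)) = Quotient.mk (dcSetoid T) g :=
      Quotient.sound (s := dcSetoid T) ⟨1, s⁻¹, by
        push_cast
        group⟩
    have h1 : g * (s : G) = (a g : G) * (Quotient.mk (dcSetoid T) (g * (s : G))).out * ((b g * s : T) : G) := by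
      rw [e]
      conv_lhs => rw [hab g]
      push_cast
      group
    show σ (a (g * ↑s)) * h₀ (Quotient.mk (dcSetoid T) (g * ↑s)).out * σ (b (g * ↑s)) = _
    rw [hchar _ _ _ h1, e, map_mul]
    group

end biequivariant

end Cfsg.Agent.Lib.Helper29
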