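import Cfsg.Agent.S5328
import Cfsg.Agent.Lib.Helper29.SectionAveraging

/-!
Abstract input for the construction of a model of a constrained fusion system, and the biset fibred
over the automizer of the normal centric subgroup.
-/
set_option autoImplicit false
universe u

namespace Cfsg.Agent.Lib.Helper29

open Cfsg.Agent.S5328 (swapS compS diagConj mem_swapS mem_compS mem_diagConj)

/-- the data extracted from a constrained fusion system: the graphs of its maps, the automizer of the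
normal centric subgroup and its action -/
structure ModelInput (p : ℕ) (Sg : Type u) [Group Sg] (Γ : Type u) [Group Γ] where
  𝒢 : Set (Subgroup (Sg × Sg))
  sub : ∀ D ∈ 𝒢, ∀ L : Subgroup (Sg × Sg), L ≤ D → L ∈ 𝒢
  func : ∀ D ∈ 𝒢, ∀ y : Sg, ((1 : Sg), y) ∈ D → y = 1
  swap : ∀ D ∈ 𝒢, swapS D ∈ 𝒢
  comp : ∀ A ∈ 𝒢, ∀ B ∈ 𝒢, compS A B ∈ 𝒢
  conj : ∀ g : Sg, diagConj g ∈ 𝒢
  c : Sg →* Γ
  Qs : Subgroup Sg
  act : Γ →* MulAut Qs
  act_inj : Function.Injective act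
  act_c : ∀ (s : Sg) (q : Qs), ((act (c s) q : Qs) : Sg) = s * q * s⁻¹
  ker_le : ∀ z : Sg, c z = 1 → z ∈ Qs
  recv : ∀ γ : Γ, ∃ D ∈ 𝒢, (∀ q : Qs, ((q : Sg), ((act γ q : Qs) : Sg)) ∈ D) ∧
    ∀ n m : Sg, c m * γ = γ * c n → ∃ m' : Sg, (n, m') ∈ D
  uniq : ∀ K ∈ 𝒢, ∀ K' ∈ 𝒢, ∀ γ : Γ, (∀ q : Qs, ((q : Sg), ((act γ q : Qs) : Sg)) ∈ K) →
    (∀ q : Qs, ((q : Sg), ((act γ q : Qs) : Sg)) ∈ K') → (∀ t ∈ K, ∃ s' : Sg, (t.1, s') ∈ K') →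
    ∃ z : Sg, c z = 1 ∧ ∀ t ∈ K, (z * t.1 * z⁻¹, t.2) ∈ K'
  ext : ∀ D ∈ 𝒢, ∃ D' ∈ 𝒢, ∃ γ : Γ, D ≤ D' ∧ ∀ q : Qs, ((q : Sg), ((act γ q : Qs) : Sg)) ∈ D'
  pS : IsPGroup p Sg
  idx : ¬ p ∣ c.range.index

namespace ModelInput

variable {p : ℕ} {Sg : Type u} [Group Sg] {Γ : Type u} [Group Γ] (M : ModelInput p Sg Γ)

/-- the graph `D` contains the graph of the action of `γ` on `Q` -/
def Over (γ : Γ) (D : Subgroup (Sg × Sg)) : Prop :=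
  ∀ q : M.Qs, ((q : Sg), ((M.act γ q : M.Qs) : Sg)) ∈ D

theorem func2 {D : Subgroup (Sg × Sg)} (hD : D ∈ M.𝒢) {a b b' : Sg} (h : (a, b) ∈ D)
    (h' : (a, b') ∈ D) : b = b' := by
  have h1 : ((a, b) : Sg × Sg)⁻¹ * (a, b') ∈ D := D.mul_mem (D.inv_mem h) h'
  have h2 : ((a, b) : Sg × Sg)⁻¹ * (a, b') = (1, b⁻¹ * b') := by
    ext <;> simp
  rw [h2] at h1
  exact inv_mul_eq_one.mp (M.func D hD _ h1)

theorem inj2 {D : Subgroup (Sg × Sg)} (hD : D ∈ M.𝒢) {a a' b : Sg} (h : (a, b) ∈ D)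
    (h' : (a', b) ∈ D) : a = a' :=
  M.func2 (M.swap D hD) (a := b) (mem_swapS.mpr h) (mem_swapS.mpr h')

theorem over_mono {γ : Γ} {D D' : Subgroup (Sg × Sg)} (h : M.Over γ D) (hle : D ≤ D') : M.Over γ D' :=
  fun q => hle (h q)

theorem over_comm {D : Subgroup (Sg × Sg)} (hD : D ∈ M.𝒢) {γ : Γ} (ho : M.Over γ D) {n m : Sg}
    (h : (n, m) ∈ D) : M.c m * γ = γ * M.c n := by
  apply M.act_inj
  apply MulEquiv.ext
  intro q
  apply Subtype.ext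
  rw [map_mul, map_mul, MulAut.mul_apply, MulAut.mul_apply, M.act_c]
  have h1 : ((n, m) : Sg × Sg) * ((q : Sg), ((M.act γ q : M.Qs) : Sg)) * ((n, m) : Sg × Sg)⁻¹ ∈ D :=
    D.mul_mem (D.mul_mem h (ho q)) (D.inv_mem h)
  have h2 := ho (M.act (M.c n) q)
  rw [M.act_c] at h2
  exact M.func2 hD h1 h2

theorem over_c (s : Sg) : M.Over (M.c s) (diagConj s) := by
  intro q
  rw [mem_diagConj]
  exact M.act_c s q

theorem over_comp {γ γ' : Γ} {A B : Subgroup (Sg × Sg)} (hA : M.Over γ A) (hB : M.Over γ' B) :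
    M.Over (γ' * γ) (compS A B) := by
  intro q
  rw [mem_compS]
  refine ⟨((M.act γ q : M.Qs) : Sg), hA q, ?_⟩
  rw [map_mul, MulAut.mul_apply]
  exact hB (M.act γ q)

theorem over_swap {γ : Γ} {D : Subgroup (Sg × Sg)} (h : M.Over γ D) : M.Over γ⁻¹ (swapS D) := by
  intro q
  rw [mem_swapS]
  have h1 := h (M.act γ⁻¹ q)
  have h2 : M.act γ (M.act γ⁻¹ q) = q := by
    rw [map_inv]
    exact MulAut.apply_inv_self _ (M.act γ) q
  rw [h2] at h1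
  exact h1

theorem over_unique {D : Subgroup (Sg × Sg)} (hD : D ∈ M.𝒢) {γ γ' : Γ} (h : M.Over γ D)
    (h' : M.Over γ' D) : γ = γ' := by
  apply M.act_inj
  apply MulEquiv.ext
  intro q
  apply Subtype.ext
  exact M.func2 hD (h q) (h' q)

theorem ker_comm {z z' : Sg} (hz : M.c z = 1) (hz' : M.c z' = 1) : z * z' = z' * z := by
  have h1 := M.act_c z ⟨z', M.ker_le z' hz'⟩
  rw [hz, map_one] at h1
  have h2 : z' = z * z' * z⁻¹ := h1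
  calc z * z' = z * z' * z⁻¹ * z := by group
    _ = z' * z := by rw [← h2]

/-- a graph over `γ` with full domain -/
noncomputable def Dg (γ : Γ) : Subgroup (Sg × Sg) := Classical.choose (M.recv γ)

theorem Dg_mem (γ : Γ) : M.Dg γ ∈ M.𝒢 := (Classical.choose_spec (M.recv γ)).1

theorem Dg_over (γ : Γ) : M.Over γ (M.Dg γ) := (Classical.choose_spec (M.recv γ)).2.1

theorem Dg_full (γ : Γ) {n m : Sg} (h : M.c m * γ = γ * M.c n) : ∃ m' : Sg, (n, m') ∈ M.Dg γ :=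
  (Classical.choose_spec (M.recv γ)).2.2 n m h

/-- the double cosets of the image of `S` in the automizer -/
abbrev DC : Type u := Quotient (dcSetoid M.c.range)

/-- representatives of the double cosets -/
noncomputable def rep (i : M.DC) : Γ := Quotient.out i

/-- the biset -/
abbrev X : Type u := Σ i : M.DC, (Sg × Sg) ⧸ M.Dg (M.rep i)

theorem rep_spec (γ : Γ) :
    ∃ a b : Sg, γ = M.c a * M.rep (Quotient.mk (dcSetoid M.c.range) γ) * M.c b := by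
  have h : ∃ s s' : M.c.range, γ = s * Quotient.out (Quotient.mk (dcSetoid M.c.range) γ) * s' :=
    Quotient.exact (s := dcSetoid M.c.range) (Quotient.out_eq (Quotient.mk (dcSetoid M.c.range) γ))
  obtain ⟨s, s', h⟩ := h
  obtain ⟨a, ha⟩ := s.2
  obtain ⟨b, hb⟩ := s'.2
  refine ⟨a, b, ?_⟩
  rw [ha, hb]
  exact h

/-- the projection of the biset to the automizer -/
noncomputable def piAux (i : M.DC) (q : (Sg × Sg) ⧸ M.Dg (M.rep i)) : Γ :=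
  Quotient.liftOn' q (fun t : Sg × Sg => M.c t.1 * (M.rep i)⁻¹ * (M.c t.2)⁻¹) (by
    intro t t' h
    have h1 : t⁻¹ * t' ∈ M.Dg (M.rep i) := QuotientGroup.leftRel_apply.mp h
    have hdec : t' = t * (t⁻¹ * t') := by group
    generalize t⁻¹ * t' = d at h1 hdec
    obtain ⟨n, m⟩ := d
    subst hdec
    have h2 := M.over_comm (M.Dg_mem _) (M.Dg_over _) h1
    show M.c t.1 * (M.rep i)⁻¹ * (M.c t.2)⁻¹ = M.c (t.1 * n) * (M.rep i)⁻¹ * (M.c (t.2 * m))⁻¹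
    rw [map_mul, map_mul]
    have h3 : M.c n = (M.rep i)⁻¹ * M.c m * M.rep i := by
      rw [mul_assoc, h2]
      group
    rw [h3]
    group)

/-- the projection of the biset to the automizer -/
noncomputable def pi (x : M.X) : Γ := M.piAux x.1 x.2

theorem pi_mk (i : M.DC) (t : Sg × Sg) :
    M.pi ⟨i, QuotientGroup.mk t⟩ = M.c t.1 * (M.rep i)⁻¹ * (M.c t.2)⁻¹ := rfl

theorem smul_mk (g : Sg × Sg) (i : M.DC) (t : Sg × Sg) :
    g • (⟨i, QuotientGroup.mk t⟩ : M.X) = ⟨i, QuotientGroup.mk (g * t)⟩ := rfl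

theorem exists_rep (x : M.X) : ∃ (i : M.DC) (t : Sg × Sg), x = ⟨i, QuotientGroup.mk t⟩ := by
  obtain ⟨i, q⟩ := x
  obtain ⟨t, rfl⟩ := QuotientGroup.mk_surjective q
  exact ⟨i, t, rfl⟩

theorem smul_eq_iff (i : M.DC) (t m : Sg × Sg) :
    m • (⟨i, QuotientGroup.mk t⟩ : M.X) = ⟨i, QuotientGroup.mk t⟩ ↔ t⁻¹ * m * t ∈ M.Dg (M.rep i) := by
  rw [Sigma.smul_mk, Sigma.mk.inj_iff]
  simp only [heq_eq_eq, true_and]
  rw [MulAction.Quotient.smul_mk, QuotientGroup.eq]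
  have e : (m • t)⁻¹ * t = (t⁻¹ * m * t)⁻¹ := by
    show (m * t)⁻¹ * t = _
    group
  rw [e, inv_mem_iff]

theorem pi_smul (g : Sg × Sg) (x : M.X) : M.pi (g • x) = M.c g.1 * M.pi x * (M.c g.2)⁻¹ := by
  obtain ⟨i, t, rfl⟩ := M.exists_rep x
  rw [M.smul_mk, M.pi_mk, M.pi_mk]
  show M.c (g.1 * t.1) * _ * (M.c (g.2 * t.2))⁻¹ = _
  rw [map_mul, map_mul, mul_inv_rev]
  group

theorem pi_surj (γ : Γ) : ∃ x : M.X, M.pi x = γ := by
  obtain ⟨a, b, h⟩ := M.rep_spec γ⁻¹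
  refine ⟨⟨Quotient.mk _ γ⁻¹, QuotientGroup.mk (b⁻¹, a)⟩, ?_⟩
  rw [M.pi_mk]
  show M.c b⁻¹ * _ * (M.c a)⁻¹ = γ
  have h1 : γ = (M.c a * M.rep (Quotient.mk _ γ⁻¹) * M.c b)⁻¹ := by rw [← h, inv_inv]
  conv_rhs => rw [h1]
  rw [map_inv]
  group

theorem idx_eq (x : M.X) : x.1 = Quotient.mk (dcSetoid M.c.range) (M.pi x)⁻¹ := by
  obtain ⟨i, t, rfl⟩ := M.exists_rep x
  show i = _
  conv_lhs => rw [← Quotient.out_eq i]
  apply Quotient.sound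
  change ∃ s s' : M.c.range, _ = (s : Γ) * Quotient.out i * (s' : Γ)
  refine ⟨⟨M.c t.2, t.2, rfl⟩, ⟨M.c t.1⁻¹, t.1⁻¹, rfl⟩, ?_⟩
  rw [M.pi_mk]
  show _ = M.c t.2 * M.rep i * M.c t.1⁻¹
  rw [map_inv]
  group

theorem pi_eq_imp {x y : M.X} (h : M.pi x = M.pi y) :
    ∃ z : Sg, M.c z = 1 ∧ y = ((1 : Sg), z) • x := by
  have hi : x.1 = y.1 := by rw [M.idx_eq x, M.idx_eq y, h]
  obtain ⟨i, t, rfl⟩ := M.exists_rep x
  obtain ⟨j, t', rfl⟩ := M.exists_rep y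
  have hi' : i = j := hi
  subst hi'
  rw [M.pi_mk, M.pi_mk] at h
  obtain ⟨a, b⟩ := t
  obtain ⟨a', b'⟩ := t'
  simp only at h
  have h1 : M.c (b⁻¹ * b') * M.rep i = M.rep i * M.c (a⁻¹ * a') := by
    rw [map_mul, map_mul, map_inv, map_inv]
    have e1 : (M.c b)⁻¹ * M.c b' =
        M.rep i * (M.c a)⁻¹ * (M.c a * (M.rep i)⁻¹ * (M.c b)⁻¹) * M.c b' := by group
    have e2 : M.rep i * (M.c a)⁻¹ * (M.c a' * (M.rep i)⁻¹ * (M.c b')⁻¹) * M.c b' =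
        M.rep i * ((M.c a)⁻¹ * M.c a') * (M.rep i)⁻¹ := by group
    rw [e1, h, e2]
    group
  obtain ⟨m', hm'⟩ := M.Dg_full (M.rep i) h1
  have h2 := M.over_comm (M.Dg_mem _) (M.Dg_over _) hm'
  have h3 : M.c m' = M.c (b⁻¹ * b') := by
    have : M.c m' * M.rep i = M.c (b⁻¹ * b') * M.rep i := by rw [h2, h1]
    exact mul_right_cancel this
  refine ⟨b' * m'⁻¹ * b⁻¹, ?_, ?_⟩
  · rw [map_mul, map_mul, map_inv, map_inv, h3, map_mul, map_inv]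
    group
  · rw [M.smul_mk]
    refine congrArg (Sigma.mk i) (QuotientGroup.eq.mpr ?_)
    have e : ((a', b') : Sg × Sg)⁻¹ * (((1 : Sg), b' * m'⁻¹ * b⁻¹) * (a, b)) =
        ((a⁻¹ * a', m') : Sg × Sg)⁻¹ := by
      ext
      · show a'⁻¹ * (1 * a) = (a⁻¹ * a')⁻¹
        group
      · show b'⁻¹ * (b' * m'⁻¹ * b⁻¹ * b) = m'⁻¹
        group
    rw [e]
    exact (M.Dg (M.rep i)).inv_mem hm'

theorem stab_mem (x : M.X) : MulAction.stabilizer (Sg × Sg) x ∈ M.𝒢 := by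
  obtain ⟨i, t, rfl⟩ := M.exists_rep x
  apply M.sub _ (M.comp _ (M.comp _ (M.conj t.1⁻¹) _ (M.Dg_mem (M.rep i))) _ (M.conj t.2))
  intro g hg
  rw [MulAction.mem_stabilizer_iff, M.smul_eq_iff] at hg
  rw [mem_compS]
  refine ⟨t.2⁻¹ * g.2 * t.2, ?_, ?_⟩
  · rw [mem_compS]
    refine ⟨t.1⁻¹ * g.1 * t.1, ?_, hg⟩
    rw [mem_diagConj]
    show t.1⁻¹ * g.1 * t.1 = t.1⁻¹ * g.1 * t.1⁻¹⁻¹
    rw [inv_inv]
  · rw [mem_diagConj]
    show g.2 = t.2 * (t.2⁻¹ * g.2 * t.2) * t.2⁻¹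
    group

theorem stab_full (x : M.X) {n m : Sg} (h : M.c m * (M.pi x)⁻¹ = (M.pi x)⁻¹ * M.c n) :
    ∃ m' : Sg, ((n, m') : Sg × Sg) • x = x := by
  obtain ⟨i, t, rfl⟩ := M.exists_rep x
  rw [M.pi_mk] at h
  have e : (M.c t.1 * (M.rep i)⁻¹ * (M.c t.2)⁻¹)⁻¹ = M.c t.2 * M.rep i * (M.c t.1)⁻¹ := by group
  rw [e] at h
  have h1 : M.c (t.2⁻¹ * m * t.2) * M.rep i = M.rep i * M.c (t.1⁻¹ * n * t.1) := by
    simp only [map_mul, map_inv]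
    calc (M.c t.2)⁻¹ * M.c m * M.c t.2 * M.rep i
        = (M.c t.2)⁻¹ * (M.c m * (M.c t.2 * M.rep i * (M.c t.1)⁻¹)) * M.c t.1 := by group
      _ = (M.c t.2)⁻¹ * (M.c t.2 * M.rep i * (M.c t.1)⁻¹ * M.c n) * M.c t.1 := by rw [h]
      _ = M.rep i * ((M.c t.1)⁻¹ * M.c n * M.c t.1) := by group
  obtain ⟨m'', hm''⟩ := M.Dg_full (M.rep i) h1
  refine ⟨t.2 * m'' * t.2⁻¹, ?_⟩
  rw [M.smul_eq_iff]
  have e2 : t⁻¹ * ((n, t.2 * m'' * t.2⁻¹) : Sg × Sg) * t = (t.1⁻¹ * n * t.1, m'') := by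
    ext
    · rfl
    · show t.2⁻¹ * (t.2 * m'' * t.2⁻¹) * t.2 = m''
      group
  rw [e2]
  exact hm''

theorem stab_over (x : M.X) : M.Over (M.pi x)⁻¹ (MulAction.stabilizer (Sg × Sg) x) := by
  obtain ⟨i, t, rfl⟩ := M.exists_rep x
  intro q
  rw [MulAction.mem_stabilizer_iff, M.smul_eq_iff, M.pi_mk]
  have e : (M.c t.1 * (M.rep i)⁻¹ * (M.c t.2)⁻¹)⁻¹ = M.c t.2 * M.rep i * M.c t.1⁻¹ := by
    rw [map_inv]
    group
  rw [e]
  have h := M.Dg_over (M.rep i) (M.act (M.c t.1⁻¹) q)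
  have e2 : t⁻¹ * ((q : Sg), ((M.act (M.c t.2 * M.rep i * M.c t.1⁻¹) q : M.Qs) : Sg)) * t =
      (((M.act (M.c t.1⁻¹) q : M.Qs) : Sg),
        ((M.act (M.rep i) (M.act (M.c t.1⁻¹) q) : M.Qs) : Sg)) := by
    ext
    · show t.1⁻¹ * (q : Sg) * t.1 = _
      rw [M.act_c, inv_inv]
    · show t.2⁻¹ * ((M.act (M.c t.2 * M.rep i * M.c t.1⁻¹) q : M.Qs) : Sg) * t.2 = _
      rw [map_mul, map_mul, MulAut.mul_apply, MulAut.mul_apply, M.act_c]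
      group
  rw [e2]
  exact h

theorem exists_base : ∃ x₀ : M.X, M.pi x₀ = 1 ∧ ∀ s : Sg, ((s, s) : Sg × Sg) • x₀ = x₀ := by
  obtain ⟨a, b, h⟩ := M.rep_spec 1
  set i := Quotient.mk (dcSetoid M.c.range) (1 : Γ) with hi
  obtain ⟨t, hr⟩ : ∃ t : Sg, M.rep i = M.c t := by
    refine ⟨a⁻¹ * b⁻¹, ?_⟩
    rw [map_mul, map_inv, map_inv]
    have e : M.rep i = (M.c a)⁻¹ * (M.c a * M.rep i * M.c b) * (M.c b)⁻¹ := by group
    rw [e, ← h]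
    group
  have ho1 : M.Over (M.rep i) (diagConj t) := by
    rw [hr]
    exact M.over_c t
  have hdom : ∀ u ∈ diagConj t, ∃ s' : Sg, (u.1, s') ∈ M.Dg (M.rep i) := by
    intro u _
    apply M.Dg_full (M.rep i) (m := t * u.1 * t⁻¹)
    rw [hr, ← map_mul, ← map_mul]
    congr 1
    group
  obtain ⟨z, hz, hzK⟩ := M.uniq _ (M.conj t) _ (M.Dg_mem (M.rep i)) (M.rep i) ho1 (M.Dg_over _) hdom
  refine ⟨⟨i, QuotientGroup.mk (1, (t * z⁻¹)⁻¹)⟩, ?_, fun s => ?_⟩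
  · rw [M.pi_mk]
    show M.c 1 * (M.rep i)⁻¹ * (M.c (t * z⁻¹)⁻¹)⁻¹ = 1
    have e1 : M.c (t * z⁻¹) = M.c t := by rw [map_mul, map_inv, hz, inv_one, mul_one]
    rw [map_inv, inv_inv, e1, hr, map_one]
    group
  · rw [M.smul_eq_iff]
    have h1 := hzK (z⁻¹ * s * z, t * (z⁻¹ * s * z) * t⁻¹) (by rw [mem_diagConj])
    have e : ((1, (t * z⁻¹)⁻¹) : Sg × Sg)⁻¹ * (s, s) * (1, (t * z⁻¹)⁻¹) =
        (z * (z⁻¹ * s * z) * z⁻¹, t * (z⁻¹ * s * z) * t⁻¹) := by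
      ext
      · show (1 : Sg)⁻¹ * s * 1 = _
        group
      · show ((t * z⁻¹)⁻¹)⁻¹ * s * (t * z⁻¹)⁻¹ = _
        group
    rw [e]
    exact h1

theorem free_right {x : M.X} {s : Sg} (h : ((1 : Sg), s) • x = x) : s = 1 :=
  M.func _ (M.stab_mem x) s (MulAction.mem_stabilizer_iff.mpr h)

theorem free_left {x : M.X} {s : Sg} (h : ((s, 1) : Sg × Sg) • x = x) : s = 1 :=
  M.func _ (M.swap _ (M.stab_mem x)) s (mem_swapS.mpr (MulAction.mem_stabilizer_iff.mpr h))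

end ModelInput

end Cfsg.Agent.Lib.Helper29
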