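import Cfsg.Agent.Lib.Helper29.ModelAmbient

/-!
The model group: a section of the projection of the ambient group modulo the centre of the normal
centric subgroup, by averaging over the cosets of the image of `S`, and its properties.
-/
set_option autoImplicit false
universe u

namespace Cfsg.Agent.Lib.Helper29

open Cfsg.Agent.S5328 (swapS compS diagConj mem_swapS mem_compS mem_diagConj)

namespace ModelInput

variable {p : ℕ} {Sg : Type u} [Group Sg] {Γ : Type u} [Group Γ] (M : ModelInput p Sg Γ)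

theorem c_act (γ : Γ) (q : M.Qs) : M.c ((M.act γ q : M.Qs) : Sg) = γ * M.c q * γ⁻¹ := by
  apply M.act_inj
  apply MulEquiv.ext
  intro q'
  apply Subtype.ext
  rw [M.act_c, map_mul, map_mul, MulAut.mul_apply, MulAut.mul_apply]
  have h1 : M.act (M.c (q : Sg)) (M.act γ⁻¹ q') = q * M.act γ⁻¹ q' * q⁻¹ := by
    apply Subtype.ext
    rw [M.act_c]
    rfl
  have h2 : M.act γ (M.act γ⁻¹ q') = q' := by
    rw [map_inv]
    exact MulAut.apply_inv_self _ (M.act γ) q'
  rw [h1, map_mul, map_mul, h2, map_inv]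
  rfl

/-- the image of the kernel of the conjugation map -/
noncomputable def Zi : Subgroup M.Amb := M.c.ker.map M.iota

instance Zi_normal : (M.Zi).Normal := by
  constructor
  rintro _ ⟨z, hz, rfl⟩ g
  have hzQ : z ∈ M.Qs := M.ker_le z hz
  have h1 := M.conj_iota g ⟨z, hzQ⟩
  have h2 : g * M.iota z * g⁻¹ = M.iota ((M.act (M.rho g) ⟨z, hzQ⟩ : M.Qs) : Sg) := by
    rw [show g * M.iota z = _ from h1]
    group
  rw [h2]
  refine ⟨_, ?_, rfl⟩
  have hz' : M.c z = 1 := hz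
  show M.c ((M.act (M.rho g) ⟨z, hzQ⟩ : M.Qs) : Sg) = 1
  rw [M.c_act]
  show M.rho g * M.c z * (M.rho g)⁻¹ = 1
  rw [hz']
  group

theorem Zi_le_ker : M.Zi ≤ M.rho.ker := by
  rintro _ ⟨z, hz, rfl⟩
  rw [MonoidHom.mem_ker, M.rho_iota]
  exact hz

/-- the projection of the quotient of the ambient group -/
noncomputable def rhoBar : M.Amb ⧸ M.Zi →* Γ := QuotientGroup.lift M.Zi M.rho M.Zi_le_ker

theorem rhoBar_mk (g : M.Amb) : M.rhoBar (QuotientGroup.mk g) = M.rho g := rfl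

theorem exists_sigma : ∃ σ : M.c.range →* M.Amb ⧸ M.Zi,
    ∀ s : Sg, σ (M.c.rangeRestrict s) = QuotientGroup.mk (M.iota s) := by
  have hk : M.c.rangeRestrict.ker ≤ ((QuotientGroup.mk' M.Zi).comp M.iota).ker := by
    intro z hz
    rw [MonoidHom.ker_rangeRestrict] at hz
    rw [MonoidHom.mem_ker]
    show (QuotientGroup.mk (M.iota z) : M.Amb ⧸ M.Zi) = 1
    rw [QuotientGroup.eq_one_iff]
    exact ⟨z, hz, rfl⟩
  refine ⟨M.c.rangeRestrict.liftOfSurjective M.c.rangeRestrict_surjective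
    ⟨(QuotientGroup.mk' M.Zi).comp M.iota, hk⟩, fun s => ?_⟩
  exact MonoidHom.liftOfRightInverse_comp_apply _ _ _ _ s

theorem exists_section [Fact p.Prime] [Finite Sg] [Finite Γ] :
    ∃ τ : Γ →* M.Amb ⧸ M.Zi, (∀ γ, M.rhoBar (τ γ) = γ) ∧
      ∀ s : Sg, τ (M.c s) = QuotientGroup.mk (M.iota s) := by
  classical
  obtain ⟨σ, hσ⟩ := M.exists_sigma
  have hρσ : ∀ s : M.c.range, M.rhoBar (σ s) = s := by
    intro s
    obtain ⟨m, rfl⟩ := M.c.rangeRestrict_surjective s
    rw [hσ, M.rhoBar_mk, M.rho_iota]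
    rfl
  have hgood : ∀ γ : Γ, ∃ h : M.Amb ⧸ M.Zi, M.rhoBar h = γ ∧
      ∀ s s' : M.c.range, (s : Γ) * γ = γ * s' → σ s * h = h * σ s' := by
    intro γ
    obtain ⟨h₀, hh1, hh2⟩ := M.exists_lift γ
    refine ⟨QuotientGroup.mk h₀, by rw [M.rhoBar_mk, hh1], ?_⟩
    intro s s' hcomm
    obtain ⟨m, rfl⟩ := M.c.rangeRestrict_surjective s
    obtain ⟨n, rfl⟩ := M.c.rangeRestrict_surjective s'
    have hcomm' : M.c m * γ = γ * M.c n := hcomm
    obtain ⟨m', hm'⟩ := M.Dg_full γ hcomm'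
    have h2 := M.over_comm (M.Dg_mem γ) (M.Dg_over γ) hm'
    have h3 : M.c m' = M.c m := mul_right_cancel (h2.trans hcomm'.symm)
    have e1 : σ (M.c.rangeRestrict m) = QuotientGroup.mk (M.iota m') := by
      have : M.c.rangeRestrict m = M.c.rangeRestrict m' := Subtype.ext h3.symm
      rw [this, hσ]
    rw [e1, hσ, ← QuotientGroup.mk_mul, ← QuotientGroup.mk_mul]
    congr 1
    apply Subtype.ext
    apply Equiv.ext
    intro x
    show ((m', 1) : Sg × Sg) • (h₀ : Equiv.Perm M.X) x = (h₀ : Equiv.Perm M.X) (((n, 1) : Sg × Sg) • x)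
    exact (hh2 (n, m') hm' x).symm
  have hmul : ∀ (γ : Γ) (h : M.Amb ⧸ M.Zi) (s s' : M.c.range), M.rhoBar h = γ →
      M.rhoBar (σ s * h * σ s') = s * γ * s' := by
    intro γ h s s' hh
    rw [map_mul, map_mul, hρσ, hρσ, hh]
  obtain ⟨t, ht1, ht2, ht3⟩ := exists_biequivariant M.c.range σ (fun γ h => M.rhoBar h = γ) hgood hmul
  have ht1' : ∀ g, M.rhoBar (t g) = g := ht1
  have hAcomm : ∀ a b : M.rhoBar.ker, a * b = b * a := by
    rintro ⟨a, ha⟩ ⟨b, hb⟩
    apply Subtype.ext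
    show a * b = b * a
    obtain ⟨k, rfl⟩ := QuotientGroup.mk_surjective a
    obtain ⟨k', rfl⟩ := QuotientGroup.mk_surjective b
    rw [MonoidHom.mem_ker, M.rhoBar_mk] at ha hb
    rw [← QuotientGroup.mk_mul, ← QuotientGroup.mk_mul, M.ker_commute ha hb]
  have hAp : IsPGroup p M.rhoBar.ker := by
    obtain ⟨n, hn⟩ := IsPGroup.iff_card.mp M.pS
    rintro ⟨a, ha⟩
    refine ⟨n, ?_⟩
    obtain ⟨k, rfl⟩ := QuotientGroup.mk_surjective a
    rw [MonoidHom.mem_ker, M.rhoBar_mk] at ha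
    apply Subtype.ext
    show (QuotientGroup.mk k : M.Amb ⧸ M.Zi) ^ p ^ n = 1
    rw [← QuotientGroup.mk_pow, ← hn, M.ker_pow_card ha]
    rfl
  have hcop : (Nat.card M.rhoBar.ker).Coprime M.c.range.index := by
    obtain ⟨k, hk⟩ := IsPGroup.iff_card.mp hAp
    rw [hk]
    exact Nat.Coprime.pow_left k ((Nat.Prime.coprime_iff_not_dvd Fact.out).mpr M.idx)
  have hf : ∀ x y, t x * t y * (t (x * y))⁻¹ ∈ M.rhoBar.ker := by
    intro x y
    rw [MonoidHom.mem_ker, map_mul, map_mul, map_inv, ht1', ht1', ht1']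
    exact mul_inv_cancel _
  obtain ⟨τ, hτ1, hτ2⟩ := exists_hom_of_biequivariant M.c.range σ M.rhoBar.ker hAcomm t hf ht2 ht3
    (powCoprime hcop).injective (powCoprime hcop).surjective
  refine ⟨τ, fun γ => ?_, fun s => ?_⟩
  · have h1 := hτ1 γ
    rw [MonoidHom.mem_ker, map_mul, map_inv, ht1', mul_inv_eq_one] at h1
    exact h1
  · have h1 := hτ2 (M.c.rangeRestrict s)
    rw [hσ] at h1
    exact h1

/-- the abstract model theorem -/
theorem exists_model [Fact p.Prime] [Finite Sg] [Finite Γ] :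
    ∃ (G : Type u) (_ : Group G) (ι : Sg →* G), Finite G ∧ Function.Injective ι ∧
      (∀ D : Subgroup (Sg × Sg), D ∈ M.𝒢 ↔ ∃ g : G, ∀ t ∈ D, ι t.2 = g * ι t.1 * g⁻¹) ∧
      (∃ T : Sylow p G, (T : Subgroup G) = ι.range) ∧
      ∃ N : Subgroup G, N.Normal ∧ IsPGroup p N ∧ Subgroup.centralizer (N : Set G) ≤ N := by
  classical
  obtain ⟨τ, hτ1, hτ2⟩ := M.exists_section
  set G₀ : Subgroup M.Amb := τ.range.comap (QuotientGroup.mk' M.Zi) with hG₀
  have hmemG : ∀ g : M.Amb, g ∈ G₀ ↔ ∃ γ, τ γ = QuotientGroup.mk g := fun g => Iff.rfl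
  have hιG : ∀ s, M.iota s ∈ G₀ := fun s => (hmemG _).mpr ⟨M.c s, hτ2 s⟩
  have hP1 : ∀ g ∈ G₀, M.rho g = 1 → g ∈ M.Zi := by
    intro g hg h1
    obtain ⟨γ, hγ⟩ := (hmemG g).mp hg
    have h2 : γ = 1 := by
      have h3 := hτ1 γ
      rw [hγ, M.rhoBar_mk, h1] at h3
      exact h3.symm
    rw [h2, map_one] at hγ
    exact (QuotientGroup.eq_one_iff g).mp hγ.symm
  have hP2 : ∀ γ, ∃ g ∈ G₀, M.rho g = γ := by
    intro γ
    obtain ⟨g, hg⟩ := QuotientGroup.mk_surjective (τ γ)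
    refine ⟨g, (hmemG g).mpr ⟨γ, hg.symm⟩, ?_⟩
    rw [← M.rhoBar_mk, hg, hτ1]
  let ι : Sg →* G₀ := M.iota.codRestrict G₀ hιG
  have hιv : ∀ s, ((ι s : G₀) : M.Amb) = M.iota s := fun s => rfl
  have hιinj : Function.Injective ι := by
    intro a b hab
    apply M.iota_injective
    rw [← hιv, ← hιv, hab]
  let ρ₀ : G₀ →* Γ := M.rho.comp G₀.subtype
  have hρ₀ : ∀ g : G₀, ρ₀ g = M.rho (g : M.Amb) := fun g => rfl
  have hρ₀surj : Function.Surjective ρ₀ := by
    intro γ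
    obtain ⟨g, hg, hgγ⟩ := hP2 γ
    exact ⟨⟨g, hg⟩, hgγ⟩
  have hrange : ι.range = M.c.range.comap ρ₀ := by
    ext g
    rw [Subgroup.mem_comap, MonoidHom.mem_range, MonoidHom.mem_range]
    constructor
    · rintro ⟨s, rfl⟩
      exact ⟨s, (M.rho_iota s).symm⟩
    · rintro ⟨s, hs⟩
      rw [hρ₀] at hs
      have h1 : (g : M.Amb) * (M.iota s)⁻¹ ∈ M.Zi := by
        apply hP1 _ (G₀.mul_mem g.2 (G₀.inv_mem (hιG s)))
        rw [map_mul, map_inv, M.rho_iota, hs]
        exact mul_inv_cancel _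
      obtain ⟨z, _, hz⟩ := h1
      refine ⟨z * s, ?_⟩
      apply Subtype.ext
      show M.iota (z * s) = (g : M.Amb)
      rw [map_mul, hz]
      group
  obtain ⟨x₀, hx₀1, hx₀2⟩ := M.exists_base
  have hx₀3 : ∀ u : Sg, ((u, 1) : Sg × Sg) • x₀ = ((1 : Sg), u⁻¹) • x₀ := by
    intro u
    calc ((u, 1) : Sg × Sg) • x₀ = ((u, 1) : Sg × Sg) • (((u⁻¹, u⁻¹) : Sg × Sg) • x₀) := by
          rw [hx₀2]
      _ = ((1 : Sg), u⁻¹) • x₀ := by
          rw [smul_smul]
          congr 1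
          ext
          · show u * u⁻¹ = 1
            group
          · show 1 * u⁻¹ = u⁻¹
            group
  refine ⟨G₀, inferInstance, ι, inferInstance, hιinj, ?_, ?_, ?_⟩
  · intro D
    constructor
    · intro hD
      obtain ⟨D', hD', γ, hDD', hγ⟩ := M.ext D hD
      have hγ' : M.Over γ D' := hγ
      obtain ⟨g, hgG, hgγ⟩ := hP2 γ
      obtain ⟨y, hy⟩ : ∃ y, y = (g : Equiv.Perm M.X) x₀ := ⟨_, rfl⟩
      have hpy : M.pi y = γ := by rw [hy, M.rho_spec, hgγ, hx₀1, mul_one]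
      have hK'G : swapS (MulAction.stabilizer (Sg × Sg) y) ∈ M.𝒢 := M.swap _ (M.stab_mem y)
      have hK'o : M.Over γ (swapS (MulAction.stabilizer (Sg × Sg) y)) := by
        have h1 := M.over_swap (M.stab_over y)
        rw [hpy, inv_inv] at h1
        exact h1
      have hdom : ∀ t ∈ D', ∃ s' : Sg, (t.1, s') ∈ swapS (MulAction.stabilizer (Sg × Sg) y) := by
        intro t ht
        have h1 := M.over_comm hD' hγ' (n := t.1) (m := t.2) ht
        obtain ⟨m', hm'⟩ := M.stab_full y (n := t.2) (m := t.1) (by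
          rw [hpy]
          calc M.c t.1 * γ⁻¹ = γ⁻¹ * (γ * M.c t.1) * γ⁻¹ := by group
            _ = γ⁻¹ * (M.c t.2 * γ) * γ⁻¹ := by rw [h1]
            _ = γ⁻¹ * M.c t.2 := by group)
        have h2 := M.over_comm (M.stab_mem y) (M.stab_over y) (MulAction.mem_stabilizer_iff.mpr hm')
        rw [hpy] at h2
        have h3 : M.c (m'⁻¹ * t.1) = 1 := by
          rw [map_mul, map_inv]
          have h4 : M.c m' = M.c t.1 := by
            calc M.c m' = (M.c m' * γ⁻¹) * γ := by group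
              _ = (γ⁻¹ * M.c t.2) * γ := by rw [h2]
              _ = γ⁻¹ * (M.c t.2 * γ) := by group
              _ = γ⁻¹ * (γ * M.c t.1) := by rw [h1]
              _ = M.c t.1 := by group
          rw [h4]
          exact inv_mul_cancel _
        have hq₂ : m'⁻¹ * t.1 ∈ M.Qs := M.ker_le _ h3
        have h4 := M.stab_over y (M.act γ ⟨m'⁻¹ * t.1, hq₂⟩)
        rw [hpy] at h4
        have h5 : M.act γ⁻¹ (M.act γ ⟨m'⁻¹ * t.1, hq₂⟩) = ⟨m'⁻¹ * t.1, hq₂⟩ := by
          rw [map_inv]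
          exact MulAut.inv_apply_self _ (M.act γ) _
        rw [h5] at h4
        refine ⟨t.2 * ((M.act γ ⟨m'⁻¹ * t.1, hq₂⟩ : M.Qs) : Sg), ?_⟩
        rw [mem_swapS]
        have h6 := (MulAction.stabilizer (Sg × Sg) y).mul_mem (MulAction.mem_stabilizer_iff.mpr hm') h4
        have e : ((t.2, m') : Sg × Sg) * (((M.act γ ⟨m'⁻¹ * t.1, hq₂⟩ : M.Qs) : Sg), m'⁻¹ * t.1) =
            (t.2 * ((M.act γ ⟨m'⁻¹ * t.1, hq₂⟩ : M.Qs) : Sg), t.1) := by
          ext
          · rfl
          · show m' * (m'⁻¹ * t.1) = t.1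
            group
        rw [e] at h6
        exact h6
      obtain ⟨z, hz, hzK⟩ := M.uniq D' hD' _ hK'G γ hγ hK'o hdom
      refine ⟨⟨g * M.iota z, G₀.mul_mem hgG (hιG z)⟩, ?_⟩
      intro t ht
      have h7 := hzK t (hDD' ht)
      rw [mem_swapS, MulAction.mem_stabilizer_iff] at h7
      have h7' : ((t.2, z * t.1 * z⁻¹) : Sg × Sg) • y = y := h7
      have hab : M.iota t.2 * g = g * M.iota (z * t.1 * z⁻¹) := by
        have hrho : M.rho (M.iota t.2 * g * (g * M.iota (z * t.1 * z⁻¹))⁻¹) = 1 := by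
          have h1 := M.over_comm hD' hγ' (n := t.1) (m := t.2) (hDD' ht)
          rw [map_mul, map_mul, map_inv, map_mul, M.rho_iota, M.rho_iota, hgγ, map_mul, map_mul,
            map_inv, hz, one_mul, inv_one, mul_one, h1]
          group
        have hmem : M.iota t.2 * g * (g * M.iota (z * t.1 * z⁻¹))⁻¹ ∈ G₀ :=
          G₀.mul_mem (G₀.mul_mem (hιG _) hgG) (G₀.inv_mem (G₀.mul_mem hgG (hιG _)))
        obtain ⟨z₂, _, hz₂⟩ := hP1 _ hmem hrho
        have h8 : M.iota z₂ * (g * M.iota (z * t.1 * z⁻¹)) = M.iota t.2 * g := by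
          rw [hz₂]
          group
        have h9 : ((M.iota t.2 * g : M.Amb) : Equiv.Perm M.X) x₀ =
            ((g * M.iota (z * t.1 * z⁻¹) : M.Amb) : Equiv.Perm M.X) x₀ := by
          show ((t.2, 1) : Sg × Sg) • (g : Equiv.Perm M.X) x₀ =
            (g : Equiv.Perm M.X) (((z * t.1 * z⁻¹, 1) : Sg × Sg) • x₀)
          rw [hx₀3, M.Amb_comm, ← hy]
          calc ((t.2, 1) : Sg × Sg) • y
              = (((1 : Sg), (z * t.1 * z⁻¹)⁻¹) * (t.2, z * t.1 * z⁻¹)) • y := by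
                congr 1
                ext
                · show t.2 = 1 * t.2
                  rw [one_mul]
                · show (1 : Sg) = (z * t.1 * z⁻¹)⁻¹ * (z * t.1 * z⁻¹)
                  rw [inv_mul_cancel]
            _ = ((1 : Sg), (z * t.1 * z⁻¹)⁻¹) • (((t.2, z * t.1 * z⁻¹) : Sg × Sg) • y) :=
                mul_smul _ _ _
            _ = ((1 : Sg), (z * t.1 * z⁻¹)⁻¹) • y := by rw [h7']
        have h10 : z₂ = 1 := by
          apply M.free_left (x := ((g * M.iota (z * t.1 * z⁻¹) : M.Amb) : Equiv.Perm M.X) x₀)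
          have h11 : ((M.iota z₂ * (g * M.iota (z * t.1 * z⁻¹)) : M.Amb) : Equiv.Perm M.X) x₀ =
              ((M.iota t.2 * g : M.Amb) : Equiv.Perm M.X) x₀ :=
            congrArg (fun a : M.Amb => (a : Equiv.Perm M.X) x₀) h8
          rw [h9] at h11
          exact h11
        rw [h10, map_one, one_mul] at h8
        exact h8.symm
      apply Subtype.ext
      show M.iota t.2 = g * M.iota z * M.iota t.1 * (g * M.iota z)⁻¹
      have h12 : M.iota t.2 = g * M.iota (z * t.1 * z⁻¹) * g⁻¹ := by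
        rw [← hab]
        group
      rw [h12, map_mul, map_mul, map_inv]
      group
    · rintro ⟨g, hg⟩
      obtain ⟨y, hy⟩ : ∃ y, y = ((g : M.Amb) : Equiv.Perm M.X) x₀ := ⟨_, rfl⟩
      apply M.sub _ (M.swap _ (M.stab_mem y))
      intro t ht
      rw [mem_swapS, MulAction.mem_stabilizer_iff]
      have h1 := hg t ht
      have h2 : M.iota t.2 * (g : M.Amb) = (g : M.Amb) * M.iota t.1 := by
        have h3 := congrArg (fun a : G₀ => (a : M.Amb)) h1
        have h4 : M.iota t.2 = (g : M.Amb) * M.iota t.1 * (g : M.Amb)⁻¹ := h3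
        rw [h4]
        group
      have h3 := congrArg (fun a : M.Amb => (a : Equiv.Perm M.X) x₀) h2
      have h4 : ((t.2, 1) : Sg × Sg) • y = ((1 : Sg), t.1⁻¹) • y := by
        have h5 : ((t.2, 1) : Sg × Sg) • ((g : M.Amb) : Equiv.Perm M.X) x₀ =
            ((g : M.Amb) : Equiv.Perm M.X) (((t.1, 1) : Sg × Sg) • x₀) := h3
        rw [hy, h5, hx₀3, M.Amb_comm]
      calc ((t.2, t.1) : Sg × Sg) • y = (((1 : Sg), t.1) * (t.2, 1)) • y := by
            congr 1
            ext <;> simp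
        _ = ((1 : Sg), t.1) • (((t.2, 1) : Sg × Sg) • y) := mul_smul _ _ _
        _ = ((1 : Sg), t.1) • (((1 : Sg), t.1⁻¹) • y) := by rw [h4]
        _ = y := by
            rw [smul_smul]
            have e : (((1 : Sg), t.1) * ((1 : Sg), t.1⁻¹) : Sg × Sg) = 1 := by
              ext <;> simp
            rw [e, one_smul]
  · have hidx : ¬ p ∣ ι.range.index := by
      rw [hrange, Subgroup.index_comap_of_surjective _ hρ₀surj]
      exact M.idx
    have hpg : IsPGroup p ι.range := M.pS.of_surjective ι.rangeRestrict ι.rangeRestrict_surjective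
    exact ⟨hpg.toSylow hidx, rfl⟩
  · -- the normal p-subgroup
    have hconj : ∀ (g : G₀) (q : M.Qs), g * ι q * g⁻¹ = ι ((M.act (ρ₀ g) q : M.Qs) : Sg) := by
      intro g q
      apply Subtype.ext
      show (g : M.Amb) * M.iota q * (g : M.Amb)⁻¹ = M.iota ((M.act (M.rho (g : M.Amb)) q : M.Qs) : Sg)
      rw [M.conj_iota]
      group
    refine ⟨M.Qs.map ι, ?_, ?_, ?_⟩
    · constructor
      rintro _ ⟨q, hq, rfl⟩ g
      have := hconj g ⟨q, hq⟩
      rw [show g * ι q * g⁻¹ = _ from this]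
      exact ⟨_, (M.act (ρ₀ g) ⟨q, hq⟩).2, rfl⟩
    · have h1 : IsPGroup p M.Qs := M.pS.to_subgroup M.Qs
      exact h1.map ι
    · intro g hg
      rw [Subgroup.mem_centralizer_iff] at hg
      have h1 : ρ₀ g = 1 := by
        apply M.act_inj
        apply MulEquiv.ext
        intro q
        apply Subtype.ext
        rw [map_one]
        show ((M.act (ρ₀ g) q : M.Qs) : Sg) = q
        apply hιinj
        rw [← hconj g q]
        have h2 := hg (ι q) ⟨q, q.2, rfl⟩
        rw [← h2]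
        group
      have h2 : (g : M.Amb) ∈ M.Zi := hP1 _ g.2 h1
      obtain ⟨z, hz, hzg⟩ := h2
      refine ⟨z, M.ker_le z hz, ?_⟩
      apply Subtype.ext
      exact hzg

end ModelInput

end Cfsg.Agent.Lib.Helper29
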