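import Cfsg.Agent.Lib.Helper29.FusionRealized
import Cfsg.Agent.Lib.Helper29.FusionEssential
import Cfsg.Agent.Lib.Helper29.SectionAveraging

/-!
Uniqueness of models of a constrained fusion system (AKO Theorem III.5.10, uniqueness part).
-/
set_option autoImplicit false

namespace Cfsg.Agent.Lib.Helper29
open Cfsg

variable {Ω : Type*} [Group Ω] {S : Subgroup Ω}

section models

variable {p : ℕ} [Fact p.Prime] {F : FusionSystem S}
  {G₁ G₂ : Type*} [Group G₁] [Group G₂] {ι₁ : S →* G₁} {ι₂ : S →* G₂}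

theorem pCore_le_range_of_model (h₁ : F.IsModel p G₁ ι₁) : pCore p G₁ ≤ ι₁.range := by
  obtain ⟨_, _, ⟨T, hT⟩, _⟩ := h₁
  rw [← hT]
  exact pCore_le_sylow' p T

/-- the preimage of `O_p` of one model lies in the preimage of `O_p` of the other -/
theorem preimg_pCore_le (h₁ : F.IsModel p G₁ ι₁) (h₂ : F.IsModel p G₂ ι₂) :
    preimg ι₁ (pCore p G₁) ≤ preimg ι₂ (pCore p G₂) := by
  have hQ₁le := pCore_le_range_of_model h₁
  have hQ₂le := pCore_le_range_of_model h₂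
  have hQ₁n : (pCore p G₁).Normal := pCore_normal' p
  have hQ₂n : (pCore p G₂).Normal := pCore_normal' p
  have hR₁n : F.IsNormal (preimg ι₁ (pCore p G₁)) := isNormal_preimg_of_normal h₁.2.1 hQ₁n hQ₁le
  have hinj₁ := h₁.2.1.1
  have hcen₂ := h₂.2.2.2
  -- the image of `R₁` in `G₂` is a normal `p`-subgroup
  have hKp : IsPGroup p (((pCore p G₁).comap ι₁).map ι₂) :=
    ((pCore_isPGroup' p).comap_of_injective ι₁ hinj₁).map ι₂
  have hKn : (((pCore p G₁).comap ι₁).map ι₂).Normal := by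
    constructor
    rintro _ ⟨r, hr, rfl⟩ g
    have hr' : ι₁ r ∈ pCore p G₁ := hr
    have hg' : ∀ x : preimg ι₂ (pCore p G₂), g * ι₂ ⟨x, preimg_le ι₂ _ x.2⟩ * g⁻¹ ∈ ι₂.range := by
      intro x
      obtain ⟨_, hx⟩ := mem_preimg.1 x.2
      exact hQ₂le (hQ₂n.conj_mem _ hx g)
    obtain ⟨φ₀, hφ₀, hφ₀S, hφ₀v⟩ := realized_hom h₂.2.1 (preimg_le ι₂ (pCore p G₂)) g hg'
    obtain ⟨ψ, hψ, hψext, hψR₁⟩ := hR₁n.2 _ φ₀ hφ₀
    obtain ⟨h, hh⟩ := realized_conj h₂.2.1 hψ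
    have hψS := (F.le_of_mem hψ).2
    have hsupS := (F.le_of_mem hψ).1
    -- `h⁻¹ g` centralizes `O_p(G₂)`
    have hc : h⁻¹ * g ∈ Subgroup.centralizer ((pCore p G₂ : Subgroup G₂) : Set G₂) := by
      rw [Subgroup.mem_centralizer_iff]
      intro q hq
      obtain ⟨x, rfl⟩ := hQ₂le hq
      have hxR : (x : Ω) ∈ preimg ι₂ (pCore p G₂) := mem_preimg.2 ⟨x.2, hq⟩
      have e1 := hh (Subgroup.inclusion le_sup_left ⟨x, hxR⟩)
      have e2 := hφ₀v ⟨x, hxR⟩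
      have e3 : (⟨ψ (Subgroup.inclusion le_sup_left ⟨(x : Ω), hxR⟩), hψS _⟩ : S) =
          ⟨φ₀ ⟨x, hxR⟩, hφ₀S _⟩ := Subtype.ext (hψext ⟨x, hxR⟩)
      rw [e3, e2] at e1
      have e4 : g * ι₂ x * g⁻¹ = h * ι₂ x * h⁻¹ := e1
      calc ι₂ x * (h⁻¹ * g) = h⁻¹ * (h * ι₂ x * h⁻¹) * g := by group
        _ = h⁻¹ * (g * ι₂ x * g⁻¹) * g := by rw [e4]
        _ = h⁻¹ * g * ι₂ x := by group
    obtain ⟨s₀, hs₀⟩ := hQ₂le (hcen₂ hc)
    -- `g ι₂(r) g⁻¹ = h ι₂(s₀ r s₀⁻¹) h⁻¹`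
    have hr₁ : ι₁ (s₀ * r * s₀⁻¹) ∈ pCore p G₁ := by
      rw [map_mul, map_mul, map_inv]
      exact hQ₁n.conj_mem _ hr' _
    have hr₁R : ((s₀ * r * s₀⁻¹ : S) : Ω) ∈ preimg ι₁ (pCore p G₁) := mem_preimg.2 ⟨(s₀ * r * s₀⁻¹).2, hr₁⟩
    have hr₁sup : ((s₀ * r * s₀⁻¹ : S) : Ω) ∈ preimg ι₂ (pCore p G₂) ⊔ preimg ι₁ (pCore p G₁) :=
      Subgroup.mem_sup_right hr₁R
    have e5 := hh ⟨_, hr₁sup⟩
    have e6 : ψ ⟨_, hr₁sup⟩ ∈ preimg ι₁ (pCore p G₁) :=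
      hψR₁.le ⟨⟨_, hr₁sup⟩, Subgroup.mem_subgroupOf.2 hr₁R, rfl⟩
    obtain ⟨h7, h8⟩ := mem_preimg.1 e6
    refine ⟨⟨ψ ⟨_, hr₁sup⟩, h7⟩, h8, ?_⟩
    show ι₂ ⟨ψ ⟨_, hr₁sup⟩, h7⟩ = g * ι₂ r * g⁻¹
    rw [e5]
    have e9 : (⟨((⟨((s₀ * r * s₀⁻¹ : S) : Ω), hr₁sup⟩ :
        ↥(preimg ι₂ (pCore p G₂) ⊔ preimg ι₁ (pCore p G₁))) : Ω), hsupS hr₁sup⟩ : S) = s₀ * r * s₀⁻¹ := rfl
    rw [e9, map_mul, map_mul, map_inv, hs₀]
    group
  have hle := le_pCore' hKn hKp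
  intro x hx
  obtain ⟨hxS, hxQ⟩ := mem_preimg.1 hx
  exact mem_preimg.2 ⟨hxS, hle ⟨⟨x, hxS⟩, hxQ, rfl⟩⟩

theorem preimg_pCore_eq (h₁ : F.IsModel p G₁ ι₁) (h₂ : F.IsModel p G₂ ι₂) :
    preimg ι₁ (pCore p G₁) = preimg ι₂ (pCore p G₂) :=
  le_antisymm (preimg_pCore_le h₁ h₂) (preimg_pCore_le h₂ h₁)

end models


section models2

variable {p : ℕ} [Fact p.Prime] {F : FusionSystem S}
  {G₁ G₂ : Type*} [Group G₁] [Group G₂] {ι₁ : S →* G₁} {ι₂ : S →* G₂}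

/-- a homomorphism between two models compatible with the embeddings of `S` -/
theorem exists_hom_of_models (h₁ : F.IsModel p G₁ ι₁) (h₂ : F.IsModel p G₂ ι₂) :
    ∃ τ : G₁ →* G₂, ∀ x : S, τ (ι₁ x) = ι₂ x := by
  haveI : Finite G₁ := h₁.1
  haveI : Finite G₂ := h₂.1
  have hinj₁ := h₁.2.1.1
  have hQ₁le := pCore_le_range_of_model h₁
  have hQ₂le := pCore_le_range_of_model h₂
  have hQ₁n : (pCore p G₁).Normal := pCore_normal' p
  have hQ₂n : (pCore p G₂).Normal := pCore_normal' p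
  have hReq := preimg_pCore_eq h₁ h₂
  have hcen₂ := h₂.2.2.2
  -- the homomorphism `σ` on `ι₁(S)`
  set σ : ι₁.range →* G₂ := ι₂.comp (MonoidHom.ofInjective hinj₁).symm.toMonoidHom with hσdef
  have hσ : ∀ (s : ι₁.range) (u : S), ι₁ u = (s : G₁) → σ s = ι₂ u := by
    intro s u hu
    show ι₂ ((MonoidHom.ofInjective hinj₁).symm s) = ι₂ u
    congr 1
    rw [MulEquiv.symm_apply_eq]
    exact Subtype.ext hu.symm
  -- the relation
  obtain ⟨t, htgood, htL, htR⟩ := exists_biequivariant ι₁.range σ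
    (fun g h => ∀ u u' : S, g * ι₁ u * g⁻¹ = ι₁ u' → h * ι₂ u * h⁻¹ = ι₂ u')
    (by
      intro g
      have hg' : ∀ x : preimg ι₁ (ι₁.range.comap (MulAut.conj g).toMonoidHom),
          g * ι₁ ⟨x, preimg_le ι₁ _ x.2⟩ * g⁻¹ ∈ ι₁.range := by
        intro x
        obtain ⟨_, hx⟩ := mem_preimg.1 x.2
        exact hx
      obtain ⟨φ, hφ, hφS, hφv⟩ := realized_hom h₁.2.1 (preimg_le ι₁ _) g hg'
      obtain ⟨g₂, hg₂⟩ := realized_conj h₂.2.1 hφ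
      have hgood : ∀ u u' : S, g * ι₁ u * g⁻¹ = ι₁ u' → g₂ * ι₂ u * g₂⁻¹ = ι₂ u' := by
        intro u u' huu
        have huP : (u : Ω) ∈ preimg ι₁ (ι₁.range.comap (MulAut.conj g).toMonoidHom) := by
          refine mem_preimg.2 ⟨u.2, ?_⟩
          show g * ι₁ ⟨u, u.2⟩ * g⁻¹ ∈ ι₁.range
          exact ⟨u', huu.symm⟩
        have e1 := hφv ⟨u, huP⟩
        have e2 : (⟨φ ⟨u, huP⟩, hφS _⟩ : S) = u' := by
          apply hinj₁
          rw [e1]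
          exact huu
        have e3 := hg₂ ⟨u, huP⟩
        have e4 : (⟨φ ⟨(u : Ω), huP⟩, (F.le_of_mem hφ).2 _⟩ : S) = u' := e2
        rw [e4] at e3
        exact e3.symm
      refine ⟨g₂, hgood, ?_⟩
      intro s s' hss
      obtain ⟨u, hu⟩ := s.2
      obtain ⟨u', hu'⟩ := s'.2
      rw [hσ s u hu, hσ s' u' hu']
      rw [← hu, ← hu'] at hss
      have h1 : g * ι₁ u' * g⁻¹ = ι₁ u := by
        rw [← hss]
        group
      have h2 := hgood u' u h1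
      rw [← h2]
      group)
    (by
      intro g h sa sb hgh u u' huu
      obtain ⟨a, ha⟩ := sa.2
      obtain ⟨b, hb⟩ := sb.2
      rw [hσ sa a ha, hσ sb b hb]
      rw [← ha, ← hb] at huu
      have h1 : g * ι₁ (b * u * b⁻¹) * g⁻¹ = ι₁ (a⁻¹ * u' * a) := by
        rw [map_mul, map_mul, map_inv, map_mul, map_mul, map_inv, ← huu]
        group
      have h2 := hgh _ _ h1
      rw [map_mul, map_mul, map_inv, map_mul, map_mul, map_inv] at h2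
      calc ι₂ a * h * ι₂ b * ι₂ u * (ι₂ a * h * ι₂ b)⁻¹ =
          ι₂ a * (h * (ι₂ b * ι₂ u * (ι₂ b)⁻¹) * h⁻¹) * (ι₂ a)⁻¹ := by group
        _ = ι₂ a * ((ι₂ a)⁻¹ * ι₂ u' * ι₂ a) * (ι₂ a)⁻¹ := by rw [h2]
        _ = ι₂ u' := by group)
  -- the abelian normal subgroup
  haveI hAn : (Subgroup.centralizer ((pCore p G₂ : Subgroup G₂) : Set G₂)).Normal :=
    Subgroup.normal_centralizer
  have hAcomm : ∀ a b : Subgroup.centralizer ((pCore p G₂ : Subgroup G₂) : Set G₂), a * b = b * a := by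
    intro a b
    apply Subtype.ext
    exact (Subgroup.mem_centralizer_iff.1 b.2 a.1 (hcen₂ a.2))
  have hAp : IsPGroup p (Subgroup.centralizer ((pCore p G₂ : Subgroup G₂) : Set G₂)) :=
    (pCore_isPGroup' p).to_le hcen₂
  obtain ⟨_, _, ⟨T₁, hT₁⟩, _⟩ := h₁
  have hidx : ¬ p ∣ ι₁.range.index := by
    rw [← hT₁]
    exact T₁.not_dvd_index
  have hcop : p.Coprime ι₁.range.index := (Nat.Prime.coprime_iff_not_dvd Fact.out).2 hidx
  -- the factor set has values in the centralizer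
  have hf : ∀ x y, t x * t y * (t (x * y))⁻¹ ∈
      Subgroup.centralizer ((pCore p G₂ : Subgroup G₂) : Set G₂) := by
    intro x y
    rw [Subgroup.mem_centralizer_iff]
    intro q hq
    obtain ⟨r, rfl⟩ := hQ₂le hq
    have hrR : (r : Ω) ∈ preimg ι₁ (pCore p G₁) := by
      rw [hReq]
      exact mem_preimg.2 ⟨r.2, hq⟩
    obtain ⟨_, hr₁⟩ := mem_preimg.1 hrR
    have hr₁' : ι₁ r ∈ pCore p G₁ := hr₁
    -- `r₁` with `ι₁ r₁ = (xy)⁻¹ ι₁ r (xy)`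
    have h1 : (x * y)⁻¹ * ι₁ r * (x * y)⁻¹⁻¹ ∈ pCore p G₁ := hQ₁n.conj_mem _ hr₁' _
    obtain ⟨r₁, hr₁e⟩ := hQ₁le h1
    have h2 : y * ι₁ r₁ * y⁻¹ ∈ pCore p G₁ := hQ₁n.conj_mem _ (hr₁e ▸ h1) _
    obtain ⟨r₂, hr₂e⟩ := hQ₁le h2
    have e1 : (x * y) * ι₁ r₁ * (x * y)⁻¹ = ι₁ r := by
      rw [hr₁e]
      group
    have e2 : x * ι₁ r₂ * x⁻¹ = ι₁ r := by
      rw [hr₂e, hr₁e]
      group
    have g1 := htgood (x * y) r₁ r e1
    have g2 := htgood y r₁ r₂ hr₂e.symm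
    have g3 := htgood x r₂ r e2
    have e3 : (t (x * y))⁻¹ * ι₂ r * t (x * y) = ι₂ r₁ := by
      rw [← g1]
      group
    calc ι₂ r * (t x * t y * (t (x * y))⁻¹) = (t x * (t y * ι₂ r₁ * (t y)⁻¹) * (t x)⁻¹) * (t x * t y * (t (x * y))⁻¹) := by
          rw [g2, g3]
      _ = t x * t y * (ι₂ r₁) * (t (x * y))⁻¹ := by group
      _ = t x * t y * ((t (x * y))⁻¹ * ι₂ r * t (x * y)) * (t (x * y))⁻¹ := by rw [e3]
      _ = t x * t y * (t (x * y))⁻¹ * ι₂ r := by group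
  obtain ⟨τ, _, hτ⟩ := exists_hom_of_biequivariant ι₁.range σ
    (Subgroup.centralizer ((pCore p G₂ : Subgroup G₂) : Set G₂)) hAcomm t hf htL htR
    (hAp.powEquiv hcop).injective (hAp.powEquiv hcop).surjective
  refine ⟨τ, fun x => ?_⟩
  have := hτ ⟨ι₁ x, ⟨x, rfl⟩⟩
  rw [hσ _ x rfl] at this
  exact this

end models2

section models3

variable {p : ℕ} [Fact p.Prime] {F : FusionSystem S}
  {G₁ G₂ : Type*} [Group G₁] [Group G₂] {ι₁ : S →* G₁} {ι₂ : S →* G₂}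

/-- a homomorphism from a model compatible with the embeddings of `S` is injective -/
theorem injective_of_model (h₁ : F.IsModel p G₁ ι₁) (hinj₂ : Function.Injective ι₂) (τ : G₁ →* G₂)
    (hτ : ∀ x : S, τ (ι₁ x) = ι₂ x) : Function.Injective τ := by
  have hQ₁le := pCore_le_range_of_model h₁
  have hQ₁n : (pCore p G₁).Normal := pCore_normal' p
  have hcen₁ := h₁.2.2.2
  have hker : ∀ k : G₁, τ k = 1 → k ∈ ι₁.range → k = 1 := by
    rintro _ hk ⟨s, rfl⟩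
    rw [hτ] at hk
    have : s = 1 := hinj₂ (hk.trans (map_one ι₂).symm)
    rw [this, map_one]
  rw [injective_iff_map_eq_one]
  intro k hk
  apply hker k hk
  apply hQ₁le
  apply hcen₁
  rw [Subgroup.mem_centralizer_iff]
  intro q hq
  have h1 : k * q * k⁻¹ * q⁻¹ ∈ pCore p G₁ :=
    Subgroup.mul_mem _ (hQ₁n.conj_mem q hq k) (Subgroup.inv_mem _ hq)
  have h2 : τ (k * q * k⁻¹ * q⁻¹) = 1 := by
    rw [map_mul, map_mul, map_mul, map_inv, map_inv, hk]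
    group
  have h3 := hker _ h2 (hQ₁le h1)
  calc q * k = (k * q * k⁻¹ * q⁻¹)⁻¹ * (k * q) := by group
    _ = k * q := by rw [h3]; group

/-- AKO Theorem III.5.10, uniqueness -/
theorem exists_iso_of_models [Finite S] (h₁ : F.IsModel p G₁ ι₁) (h₂ : F.IsModel p G₂ ι₂) :
    ∃ φ : G₁ ≃* G₂, ∀ x : S, φ (ι₁ x) = ι₂ x := by
  haveI : Finite G₁ := h₁.1
  haveI : Finite G₂ := h₂.1
  obtain ⟨τ, hτ⟩ := exists_hom_of_models h₁ h₂
  obtain ⟨τ', hτ'⟩ := exists_hom_of_models h₂ h₁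
  have hi := injective_of_model h₁ h₂.2.1.1 τ hτ
  have hi' := injective_of_model h₂ h₁.2.1.1 τ' hτ'
  have hc : Nat.card G₂ ≤ Nat.card G₁ := Nat.card_le_card_of_injective τ' hi'
  have hb := hi.bijective_of_nat_card_le hc
  exact ⟨MulEquiv.ofBijective τ hb, fun x => hτ x⟩

end models3
end Cfsg.Agent.Lib.Helper29
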