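import Cfsg.Agent.Lib.Helper29.InnerCriterion
import Cfsg.Agent.Lib.Helper29.NormalizerConstrained
import Cfsg.Agent.S5096

/-!
Consequences of `N_F(S)` being the inner fusion system.
-/
set_option autoImplicit false

namespace Cfsg.Agent.Lib.Helper29
open Cfsg
open scoped commutatorElement

universe u
variable {Ω : Type u} [Group Ω] {S : Subgroup Ω}

theorem autS_inner_of_normalizer_inner (F : FusionSystem S)
    (hN : ∀ N : FusionSystem (FusionSystem.normalizerIn S S), F.IsNormalizerSystem S N →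
      ∀ P : Subgroup Ω, N.Hom P = (innerFusionSystem (FusionSystem.normalizerIn S S)).Hom P) :
    ∀ α ∈ F.autGroup S, ∃ s ∈ S, ∀ x : S, ((α x : S) : Ω) = s * x * s⁻¹ := by
  intro α hα
  obtain ⟨N, hNs⟩ := Cfsg.Agent.S5096.result F S le_rfl
  have hinner := hN N hNs S
  have hα' : α ∈ N.autGroup S := by
    rw [normalizerSystem_autGroup_eq hNs le_rfl]
    exact hα
  have h1 := (mem_autGroup_iff N (le_normalizerIn le_rfl)).1 hα'
  rw [hinner] at h1
  obtain ⟨_, g, hg, hgv⟩ := h1
  exact ⟨g, hg.1, fun x => hgv x⟩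

end Cfsg.Agent.Lib.Helper29
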