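import Cfsg.Agent.Lib.Helper29.FusionSubgroupSys

set_option autoImplicit false
open Cfsg
open scoped Pointwise

namespace Cfsg.Agent.Lib.Helper29

variable {G : Type*} [Group G]

theorem map_conj_le_of_mem_normalizer {n : G} {A : Subgroup G}
    (h : n ∈ Subgroup.normalizer (A : Set G)) : cj n A ≤ A := by
  rintro _ ⟨x, hx, rfl⟩
  exact (Subgroup.mem_normalizer_iff.1 h x).1 hx

theorem conj_mem_sup_of_mem_normalizer {n : G} {A B : Subgroup G}
    (hA : n ∈ Subgroup.normalizer (A : Set G)) (hB : n ∈ Subgroup.normalizer (B : Set G))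
    {x : G} (hx : x ∈ A ⊔ B) : n * x * n⁻¹ ∈ A ⊔ B := by
  have h1 : cj n (A ⊔ B) ≤ A ⊔ B := by
    rw [cj_sup]
    exact sup_le_sup (map_conj_le_of_mem_normalizer hA) (map_conj_le_of_mem_normalizer hB)
  exact h1 (conj_mem_cj hx)

theorem mem_normalizer_sup [Finite G] {n : G} {A B : Subgroup G}
    (hA : n ∈ Subgroup.normalizer (A : Set G)) (hB : n ∈ Subgroup.normalizer (B : Set G)) :
    n ∈ Subgroup.normalizer ((A ⊔ B : Subgroup G) : Set G) := by
  apply Subgroup.mem_normalizer_fintype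
  intro x hx
  exact conj_mem_sup_of_mem_normalizer hA hB hx

/-- conjugation by a normalizing element preserves the centralizer -/
theorem conj_mem_centralizer_of_mem_normalizer {n z : G} {A : Subgroup G}
    (hn : n ∈ Subgroup.normalizer (A : Set G)) (hz : z ∈ Subgroup.centralizer (A : Set G)) :
    n * z * n⁻¹ ∈ Subgroup.centralizer (A : Set G) := by
  rw [Subgroup.mem_centralizer_iff] at hz ⊢
  intro t ht
  have ht' : n⁻¹ * t * n ∈ A := (Subgroup.mem_normalizer_iff''.1 hn t).1 ht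
  have h1 := hz _ ht'
  calc t * (n * z * n⁻¹) = n * ((n⁻¹ * t * n) * z) * n⁻¹ := by group
    _ = n * (z * (n⁻¹ * t * n)) * n⁻¹ := by rw [h1]
    _ = n * z * n⁻¹ * t := by group

/-- `S` normalizes `S ∩ H` for `H` normal -/
theorem le_normalizer_inf_normal (S H : Subgroup G) [hH : H.Normal] :
    S ≤ Subgroup.normalizer ((S ⊓ H : Subgroup G) : Set G) := by
  intro s hs
  rw [Subgroup.mem_normalizer_iff]
  intro x
  constructor
  · rintro ⟨hxS, hxH⟩
    exact ⟨S.mul_mem (S.mul_mem hs hxS) (S.inv_mem hs), hH.conj_mem _ hxH s⟩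
  · rintro ⟨hxS, hxH⟩
    constructor
    · have := S.mul_mem (S.mul_mem (S.inv_mem hs) hxS) hs
      have e : s⁻¹ * (s * x * s⁻¹) * s = x := by group
      rwa [e] at this
    · have := hH.conj_mem _ hxH s⁻¹
      have e : s⁻¹ * (s * x * s⁻¹) * s⁻¹⁻¹ = x := by group
      rwa [e] at this

/-- The key group-theoretic step for the extension condition of `F_{S ∩ H}(H) ⊴ F_S(G)`. -/
theorem exists_normalizing_of_normal [Finite G] {p : ℕ} [Fact p.Prime] (S : Sylow p G) (H : Subgroup G)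
    [hH : H.Normal] {h : G} (hhH : h ∈ H)
    (hhN : h ∈ Subgroup.normalizer (((S : Subgroup G) ⊓ H : Subgroup G) : Set G)) :
    ∃ g ∈ H, g ∈ Subgroup.normalizer (((S : Subgroup G) ⊓ H : Subgroup G) : Set G) ∧
      g ∈ Subgroup.normalizer ((FusionSystem.centralizerIn (S : Subgroup G) ((S : Subgroup G) ⊓ H) :
        Subgroup G) : Set G) ∧
      ∀ x ∈ (S : Subgroup G) ⊓ H, g * x * g⁻¹ = h * x * h⁻¹ := by
  set T₀ : Subgroup G := (S : Subgroup G) ⊓ H with hT₀
  set Z : Subgroup G := Subgroup.centralizer (T₀ : Set G) with hZ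
  set C : Subgroup G := FusionSystem.centralizerIn (S : Subgroup G) T₀ with hC
  set CH : Subgroup G := H ⊓ Z with hCH
  have hCS : C ≤ S := inf_le_left
  have hCZ : C ≤ Z := inf_le_right
  have hSN : (S : Subgroup G) ≤ Subgroup.normalizer (T₀ : Set G) := le_normalizer_inf_normal _ H
  -- normalizer of T₀ normalizes CH
  have hNCH : ∀ n ∈ Subgroup.normalizer (T₀ : Set G), ∀ a ∈ CH, n * a * n⁻¹ ∈ CH := by
    intro n hn a ha
    exact ⟨hH.conj_mem _ ha.1 n, conj_mem_centralizer_of_mem_normalizer hn ha.2⟩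
  have hNCH' : Subgroup.normalizer (T₀ : Set G) ≤ Subgroup.normalizer (CH : Set G) := by
    intro n hn
    apply Subgroup.mem_normalizer_fintype
    intro a ha
    exact hNCH n hn a ha
  have hSC : ∀ s ∈ (S : Subgroup G), s ∈ Subgroup.normalizer (C : Set G) := by
    intro s hs
    apply Subgroup.mem_normalizer_fintype
    intro c hc
    exact ⟨S.mul_mem (S.mul_mem hs (hCS hc)) (S.inv_mem hs),
      conj_mem_centralizer_of_mem_normalizer (hSN hs) (hCZ hc)⟩
  -- M₀ and Y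
  have hCnCH : C ≤ Subgroup.normalizer (CH : Set G) := fun c hc => hNCH' (hSN (hCS hc))
  have hM₀set : ((C ⊔ CH : Subgroup G) : Set G) = (C : Set G) * (CH : Set G) :=
    Subgroup.coe_mul_of_left_le_normalizer_right C CH hCnCH
  have hSM₀ : (S : Subgroup G) ⊓ (C ⊔ CH) = C := by
    apply le_antisymm
    · intro x hx
      have hxS : x ∈ (S : Subgroup G) := hx.1
      have hxM : x ∈ C ⊔ CH := hx.2
      rw [← SetLike.mem_coe, hM₀set] at hxM
      obtain ⟨c, hc, a, ha, rfl⟩ := Set.mem_mul.1 hxM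
      have haS : a ∈ (S : Subgroup G) := by
        have := S.mul_mem (S.inv_mem (hCS hc)) hxS
        rwa [inv_mul_cancel_left] at this
      have haC : a ∈ C := ⟨haS, ha.2⟩
      exact C.mul_mem hc haC
    · exact le_inf hCS le_sup_left
  have hSY : (S : Subgroup G) ≤ CH ⊔ S := le_sup_right
  have hSylY : IsSylowSub p (S : Subgroup G) (CH ⊔ S) :=
    IsSylowSub.of_le hSY le_top (isSylowSub_top S)
  have hM₀Y : C ⊔ CH ≤ CH ⊔ S := sup_le (hCS.trans le_sup_right) le_sup_left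
  have hYn : CH ⊔ (S : Subgroup G) ≤ Subgroup.normalizer ((C ⊔ CH : Subgroup G) : Set G) := by
    apply sup_le
    · exact (le_sup_right : CH ≤ C ⊔ CH).trans Subgroup.le_normalizer
    · intro s hs
      exact mem_normalizer_sup (hSC s hs) (hNCH' (hSN hs))
  have hSylM : IsSylowSub p C (C ⊔ CH) := by
    have := Cfsg.Agent.S5122.inf_sylow_of_normal p hSY hM₀Y hYn hSylY
    rwa [hSM₀] at this
  -- cj h C ≤ M₀
  have hCp : IsPGroup p C := S.isPGroup'.to_le hCS
  have hhC : cj h C ≤ C ⊔ CH := by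
    rintro _ ⟨c, hc, rfl⟩
    show h * c * h⁻¹ ∈ C ⊔ CH
    have h1 : h * c * h⁻¹ * c⁻¹ ∈ CH := by
      constructor
      · have h2 : c * h⁻¹ * c⁻¹ ∈ H := hH.conj_mem _ (H.inv_mem hhH) c
        have := H.mul_mem hhH h2
        have e : h * (c * h⁻¹ * c⁻¹) = h * c * h⁻¹ * c⁻¹ := by group
        rwa [e] at this
      · exact Z.mul_mem (conj_mem_centralizer_of_mem_normalizer hhN (hCZ hc)) (Z.inv_mem (hCZ hc))
    have e : h * c * h⁻¹ = (h * c * h⁻¹ * c⁻¹) * c := by group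
    rw [e]
    exact Subgroup.mul_mem _ (Subgroup.mem_sup_right h1) (Subgroup.mem_sup_left hc)
  obtain ⟨m₀, hm₀, hm₀C⟩ := exists_cj_le_of_isSylowSub hSylM hhC (isPGroup_cj hCp)
  rw [← SetLike.mem_coe, hM₀set] at hm₀
  obtain ⟨c₁, hc₁, a, ha, rfl⟩ := Set.mem_mul.1 hm₀
  have hgC : ∀ c ∈ C, (a * h) * c * (a * h)⁻¹ ∈ C := by
    intro c hc
    have h1 : (c₁ * a) * (h * c * h⁻¹) * (c₁ * a)⁻¹ ∈ C := hm₀C (conj_mem_cj (conj_mem_cj hc))
    have h2 := C.mul_mem (C.mul_mem (C.inv_mem hc₁) h1) hc₁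
    have e : c₁⁻¹ * ((c₁ * a) * (h * c * h⁻¹) * (c₁ * a)⁻¹) * c₁ = (a * h) * c * (a * h)⁻¹ := by group
    rwa [e] at h2
  have haN : a ∈ Subgroup.normalizer (T₀ : Set G) := Subgroup.centralizer_le_normalizer _ ha.2
  refine ⟨a * h, H.mul_mem ha.1 hhH, Subgroup.mul_mem _ haN hhN, ?_, ?_⟩
  · apply Subgroup.mem_normalizer_fintype
    intro c hc
    exact hgC c hc
  · intro x hx
    have hx' : h * x * h⁻¹ ∈ T₀ := (Subgroup.mem_normalizer_iff.1 hhN x).1 hx
    have h1 := Subgroup.mem_centralizer_iff.1 ha.2 _ hx'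
    calc a * h * x * (a * h)⁻¹ = a * (h * x * h⁻¹) * a⁻¹ := by group
      _ = (h * x * h⁻¹) * a * a⁻¹ := by rw [h1]
      _ = h * x * h⁻¹ := by group

end Cfsg.Agent.Lib.Helper29
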