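import Cfsg.Agent.Lib.Helper29.HyperfocalFactor
import Cfsg.Agent.Lib.Helper29.PResidualSylow

/-!
Generic group-theoretic lemmas for the construction of the subsystems of `p`-power index.
-/
set_option autoImplicit false

namespace Cfsg.Agent.Lib.Helper29
open Cfsg

section generic

variable {G A C : Type*} [Group G] [Group A] [Group C] {p : ℕ} [Fact p.Prime]

theorem pResidual_eq_bot_of_isPGroup (hC : IsPGroup p C) : pResidual p C = ⊥ := by
  unfold pResidual
  rw [Subgroup.closure_eq_bot_iff]
  intro g hg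
  have hg' : Nat.Coprime (orderOf g) p := hg
  obtain ⟨k, hk⟩ := hC g
  have h1 : orderOf g ∣ p ^ k := orderOf_dvd_of_pow_eq_one hk
  have h2 : Nat.Coprime (orderOf g) (p ^ k) := Nat.Coprime.pow_right k hg'
  have h3 : orderOf g = 1 := Nat.Coprime.eq_one_of_dvd h2 h1
  exact orderOf_eq_one_iff.1 h3

theorem hom_pResidual_eq_one (hC : IsPGroup p C) (f : G →* C) {g : G} (hg : g ∈ pResidual p G) :
    f g = 1 := by
  have h := map_mem_pResidual p f hg
  rw [pResidual_eq_bot_of_isPGroup hC] at h
  exact h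

/-- two homomorphisms to a `p`-group agreeing on preimages of a Sylow `p`-subgroup of a quotient agree on
suitable preimages of all elements -/
theorem exists_preimage_agree [Finite G] (hC : IsPGroup p C) (res : G →* A) (hres : Function.Surjective res)
    (f₁ f₂ : G →* C) (P : Sylow p A) (hP : ∀ a ∈ (P : Subgroup A), ∃ g, res g = a ∧ f₁ g = f₂ g) :
    ∀ a : A, ∃ g, res g = a ∧ f₁ g = f₂ g := by
  haveI : Finite A := Finite.of_surjective res hres
  have htop : (f₁.eqLocus f₂).map res = ⊤ := by
    rw [eq_top_iff, ← pResidual_sup_sylow p P]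
    refine sup_le ?_ ?_
    · refine (pResidual_le_map_of_surjective p res hres).trans ?_
      apply Subgroup.map_mono
      intro g hg
      show f₁ g = f₂ g
      rw [hom_pResidual_eq_one hC f₁ hg, hom_pResidual_eq_one hC f₂ hg]
    · intro a ha
      obtain ⟨g, hga, hg⟩ := hP a ha
      exact ⟨g, hg, hga⟩
  intro a
  have ha : a ∈ (f₁.eqLocus f₂).map res := by
    rw [htop]
    trivial
  obtain ⟨g, hg, hga⟩ := ha
  exact ⟨g, hga, hg⟩

/-- in a finite group, the index of a Sylow subgroup in its product with a normal subgroup -/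
theorem sylow_relIndex_normal [Finite G] (P : Sylow p G) (N : Subgroup G) [N.Normal] :
    ¬ p ∣ (P : Subgroup G).relIndex N := by
  have h1 := Subgroup.relIndex_inf_mul_relIndex (P : Subgroup G) N ((P : Subgroup G) ⊔ N)
  have h2 := Subgroup.relIndex_inf_mul_relIndex N (P : Subgroup G) ((P : Subgroup G) ⊔ N)
  rw [inf_of_le_left (le_sup_right : N ≤ (P : Subgroup G) ⊔ N)] at h1
  rw [inf_of_le_left (le_sup_left : (P : Subgroup G) ≤ (P : Subgroup G) ⊔ N)] at h2
  rw [Subgroup.relIndex_sup_right] at h1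
  rw [inf_comm] at h2
  have h3 : (P : Subgroup G).relIndex N * N.relIndex (P : Subgroup G) =
      N.relIndex (P : Subgroup G) * (P : Subgroup G).relIndex ((P : Subgroup G) ⊔ N) := by
    rw [h1, h2]
  have hne : N.relIndex (P : Subgroup G) ≠ 0 := by
    show (N.subgroupOf (P : Subgroup G)).index ≠ 0
    exact Subgroup.index_ne_zero_of_finite
  have h4 : (P : Subgroup G).relIndex N = (P : Subgroup G).relIndex ((P : Subgroup G) ⊔ N) := by
    rw [mul_comm] at h3
    exact Nat.eq_of_mul_eq_mul_left (Nat.pos_of_ne_zero hne) h3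
  rw [h4]
  intro hdvd
  exact P.not_dvd_index (hdvd.trans (Subgroup.relIndex_dvd_index_of_le le_sup_left))

end generic

section sylowNormal

variable {𝔸 : Type*} [Group 𝔸] {p : ℕ} [Fact p.Prime]

/-- a Sylow subgroup of `A_F` meets a subgroup `A_E` normalized by `A_F` in a Sylow subgroup of `A_E` -/
theorem sylow_of_normal_sub {AF AE US UT : Subgroup 𝔸} [Finite AF] (hEF : AE ≤ AF)
    (hnorm : ∀ a ∈ AF, ∀ e ∈ AE, a * e * a⁻¹ ∈ AE)
    (hR : ∃ R : Sylow p AF, (R : Subgroup AF) = US.subgroupOf AF) (hU : UT = US ⊓ AE) :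
    ∃ R' : Sylow p AE, (R' : Subgroup AE) = UT.subgroupOf AE := by
  obtain ⟨R, hR⟩ := hR
  haveI : Finite AE := Finite.of_injective (Subgroup.inclusion hEF) (Subgroup.inclusion_injective hEF)
  haveI hN : (AE.subgroupOf AF).Normal := by
    refine ⟨fun n hn g => ?_⟩
    rw [Subgroup.mem_subgroupOf] at hn ⊢
    exact hnorm g g.2 n hn
  have hp : IsPGroup p (UT.subgroupOf AE) := by
    intro x
    have hx : ((x : AE) : 𝔸) ∈ US := by
      have := x.2
      rw [Subgroup.mem_subgroupOf] at this
      exact (hU.le this).1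
    have hxR : (⟨((x : AE) : 𝔸), hEF (x : AE).2⟩ : AF) ∈ (R : Subgroup AF) := by
      rw [hR, Subgroup.mem_subgroupOf]
      exact hx
    obtain ⟨k, hk⟩ := R.2 ⟨_, hxR⟩
    refine ⟨k, ?_⟩
    apply Subtype.ext
    apply Subtype.ext
    have := congrArg (fun z : (R : Subgroup AF) => (((z : AF) : 𝔸))) hk
    simpa using this
  have hidx : ¬ p ∣ (UT.subgroupOf AE).index := by
    have e1 : (UT.subgroupOf AE).index = US.relIndex AE := by
      show UT.relIndex AE = _
      rw [hU, Subgroup.inf_relIndex_right]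
    have e2 : US.relIndex AE = (US.subgroupOf AF).relIndex (AE.subgroupOf AF) :=
      (Subgroup.relIndex_subgroupOf hEF).symm
    rw [e1, e2, ← hR]
    exact sylow_relIndex_normal R _
  exact ⟨hp.toSylow hidx, IsPGroup.toSylow_coe hp hidx⟩

end sylowNormal

end Cfsg.Agent.Lib.Helper29
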