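import Cfsg.Agent.Lib.Helper29.PPINormal
import Cfsg.Agent.Lib.Helper29.DirectFactor

/-!
The extension condition for the subsystems of `p`-power index, and their normality.
-/
set_option autoImplicit false

universe u

namespace Cfsg.Agent.Lib.Helper29
open Cfsg

variable {Ω : Type u} [Group Ω] {S : Subgroup Ω}

section ext

variable [Finite S] {p : ℕ} [Fact p.Prime] {F : FusionSystem S} {T : Subgroup Ω}

/-- for a strongly closed `T`, restriction `Aut_F(T C_S(T)) → Aut_F(T)` is onto -/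
theorem resT_surjective (hS : IsPGroup p S) (hF : F.IsSaturated p) (hTsc : F.StronglyClosed T)
    (hRS : T ⊔ FusionSystem.centralizerIn S T ≤ S) :
    Function.Surjective (resT F hTsc hRS le_sup_left) := by
  intro α₁
  have hTS := hTsc.1
  haveI : Finite ↥(T ⊔ FusionSystem.centralizerIn S T) := finite_of_le hRS
  have hφ : T.subtype.comp (α₁ : MulAut T).toMonoidHom ∈ F.Hom T := (mem_autGroup_iff F hTS).1 α₁.2
  have hr : (T.subtype.comp (α₁ : MulAut T).toMonoidHom).range = T := by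
    ext z
    constructor
    · rintro ⟨w, rfl⟩
      exact ((α₁ : MulAut T) w).2
    · intro hz
      exact ⟨(α₁ : MulAut T)⁻¹ ⟨z, hz⟩, by simp⟩
  obtain ⟨ψ, hψ, hext⟩ := (stronglyClosed_receptive hS hF hTsc).2 T _ hφ hr
  have hRle : T ⊔ FusionSystem.centralizerIn S T ≤
      FusionSystem.extender S T (T.subtype.comp (α₁ : MulAut T).toMonoidHom) :=
    sup_le (le_extender F hφ) (centralizerIn_le_extender T _)
  have hψR := restrict_mem F hRle hψ
  have hval : ∀ z, (ψ.comp (Subgroup.inclusion hRle)) z ∈ T ⊔ FusionSystem.centralizerIn S T := by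
    apply sup_hom_mem
    · intro x
      have h1 := hext x x.2 (hRle (le_sup_left (a := T) x.2))
      show ψ ⟨x, _⟩ ∈ _
      rw [h1]
      exact le_sup_left (a := T) ((α₁ : MulAut T) x).2
    · intro c
      have h1 := ext_centralizer F hφ hr hψ hext c c.2
      exact le_sup_right (a := T) h1
  obtain ⟨β₁, hβ₁, hβ₁e⟩ := exists_aut_of_hom F hψR hval
  refine ⟨⟨β₁, hβ₁⟩, ?_⟩
  apply Subtype.ext
  ext t
  rw [resT_apply]
  show ((β₁ (Subgroup.inclusion le_sup_left t) : ↥(T ⊔ FusionSystem.centralizerIn S T)) : Ω) = _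
  rw [hβ₁e]
  exact hext t t.2 _

end ext

section ext2

variable [Finite S] {p : ℕ} [Fact p.Prime] {F : FusionSystem S} {T : Subgroup Ω}

/-- elements of `O^p(Aut_F(T))` extend to `T C_S(T)` with commutators on `C_S(T)` in `Z(T)` -/
theorem ext_of_pResidual (hS : IsPGroup p S) (hF : F.IsSaturated p) (hTsc : F.StronglyClosed T)
    (hT : F.hyperfocalSubgroup p ≤ T) (b : F.autGroup T) (hb : b ∈ pResidual p (F.autGroup T)) :
    ∃ β ∈ F.autGroup (T ⊔ FusionSystem.centralizerIn S T),
      (∀ x : T, ((β (Subgroup.inclusion le_sup_left x) : ↥(T ⊔ FusionSystem.centralizerIn S T)) : Ω) =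
        (((b : MulAut T) x : T) : Ω)) ∧
      ∀ c : ↥(T ⊔ FusionSystem.centralizerIn S T), (c : Ω) ∈ FusionSystem.centralizerIn S T →
        (c : Ω)⁻¹ * ((β c : ↥(T ⊔ FusionSystem.centralizerIn S T)) : Ω) ∈
          T ⊓ Subgroup.centralizer (T : Set Ω) := by
  have hTS := hTsc.1
  have hRS : T ⊔ FusionSystem.centralizerIn S T ≤ S := sup_le hTS inf_le_left
  haveI : Finite ↥(T ⊔ FusionSystem.centralizerIn S T) := finite_of_le hRS
  obtain ⟨β, hβ, hβb⟩ := pResidual_le_map_of_surjective p (resT F hTsc hRS le_sup_left)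
    (resT_surjective hS hF hTsc hRS) hb
  have hres : ∀ x : T, (((β : MulAut ↥(T ⊔ FusionSystem.centralizerIn S T))
      (Subgroup.inclusion le_sup_left x) : ↥(T ⊔ FusionSystem.centralizerIn S T)) : Ω) =
      (((b : MulAut T) x : T) : Ω) := by
    intro x
    rw [← hβb]
    rfl
  refine ⟨β.1, β.2, hres, fun c hc => ⟨?_, ?_⟩⟩
  · apply hT
    apply Subgroup.subset_closure
    exact ⟨_, β, c, hRS, hβ, rfl⟩
  · have hcc : (c : Ω) ∈ Subgroup.centralizer (T : Set Ω) := hc.2
    have hβc : (((β : MulAut ↥(T ⊔ FusionSystem.centralizerIn S T)) c :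
        ↥(T ⊔ FusionSystem.centralizerIn S T)) : Ω) ∈ Subgroup.centralizer (T : Set Ω) := by
      rw [Subgroup.mem_centralizer_iff]
      intro t ht
      set t' : T := (b : MulAut T)⁻¹ ⟨t, ht⟩ with ht'
      have e1 : (((β : MulAut ↥(T ⊔ FusionSystem.centralizerIn S T))
          (Subgroup.inclusion le_sup_left t') : ↥(T ⊔ FusionSystem.centralizerIn S T)) : Ω) = t := by
        rw [hres, ht', MulAut.apply_inv_self]
      have hcomm : Subgroup.inclusion le_sup_left t' * c = c * Subgroup.inclusion le_sup_left t' := by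
        apply Subtype.ext
        exact (Subgroup.mem_centralizer_iff.1 hcc) t' t'.2
      have h2 := congrArg (fun z : ↥(T ⊔ FusionSystem.centralizerIn S T) =>
        (((β : MulAut ↥(T ⊔ FusionSystem.centralizerIn S T)) z :
          ↥(T ⊔ FusionSystem.centralizerIn S T)) : Ω)) hcomm
      simp only [map_mul, Subgroup.coe_mul] at h2
      rw [e1] at h2
      exact h2
    exact Subgroup.mul_mem _ (Subgroup.inv_mem _ hcc) hβc

/-- **AKO Theorem I.7.4 (normality)** -/
theorem isNormalIn_of_pPowerIndex (hS : IsPGroup p S) (hF : F.IsSaturated p) (hTS : T ≤ S)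
    (hTn : ∀ s ∈ S, ∀ y ∈ T, s * y * s⁻¹ ∈ T) (hT : F.hyperfocalSubgroup p ≤ T)
    (E : FusionSystem T) (hEs : E.IsSaturated p) (hEi : E.HasPPowerIndexIn F p) :
    E.IsNormalIn F p := by
  have hTsc := stronglyClosed_of_normal_hyp hS F hF hTS hTn hT
  have hRS : T ⊔ FusionSystem.centralizerIn S T ≤ S := sup_le hTS inf_le_left
  refine ⟨⟨hEs, hF, hEi.1, hTsc, invCond_of_pPowerIndex hS hTS E hEs hEi, ?_⟩, ?_⟩
  · intro P hPT φ hφ
    obtain ⟨s, hs, φ₀, hφ₀, hφe⟩ := sFrattini_of_pPowerIndex hS hF hTS hT E hEs hEi P hPT φ hφ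
    refine ⟨(conjT F hTsc hs : MulAut T), (conjT F hTsc hs).2, φ₀, hφ₀, fun x hx => ?_⟩
    rw [hφe x]
    rfl
  · intro α hα
    haveI : Finite T := finite_of_le hTS
    have hTp : IsPGroup p T := hS.to_le hTS
    obtain ⟨_, Sy, hSy⟩ := (((Cfsg.Agent.S5077.result p hTp E).1 hEs).1 T (fullyNormalized_top E)).2
    obtain ⟨b, hb, s, hs, hbs⟩ := exists_mul_pResidual_sylow p Sy ⟨α, hα⟩
    rw [← SetLike.mem_coe, hSy, SetLike.mem_coe, Subgroup.mem_subgroupOf] at hs
    obtain ⟨t, htT, htN, hst⟩ := mem_autInducedBy_iff.1 hs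
    have hα' : α = (b : MulAut T) * (s : MulAut T) := congrArg Subtype.val hbs
    have hEFaut := autGroup_le_of_subsystem F E hEi.1 (le_refl T)
    have hb' := map_mem_pResidual p (Subgroup.inclusion hEFaut) hb
    obtain ⟨β₀, hβ₀, hβ₀T, hβ₀c⟩ := ext_of_pResidual hS hF hTsc hT _ hb'
    have htR : t ∈ T ⊔ FusionSystem.centralizerIn S T := le_sup_left (a := T) htT
    have hγ : (MulAut.conj (⟨t, htR⟩ : ↥(T ⊔ FusionSystem.centralizerIn S T))) ∈
        F.autGroup (T ⊔ FusionSystem.centralizerIn S T) := by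
      rw [mem_autGroup_iff F hRS]
      have e : (T ⊔ FusionSystem.centralizerIn S T).subtype.comp
          (MulAut.conj (⟨t, htR⟩ : ↥(T ⊔ FusionSystem.centralizerIn S T))).toMonoidHom =
          conjHom (T ⊔ FusionSystem.centralizerIn S T) t := by
        ext z
        rfl
      rw [e]
      exact F.conj_mem hRS (hTS htT)
    refine ⟨β₀ * MulAut.conj (⟨t, htR⟩ : ↥(T ⊔ FusionSystem.centralizerIn S T)),
      Subgroup.mul_mem _ hβ₀ hγ, fun x => ?_, fun c hc => ?_⟩
    · have e1 : (MulAut.conj (⟨t, htR⟩ : ↥(T ⊔ FusionSystem.centralizerIn S T)))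
          (Subgroup.inclusion le_sup_left x) = Subgroup.inclusion le_sup_left ((s : MulAut T) x) := by
        apply Subtype.ext
        rw [hst]
        rfl
      rw [MulAut.mul_apply, e1, hβ₀T, hα']
      rfl
    · have hcc : (c : Ω) ∈ Subgroup.centralizer (T : Set Ω) := hc.2
      have e1 : (MulAut.conj (⟨t, htR⟩ : ↥(T ⊔ FusionSystem.centralizerIn S T))) c = c := by
        apply Subtype.ext
        show t * (c : Ω) * t⁻¹ = c
        rw [(Subgroup.mem_centralizer_iff.1 hcc) t htT]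
        group
      rw [MulAut.mul_apply, e1]
      exact hβ₀c c hc

end ext2

end Cfsg.Agent.Lib.Helper29
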