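import Cfsg.Agent.Lib.Helper29.SatPairs

set_option autoImplicit false
open Cfsg

namespace Cfsg.Agent.Lib.Helper29

variable {Ω : Type*} [Group Ω] {S : Subgroup Ω}

theorem card_lt_of_le_ne {A B : Subgroup Ω} [Finite B] (h : A ≤ B) (hne : A ≠ B) :
    Nat.card A < Nat.card B := by
  by_contra hcon
  exact hne (Subgroup.eq_of_le_of_card_ge h (not_lt.1 hcon))

theorem card_le_of_le_S [Finite S] {K : Subgroup Ω} (h : K ≤ S) : Nat.card K ≤ Nat.card S :=
  Subgroup.card_le_of_le h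

theorem card_le_of_le' {A B : Subgroup Ω} [Finite B] (h : A ≤ B) : Nat.card A ≤ Nat.card B :=
  Subgroup.card_le_of_le h

/-- normalizers grow: if `Q ≤ R < N_S(Q)` then `R < N_S(R) ∩ N_S(Q)` -/
theorem pairNorm_lt [Finite S] {p : ℕ} [Fact p.Prime] (hS : IsPGroup p S) {R Q : Subgroup Ω}
    (hRN : R ≤ FusionSystem.normalizerIn S Q) (hne : R ≠ FusionSystem.normalizerIn S Q) :
    Nat.card R < Nat.card (pairNorm S R Q) := by
  have hRS : R ≤ S := hRN.trans inf_le_left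
  haveI : Finite (pairNorm S R Q) := finite_of_le (pairNorm_le R Q)
  haveI : Finite (FusionSystem.normalizerIn S Q) := finite_normalizerIn Q
  have hNp : IsPGroup p (FusionSystem.normalizerIn S Q) := hS.to_le inf_le_left
  have h1 := normalizerIn_ne_self (S := FusionSystem.normalizerIn S Q) hNp hRN hne
  have hle : R ≤ pairNorm S R Q :=
    fun x hx => mem_pairNorm.2 ⟨hRS hx, Subgroup.le_normalizer hx, (hRN hx).2⟩
  apply card_lt_of_le_ne hle
  intro heq
  apply h1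
  apply le_antisymm
  · intro g hg
    rw [heq]
    exact mem_pairNorm.2 ⟨hg.1.1, hg.2, hg.1.2⟩
  · intro g hg
    exact ⟨hRN hg, Subgroup.le_normalizer hg⟩

/-- `Q` leads to `Q'`: some map of the system defined on `N_S(Q)` carries `Q` onto `Q'` -/
def Leads (F : FusionSystem S) (Q Q' : Subgroup Ω) : Prop :=
  ∃ θ ∈ F.Hom (FusionSystem.normalizerIn S Q), imgSub θ Q = Q'

theorem leads_refl (F : FusionSystem S) {Q : Subgroup Ω} (hQ : Q ≤ S) : Leads F Q Q := by
  refine ⟨_, subtype_mem F inf_le_left, ?_⟩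
  ext y
  rw [mem_imgSub]
  constructor
  · rintro ⟨x, hx, rfl⟩
    exact hx
  · intro hy
    exact ⟨⟨y, le_normalizerIn hQ hy⟩, hy, rfl⟩

theorem leads_values (F : FusionSystem S) {Q Q' : Subgroup Ω} {θ : FusionSystem.normalizerIn S Q →* Ω}
    (hθ : θ ∈ F.Hom (FusionSystem.normalizerIn S Q)) (himg : imgSub θ Q = Q') :
    ∀ x, θ x ∈ FusionSystem.normalizerIn S Q' := by
  intro x
  refine ⟨(F.le_of_mem hθ).2 x, ?_⟩
  rw [← himg]
  exact imgSub_normalizer θ x.2.2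

theorem isConj_of_imgSub (F : FusionSystem S) {A Q : Subgroup Ω} {φ : A →* Ω} (hφ : φ ∈ F.Hom A)
    (hQA : Q ≤ A) : F.IsConj Q (imgSub φ Q) :=
  ⟨φ.comp (Subgroup.inclusion hQA), restrict_mem F hQA hφ, range_comp_inclusion hQA φ⟩

theorem imgSub_inv {A : Subgroup Ω} (φ : A →* Ω) (inv : φ.range →* Ω)
    (hinv : ∀ x : A, inv ⟨φ x, ⟨x, rfl⟩⟩ = x) {Q : Subgroup Ω} (hQ : Q ≤ A) :
    imgSub inv (imgSub φ Q) = Q := by
  ext y
  rw [mem_imgSub]
  constructor
  · rintro ⟨z, hz, rfl⟩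
    obtain ⟨x, hx, hxz⟩ := mem_imgSub.1 hz
    have e : z = ⟨φ x, ⟨x, rfl⟩⟩ := Subtype.ext hxz.symm
    rw [e, hinv]
    exact hx
  · intro hy
    exact ⟨⟨φ ⟨y, hQ hy⟩, ⟨_, rfl⟩⟩, imgSub_mem φ hy, hinv _⟩

theorem imgSub_inv' {A : Subgroup Ω} (φ : A →* Ω) (inv : φ.range →* Ω)
    (hinv : ∀ x : A, inv ⟨φ x, ⟨x, rfl⟩⟩ = x) {Q' : Subgroup Ω} (hQ' : Q' ≤ φ.range)
    (hval : ∀ z, inv z ∈ A) : imgSub φ (imgSub inv Q') = Q' := by
  ext y
  rw [mem_imgSub]
  constructor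
  · rintro ⟨x, hx, rfl⟩
    obtain ⟨z, hz, hzx⟩ := mem_imgSub.1 hx
    obtain ⟨x', hx'⟩ := z.2
    have e : z = ⟨φ x', ⟨x', rfl⟩⟩ := Subtype.ext hx'.symm
    rw [e, hinv] at hzx
    have e2 : x = x' := Subtype.ext hzx.symm
    rw [e2, hx']
    exact hz
  · intro hy
    obtain ⟨x, hx⟩ := hQ' hy
    refine ⟨x, ?_, hx⟩
    rw [mem_imgSub]
    refine ⟨⟨y, hQ' hy⟩, hy, ?_⟩
    have e : (⟨y, hQ' hy⟩ : φ.range) = ⟨φ x, ⟨x, rfl⟩⟩ := Subtype.ext hx.symm
    rw [e, hinv]

theorem inv_values {A : Subgroup Ω} (φ : A →* Ω) (inv : φ.range →* Ω)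
    (hinv : ∀ x : A, inv ⟨φ x, ⟨x, rfl⟩⟩ = x) : ∀ z, inv z ∈ A := by
  intro z
  obtain ⟨x, hx⟩ := z.2
  have e : z = ⟨φ x, ⟨x, rfl⟩⟩ := Subtype.ext hx.symm
  rw [e, hinv]
  exact x.2

/-- Claim (C): if `Q' < R' ≤ N_S(Q')` and some map of the system on `R'` carries `Q'` onto the fully
normalized subgroup `Pt`, then `Q'` leads to `Pt`. -/
theorem leads_of_hom [Finite S] {p : ℕ} [Fact p.Prime] (hS : IsPGroup p S) (F : FusionSystem S)
    {Pt : Subgroup Ω} (hfn : F.IsFullyNormalized Pt)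
    (above : ∀ R : Subgroup Ω, R ≤ S → Nat.card Pt < Nat.card R →
      ∃ R', F.IsConj R R' ∧ F.IsFullyAutomized p R' ∧ F.IsReceptive R') :
    ∀ (n : ℕ) (Q' R' : Subgroup Ω) (φ : R' →* Ω), Nat.card S - Nat.card R' = n → Q' ≤ R' → Q' ≠ R' →
      R' ≤ Subgroup.normalizer (Q' : Set Ω) → φ ∈ F.Hom R' → imgSub φ Q' = Pt → Leads F Q' Pt := by
  intro n
  induction n using Nat.strong_induction_on with
  | _ n ih =>
  intro Q' R' φ hn hQ'R' hne hR'N hφ himg
  have hR'S : R' ≤ S := le_of_hom_mem F hφ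
  have hQ'S := hQ'R'.trans hR'S
  have hinj := F.injective_of_mem hφ
  by_cases hcase : R' = FusionSystem.normalizerIn S Q'
  · subst hcase
    exact ⟨φ, hφ, himg⟩
  · have hR'N' : R' ≤ FusionSystem.normalizerIn S Q' := fun x hx => ⟨hR'S hx, hR'N hx⟩
    haveI : Finite R' := finite_of_le hR'S
    haveI : Finite (FusionSystem.normalizerIn S Q') := finite_normalizerIn Q'
    haveI : Finite (FusionSystem.normalizerIn S Pt) := finite_normalizerIn Pt
    have hlt' : Nat.card R' < Nat.card (pairNorm S R' Q') := pairNorm_lt hS hR'N' hcase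
    have hR'ltN : Nat.card R' < Nat.card (FusionSystem.normalizerIn S Q') :=
      card_lt_of_le_ne hR'N' hcase
    have hQ'lt : Nat.card Q' < Nat.card R' := card_lt_of_le_ne hQ'R' hne
    set R := φ.range with hR
    have hRS : R ≤ S := range_le_of_hom_mem F hφ
    have hPtR : Pt ≤ R := by
      rw [← himg]
      exact imgSub_le_range φ Q'
    have hRN : R ≤ Subgroup.normalizer (Pt : Set Ω) := by
      rintro _ ⟨x, rfl⟩
      rw [← himg]
      exact imgSub_normalizer φ (hR'N x.2)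
    have hcardR : Nat.card R = Nat.card R' := by
      rw [hR, ← imgSub_self, card_imgSub hinj le_rfl]
    have hcardPt : Nat.card Pt = Nat.card Q' := by
      rw [← himg, card_imgSub hinj hQ'R']
    have hconjQ'Pt : F.IsConj Q' Pt := himg ▸ isConj_of_imgSub F hφ hQ'R'
    have hNle : Nat.card (FusionSystem.normalizerIn S Q') ≤ Nat.card (FusionSystem.normalizerIn S Pt) :=
      hfn.2 Q' (isConj_symm F hconjQ'Pt)
    have hRN' : R ≤ FusionSystem.normalizerIn S Pt := fun x hx => ⟨hRS hx, hRN hx⟩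
    have hRne : R ≠ FusionSystem.normalizerIn S Pt := by
      intro heq
      rw [heq] at hcardR
      omega
    have hlt : Nat.card R < Nat.card (pairNorm S R Pt) := pairNorm_lt hS hRN' hRne
    obtain ⟨Rs, hconj, hfa, hrec⟩ := above R hRS (by rw [hcardR, hcardPt]; exact hQ'lt)
    obtain ⟨χ, hχ, hχr, hK⟩ := exists_kgood_conj F hRN hconj hfa hrec
    set Q₀ := imgSub χ Pt with hQ₀
    obtain ⟨ρ, hρ, hρR, hρQ⟩ := hK.exists_hom hS hχ hχr hPtR hRN rfl
    have hφR : ∀ x : R', φ x ∈ R := fun x => ⟨x, rfl⟩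
    have hχφmem : χ.comp (φ.codRestrict R hφR) ∈ F.Hom R' := F.comp_mem hφ hχ hφR
    have hχφr : (χ.comp (φ.codRestrict R hφR)).range = Rs := by
      rw [← imgSub_self, imgSub_comp, imgSub_self, ← hR, imgSub_self, hχr]
    have hχφQ : imgSub (χ.comp (φ.codRestrict R hφR)) Q' = Q₀ := by
      rw [imgSub_comp, himg]
    obtain ⟨ρ', hρ', hρ'R, hρ'Q⟩ := hK.exists_hom hS hχφmem hχφr hQ'R' hR'N hχφQ
    -- `Q₀` leads to `Pt`
    have hρinj := F.injective_of_mem hρ
    have hPtX : Pt ≤ pairNorm S R Pt :=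
      fun x hx => mem_pairNorm.2 ⟨hRS (hPtR hx), Subgroup.le_normalizer (hPtR hx),
        Subgroup.le_normalizer hx⟩
    have hXS : pairNorm S R Pt ≤ S := pairNorm_le R Pt
    haveI : Finite (pairNorm S R Pt) := finite_of_le hXS
    have hcardρ : Nat.card ρ.range = Nat.card (pairNorm S R Pt) := by
      rw [← imgSub_self, card_imgSub hρinj le_rfl]
    have hcardQ₀ : Nat.card Q₀ = Nat.card Pt := by
      rw [← hρQ, card_imgSub hρinj hPtX]
    have hρrS : ρ.range ≤ S := range_le_of_hom_mem F hρ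
    haveI : Finite ρ.range := finite_of_le hρrS
    have hleads₀ : Leads F Q₀ Pt := by
      obtain ⟨inv, hinvmem, hinv⟩ := F.inv_mem hρ
      have hc1 := card_le_of_le_S hρrS
      refine ih (Nat.card S - Nat.card ρ.range) (by omega) Q₀ ρ.range inv rfl ?_ ?_ ?_ hinvmem ?_
      · rw [← hρQ]
        exact imgSub_le_range ρ Pt
      · intro heq
        rw [heq] at hcardQ₀
        omega
      · rintro _ ⟨x, rfl⟩
        rw [← hρQ]
        exact imgSub_normalizer ρ (mem_pairNorm.1 x.2).2.2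
      · rw [← hρQ]
        exact imgSub_inv ρ inv hinv hPtX
    obtain ⟨ψs, hψs, hψsimg⟩ := hleads₀
    have hρ'val : ∀ x, ρ' x ∈ FusionSystem.normalizerIn S Q₀ := by
      intro x
      refine ⟨(F.le_of_mem hρ').2 x, ?_⟩
      rw [← hρ'Q]
      exact imgSub_normalizer ρ' (mem_pairNorm.1 x.2).2.2
    have hcompmem := F.comp_mem hρ' hψs hρ'val
    have hX'S : pairNorm S R' Q' ≤ S := pairNorm_le R' Q'
    have hc2 := card_le_of_le_S hX'S
    have hQ'X' : Q' ≤ pairNorm S R' Q' :=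
      fun x hx => mem_pairNorm.2 ⟨hQ'S hx, Subgroup.le_normalizer (hQ'R' hx), Subgroup.le_normalizer hx⟩
    refine ih (Nat.card S - Nat.card (pairNorm S R' Q')) (by omega) Q' (pairNorm S R' Q') _ rfl hQ'X' ?_
      (fun x hx => (mem_pairNorm.1 hx).2.2) hcompmem ?_
    · intro heq
      rw [← heq] at hlt'
      omega
    · rw [imgSub_comp, hρ'Q, hψsimg]

/-- the subsystem of `F` of the maps satisfying a predicate closed under composition and inverses and
containing the conjugations -/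
theorem exists_subsystem (F : FusionSystem S) (good : ∀ A : Subgroup Ω, (A →* Ω) → Prop)
    (hconj : ∀ (A : Subgroup Ω) (g : Ω), A ≤ S → g ∈ S → good A (conjHom A g))
    (hcomp : ∀ (A B : Subgroup Ω) (φ : A →* Ω) (ψ : B →* Ω) (h : ∀ x, φ x ∈ B), φ ∈ F.Hom A →
      ψ ∈ F.Hom B → good A φ → good B ψ → good A (ψ.comp (φ.codRestrict B h)))
    (hinv : ∀ (A : Subgroup Ω) (φ : A →* Ω) (ψ : φ.range →* Ω), φ ∈ F.Hom A → ψ ∈ F.Hom φ.range →
      (∀ x : A, ψ ⟨φ x, ⟨x, rfl⟩⟩ = x) → good A φ → good φ.range ψ) :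
    ∃ E : FusionSystem S, ∀ (A : Subgroup Ω) (φ : A →* Ω), φ ∈ E.Hom A ↔ φ ∈ F.Hom A ∧ good A φ :=
  ⟨{ Hom := fun A => {φ | φ ∈ F.Hom A ∧ good A φ}
     le_of_mem := fun h => F.le_of_mem h.1
     injective_of_mem := fun h => F.injective_of_mem h.1
     conj_mem := fun hP hg => ⟨F.conj_mem hP hg, hconj _ _ hP hg⟩
     comp_mem := fun hφ hψ h => ⟨F.comp_mem hφ.1 hψ.1 h, hcomp _ _ _ _ h hφ.1 hψ.1 hφ.2 hψ.2⟩
     inv_mem := fun {P φ} hφ => by
       obtain ⟨ψ, hψ, hinv'⟩ := F.inv_mem hφ.1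
       exact ⟨ψ, ⟨hψ, hinv P φ ψ hφ.1 hψ hinv' hφ.2⟩, hinv'⟩ }, fun _ _ => Iff.rfl⟩

/-- if `F` is generated by its maps between subgroups outside the class of `P₀`, a predicate as above
holding for those maps holds for all maps -/
theorem good_of_gen (F : FusionSystem S) (P₀ : Subgroup Ω)
    (hgen : ∀ E : FusionSystem S, (∀ R, ¬ F.IsConj P₀ R → F.Hom R ⊆ E.Hom R) → F ≤ E)
    (good : ∀ A : Subgroup Ω, (A →* Ω) → Prop)
    (hconj : ∀ (A : Subgroup Ω) (g : Ω), A ≤ S → g ∈ S → good A (conjHom A g))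
    (hcomp : ∀ (A B : Subgroup Ω) (φ : A →* Ω) (ψ : B →* Ω) (h : ∀ x, φ x ∈ B), φ ∈ F.Hom A →
      ψ ∈ F.Hom B → good A φ → good B ψ → good A (ψ.comp (φ.codRestrict B h)))
    (hinv : ∀ (A : Subgroup Ω) (φ : A →* Ω) (ψ : φ.range →* Ω), φ ∈ F.Hom A → ψ ∈ F.Hom φ.range →
      (∀ x : A, ψ ⟨φ x, ⟨x, rfl⟩⟩ = x) → good A φ → good φ.range ψ)
    (hbase : ∀ R, ¬ F.IsConj P₀ R → ∀ φ ∈ F.Hom R, good R φ) :
    ∀ (A : Subgroup Ω) (φ : A →* Ω), φ ∈ F.Hom A → good A φ := by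
  obtain ⟨E, hE⟩ := exists_subsystem F good hconj hcomp hinv
  have h := hgen E (fun R hR φ hφ => (hE R φ).2 ⟨hφ, hbase R hR φ hφ⟩)
  intro A φ hφ
  exact ((hE A φ).1 (h A hφ)).2

section universal

variable [Finite S] {p : ℕ} [Fact p.Prime] (hS : IsPGroup p S) (F : FusionSystem S)
  {Pt : Subgroup Ω} (hfn : F.IsFullyNormalized Pt)
  (above : ∀ R : Subgroup Ω, R ≤ S → Nat.card Pt < Nat.card R →
      ∃ R', F.IsConj R R' ∧ F.IsFullyAutomized p R' ∧ F.IsReceptive R')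

include hS hfn above

/-- if `φ` is defined on `R'` with `Q < R' ≤ N_S(Q)`, then `Q` leads to `Pt` iff `φ(Q)` does -/
theorem leads_iff_of_hom {Q R' : Subgroup Ω} {φ : R' →* Ω} (hQR' : Q ≤ R') (hne : Q ≠ R')
    (hR'N : R' ≤ Subgroup.normalizer (Q : Set Ω)) (hφ : φ ∈ F.Hom R') :
    Leads F Q Pt ↔ Leads F (imgSub φ Q) Pt := by
  have hR'S : R' ≤ S := le_of_hom_mem F hφ
  have hinj := F.injective_of_mem hφ
  haveI : Finite R' := finite_of_le hR'S
  constructor
  · rintro ⟨θ, hθ, hθimg⟩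
    obtain ⟨inv, hinvmem, hinv⟩ := F.inv_mem hφ
    have hinvA := inv_values φ inv hinv
    have hval : ∀ z, inv z ∈ FusionSystem.normalizerIn S Q := fun z => ⟨hR'S (hinvA z), hR'N (hinvA z)⟩
    have hcomp := F.comp_mem hinvmem hθ hval
    have hrS : φ.range ≤ S := range_le_of_hom_mem F hφ
    haveI : Finite φ.range := finite_of_le hrS
    refine leads_of_hom hS F hfn above _ (imgSub φ Q) φ.range _ rfl (imgSub_le_range φ Q) ?_ ?_ hcomp ?_
    · intro heq
      have h1 : Nat.card (imgSub φ Q) = Nat.card Q := card_imgSub hinj hQR'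
      have h2 : Nat.card φ.range = Nat.card R' := by rw [← imgSub_self, card_imgSub hinj le_rfl]
      have h3 := card_lt_of_le_ne hQR' hne
      rw [heq] at h1
      omega
    · rintro _ ⟨x, rfl⟩
      exact imgSub_normalizer φ (hR'N x.2)
    · rw [imgSub_comp, imgSub_inv φ inv hinv hQR', hθimg]
  · rintro ⟨θ', hθ', hθ'img⟩
    have hval : ∀ x, φ x ∈ FusionSystem.normalizerIn S (imgSub φ Q) :=
      fun x => ⟨(F.le_of_mem hφ).2 x, imgSub_normalizer φ (hR'N x.2)⟩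
    have hcomp := F.comp_mem hφ hθ' hval
    refine leads_of_hom hS F hfn above _ Q R' _ rfl hQR' hne hR'N hcomp ?_
    rw [imgSub_comp, hθ'img]

/-- every member of the class of the fully normalized subgroup `Pt` leads to `Pt` -/
theorem exists_universal (hne : Pt ≠ S)
    (hgen : ∀ E : FusionSystem S, (∀ R, ¬ F.IsConj Pt R → F.Hom R ⊆ E.Hom R) → F ≤ E) :
    ∀ Q, F.IsConj Pt Q → Leads F Q Pt := by
  have hPtS : Pt ≤ S := hfn.1
  have key := good_of_gen F Pt hgen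
    (fun A φ => ∀ Q, Q ≤ A → F.IsConj Pt Q → (Leads F Q Pt ↔ Leads F (imgSub φ Q) Pt)) ?_ ?_ ?_ ?_
  · intro Q hQ
    obtain ⟨φ, hφ, hr⟩ := isConj_symm F hQ
    have h1 := (key Q φ hφ Q le_rfl hQ).2
    rw [imgSub_self, hr] at h1
    exact h1 (leads_refl F hPtS)
  · -- conjugations
    intro A g hAS hg Q hQA hQ
    have hQS : Q ≤ S := hQA.trans hAS
    have hQne : Q ≠ S := by
      intro heq
      apply hne
      have h1 := card_eq_of_isConj F hQ
      rw [heq] at h1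
      exact Subgroup.eq_of_le_of_card_ge hPtS h1.ge
    have hN := normalizerIn_ne_self hS hQS hQne
    have hQN : Q ≤ FusionSystem.normalizerIn S Q := le_normalizerIn hQS
    have h1 := leads_iff_of_hom hS F hfn above hQN (Ne.symm hN) (fun x hx => hx.2)
      (F.conj_mem (inf_le_left : FusionSystem.normalizerIn S Q ≤ S) hg)
    rw [h1]
    have e : imgSub (conjHom (FusionSystem.normalizerIn S Q) g) Q = imgSub (conjHom A g) Q :=
      imgSub_congr hQN hQA (fun _ _ => rfl)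
    rw [e]
  · -- composition
    intro A B φ ψ h hφ hψ hgφ hgψ Q hQA hQ
    rw [imgSub_comp, hgφ Q hQA hQ]
    refine hgψ (imgSub φ Q) ?_ (isConj_trans F hQ (isConj_of_imgSub F hφ hQA))
    intro y hy
    obtain ⟨x, _, rfl⟩ := mem_imgSub.1 hy
    exact h x
  · -- inverses
    intro A φ ψ hφ hψ hinv hgφ Q' hQ'r hQ'
    have hψA := inv_values φ ψ hinv
    have hQA : imgSub ψ Q' ≤ A := by
      intro y hy
      obtain ⟨z, _, rfl⟩ := mem_imgSub.1 hy
      exact hψA z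
    have h1 := hgφ (imgSub ψ Q') hQA (isConj_trans F hQ' (isConj_of_imgSub F hψ hQ'r))
    rw [imgSub_inv' φ ψ hinv hQ'r hψA] at h1
    exact h1.symm
  · -- maps between subgroups outside the class
    intro R hR φ hφ Q hQR hQ
    have hRS : R ≤ S := le_of_hom_mem F hφ
    haveI : Finite R := finite_of_le hRS
    have hQne : Q ≠ R := by
      intro heq
      apply hR
      rw [← heq]
      exact hQ
    have hN := normalizerIn_ne_self (S := R) (hS.to_le hRS) hQR hQne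
    have hle : FusionSystem.normalizerIn R Q ≤ R := inf_le_left
    have hQN : Q ≤ FusionSystem.normalizerIn R Q := le_normalizerIn hQR
    have h1 := leads_iff_of_hom hS F hfn above hQN (Ne.symm hN) (fun x hx => hx.2)
      (restrict_mem F hle hφ)
    rw [h1, imgSub_inclusion hle φ hQN]

end universal

end Cfsg.Agent.Lib.Helper29
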