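import Cfsg.Agent.Lib.Helper29.SatExtend

set_option autoImplicit false
open Cfsg

namespace Cfsg.Agent.Lib.Helper29

variable {Ω : Type*} [Group Ω] {S : Subgroup Ω}

theorem leads_trans (F : FusionSystem S) {Q Q' Q'' : Subgroup Ω} (h₁ : Leads F Q Q')
    (h₂ : Leads F Q' Q'') : Leads F Q Q'' := by
  obtain ⟨θ₁, hθ₁, himg₁⟩ := h₁
  obtain ⟨θ₂, hθ₂, himg₂⟩ := h₂
  have hval := leads_values F hθ₁ himg₁
  refine ⟨θ₂.comp (θ₁.codRestrict _ hval), F.comp_mem hθ₁ hθ₂ hval, ?_⟩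
  rw [imgSub_comp, himg₁, himg₂]

theorem Leads.card_le [Finite S] {F : FusionSystem S} {Q Q' : Subgroup Ω} (h : Leads F Q Q') :
    Nat.card (FusionSystem.normalizerIn S Q) ≤ Nat.card (FusionSystem.normalizerIn S Q') := by
  obtain ⟨θ, hθ, himg⟩ := h
  have hval := leads_values F hθ himg
  haveI := finite_normalizerIn (S := S) Q'
  have hinj := F.injective_of_mem hθ
  exact Nat.card_le_card_of_injective (θ.codRestrict _ hval)
    (fun a b hab => hinj (congrArg Subtype.val hab))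

/-- an automorphism of `R` whose restriction to `P` is an automorphism of `P` stabilizes `P` -/
theorem mem_stabSub_of_restrict {R P : Subgroup Ω} (hPR : P ≤ R) (α : MulAut R) (γ : MulAut P)
    (h : ∀ y : P, ((α (Subgroup.inclusion hPR y) : R) : Ω) = γ y) : α ∈ stabSub R P := by
  intro w
  constructor
  · intro hw
    have := h ⟨w, hw⟩
    have e : Subgroup.inclusion hPR ⟨(w : Ω), hw⟩ = w := Subtype.ext rfl
    rw [e] at this
    rw [this]
    exact (γ ⟨w, hw⟩).2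
  · intro hw
    have h1 := h (γ⁻¹ ⟨_, hw⟩)
    rw [MulAut.apply_inv_self] at h1
    have h2 : α (Subgroup.inclusion hPR (γ⁻¹ ⟨_, hw⟩)) = α w := Subtype.ext h1
    have h3 := α.injective h2
    rw [← h3]
    exact (γ⁻¹ ⟨_, hw⟩).2

section stepE

variable [Finite S] {p : ℕ} [Fact p.Prime] (hS : IsPGroup p S) (F : FusionSystem S) {P : Subgroup Ω}
  (hPS : P ≤ S) (huniv : ∀ Q, F.IsConj P Q → Leads F Q P)
  (hK : KGood F p (hatSub F p P) P (pairNorm S (hatSub F p P) P))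
  (hext : ∀ φ ∈ F.Hom P, φ.range = P → ∃ α ∈ F.autGroup (hatSub F p P),
      ∀ (y : P) (hh : (y : Ω) ∈ hatSub F p P), ((α ⟨y, hh⟩ : hatSub F p P) : Ω) = φ y)

include hPS hext in
theorem exists_ext_aut (hPPh : P ≤ hatSub F p P) (γ : MulAut P) (hγ : γ ∈ F.autGroup P) :
    ∃ α ∈ autPair F (hatSub F p P) P,
      ∀ y : P, ((α (Subgroup.inclusion hPPh y) : hatSub F p P) : Ω) = γ y := by
  have hφ : P.subtype.comp γ.toMonoidHom ∈ F.Hom P := (mem_autGroup_iff F hPS).1 hγ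
  have hr : (P.subtype.comp γ.toMonoidHom).range = P := by
    ext y
    constructor
    · rintro ⟨x, rfl⟩
      exact (γ x).2
    · intro hy
      exact ⟨γ.symm ⟨y, hy⟩, by simp⟩
  obtain ⟨α, hα, hαe⟩ := hext _ hφ hr
  have h : ∀ y : P, ((α (Subgroup.inclusion hPPh y) : hatSub F p P) : Ω) = γ y :=
    fun y => hαe y (hPPh y.2)
  exact ⟨α, ⟨hα, mem_stabSub_of_restrict hPPh α γ h⟩, h⟩

include hS hPS hK hext in
theorem fullyAutomized_of_kgood_hat : F.IsFullyAutomized p P := by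
  have hRS : hatSub F p P ≤ S := hatSub_le_S F p P
  haveI : Finite (hatSub F p P) := finite_of_le hRS
  haveI : Finite P := finite_of_le hPS
  have hPPh : P ≤ hatSub F p P := hK.hQR
  let r : autPair F (hatSub F p P) P →* F.autGroup P :=
    ((resAut hK.hQR).comp (Subgroup.inclusion
      (inf_le_right : autPair F (hatSub F p P) P ≤ stabSub (hatSub F p P) P))).codRestrict
      (F.autGroup P) (fun a => resAut_mem_autGroup F hK.hQR hRS a.2)
  have hrapp : ∀ (a : autPair F (hatSub F p P) P) (y : P),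
      ((((r a : F.autGroup P) : MulAut P) y : P) : Ω) =
        (((a : MulAut (hatSub F p P)) (Subgroup.inclusion hK.hQR y) : hatSub F p P) : Ω) :=
    fun a y => rfl
  have hsurj : Function.Surjective r := by
    intro γ
    obtain ⟨α, hα, hαe⟩ := exists_ext_aut F hPS hext hPPh γ.1 γ.2
    refine ⟨⟨α, hα⟩, ?_⟩
    apply Subtype.ext
    refine MulEquiv.ext (fun y => Subtype.ext ?_)
    exact hαe y
  obtain ⟨T, hT⟩ := hK.sylow
  refine ⟨hPS, T.mapSurjective hsurj, ?_⟩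
  rw [Sylow.coe_mapSurjective, hT]
  ext γ
  rw [Subgroup.mem_subgroupOf]
  constructor
  · rintro ⟨t, ht, rfl⟩
    rw [SetLike.mem_coe, Subgroup.mem_subgroupOf] at ht
    obtain ⟨m, hm, hmN, hme⟩ := mem_autInducedBy_iff.1 ht
    have hmP := (mem_pairNorm.1 hm).2.2
    refine mem_autInducedBy_iff.2 ⟨m, (mem_pairNorm.1 hm).1, hmP, ?_⟩
    refine MulEquiv.ext (fun y => Subtype.ext ?_)
    rw [hrapp, hme]
    rfl
  · intro hγ
    obtain ⟨n, hnS, hnN, hne⟩ := mem_autInducedBy_iff.1 hγ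
    have hnNS : n ∈ FusionSystem.normalizerIn S P := ⟨hnS, hnN⟩
    have hnPh : n ∈ Subgroup.normalizer ((hatSub F p P : Subgroup Ω) : Set Ω) :=
      normalizerIn_le_normalizer_hatSub F p hPS hnNS
    have hnM : n ∈ pairNorm S (hatSub F p P) P := mem_pairNorm.2 ⟨hnS, hnPh, hnN⟩
    have htM : (hatSub F p P).normalizerMonoidHom ⟨n, hnPh⟩ ∈
        autInducedBy (pairNorm S (hatSub F p P) P) (hatSub F p P) :=
      mem_autInducedBy_iff.2 ⟨n, hnM, hnPh, rfl⟩
    have htA : (hatSub F p P).normalizerMonoidHom ⟨n, hnPh⟩ ∈ autPair F (hatSub F p P) P :=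
      autInducedBy_le_autPair F hRS hK.hMS hK.hMQ htM
    refine ⟨⟨_, htA⟩, ?_, ?_⟩
    · rw [SetLike.mem_coe, Subgroup.mem_subgroupOf]
      exact htM
    · apply Subtype.ext
      rw [hne]
      refine MulEquiv.ext (fun y => Subtype.ext ?_)
      rfl

include hS hPS huniv hK hext in
theorem receptive_of_kgood_hat : F.IsReceptive P := by
  have hRS : hatSub F p P ≤ S := hatSub_le_S F p P
  haveI : Finite (hatSub F p P) := finite_of_le hRS
  haveI : Finite P := finite_of_le hPS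
  have hPPh : P ≤ hatSub F p P := hK.hQR
  refine ⟨hPS, fun Q φ hφ hr => ?_⟩
  have hQS : Q ≤ S := le_of_hom_mem F hφ
  have hQconj : F.IsConj P Q := isConj_symm F ⟨φ, hφ, hr⟩
  obtain ⟨θ, hθ, hθimg⟩ := huniv Q hQconj
  have hθval := leads_values F hθ hθimg
  have hQN : Q ≤ FusionSystem.normalizerIn S Q := le_normalizerIn hQS
  have hθQ : θ.comp (Subgroup.inclusion hQN) ∈ F.Hom Q := restrict_mem F hQN hθ
  have hθQr : (θ.comp (Subgroup.inclusion hQN)).range = P := by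
    rw [range_comp_inclusion, hθimg]
  set eθ := isoOfHom F hθQ hθQr with heθ
  set eφ := isoOfHom F hφ hr with heφ
  set γ : MulAut P := eθ.symm.trans eφ with hγdef
  have hγe : ∀ x : Q, γ (eθ x) = eφ x := fun x => by simp [hγdef]
  have heθcoe : ∀ x : Q, ((eθ x : P) : Ω) = θ (Subgroup.inclusion hQN x) := fun x => rfl
  have heφcoe : ∀ x : Q, ((eφ x : P) : Ω) = φ x := fun x => rfl
  have hγF : γ ∈ F.autGroup P := by
    rw [mem_autGroup_iff F hPS]
    obtain ⟨ainv, hainv, hainve⟩ := exists_inv_iso F hθQ hθQr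
    have hae : ∀ x : Q, ainv (eθ x) = x := fun x => hainve x (eθ x).2
    have hv : ∀ y : P, ainv y ∈ Q := by
      intro y
      obtain ⟨x, rfl⟩ := eθ.surjective y
      rw [hae]
      exact x.2
    apply comp_mem' F hainv hφ hv
    intro y
    obtain ⟨x, rfl⟩ := eθ.surjective y
    show ((γ (eθ x) : P) : Ω) = φ ⟨ainv (eθ x), hv _⟩
    have e3 : (⟨ainv (eθ x), hv _⟩ : Q) = x := Subtype.ext (hae x)
    rw [hγe, heφcoe, e3]
  obtain ⟨α, hα, hαe⟩ := exists_ext_aut F hPS hext hPPh γ hγF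
  -- the subgroup to which `α` (changed on the hat subgroup but not on `P`) extends
  have hPhX : hatSub F p P ≤ adjSub S P (pairNorm S (hatSub F p P) P) α := by
    intro g hg
    refine mem_adjSub.2 ⟨hRS hg, Subgroup.le_normalizer hg, hK.hMQ (hK.hRM hg),
      ((α ⟨g, hg⟩ : hatSub F p P) : Ω), hK.hRM (α ⟨g, hg⟩).2, fun x hx _ => ?_⟩
    have e : (⟨g * (x : Ω) * g⁻¹, hx⟩ : hatSub F p P) = ⟨g, hg⟩ * x * ⟨g, hg⟩⁻¹ := Subtype.ext rfl
    rw [e, map_mul, map_mul, map_inv]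
    rfl
  have hθX : ∀ g : FusionSystem.extender S Q φ, ∀ hgN : (g : Ω) ∈ FusionSystem.normalizerIn S Q,
      θ ⟨g, hgN⟩ ∈ adjSub S P (pairNorm S (hatSub F p P) P) α := by
    intro g hgN
    obtain ⟨hgS, hgNQ, h, hhS, hhe⟩ := mem_extender_iff.1 g.2
    have hθgN := hθval ⟨g, hgN⟩
    have hhP : h ∈ Subgroup.normalizer (P : Set Ω) := by
      apply mem_normalizer_of_conj_le
      intro y hy
      obtain ⟨x, hx⟩ := eφ.surjective ⟨y, hy⟩
      have hyx : y = φ x := by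
        rw [← heφcoe, hx]
      have hx' : (g : Ω) * (x : Ω) * (g : Ω)⁻¹ ∈ Q := (Subgroup.mem_normalizer_iff.1 hgNQ x).1 x.2
      have := hhe x hx'
      rw [hyx, ← this, ← hr]
      exact ⟨_, rfl⟩
    have hhM : h ∈ pairNorm S (hatSub F p P) P :=
      mem_pairNorm.2 ⟨hhS, normalizerIn_le_normalizer_hatSub F p hPS ⟨hhS, hhP⟩, hhP⟩
    refine mem_adjSub.2 ⟨hθgN.1, normalizerIn_le_normalizer_hatSub F p hPS hθgN, hθgN.2, h, hhM,
      fun x hx hxP => ?_⟩
    obtain ⟨q, hq⟩ := eθ.surjective ⟨(x : Ω), hxP⟩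
    have hxq : (x : Ω) = θ (Subgroup.inclusion hQN q) := by
      rw [← heθcoe, hq]
    have hq' : (g : Ω) * (q : Ω) * (g : Ω)⁻¹ ∈ Q := (Subgroup.mem_normalizer_iff.1 hgNQ q).1 q.2
    have e1 : x = Subgroup.inclusion hPPh (eθ q) := Subtype.ext (by rw [hq]; rfl)
    have e2 : (⟨θ ⟨g, hgN⟩ * (x : Ω) * (θ ⟨g, hgN⟩)⁻¹, hx⟩ : hatSub F p P) =
        Subgroup.inclusion hPPh (eθ ⟨(g : Ω) * (q : Ω) * (g : Ω)⁻¹, hq'⟩) := by
      apply Subtype.ext
      show θ ⟨g, hgN⟩ * (x : Ω) * (θ ⟨g, hgN⟩)⁻¹ = θ (Subgroup.inclusion hQN ⟨_, hq'⟩)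
      rw [hxq, ← map_inv, ← map_mul, ← map_mul]
      rfl
    rw [e2, hαe, hγe, heφcoe, e1, hαe, hγe, heφcoe]
    exact hhe q hq'
  have hXcond : ∀ g ∈ adjSub S P (pairNorm S (hatSub F p P) P) α, _ := fun g hg => mem_adjSub.1 hg
  obtain ⟨ρ₃, hρ₃, hρ₃e⟩ := hK.exists_adjust hS hα hPhX hXcond
  have hNφ : FusionSystem.extender S Q φ ≤ FusionSystem.normalizerIn S Q := by
    intro g hg
    obtain ⟨hgS, hgNQ, _⟩ := mem_extender_iff.1 hg
    exact ⟨hgS, hgNQ⟩
  have hθN : θ.comp (Subgroup.inclusion hNφ) ∈ F.Hom (FusionSystem.extender S Q φ) :=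
    restrict_mem F hNφ hθ
  have hval : ∀ g : FusionSystem.extender S Q φ, (θ.comp (Subgroup.inclusion hNφ)) g ∈
      adjSub S P (pairNorm S (hatSub F p P) P) α := fun g => hθX g (hNφ g.2)
  refine ⟨ρ₃.comp ((θ.comp (Subgroup.inclusion hNφ)).codRestrict _ hval), F.comp_mem hθN hρ₃ hval, ?_⟩
  intro x hxQ hxN
  have hθxP : θ ⟨x, hNφ hxN⟩ ∈ P := by
    have := imgSub_mem θ (Q := Q) (x := ⟨x, hNφ hxN⟩) hxQ
    rw [hθimg] at this
    exact this
  show ρ₃ ⟨θ ⟨x, hNφ hxN⟩, hval ⟨x, hxN⟩⟩ = φ ⟨x, hxQ⟩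
  refine (hρ₃e (θ ⟨x, hNφ hxN⟩) hθxP (hval ⟨x, hxN⟩)).trans ?_
  have e1 : (⟨θ ⟨x, hNφ hxN⟩, hK.hQR hθxP⟩ : hatSub F p P) = Subgroup.inclusion hPPh (eθ ⟨x, hxQ⟩) :=
    Subtype.ext rfl
  rw [e1, hαe, hγe, heφcoe]

end stepE

theorem congr_normalizerMonoidHom (F : FusionSystem S) {N Q P' : Subgroup Ω} {θ : N →* Ω} (hQN : Q ≤ N)
    (hθQ : θ.comp (Subgroup.inclusion hQN) ∈ F.Hom Q) (hr : (θ.comp (Subgroup.inclusion hQN)).range = P')
    (g : N) (hg : (g : Ω) ∈ Subgroup.normalizer (Q : Set Ω))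
    (hg' : θ g ∈ Subgroup.normalizer (P' : Set Ω)) :
    MulAut.congr (isoOfHom F hθQ hr) (Q.normalizerMonoidHom ⟨(g : Ω), hg⟩) =
      P'.normalizerMonoidHom ⟨θ g, hg'⟩ := by
  refine MulEquiv.ext (fun y => ?_)
  obtain ⟨x, rfl⟩ := (isoOfHom F hθQ hr).surjective y
  rw [congr_apply, MulEquiv.symm_apply_apply]
  apply Subtype.ext
  rw [isoOfHom_coe, normalizerMonoidHom_apply_coe, isoOfHom_coe]
  show θ (Subgroup.inclusion hQN (Q.normalizerMonoidHom ⟨(g : Ω), hg⟩ x)) =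
    θ g * θ (Subgroup.inclusion hQN x) * (θ g)⁻¹
  rw [← map_inv, ← map_mul, ← map_mul]
  rfl

/-- the hat subgroup is carried to the hat subgroup by an isomorphism `N_S(Pt) → N_S(Ps)` -/
theorem hatSub_imgSub [Finite S] (F : FusionSystem S) (p : ℕ) {Pt Ps : Subgroup Ω} (hPtS : Pt ≤ S)
    {ρN : FusionSystem.normalizerIn S Pt →* Ω} (hρN : ρN ∈ F.Hom (FusionSystem.normalizerIn S Pt))
    (himg : imgSub ρN Pt = Ps) (hrange : ρN.range = FusionSystem.normalizerIn S Ps) :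
    hatSub F p Ps = imgSub ρN (hatSub F p Pt) := by
  have hPtN : Pt ≤ FusionSystem.normalizerIn S Pt := le_normalizerIn hPtS
  have hθQ : ρN.comp (Subgroup.inclusion hPtN) ∈ F.Hom Pt := restrict_mem F hPtN hρN
  have hθQr : (ρN.comp (Subgroup.inclusion hPtN)).range = Ps := by
    rw [range_comp_inclusion, himg]
  have hval := leads_values F hρN himg
  ext y
  rw [mem_imgSub]
  constructor
  · intro hy
    obtain ⟨hyS, hyN, hyO⟩ := mem_hatSub.1 hy
    have hyr : y ∈ ρN.range := by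
      rw [hrange]
      exact ⟨hyS, hyN⟩
    obtain ⟨n, rfl⟩ := hyr
    refine ⟨n, ?_, rfl⟩
    have e := congr_normalizerMonoidHom F hPtN hθQ hθQr n n.2.2 hyN
    rw [← e, ← opAut_congr F p hθQ hθQr] at hyO
    exact mem_hatSub.2 ⟨n.2.1, n.2.2, hyO⟩
  · rintro ⟨n, hn, rfl⟩
    obtain ⟨hnS, hnN, hnO⟩ := mem_hatSub.1 hn
    have hN' := (hval n).2
    have e := congr_normalizerMonoidHom F hPtN hθQ hθQr n hnN hN'
    refine mem_hatSub.2 ⟨(hval n).1, hN', ?_⟩
    rw [← e, ← opAut_congr F p hθQ hθQr]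
    exact hnO

/-- a universal member of the class can be chosen so that the pair (hat subgroup, member) is good -/
theorem exists_universal_kgood [Finite S] {p : ℕ} [Fact p.Prime] (hS : IsPGroup p S) (F : FusionSystem S)
    {Pt : Subgroup Ω} (hPtS : Pt ≤ S) (huniv : ∀ Q, F.IsConj Pt Q → Leads F Q Pt)
    (above : ∀ R : Subgroup Ω, R ≤ S → Nat.card Pt < Nat.card R →
      ∃ R', F.IsConj R R' ∧ F.IsFullyAutomized p R' ∧ F.IsReceptive R')
    (hPne : ∃ g ∈ hatSub F p Pt, g ∉ Pt) :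
    ∃ Ps, F.IsConj Pt Ps ∧ (∀ Q, F.IsConj Ps Q → Leads F Q Ps) ∧
      KGood F p (hatSub F p Ps) Ps (pairNorm S (hatSub F p Ps) Ps) ∧ ∃ g ∈ hatSub F p Ps, g ∉ Ps := by
  have hPPh : Pt ≤ hatSub F p Pt := le_hatSub hS F hPtS
  have hPhS : hatSub F p Pt ≤ S := hatSub_le_S F p Pt
  haveI : Finite (hatSub F p Pt) := finite_of_le hPhS
  have hPhN : hatSub F p Pt ≤ Subgroup.normalizer (Pt : Set Ω) :=
    fun g hg => (hatSub_le_normalizerIn F p Pt hg).2
  have hne : Pt ≠ hatSub F p Pt := by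
    obtain ⟨g, hg, hgP⟩ := hPne
    intro heq
    apply hgP
    rw [heq]
    exact hg
  obtain ⟨Rs, hconj, hfa, hrec⟩ := above _ hPhS (card_lt_of_le_ne hPPh hne)
  obtain ⟨χ, hχ, hχr, hK⟩ := exists_kgood_conj F hPhN hconj hfa hrec
  obtain ⟨ρ, hρ, hρR, hρP⟩ := hK.exists_hom hS hχ hχr hPPh hPhN rfl
  have hNX : FusionSystem.normalizerIn S Pt ≤ pairNorm S (hatSub F p Pt) Pt := fun n hn =>
    mem_pairNorm.2 ⟨hn.1, normalizerIn_le_normalizer_hatSub F p hPtS hn, hn.2⟩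
  have hPtN : Pt ≤ FusionSystem.normalizerIn S Pt := le_normalizerIn hPtS
  have hρN : ρ.comp (Subgroup.inclusion hNX) ∈ F.Hom (FusionSystem.normalizerIn S Pt) :=
    restrict_mem F hNX hρ
  have hρNP : imgSub (ρ.comp (Subgroup.inclusion hNX)) Pt = imgSub χ Pt := by
    rw [imgSub_inclusion hNX ρ hPtN, hρP]
  have hρNR : imgSub (ρ.comp (Subgroup.inclusion hNX)) (hatSub F p Pt) = Rs := by
    rw [imgSub_inclusion hNX ρ (hatSub_le_normalizerIn F p Pt), hρR]
  have hconjs : F.IsConj Pt (imgSub χ Pt) := isConj_of_imgSub F hχ hPPh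
  have hleads : Leads F Pt (imgSub χ Pt) := ⟨_, hρN, hρNP⟩
  have hunivs : ∀ Q, F.IsConj (imgSub χ Pt) Q → Leads F Q (imgSub χ Pt) :=
    fun Q hQ => leads_trans F (huniv Q (isConj_trans F hconjs hQ)) hleads
  have hinj := F.injective_of_mem hρN
  have hrange : (ρ.comp (Subgroup.inclusion hNX)).range = FusionSystem.normalizerIn S (imgSub χ Pt) := by
    haveI := finite_normalizerIn (S := S) (imgSub χ Pt)
    apply Subgroup.eq_of_le_of_card_ge
    · rintro _ ⟨n, rfl⟩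
      exact leads_values F hρN hρNP n
    · have h1 := (huniv _ hconjs).card_le
      have h2 : Nat.card (ρ.comp (Subgroup.inclusion hNX)).range =
          Nat.card (FusionSystem.normalizerIn S Pt) := by
        rw [← imgSub_self, card_imgSub hinj le_rfl]
      rw [h2]
      exact h1
  have hhat := hatSub_imgSub F p hPtS hρN hρNP hrange
  rw [hρNR] at hhat
  refine ⟨imgSub χ Pt, hconjs, hunivs, ?_, ?_⟩
  · rw [hhat]
    exact hK
  · obtain ⟨g, hg, hgP⟩ := hPne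
    have hgN := hatSub_le_normalizerIn F p Pt hg
    refine ⟨(ρ.comp (Subgroup.inclusion hNX)) ⟨g, hgN⟩, ?_, ?_⟩
    · rw [hhat, ← hρNR]
      exact imgSub_mem _ hg
    · rw [← hρNP, mem_imgSub_iff_of_injective hinj]
      exact hgP

theorem false_of_star_top [Finite S] (F : FusionSystem S) (p : ℕ)
    (hstar : F.IsCentric S → ∃ Q, F.IsConj S Q ∧ ¬ (autInducedBy S Q ⊓ opAut F p Q ≤ Inn Q)) : False := by
  have hQeq : ∀ Q, F.IsConj S Q → Q = S := by
    intro Q hQ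
    have h1 := card_eq_of_isConj F hQ
    exact Subgroup.eq_of_le_of_card_ge (isConj_le_right F hQ) h1.le
  have hc : F.IsCentric S := by
    refine ⟨le_rfl, fun Q hQ => ?_⟩
    rw [hQeq Q hQ]
    exact inf_le_left
  obtain ⟨Q, hQ, hnot⟩ := hstar hc
  have hQS := hQeq Q hQ
  subst hQS
  apply hnot
  rintro α ⟨hα, _⟩
  obtain ⟨g, hg, hgN, rfl⟩ := mem_autInducedBy_iff.1 hα
  refine ⟨⟨g, hg⟩, ?_⟩
  ext x
  rfl

/-- the core of the saturation criterion: a class all of whose strictly larger subgroups have fully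
automized receptive conjugates, not needed for generation, and satisfying the `O_p` condition when centric,
contains a fully automized receptive member -/
theorem exists_fa_receptive_conj [Finite S] {p : ℕ} [Fact p.Prime] (hS : IsPGroup p S)
    (F : FusionSystem S) {P₀ : Subgroup Ω} (hP₀S : P₀ ≤ S)
    (above : ∀ R : Subgroup Ω, R ≤ S → Nat.card P₀ < Nat.card R →
      ∃ R', F.IsConj R R' ∧ F.IsFullyAutomized p R' ∧ F.IsReceptive R')
    (hgen : ∀ E : FusionSystem S, (∀ R, ¬ F.IsConj P₀ R → F.Hom R ⊆ E.Hom R) → F ≤ E)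
    (hstar : F.IsCentric P₀ → ∃ Q, F.IsConj P₀ Q ∧ ¬ (autInducedBy S Q ⊓ opAut F p Q ≤ Inn Q)) :
    ∃ Q, F.IsConj P₀ Q ∧ F.IsFullyAutomized p Q ∧ F.IsReceptive Q := by
  have hne : P₀ ≠ S := by
    intro heq
    subst heq
    exact false_of_star_top F p hstar
  -- the hypotheses pass to conjugates
  have habove : ∀ P', F.IsConj P₀ P' → ∀ R : Subgroup Ω, R ≤ S → Nat.card P' < Nat.card R →
      ∃ R', F.IsConj R R' ∧ F.IsFullyAutomized p R' ∧ F.IsReceptive R' := by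
    intro P' hP' R hRS hlt
    apply above R hRS
    rw [card_eq_of_isConj F hP']
    exact hlt
  have hgen' : ∀ P', F.IsConj P₀ P' → ∀ E : FusionSystem S,
      (∀ R, ¬ F.IsConj P' R → F.Hom R ⊆ E.Hom R) → F ≤ E := by
    intro P' hP' E hE
    apply hgen E
    intro R hR
    apply hE R
    intro hc
    exact hR (isConj_trans F hP' hc)
  have hstar' : ∀ P', F.IsConj P₀ P' → F.IsCentric P' →
      ∃ Q, F.IsConj P' Q ∧ ¬ (autInducedBy S Q ⊓ opAut F p Q ≤ Inn Q) := by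
    intro P' hP' hc
    have hc₀ : F.IsCentric P₀ :=
      ⟨hP₀S, fun Q hQ => hc.2 Q (isConj_trans F (isConj_symm F hP') hQ)⟩
    obtain ⟨Q, hQ, hnot⟩ := hstar hc₀
    exact ⟨Q, isConj_trans F (isConj_symm F hP') hQ, hnot⟩
  obtain ⟨Pt, hconj_t, hfn⟩ := exists_fullyNormalized_conj F hP₀S
  have hPtS : Pt ≤ S := hfn.1
  have hne_t : Pt ≠ S := by
    intro heq
    apply hne
    have h1 := card_eq_of_isConj F hconj_t
    rw [heq] at h1
    exact Subgroup.eq_of_le_of_card_ge hP₀S h1.ge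
  have huniv_t := exists_universal hS F hfn (habove Pt hconj_t) hne_t (hgen' Pt hconj_t)
  have hPne_t := exists_mem_hatSub_not_mem F hPtS huniv_t (hstar' Pt hconj_t)
  obtain ⟨Ps, hconj_s, huniv_s, hK, hPne_s⟩ :=
    exists_universal_kgood hS F hPtS huniv_t (habove Pt hconj_t) hPne_t
  have hconj₀s : F.IsConj P₀ Ps := isConj_trans F hconj_t hconj_s
  have hPsS : Ps ≤ S := isConj_le_right F hconj_s
  have hext_s := exists_hatAut_of_aut hS F hPsS huniv_s (habove Ps hconj₀s) hPne_s (hgen' Ps hconj₀s)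
  exact ⟨Ps, hconj₀s, fullyAutomized_of_kgood_hat hS F hPsS hK hext_s,
    receptive_of_kgood_hat hS F hPsS huniv_s hK hext_s⟩

end Cfsg.Agent.Lib.Helper29
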