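import Cfsg.Prelude.Def_FusionComponents
import Cfsg.Agent.Lib.Helper29.PrimeToPIndex
import Cfsg.Agent.Lib.Helper29.FusionSub
import Cfsg.Agent.Lib.Helper29.SatLeads
import Cfsg.Agent.S5110

/-!
The `p'`-residual subsystem `O^{p'}(F)` of a saturated fusion system (AKO Theorem I.7.7): existence.
-/
set_option autoImplicit false

namespace Cfsg.Agent.Lib.Helper29
open Cfsg

variable {Ω : Type*} [Group Ω] {S : Subgroup Ω}

/-- the family of subsystems of `F` containing `O^{p'}(Aut_F(P))` for the centric `P` -/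
def InFam (F : FusionSystem S) (p : ℕ) (E' : FusionSystem S) : Prop :=
  E'.IsSubsystemOf F ∧ ∀ P : Subgroup Ω, F.IsCentric P → OpP F p P ≤ E'.autGroup P

theorem opP_le_autGroup (F : FusionSystem S) (p : ℕ) (P : Subgroup Ω) : OpP F p P ≤ F.autGroup P := by
  rintro _ ⟨a, _, rfl⟩
  exact a.2

/-- two inverses of the same map agree -/
theorem inv_unique {A : Subgroup Ω} {φ : A →* Ω} {ψ ψ' : φ.range →* Ω}
    (h : ∀ x : A, ψ ⟨φ x, ⟨x, rfl⟩⟩ = x) (h' : ∀ x : A, ψ' ⟨φ x, ⟨x, rfl⟩⟩ = x) : ψ = ψ' := by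
  ext y
  obtain ⟨y, x, rfl⟩ := y
  rw [h, h']

/-- the intersection of a subsystem with `F` -/
theorem exists_inter (F E' : FusionSystem S) :
    ∃ E : FusionSystem S, ∀ (A : Subgroup Ω) (φ : A →* Ω), φ ∈ E.Hom A ↔ φ ∈ F.Hom A ∧ φ ∈ E'.Hom A :=
  exists_subsystem F (fun A φ => φ ∈ E'.Hom A)
    (fun _ _ hA hg => E'.conj_mem hA hg)
    (fun _ _ _ _ h _ _ hφ hψ => E'.comp_mem hφ hψ h)
    (by
      intro A φ ψ _ _ hinv hφ
      obtain ⟨ψ', hψ', hinv'⟩ := E'.inv_mem hφ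
      rw [inv_unique hinv hinv']
      exact hψ')

/-- the intersection of the family -/
theorem exists_interFam (F : FusionSystem S) (p : ℕ) :
    ∃ E₀ : FusionSystem S, InFam F p E₀ ∧ ∀ E' : FusionSystem S, InFam F p E' → E₀ ≤ E' := by
  obtain ⟨E₀, hE₀⟩ := exists_subsystem F
    (fun A φ => ∀ E' : FusionSystem S, InFam F p E' → φ ∈ E'.Hom A)
    (fun _ _ hA hg E' _ => E'.conj_mem hA hg)
    (fun _ _ _ _ h _ _ hφ hψ E' hE' => E'.comp_mem (hφ E' hE') (hψ E' hE') h)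
    (by
      intro A φ ψ _ _ hinv hφ E' hE'
      obtain ⟨ψ', hψ', hinv'⟩ := E'.inv_mem (hφ E' hE')
      rw [inv_unique hinv hinv']
      exact hψ')
  refine ⟨E₀, ⟨fun P φ hφ => ((hE₀ P φ).1 hφ).1, ?_⟩, fun E' hE' P φ hφ => ((hE₀ P φ).1 hφ).2 E' hE'⟩
  intro P hPc ω hω
  have hPS := hPc.1
  rw [mem_autGroup_iff E₀ hPS, hE₀]
  exact ⟨(mem_autGroup_iff F hPS).1 (opP_le_autGroup F p P hω),
    fun E' hE' => (mem_autGroup_iff E' hPS).1 (hE'.2 P hPc hω)⟩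

/-- the smallest member of the family; it is invariant under `Aut_F(S)` -/
theorem exists_minimal_fam (F : FusionSystem S) (p : ℕ) :
    ∃ E₁ : FusionSystem S, InFam F p E₁ ∧ InvCond E₁ F ∧
      ∀ E' : FusionSystem S, InFam F p E' → E₁ ≤ E' := by
  obtain ⟨E₀, hE₀, hmin⟩ := exists_interFam F p
  obtain ⟨E₁, hE₁⟩ := exists_invariantCore E₀ F
  have hle : E₁ ≤ E₀ := fun P φ hφ => ((hE₁ P φ).1 hφ).1
  exact ⟨E₁, ⟨fun P φ hφ => hE₀.1 P (hle P hφ), opP_le_core hE₁ hE₀.2⟩, invCond_of_core hE₁,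
    fun E' hE' P φ hφ => hmin E' hE' P (hle P hφ)⟩


section goodA

variable {T : Subgroup Ω}

/-- a map is `A`-good if it is an `E`-map followed by an element of the subgroup `A` of `Aut(T)` -/
def GoodA (A : Subgroup (MulAut T)) (E : FusionSystem T) (P : Subgroup Ω) (φ : P →* Ω) : Prop :=
  ∃ α ∈ A, ∃ φ₀ ∈ E.Hom P, ∀ (x : P) (hx : φ₀ x ∈ T), φ x = ((α ⟨φ₀ x, hx⟩ : T) : Ω)

theorem goodA_of_mem (A : Subgroup (MulAut T)) {E : FusionSystem T} {P : Subgroup Ω} {φ : P →* Ω}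
    (hφ : φ ∈ E.Hom P) : GoodA A E P φ :=
  ⟨1, Subgroup.one_mem _, φ, hφ, fun _ _ => rfl⟩

theorem goodA_comp {A : Subgroup (MulAut T)} {E : FusionSystem T} {F : FusionSystem S}
    (hinv : InvCond E F) (hA : A ≤ F.autGroup T) {P P' : Subgroup Ω}
    {φ : P →* Ω} {ψ : P' →* Ω} (hφ : GoodA A E P φ) (hψ : GoodA A E P' ψ) (h : ∀ x : P, φ x ∈ P')
    {χ : P →* Ω} (hχ : ∀ x : P, χ x = ψ ⟨φ x, h x⟩) : GoodA A E P χ := by
  obtain ⟨α, hα, φ₀, hφ₀, hφe⟩ := hφ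
  obtain ⟨β, hβ, ψ₀, hψ₀, hψe⟩ := hψ
  have hP'T : P' ≤ T := (E.le_of_mem hψ₀).1
  have hφ₀T : ∀ x, φ₀ x ∈ T := (E.le_of_mem hφ₀).2
  have hψ₀T : ∀ x, ψ₀ x ∈ T := (E.le_of_mem hψ₀).2
  have hαi : α⁻¹ ∈ F.autGroup T := (F.autGroup T).inv_mem (hA hα)
  obtain ⟨θ, hθ, hθe⟩ := hinv.exists_hom hψ₀ hαi
    (P' := (P'.subgroupOf T).map (T.subtype.comp (α⁻¹).toMonoidHom)) (by
      intro y
      constructor
      · rintro ⟨x, hx, rfl⟩
        exact ⟨⟨x.1, hx⟩, rfl⟩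
      · rintro ⟨x, rfl⟩
        exact ⟨⟨x.1, hP'T x.2⟩, x.2, rfl⟩)
  have key : ∀ x : P, (⟨φ x, hP'T (h x)⟩ : T) = α ⟨φ₀ x, hφ₀T x⟩ := fun x => Subtype.ext (hφe x _)
  have key2 : ∀ x : P, α⁻¹ (⟨φ x, hP'T (h x)⟩ : T) = ⟨φ₀ x, hφ₀T x⟩ := by
    intro x
    rw [key, MulAut.inv_apply_self]
  have hφ₀P'' : ∀ x : P, φ₀ x ∈ (P'.subgroupOf T).map (T.subtype.comp (α⁻¹).toMonoidHom) := by
    intro x
    refine ⟨⟨φ x, hP'T (h x)⟩, h x, ?_⟩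
    show ((α⁻¹ (⟨φ x, hP'T (h x)⟩ : T) : T) : Ω) = φ₀ x
    rw [key2]
  refine ⟨β * α, A.mul_mem hβ hα, θ.comp (φ₀.codRestrict _ hφ₀P''),
    E.comp_mem hφ₀ hθ hφ₀P'', fun x hx => ?_⟩
  have e : (⟨ψ₀ ⟨φ x, h x⟩, hψ₀T _⟩ : T) =
      α ⟨(θ.comp (φ₀.codRestrict _ hφ₀P'')) x, hx⟩ := by
    apply α⁻¹.injective
    rw [MulAut.inv_apply_self]
    apply Subtype.ext
    show ((α⁻¹ (⟨ψ₀ ⟨φ x, h x⟩, hψ₀T _⟩ : T) : T) : Ω) = θ ⟨φ₀ x, hφ₀P'' x⟩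
    have h2 : (((α⁻¹ : MulAut T) ⟨((⟨φ x, h x⟩ : P') : Ω), hP'T (h x)⟩ : T) : Ω) ∈
        (P'.subgroupOf T).map (T.subtype.comp (α⁻¹).toMonoidHom) :=
      ⟨⟨φ x, hP'T (h x)⟩, h x, rfl⟩
    have h1 := hθe ⟨φ x, h x⟩ h2
    have h3 : (⟨φ₀ x, hφ₀P'' x⟩ : ↥((P'.subgroupOf T).map (T.subtype.comp (α⁻¹).toMonoidHom))) =
        ⟨(((α⁻¹ : MulAut T) ⟨((⟨φ x, h x⟩ : P') : Ω), hP'T (h x)⟩ : T) : Ω), h2⟩ := by
      apply Subtype.ext
      show φ₀ x = ((α⁻¹ (⟨φ x, hP'T (h x)⟩ : T) : T) : Ω)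
      rw [key2]
    rw [h3, h1]
  rw [hχ, hψe _ (hψ₀T _), MulAut.mul_apply, e]

theorem goodA_inv {A : Subgroup (MulAut T)} {E : FusionSystem T} {F : FusionSystem S}
    (hinv : InvCond E F) (hA : A ≤ F.autGroup T) {P P' : Subgroup Ω}
    {φ : P →* Ω} (hφ : GoodA A E P φ) (hr : φ.range = P') {ψ : P' →* Ω}
    (hψ : ∀ (x : P) (h : φ x ∈ P'), ψ ⟨φ x, h⟩ = x) : GoodA A E P' ψ := by
  obtain ⟨α, hα, φ₀, hφ₀, hφe⟩ := hφ
  obtain ⟨θ, hθ, hθe⟩ := E.inv_mem hφ₀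
  have hPT : P ≤ T := (E.le_of_mem hφ₀).1
  have hφ₀T : ∀ x, φ₀ x ∈ T := (E.le_of_mem hφ₀).2
  have hαi : α⁻¹ ∈ A := A.inv_mem hα
  obtain ⟨χ, hχ, hχe⟩ := hinv.exists_hom hθ (hA hα) (P' := P') (by
      intro y
      rw [← hr]
      constructor
      · rintro ⟨x, rfl⟩
        exact ⟨⟨φ₀ x, ⟨x, rfl⟩⟩, (hφe x _).symm⟩
      · rintro ⟨⟨_, x, rfl⟩, rfl⟩
        exact ⟨x, hφe x _⟩)
  have hχT : ∀ y, χ y ∈ T := (E.le_of_mem hχ).2
  refine ⟨α⁻¹, hαi, χ, hχ, fun y hy => ?_⟩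
  have hy' : (y : Ω) ∈ φ.range := hr ▸ y.2
  obtain ⟨x, hx⟩ := hy'
  have hxP' : φ x ∈ P' := hx ▸ y.2
  have ey : y = ⟨φ x, hxP'⟩ := Subtype.ext hx.symm
  have h1 : (((α ⟨((⟨φ₀ x, ⟨x, rfl⟩⟩ : φ₀.range) : Ω), hφ₀T x⟩ : T) : T) : Ω) ∈ P' := by
    have : (((α ⟨φ₀ x, hφ₀T x⟩ : T) : T) : Ω) = φ x := (hφe x _).symm
    rw [this]
    exact hxP'
  have h2 := hχe ⟨φ₀ x, ⟨x, rfl⟩⟩ h1
  have h3 : χ y = ((α ⟨x, hPT x.2⟩ : T) : Ω) := by
    rw [ey]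
    have e1 : (⟨φ x, hxP'⟩ : P') = ⟨(((α ⟨((⟨φ₀ x, ⟨x, rfl⟩⟩ : φ₀.range) : Ω), hφ₀T x⟩ : T) : T) : Ω), h1⟩ :=
      Subtype.ext (hφe x _)
    rw [e1, h2]
    congr 2
    apply Subtype.ext
    exact hθe x
  have h4 : (⟨χ y, hy⟩ : T) = α ⟨x, hPT x.2⟩ := Subtype.ext h3
  rw [h4, MulAut.inv_apply_self, ey]
  exact hψ x hxP'

end goodA

/-- `Aut_F^0(S)`: generated by the `F`-automorphisms of `S` whose restriction to some `F`-centric subgroup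
lies in `E₁` -/
def A0 (F E₁ : FusionSystem S) : Subgroup (MulAut S) :=
  Subgroup.closure {α | α ∈ F.autGroup S ∧ ∃ (P : Subgroup Ω) (hPS : P ≤ S), F.IsCentric P ∧
      (S.subtype.comp α.toMonoidHom).comp (Subgroup.inclusion hPS) ∈ E₁.Hom P}

theorem A0_le (F E₁ : FusionSystem S) : A0 F E₁ ≤ F.autGroup S :=
  (Subgroup.closure_le _).2 (fun _ h => h.1)

/-- the candidate for `O^{p'}(F)` -/
theorem exists_resid (F E₁ : FusionSystem S) (hinv : InvCond E₁ F) :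
    ∃ E : FusionSystem S, ∀ (A : Subgroup Ω) (φ : A →* Ω),
      φ ∈ E.Hom A ↔ φ ∈ F.Hom A ∧ GoodA (A0 F E₁) E₁ A φ :=
  exists_subsystem F (fun A φ => GoodA (A0 F E₁) E₁ A φ)
    (fun _ _ hA hg => goodA_of_mem _ (E₁.conj_mem hA hg))
    (fun _ _ _ _ h _ _ hφ hψ => goodA_comp hinv (A0_le F E₁) hφ hψ h (fun _ => rfl))
    (fun _ _ _ _ _ hi hφ => goodA_inv hinv (A0_le F E₁) hφ rfl (fun x _ => hi x))

theorem isCentric_top [Finite S] (F : FusionSystem S) : F.IsCentric S := by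
  refine ⟨le_rfl, fun Q hQ => ?_⟩
  have hQS := isConj_le_right F hQ
  have hc := card_eq_of_isConj F hQ
  have : Q = S := Subgroup.eq_of_le_of_card_ge hQS hc.le
  rw [this]
  exact inf_le_left

theorem autGroup_mono {E F : FusionSystem S} (h : E ≤ F) (P : Subgroup Ω) : E.autGroup P ≤ F.autGroup P :=
  Subgroup.closure_mono (fun _ hα => h P hα)

/-- an automorphism of `S` does not decrease the order of the normalizer in `S` -/
theorem card_normalizerIn_le_of_autImg [Finite S] {β : MulAut S} {Q R : Subgroup Ω} (hQS : Q ≤ S)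
    (hR : IsAutImg β Q R) :
    Nat.card (FusionSystem.normalizerIn S R) ≤ Nat.card (FusionSystem.normalizerIn S Q) := by
  haveI := finite_normalizerIn (S := S) Q
  have himg : imgSub (S.subtype.comp (β⁻¹).toMonoidHom) R = Q := by
    ext y
    rw [mem_imgSub]
    constructor
    · rintro ⟨x, hx, rfl⟩
      obtain ⟨x', hx', hx'Q, hxe⟩ := (hR _).1 hx
      have e : x = β ⟨x', hx'⟩ := Subtype.ext hxe.symm
      show ((β⁻¹ x : S) : Ω) ∈ Q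
      rw [e, MulAut.inv_apply_self]
      exact hx'Q
    · intro hy
      refine ⟨β ⟨y, hQS hy⟩, (hR _).2 ⟨y, hQS hy, hy, rfl⟩, ?_⟩
      show ((β⁻¹ (β ⟨y, hQS hy⟩) : S) : Ω) = y
      rw [MulAut.inv_apply_self]
  have key : ∀ m : FusionSystem.normalizerIn S R,
      ((β⁻¹ ⟨m.1, m.2.1⟩ : S) : Ω) ∈ FusionSystem.normalizerIn S Q := by
    intro m
    refine ⟨(β⁻¹ _).2, ?_⟩
    have h1 := imgSub_normalizer (S.subtype.comp (β⁻¹).toMonoidHom) (Q := R) (g := ⟨m.1, m.2.1⟩) m.2.2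
    rw [himg] at h1
    exact h1
  apply Nat.card_le_card_of_injective (fun m => (⟨_, key m⟩ : FusionSystem.normalizerIn S Q))
  intro m m' hmm
  have h1 : ((β⁻¹ ⟨m.1, m.2.1⟩ : S) : Ω) = ((β⁻¹ ⟨m'.1, m'.2.1⟩ : S) : Ω) :=
    congrArg (fun z : FusionSystem.normalizerIn S Q => (z : Ω)) hmm
  have h2 : (⟨m.1, m.2.1⟩ : S) = ⟨m'.1, m'.2.1⟩ := (β⁻¹).injective (Subtype.ext h1)
  exact Subtype.ext (congrArg (fun z : S => (z : Ω)) h2)

/-- if every `F`-map is an `E`-map followed by an automorphism of `S`, fully `E`-normalized subgroups are fully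
`F`-normalized -/
theorem fullyNormalized_of_frattini [Finite S] {E F : FusionSystem S}
    (hfr : ∀ (P : Subgroup Ω) (φ : P →* Ω), φ ∈ F.Hom P → Good E F P φ) {Q : Subgroup Ω}
    (hQ : E.IsFullyNormalized Q) : F.IsFullyNormalized Q := by
  refine ⟨hQ.1, ?_⟩
  rintro R ⟨ψ, hψ, rfl⟩
  obtain ⟨β, _, ψ₀, hψ₀, he⟩ := hfr Q ψ hψ
  have hψ₀S : ∀ x, ψ₀ x ∈ S := (E.le_of_mem hψ₀).2
  have h1 := hQ.2 ψ₀.range ⟨ψ₀, hψ₀, rfl⟩
  have h2 : IsAutImg β ψ₀.range ψ.range := by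
    intro y
    constructor
    · rintro ⟨x, rfl⟩
      exact ⟨ψ₀ x, hψ₀S x, ⟨x, rfl⟩, (he x _).symm⟩
    · rintro ⟨_, hx, ⟨x, rfl⟩, rfl⟩
      exact ⟨x, he x _⟩
  exact (card_normalizerIn_le_of_autImg (range_le_of_hom_mem E hψ₀) h2).trans h1

section main

variable [Finite S] {p : ℕ} [Fact p.Prime] (hS : IsPGroup p S) {F : FusionSystem S} (hF : F.IsSaturated p)
  {E₁ E : FusionSystem S} (hfam : InFam F p E₁)
  (hfr : ∀ (P : Subgroup Ω) (φ : P →* Ω), φ ∈ F.Hom P → Good E₁ F P φ)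
  (hE : ∀ (A : Subgroup Ω) (φ : A →* Ω), φ ∈ E.Hom A ↔ φ ∈ F.Hom A ∧ GoodA (A0 F E₁) E₁ A φ)
  (hmin : ∀ E' : FusionSystem S, InFam F p E' → E₁ ≤ E')

include hfam hE in
theorem resid_ge : E₁ ≤ E := fun P φ hφ => (hE P φ).2 ⟨hfam.1 P hφ, goodA_of_mem _ hφ⟩

include hfam hfr hE in
/-- receptive `F`-centric subgroups are receptive in the residual -/
theorem resid_receptive {Q : Subgroup Ω} (hQc : F.IsCentric Q) (hQr : F.IsReceptive Q) :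
    E.IsReceptive Q := by
  refine ⟨hQr.1, fun P' φ hφ hr => ?_⟩
  obtain ⟨hφF, α, hα, φ₀, hφ₀, hφe⟩ := (hE P' φ).1 hφ
  obtain ⟨ψ, hψ, hψe⟩ := hQr.2 P' φ hφF hr
  refine ⟨ψ, (hE _ ψ).2 ⟨hψ, ?_⟩, hψe⟩
  obtain ⟨β, hβ, ψ₀, hψ₀, hψ₀e⟩ := hfr _ ψ hψ
  have hP'N : P' ≤ FusionSystem.extender S P' φ := le_extender F hφF
  have hφ₀S : ∀ x, φ₀ x ∈ S := (E₁.le_of_mem hφ₀).2
  have hψ₀S : ∀ x, ψ₀ x ∈ S := (E₁.le_of_mem hψ₀).2
  have hρ : ψ₀.comp (Subgroup.inclusion hP'N) ∈ E₁.Hom P' := restrict_mem E₁ hP'N hψ₀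
  obtain ⟨θ, hθ, hθe⟩ := E₁.inv_mem hρ
  have hP₀S : (ψ₀.comp (Subgroup.inclusion hP'N)).range ≤ S := range_le_of_hom_mem E₁ hρ
  have hP₀c : F.IsCentric (ψ₀.comp (Subgroup.inclusion hP'N)).range := by
    have h1 : F.IsConj Q P' := isConj_symm F ⟨φ, hφF, hr⟩
    have h2 : F.IsConj P' (ψ₀.comp (Subgroup.inclusion hP'N)).range := ⟨_, hfam.1 P' hρ, rfl⟩
    exact isCentric_of_isConj F (isCentric_of_isConj F hQc h1) h2
  have hθP' : ∀ y : (ψ₀.comp (Subgroup.inclusion hP'N)).range, θ y ∈ P' := by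
    rintro ⟨_, x, rfl⟩
    rw [hθe x]
    exact x.2
  have hmem : α⁻¹ * β ∈ A0 F E₁ := by
    apply Subgroup.subset_closure
    refine ⟨(F.autGroup S).mul_mem ((F.autGroup S).inv_mem (A0_le F E₁ hα)) hβ, _, hP₀S, hP₀c, ?_⟩
    apply comp_mem' E₁ hθ hφ₀ hθP'
    rintro ⟨_, x, rfl⟩
    have e1 : (⟨θ ⟨(ψ₀.comp (Subgroup.inclusion hP'N)) x, ⟨x, rfl⟩⟩, hθP' _⟩ : P') = x :=
      Subtype.ext (hθe x)
    rw [e1]
    show (((α⁻¹ * β) ⟨ψ₀ (Subgroup.inclusion hP'N x), hψ₀S _⟩ : S) : Ω) = φ₀ x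
    rw [MulAut.mul_apply]
    have e2 : β ⟨ψ₀ (Subgroup.inclusion hP'N x), hψ₀S _⟩ = α ⟨φ₀ x, hφ₀S x⟩ := by
      apply Subtype.ext
      rw [← hψ₀e _ (hψ₀S _), ← hφe x (hφ₀S x)]
      exact hψe x.1 x.2 (hP'N x.2)
    rw [e2, MulAut.inv_apply_self]
  refine ⟨β, ?_, ψ₀, hψ₀, hψ₀e⟩
  have : β = α * (α⁻¹ * β) := by group
  rw [this]
  exact (A0 F E₁).mul_mem hα hmem

include hfam hE hmin in
/-- the residual is generated by its maps between `F`-centric subgroups -/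
theorem resid_gen (E' : FusionSystem S) (h : ∀ P, F.IsCentric P → E.Hom P ⊆ E'.Hom P) : E ≤ E' := by
  have hE₁E : E₁ ≤ E := resid_ge hfam hE
  obtain ⟨E'', hE''⟩ := exists_inter F E'
  have hfam'' : InFam F p E'' := by
    refine ⟨fun P φ hφ => ((hE'' P φ).1 hφ).1, fun P hPc ω hω => ?_⟩
    have hPS := hPc.1
    rw [mem_autGroup_iff E'' hPS, hE'']
    have h1 : P.subtype.comp ω.toMonoidHom ∈ E₁.Hom P := (mem_autGroup_iff E₁ hPS).1 (hfam.2 P hPc hω)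
    exact ⟨hfam.1 P h1, h P hPc (hE₁E P h1)⟩
  have hE₁E' : E₁ ≤ E' := fun P φ hφ => ((hE'' P φ).1 (hmin E'' hfam'' P hφ)).2
  intro P φ hφ
  obtain ⟨hφF, α, hα, φ₀, hφ₀, hφe⟩ := (hE P φ).1 hφ
  have hαE : S.subtype.comp α.toMonoidHom ∈ E.Hom S :=
    (hE S _).2 ⟨(mem_autGroup_iff F le_rfl).1 (A0_le F E₁ hα), α, hα, S.subtype, subtype_mem E₁ le_rfl,
      fun x hx => rfl⟩
  have hαE' := h S (isCentric_top F) hαE
  exact comp_mem' E' (hE₁E' P hφ₀) hαE' (E₁.le_of_mem hφ₀).2 (fun x => hφe x _)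

include hS hF hE hmin in
/-- the residual lies in every saturated subsystem of index prime to `p` -/
theorem resid_min (D : FusionSystem S) (hD : D.IsSaturated p) (hDF : D.HasPrimeToPIndexIn F p) :
    E.IsSubsystemOf D := by
  have hDfam : InFam F p D := ⟨hDF.1, fun P hPc => hDF.2 P hPc.1⟩
  have hE₁D : E₁ ≤ D := hmin D hDfam
  have hA : A0 F E₁ ≤ D.autGroup S := by
    unfold A0
    rw [Subgroup.closure_le]
    rintro α ⟨hα, P, hPS, hPc, hαP⟩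
    rw [SetLike.mem_coe, mem_autGroup_iff D le_rfl]
    exact mem_sub_of_restrict_centric p hS F hF D hD hDF.1 _ hPS hPc
      ((mem_autGroup_iff F le_rfl).1 hα) (hE₁D P hαP) rfl
  intro P φ hφ
  obtain ⟨hφF, α, hα, φ₀, hφ₀, hφe⟩ := (hE P φ).1 hφ
  exact comp_mem' D (hE₁D P hφ₀) ((mem_autGroup_iff D le_rfl).1 (hA hα)) (E₁.le_of_mem hφ₀).2
    (fun x => hφe x _)

include hS hF hfam hfr hE hmin in
/-- the residual is saturated -/
theorem resid_sat (hcen : ∀ P, E.IsCentric P ↔ F.IsCentric P) : E.IsSaturated p := by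
  have hE₁E : E₁ ≤ E := resid_ge hfam hE
  have hEF : E ≤ F := fun P φ hφ => ((hE P φ).1 hφ).1
  have hfrE : ∀ (P : Subgroup Ω) (φ : P →* Ω), φ ∈ F.Hom P → Good E F P φ := by
    intro P φ hφ
    obtain ⟨α, hα, φ₀, hφ₀, he⟩ := hfr P φ hφ
    exact ⟨α, hα, φ₀, hE₁E P hφ₀, he⟩
  apply Cfsg.Agent.S5110.result p hS E {P | F.IsCentric P}
  · exact fun P hP => hP.1
  · exact fun P hP Q hPQ => isCentric_of_isConj F hP (isConj_of_le hEF hPQ)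
  · intro P hPc
    obtain ⟨Q, hPQ, hQfn⟩ := exists_fullyNormalized_conj E hPc.1
    have hQF : F.IsFullyNormalized Q := fullyNormalized_of_frattini hfrE hQfn
    have hsat := (Cfsg.Agent.S5077.result p hS F).1 hF
    obtain ⟨hQfc, hQfa⟩ := hsat.1 Q hQF
    have hQrec := hsat.2 Q hQfc
    have hQc : F.IsCentric Q := isCentric_of_isConj F hPc (isConj_of_le hEF hPQ)
    refine ⟨Q, hPQ, ⟨hQfa.1, ?_⟩, resid_receptive hfam hfr hE hQc hQrec⟩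
    haveI : Finite Q := finite_of_le hQfa.1
    exact IsSylowSub.of_le (autInducedBy_le_autGroup E hQfa.1) (autGroup_mono hEF Q) hQfa.2
  · exact resid_gen hfam hE hmin
  · intro P hPE hPn
    exact absurd ((hcen P).1 hPE) hPn

end main

/-- AKO Theorem I.7.7, existence: a saturated fusion system has a `p'`-residual subsystem -/
theorem exists_pPrimeResidual [Finite S] {p : ℕ} [Fact p.Prime] (hS : IsPGroup p S) (F : FusionSystem S)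
    (hF : F.IsSaturated p) : ∃ E : FusionSystem S, F.IsPPrimeResidual p E := by
  obtain ⟨E₁, hfam, hinv, hmin⟩ := exists_minimal_fam F p
  obtain ⟨_, hfr, _⟩ := primeToPIndex_of_centric hS F hF E₁ hfam.1 hfam.2
  obtain ⟨E, hE⟩ := exists_resid F E₁ hinv
  have hE₁E : E₁ ≤ E := resid_ge hfam hE
  have hEF : E.IsSubsystemOf F := fun P φ hφ => ((hE P φ).1 hφ).1
  obtain ⟨hidx, _, hcen⟩ := primeToPIndex_of_centric hS F hF E hEF
    (fun P hP => (hfam.2 P hP).trans (autGroup_mono hE₁E P))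
  exact ⟨E, resid_sat hS hF hfam hfr hE hmin hcen, hidx,
    fun D hD hDF => resid_min hS hF hE hmin D hD hDF⟩
end Cfsg.Agent.Lib.Helper29
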