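import Cfsg.Agent.Lib.Helper29.HyperfocalPPower

/-!
The residual limit of a saturated subsystem of `p`-power index over a strongly closed subgroup is the
residual limit of the whole system.
-/

set_option autoImplicit false
open Cfsg

namespace Cfsg.Agent.Lib.Helper29

universe u

variable {Ω : Type u} [Group Ω] {S : Subgroup Ω}

/-- `p`-power index is transitive (through a saturated subsystem over a strongly closed subgroup) -/
theorem pPowerIndex_trans [Finite S] (p : ℕ) [Fact p.Prime] (hS : IsPGroup p S)
    (F : FusionSystem S) {T : Subgroup Ω} (E : FusionSystem T) (hEs : E.IsSaturated p)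
    (hidx : E.HasPPowerIndexIn F p) (hT : F.StronglyClosed T) {H : Subgroup Ω} (D : FusionSystem H)
    (hD : D.HasPPowerIndexIn E p) : D.HasPPowerIndexIn F p := by
  have hHT : H ≤ T := (E.le_of_mem (hD.1 H (subtype_mem D le_rfl))).1
  refine ⟨fun P φ hφ => hidx.1 P (hD.1 P hφ),
    (hyperfocal_le_of_pPowerIndex p hS F E hEs hidx hT).trans hD.2.1, fun P hPH => ?_⟩
  have hPT : P ≤ T := hPH.trans hHT
  rintro _ ⟨a, ha, rfl⟩
  unfold pResidual at ha
  induction ha using Subgroup.closure_induction with
  | mem g hg =>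
    have hg' : Nat.Coprime (orderOf g) p := hg
    have hgE : (g : MulAut P) ∈ E.autGroup P :=
      hidx.2.2 P hPT ⟨g, Subgroup.subset_closure hg, rfl⟩
    have hgm : (⟨(g : MulAut P), hgE⟩ : E.autGroup P) ^ orderOf g = 1 := by
      apply Subtype.ext
      rw [Subgroup.coe_pow]
      have := congrArg Subtype.val (pow_orderOf_eq_one g)
      rw [Subgroup.coe_pow] at this
      exact this
    exact hD.2.2 P hPH ⟨_, mem_pResidual_of_pow_eq_one hg' hgm, rfl⟩
  | one => exact Subgroup.one_mem _
  | mul a b _ _ iha ihb =>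
    have e : (F.autGroup P).subtype (a * b) = (F.autGroup P).subtype a * (F.autGroup P).subtype b := rfl
    rw [e]
    exact Subgroup.mul_mem _ iha ihb
  | inv a _ iha =>
    have e : (F.autGroup P).subtype a⁻¹ = ((F.autGroup P).subtype a)⁻¹ := rfl
    rw [e]
    exact Subgroup.inv_mem _ iha

theorem limit_transport_stable {p : ℕ} (F : FusionSystem S) (H : Subgroup Ω)
    (hH : H = F.hyperfocalSubgroup p) (E : FusionSystem H) (hEs : E.IsSaturated p)
    (hidx : E.HasPPowerIndexIn F p) (h1 : E.hyperfocalSubgroup p = H) (h2 : E.IsPPrimeResidual p E) :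
    FusionSystem.IsResidualLimitOf E F p := by
  subst hH
  exact FusionSystem.IsResidualLimitOf.step F p E E ⟨hEs, hidx⟩ h2
    (FusionSystem.IsResidualLimitOf.stable E p h1 h2)

theorem limit_transport_step {p : ℕ} (F : FusionSystem S) (H : Subgroup Ω)
    (hH : H = F.hyperfocalSubgroup p) (D D' : FusionSystem H) (hDs : D.IsSaturated p)
    (hidx : D.HasPPowerIndexIn F p) (hD' : D.IsPPrimeResidual p D') {V : Subgroup Ω}
    {L : FusionSystem V} (hL : FusionSystem.IsResidualLimitOf L D' p) :
    FusionSystem.IsResidualLimitOf L F p := by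
  subst hH
  exact FusionSystem.IsResidualLimitOf.step F p D D' ⟨hDs, hidx⟩ hD' hL

theorem residualLimit_eq_of_pPowerIndex [Finite S] (p : ℕ) [Fact p.Prime] (hS : IsPGroup p S)
    (F : FusionSystem S) {T : Subgroup Ω} (E : FusionSystem T) (hEs : E.IsSaturated p)
    (hidx : E.HasPPowerIndexIn F p) (hT : F.StronglyClosed T) {U V : Subgroup Ω}
    (Finf : FusionSystem U) (hFinf : Finf.IsResidualLimitOf F p) (Einf : FusionSystem V)
    (hEinf : Einf.IsResidualLimitOf E p) : ∀ P : Subgroup Ω, Finf.Hom P = Einf.Hom P := by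
  have heq := hyperfocal_eq_of_pPowerIndex p hS F E hEs hidx hT
  have key : FusionSystem.IsResidualLimitOf Einf F p := by
    cases hEinf with
    | stable _ _ h1 h2 =>
      exact limit_transport_stable F _ (h1.symm.trans heq) _ hEs hidx h1 h2
    | step _ _ D D' hD hD' hL =>
      exact limit_transport_step F _ heq D D' hD.1 (pPowerIndex_trans p hS F E hEs hidx hT D hD.2) hD' hL
  exact (limit_unique hFinf inferInstance hS Einf key).2

end Cfsg.Agent.Lib.Helper29
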