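import Cfsg.Agent.Lib.Helper29.PPIFunctor
import Cfsg.Agent.Lib.Helper29.ResidualLimitNormal
import Cfsg.Agent.Lib.Helper29.PPrimeResidual

/-!
The kernel of the functor `θ`: a fusion system over `T = ker λ` of `p`-power index.
-/
set_option autoImplicit false

namespace Cfsg.Agent.Lib.Helper29
open Cfsg

variable {Ω : Type*} [Group Ω] {S : Subgroup Ω} {C : Type*} [CommGroup C]

/-- the data for the kernel system -/
structure KerCtx (p : ℕ) (F : FusionSystem S) (lam : S →* C) (T : Subgroup Ω)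
    (th : (P : Subgroup Ω) → (P →* Ω) → C) : Prop where
  hinv : LamInv F lam
  hth : ThetaOn F lam {P | Type2 F lam P} th
  hTS : T ≤ S
  hT : ∀ (x : Ω) (hx : x ∈ S), x ∈ T ↔ lam ⟨x, hx⟩ = 1
  hsurj : Function.Surjective lam
  hcard : Nat.card C = p

namespace KerCtx

variable {p : ℕ} {F : FusionSystem S} {lam : S →* C} {T : Subgroup Ω}
  {th : (P : Subgroup Ω) → (P →* Ω) → C}

theorem map_mem (h : KerCtx p F lam T th) {P : Subgroup Ω} {φ : P →* Ω} (hφ : φ ∈ F.Hom P) {x : P}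
    (hx : (x : Ω) ∈ T) : φ x ∈ T := by
  rw [h.hT _ ((F.le_of_mem hφ).2 x), h.hinv P φ hφ x]
  exact (h.hT _ _).1 hx

theorem stronglyClosed (h : KerCtx p F lam T th) : F.StronglyClosed T :=
  ⟨h.hTS, fun _ hRT _ hφ x => h.map_mem hφ (hRT x.2)⟩

theorem conj_mem_T (h : KerCtx p F lam T th) {g t : Ω} (hg : g ∈ S) (ht : t ∈ T) : g * t * g⁻¹ ∈ T := by
  have htS := h.hTS ht
  rw [h.hT _ (S.mul_mem (S.mul_mem hg htS) (S.inv_mem hg))]
  have e : (⟨g * t * g⁻¹, S.mul_mem (S.mul_mem hg htS) (S.inv_mem hg)⟩ : S) =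
      ⟨g, hg⟩ * ⟨t, htS⟩ * ⟨g, hg⟩⁻¹ := rfl
  rw [e, map_mul, map_mul, map_inv, (h.hT t htS).1 ht, mul_one, mul_inv_cancel]

/-- the kernel system -/
theorem exists_kerSys (h : KerCtx p F lam T th) :
    ∃ E : FusionSystem T, ∀ (P : Subgroup Ω) (φ : P →* Ω),
      φ ∈ E.Hom P ↔ φ ∈ F.Hom P ∧ P ≤ T ∧ (Type2 F lam P → th P φ = 1) := by
  refine ⟨{ Hom := fun P => {φ | φ ∈ F.Hom P ∧ P ≤ T ∧ (Type2 F lam P → th P φ = 1)}
            le_of_mem := ?_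
            injective_of_mem := ?_
            conj_mem := ?_
            comp_mem := ?_
            inv_mem := ?_ }, fun _ _ => Iff.rfl⟩
  · rintro P φ ⟨hφ, hPT, _⟩
    exact ⟨hPT, fun x => h.map_mem hφ (hPT x.2)⟩
  · rintro P φ ⟨hφ, _, _⟩
    exact F.injective_of_mem hφ
  · intro P g hPT hg
    refine ⟨F.conj_mem (hPT.trans h.hTS) (h.hTS hg), hPT, fun hP2 => ?_⟩
    rw [h.hth.conj P hP2 g (h.hTS hg)]
    exact (h.hT g _).1 hg
  · rintro P R φ ψ ⟨hφ, hPT, hφ1⟩ ⟨hψ, hRT, hψ1⟩ hv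
    refine ⟨F.comp_mem hφ hψ hv, hPT, fun hP2 => ?_⟩
    have hR2 : Type2 F lam R := (hP2.conj ⟨φ, hφ, rfl⟩).of_le (by
      rintro _ ⟨x, rfl⟩
      exact hv x) (hRT.trans h.hTS)
    rw [h.hth.mul P hP2 R φ ψ hv hφ hψ, hφ1 hP2, hψ1 hR2, mul_one]
  · rintro P φ ⟨hφ, hPT, hφ1⟩
    obtain ⟨ψ, hψ, hinv⟩ := F.inv_mem hφ
    refine ⟨ψ, ⟨hψ, ?_, fun hR2 => ?_⟩, hinv⟩
    · rintro _ ⟨x, rfl⟩
      exact h.map_mem hφ (hPT x.2)
    · have hP2 : Type2 F lam P := hR2.conj (isConj_symm F ⟨φ, hφ, rfl⟩)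
      rw [h.hth.inv' hP2 hφ hψ (fun x => ⟨x, rfl⟩) hinv, hφ1 hP2, inv_one]

end KerCtx

section kernelProps

variable [Finite S] {p : ℕ} [Fact p.Prime] {F : FusionSystem S} {lam : S →* C} {T : Subgroup Ω}
  {th : (P : Subgroup Ω) → (P →* Ω) → C}

namespace KerCtx

theorem isPGroup_C (h : KerCtx p F lam T th) : IsPGroup p C :=
  IsPGroup.of_card (n := 1) (by rw [h.hcard, pow_one])

/-- `θ` on the automorphism group of a subgroup -/
theorem exists_thetaAut (h : KerCtx p F lam T th) {P : Subgroup Ω} (hP2 : Type2 F lam P) :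
    ∃ Θ : F.autGroup P →* C, ∀ a : F.autGroup P,
      Θ a = th P (P.subtype.comp (a : MulAut P).toMonoidHom) := by
  have hmem : ∀ a : F.autGroup P, P.subtype.comp (a : MulAut P).toMonoidHom ∈ F.Hom P := fun a =>
    (mem_autGroup_iff F hP2.1).1 a.2
  exact ⟨MonoidHom.mk' (fun a => th P (P.subtype.comp (a : MulAut P).toMonoidHom))
    (fun a b => h.hth.mul' hP2 (hmem b) (hmem a) (fun z => ((b : MulAut P) z).2) (fun z => rfl)),
    fun a => rfl⟩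

theorem pPowerIndex (h : KerCtx p F lam T th) {E : FusionSystem T}
    (hE : ∀ (P : Subgroup Ω) (φ : P →* Ω),
      φ ∈ E.Hom P ↔ φ ∈ F.Hom P ∧ P ≤ T ∧ (Type2 F lam P → th P φ = 1))
    (hhyp : F.hyperfocalSubgroup p ≤ T) : E.HasPPowerIndexIn F p := by
  refine ⟨fun P φ hφ => ((hE P φ).1 hφ).1, hhyp, fun P hPT => ?_⟩
  rintro _ ⟨a, ha, rfl⟩
  rw [mem_autGroup_iff E hPT, hE]
  refine ⟨(mem_autGroup_iff F (hPT.trans h.hTS)).1 a.2, hPT, fun hP2 => ?_⟩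
  obtain ⟨Θ, hΘ⟩ := h.exists_thetaAut hP2
  have := hom_pResidual_eq_one h.isPGroup_C Θ ha
  rw [hΘ] at this
  exact this

end KerCtx

theorem fullyNormalized_conjHom_range {F : FusionSystem S} {Q' : Subgroup Ω}
    (hfn : F.IsFullyNormalized Q') {g : Ω} (hg : g ∈ S) :
    F.IsFullyNormalized (conjHom Q' g).range := by
  have hmem : conjHom Q' g ∈ F.Hom Q' := F.conj_mem hfn.1 hg
  have hrS : (conjHom Q' g).range ≤ S := range_le_of_hom_mem F hmem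
  refine ⟨hrS, fun R hR => ?_⟩
  have h1 : F.IsConj Q' R := isConj_trans F ⟨_, hmem, rfl⟩ hR
  refine (hfn.2 R h1).trans ?_
  apply card_normalizerIn_le_of_autImg (β := MulAut.conj ((⟨g, hg⟩ : S)⁻¹)) hrS
  intro y
  constructor
  · intro hy
    refine ⟨g * y * g⁻¹, S.mul_mem (S.mul_mem hg (hfn.1 hy)) (S.inv_mem hg), ⟨⟨y, hy⟩, rfl⟩, ?_⟩
    show ((((⟨g, hg⟩ : S))⁻¹ * ⟨g * y * g⁻¹, _⟩ * (((⟨g, hg⟩ : S))⁻¹)⁻¹ : S) : Ω) = y
    simp only [Subgroup.coe_mul, Subgroup.coe_inv, inv_inv]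
    group
  · rintro ⟨x, hx, ⟨y', rfl⟩, rfl⟩
    have e : (((MulAut.conj ((⟨g, hg⟩ : S)⁻¹) ⟨conjHom Q' g y', hx⟩ : S)) : Ω) = y' := by
      show ((((⟨g, hg⟩ : S))⁻¹ * ⟨g * (y' : Ω) * g⁻¹, _⟩ * (((⟨g, hg⟩ : S))⁻¹)⁻¹ : S) : Ω) = y'
      simp only [Subgroup.coe_mul, Subgroup.coe_inv, inv_inv]
      group
    rw [e]
    exact y'.2

/-- a fully normalized subgroup some conjugate of which has centralizer outside `ker λ` has itself
centralizer outside `ker λ` -/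
theorem exists_cent_not_ker (hS : IsPGroup p S) (hF : F.IsSaturated p) (hinv : LamInv F lam)
    {Q : Subgroup Ω} (hQfn : F.IsFullyNormalized Q) (hQ1 : ¬ Type2 F lam Q) :
    ∃ (c₀ : Ω) (hc : c₀ ∈ FusionSystem.centralizerIn S Q), lam ⟨c₀, hc.1⟩ ≠ 1 := by
  have hsat := (Cfsg.Agent.S5077.result p hS F).1 hF
  have hrec := hsat.2 Q (hsat.1 Q hQfn).1
  have h1 : ∃ P', F.IsConj Q P' ∧ ¬ CentKer lam P' := by
    by_contra hcon
    apply hQ1
    refine ⟨hQfn.1, fun P' hP' => ?_⟩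
    by_contra h2
    exact hcon ⟨P', hP', h2⟩
  obtain ⟨P', hQP', hP'⟩ := h1
  have h2 : ∃ (c : Ω) (hc : c ∈ FusionSystem.centralizerIn S P'), lam ⟨c, hc.1⟩ ≠ 1 := by
    by_contra hcon
    apply hP'
    intro c hc
    by_contra h3
    exact hcon ⟨c, hc, h3⟩
  obtain ⟨c, hc, hlc⟩ := h2
  obtain ⟨φ, hφ, hr⟩ := isConj_symm F hQP'
  obtain ⟨ψ, hψ, hext⟩ := hrec.2 P' φ hφ hr
  have hcQS := ext_centralizer F hφ hr hψ hext c hc
  refine ⟨_, hcQS, ?_⟩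
  have := hinv _ ψ hψ ⟨c, centralizerIn_le_extender P' φ hc⟩
  rw [this]
  exact hlc

theorem exists_zpow_eq (hcard : Nat.card C = p) {a : C} (ha : a ≠ 1) (b : C) : ∃ k : ℤ, a ^ k = b :=
  Subgroup.mem_zpowers_iff.1 (mem_zpowers_of_prime_card hcard ha)

end kernelProps

end Cfsg.Agent.Lib.Helper29
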