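import Cfsg.Agent.Lib.Helper29.PPITheta
import Cfsg.Agent.Lib.Helper29.PPIAgree
import Cfsg.Agent.Lib.Helper29.KNormMain
import Cfsg.Agent.Lib.Helper29.FusionAlperin
import Cfsg.Agent.S5096

/-!
The functor `θ` on a conjugation- and overgroup-closed family `𝒟` of subgroups, and the compatibility of
`θ_Q` with `θ` on overgroups of a fully normalized `Q` (via Alperin's theorem in `N_F(Q)`).
-/
set_option autoImplicit false

namespace Cfsg.Agent.Lib.Helper29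
open Cfsg

variable {Ω : Type*} [Group Ω] {S : Subgroup Ω} {C : Type*} [CommGroup C]

/-- `θ` is a functor on `𝒟` extending `λ` -/
structure ThetaOn (F : FusionSystem S) (lam : S →* C) (𝒟 : Set (Subgroup Ω))
    (th : (P : Subgroup Ω) → (P →* Ω) → C) : Prop where
  conj : ∀ P ∈ 𝒟, ∀ (g : Ω) (hg : g ∈ S), th P (conjHom P g) = lam ⟨g, hg⟩
  mul : ∀ P ∈ 𝒟, ∀ (R : Subgroup Ω) (φ : P →* Ω) (ψ : R →* Ω) (h : ∀ x, φ x ∈ R), φ ∈ F.Hom P →
    ψ ∈ F.Hom R → th P (ψ.comp (φ.codRestrict R h)) = th R ψ * th P φ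

/-- the families on which `θ` is built -/
def Admissible (F : FusionSystem S) (lam : S →* C) (𝒟 : Set (Subgroup Ω)) : Prop :=
  (∀ P ∈ 𝒟, Type2 F lam P) ∧ (∀ P ∈ 𝒟, ∀ P', F.IsConj P P' → P' ∈ 𝒟) ∧
    (∀ P ∈ 𝒟, ∀ R, P ≤ R → R ≤ S → R ∈ 𝒟)

namespace ThetaOn

variable {F : FusionSystem S} {lam : S →* C} {𝒟 : Set (Subgroup Ω)}
  {th : (P : Subgroup Ω) → (P →* Ω) → C}

theorem mul' (h : ThetaOn F lam 𝒟 th) {P R : Subgroup Ω} (hP : P ∈ 𝒟) {φ : P →* Ω} {ψ : R →* Ω}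
    (hφ : φ ∈ F.Hom P) (hψ : ψ ∈ F.Hom R) (hv : ∀ x, φ x ∈ R) {χ : P →* Ω}
    (hχ : ∀ x, χ x = ψ ⟨φ x, hv x⟩) : th P χ = th R ψ * th P φ := by
  have e : χ = ψ.comp (φ.codRestrict R hv) := by
    ext x
    exact hχ x
  rw [e]
  exact h.mul P hP R φ ψ hv hφ hψ

theorem one (h : ThetaOn F lam 𝒟 th) {P : Subgroup Ω} (hP : P ∈ 𝒟) : th P P.subtype = 1 := by
  have e : P.subtype = conjHom P 1 := by
    ext x
    show (x : Ω) = 1 * x * 1⁻¹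
    simp
  rw [e, h.conj P hP 1 S.one_mem]
  exact map_one lam

theorem res' (h : ThetaOn F lam 𝒟 th) {P R : Subgroup Ω} (hP : P ∈ 𝒟) (hPS : P ≤ S) (hPR : P ≤ R)
    {ψ : R →* Ω} (hψ : ψ ∈ F.Hom R) {χ : P →* Ω} (hχ : ∀ x : P, χ x = ψ ⟨x, hPR x.2⟩) :
    th P χ = th R ψ := by
  have h1 := h.mul' hP (subtype_mem F hPS) hψ (fun x => hPR x.2) (χ := χ) (fun x => hχ x)
  rw [h1, h.one hP, mul_one]

theorem inv' (h : ThetaOn F lam 𝒟 th) {P R : Subgroup Ω} (hP : P ∈ 𝒟) {φ : P →* Ω} {ψ : R →* Ω}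
    (hφ : φ ∈ F.Hom P) (hψ : ψ ∈ F.Hom R) (hv : ∀ x, φ x ∈ R) (hinv : ∀ x, ψ ⟨φ x, hv x⟩ = x) :
    th R ψ = (th P φ)⁻¹ := by
  have h1 := h.mul' hP hφ hψ hv (χ := P.subtype) (fun x => (hinv x).symm)
  rw [h.one hP] at h1
  exact eq_inv_of_mul_eq_one_left h1.symm

theorem mono (h : ThetaOn F lam 𝒟 th) {𝒟' : Set (Subgroup Ω)} (hsub : 𝒟' ⊆ 𝒟) : ThetaOn F lam 𝒟' th :=
  ⟨fun P hP => h.conj P (hsub hP), fun P hP => h.mul P (hsub hP)⟩

end ThetaOn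

section lemma3

variable [Finite S] {p : ℕ} [Fact p.Prime] {F : FusionSystem S} {lam : S →* C} {𝒟 : Set (Subgroup Ω)}
  {th : (P : Subgroup Ω) → (P →* Ω) → C} {Q : Subgroup Ω} {tq : (Q →* Ω) → C}

/-- the hypotheses on the fully normalized subgroup `Q` of maximal order outside `𝒟` -/
structure L3Ctx (F : FusionSystem S) (lam : S →* C) (𝒟 : Set (Subgroup Ω))
    (th : (P : Subgroup Ω) → (P →* Ω) → C) (Q : Subgroup Ω) (tq : (Q →* Ω) → C) : Prop where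
  adm : Admissible F lam 𝒟
  hth : ThetaOn F lam 𝒟 th
  hQ2 : Type2 F lam Q
  hbig : ∀ R, Type2 F lam R → Nat.card Q < Nat.card R → R ∈ 𝒟
  tqc : ∀ (g : Ω) (hgS : g ∈ S), g ∈ Subgroup.normalizer (Q : Set Ω) → tq (conjHom Q g) = lam ⟨g, hgS⟩
  tqm : ∀ (β₁ β₂ : Q →* Ω) (h₁ : ∀ x, β₁ x ∈ Q), β₁ ∈ F.Hom Q → β₂ ∈ F.Hom Q → (∀ x, β₂ x ∈ Q) →
    tq (β₂.comp (β₁.codRestrict Q h₁)) = tq β₂ * tq β₁

namespace L3Ctx

theorem mem_D (h : L3Ctx F lam 𝒟 th Q tq) {R : Subgroup Ω} (hQR : Q ≤ R) (hRS : R ≤ S)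
    (hc : Nat.card Q < Nat.card R) : R ∈ 𝒟 :=
  h.hbig R (h.hQ2.of_le hQR hRS) hc

theorem tqm' (h : L3Ctx F lam 𝒟 th Q tq) {β₁ β₂ : Q →* Ω} (hβ₁ : β₁ ∈ F.Hom Q) (hβ₂ : β₂ ∈ F.Hom Q)
    (h₁ : ∀ x, β₁ x ∈ Q) (h₂ : ∀ x, β₂ x ∈ Q) {χ : Q →* Ω} (hχ : ∀ y, χ y = β₂ ⟨β₁ y, h₁ y⟩) :
    tq χ = tq β₂ * tq β₁ := by
  have e : χ = β₂.comp (β₁.codRestrict Q h₁) := by
    ext y
    exact hχ y
  rw [e]
  exact h.tqm β₁ β₂ h₁ hβ₁ hβ₂ h₂

theorem tq_one (h : L3Ctx F lam 𝒟 th Q tq) : tq Q.subtype = 1 := by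
  have e : Q.subtype = conjHom Q 1 := by
    ext x
    show (x : Ω) = 1 * x * 1⁻¹
    simp
  rw [e, h.tqc 1 S.one_mem (Subgroup.one_mem _)]
  exact map_one lam

theorem tq_inv' (h : L3Ctx F lam 𝒟 th Q tq) {β₁ β₂ : Q →* Ω} (hβ₁ : β₁ ∈ F.Hom Q) (hβ₂ : β₂ ∈ F.Hom Q)
    (h₁ : ∀ x, β₁ x ∈ Q) (h₂ : ∀ x, β₂ x ∈ Q) (hinv : ∀ y, β₂ ⟨β₁ y, h₁ y⟩ = y) :
    tq β₂ = (tq β₁)⁻¹ := by
  have h1 := h.tqm' hβ₁ hβ₂ h₁ h₂ (χ := Q.subtype) (fun y => (hinv y).symm)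
  rw [h.tq_one] at h1
  exact eq_inv_of_mul_eq_one_left h1.symm

end L3Ctx

/-- the maps of `N_F(Q)` having an extension on which `θ` and `θ_Q` agree -/
def Good3 (F : FusionSystem S) (th : (P : Subgroup Ω) → (P →* Ω) → C) (Q : Subgroup Ω)
    (tq : (Q →* Ω) → C) (A : Subgroup Ω) (φ : A →* Ω) : Prop :=
  ∃ Ψ ∈ F.Hom (A ⊔ Q), (∀ x : A, Ψ (Subgroup.inclusion le_sup_left x) = φ x) ∧
    (∀ y : Q, Ψ (Subgroup.inclusion le_sup_right y) ∈ Q) ∧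
    (Nat.card Q < Nat.card ↥(A ⊔ Q) → th (A ⊔ Q) Ψ = tq (Ψ.comp (Subgroup.inclusion le_sup_right)))

theorem good3_conj (h : L3Ctx F lam 𝒟 th Q tq) (A : Subgroup Ω) (g : Ω)
    (hA : A ≤ FusionSystem.normalizerIn S Q) (hg : g ∈ FusionSystem.normalizerIn S Q) :
    Good3 F th Q tq A (conjHom A g) := by
  have hQS := h.hQ2.1
  have hAQ : A ⊔ Q ≤ S := sup_le (hA.trans inf_le_left) hQS
  refine ⟨conjHom (A ⊔ Q) g, F.conj_mem hAQ hg.1, fun x => rfl, fun y => ?_, fun hc => ?_⟩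
  · show g * y * g⁻¹ ∈ Q
    exact (Subgroup.mem_normalizer_iff.1 hg.2 y).1 y.2
  · rw [h.hth.conj _ (h.mem_D le_sup_right hAQ hc) g hg.1]
    have e : (conjHom (A ⊔ Q) g).comp (Subgroup.inclusion le_sup_right) = conjHom Q g := rfl
    rw [e, h.tqc g hg.1 hg.2]

theorem good3_comp (h : L3Ctx F lam 𝒟 th Q tq) (A B : Subgroup Ω) (φ : A →* Ω) (ψ : B →* Ω)
    (hv : ∀ x, φ x ∈ B) (h1 : Good3 F th Q tq A φ) (h2 : Good3 F th Q tq B ψ) :
    Good3 F th Q tq A (ψ.comp (φ.codRestrict B hv)) := by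
  obtain ⟨Ψ₁, hΨ₁, he₁, hq₁, hc₁⟩ := h1
  obtain ⟨Ψ₂, hΨ₂, he₂, hq₂, hc₂⟩ := h2
  have hAS := le_of_hom_mem F hΨ₁
  have hBS := le_of_hom_mem F hΨ₂
  haveI : Finite ↥(A ⊔ Q) := finite_of_le hAS
  haveI : Finite ↥(B ⊔ Q) := finite_of_le hBS
  have hval : ∀ z, Ψ₁ z ∈ B ⊔ Q := sup_hom_mem Ψ₁
    (fun x => by rw [he₁]; exact (le_sup_left : B ≤ B ⊔ Q) (hv x))
    (fun y => (le_sup_right : Q ≤ B ⊔ Q) (hq₁ y))
  refine ⟨Ψ₂.comp (Ψ₁.codRestrict (B ⊔ Q) hval), F.comp_mem hΨ₁ hΨ₂ hval, fun x => ?_, fun y => ?_,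
    fun hc => ?_⟩
  · show Ψ₂ ⟨Ψ₁ (Subgroup.inclusion le_sup_left x), _⟩ = ψ ⟨φ x, hv x⟩
    rw [← he₂ ⟨φ x, hv x⟩]
    congr 1
    exact Subtype.ext (he₁ x)
  · exact hq₂ ⟨_, hq₁ y⟩
  · have hinj : Function.Injective (Ψ₁.codRestrict (B ⊔ Q) hval) := by
      intro a b hab
      exact F.injective_of_mem hΨ₁ (congrArg Subtype.val hab)
    have hcard : Nat.card ↥(A ⊔ Q) ≤ Nat.card ↥(B ⊔ Q) := Nat.card_le_card_of_injective _ hinj
    have hc' : Nat.card Q < Nat.card ↥(B ⊔ Q) := lt_of_lt_of_le hc hcard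
    rw [h.hth.mul _ (h.mem_D le_sup_right hAS hc) _ _ _ hval hΨ₁ hΨ₂, hc₁ hc, hc₂ hc']
    exact (h.tqm' (restrict_mem F le_sup_right hΨ₁) (restrict_mem F le_sup_right hΨ₂)
      (fun y => hq₁ y) (fun y => hq₂ y) (fun y => rfl)).symm

theorem good3_inv (h : L3Ctx F lam 𝒟 th Q tq) (A : Subgroup Ω) (φ : A →* Ω) (ψ : φ.range →* Ω)
    (hinv : ∀ x : A, ψ ⟨φ x, ⟨x, rfl⟩⟩ = x) (h1 : Good3 F th Q tq A φ) :
    Good3 F th Q tq φ.range ψ := by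
  obtain ⟨Ψ, hΨ, he, hq, hc⟩ := h1
  have hQS := h.hQ2.1
  have hAS := le_of_hom_mem F hΨ
  haveI : Finite ↥(A ⊔ Q) := finite_of_le hAS
  haveI : Finite Q := finite_of_le hQS
  have hΨinj := F.injective_of_mem hΨ
  -- `Ψ` is onto `Q`
  have hsurj : ∀ y : Q, ∃ y' : Q, Ψ (Subgroup.inclusion le_sup_right y') = y := by
    have hinj : Function.Injective (fun y' : Q => (⟨Ψ (Subgroup.inclusion le_sup_right y'), hq y'⟩ : Q)) := by
      intro a b hab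
      have h1 : Ψ (Subgroup.inclusion le_sup_right a) = Ψ (Subgroup.inclusion le_sup_right b) :=
        congrArg Subtype.val hab
      exact Subgroup.inclusion_injective _ (hΨinj h1)
    intro y
    obtain ⟨y', hy'⟩ := Finite.surjective_of_injective hinj y
    exact ⟨y', congrArg Subtype.val hy'⟩
  have hle : φ.range ⊔ Q ≤ Ψ.range := by
    refine sup_le ?_ ?_
    · rintro _ ⟨x, rfl⟩
      exact ⟨Subgroup.inclusion le_sup_left x, he x⟩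
    · intro y hy
      obtain ⟨y', hy'⟩ := hsurj ⟨y, hy⟩
      exact ⟨_, hy'⟩
  have hrS : φ.range ⊔ Q ≤ S := hle.trans (range_le_of_hom_mem F hΨ)
  haveI : Finite ↥(φ.range ⊔ Q) := finite_of_le hrS
  obtain ⟨Ψi, hΨi, hΨinv⟩ := F.inv_mem hΨ
  have hΨ' := restrict_mem F hle hΨi
  have hvalΨ : ∀ z, Ψ z ∈ φ.range ⊔ Q := sup_hom_mem Ψ
    (fun x => by rw [he]; exact (le_sup_left : φ.range ≤ φ.range ⊔ Q) ⟨x, rfl⟩)
    (fun y => (le_sup_right : Q ≤ φ.range ⊔ Q) (hq y))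
  have hinvΨ : ∀ z : ↥(A ⊔ Q), (Ψi.comp (Subgroup.inclusion hle)) ⟨Ψ z, hvalΨ z⟩ = z := fun z => hΨinv z
  have hq' : ∀ y : Q, (Ψi.comp (Subgroup.inclusion hle)) (Subgroup.inclusion le_sup_right y) ∈ Q := by
    intro y
    obtain ⟨y', hy'⟩ := hsurj y
    have e : (Subgroup.inclusion hle (Subgroup.inclusion le_sup_right y) : Ψ.range) =
        ⟨Ψ (Subgroup.inclusion le_sup_right y'), ⟨_, rfl⟩⟩ := Subtype.ext hy'.symm
    show Ψi (Subgroup.inclusion hle (Subgroup.inclusion le_sup_right y)) ∈ Q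
    rw [e, hΨinv]
    exact y'.2
  refine ⟨Ψi.comp (Subgroup.inclusion hle), hΨ', ?_, hq', fun hc' => ?_⟩
  · rintro ⟨_, x, rfl⟩
    rw [hinv x]
    have e : (Subgroup.inclusion hle (Subgroup.inclusion le_sup_left (⟨φ x, ⟨x, rfl⟩⟩ : φ.range)) : Ψ.range) =
        ⟨Ψ (Subgroup.inclusion le_sup_left x), ⟨_, rfl⟩⟩ := Subtype.ext (he x).symm
    show Ψi (Subgroup.inclusion hle (Subgroup.inclusion le_sup_left (⟨φ x, ⟨x, rfl⟩⟩ : φ.range))) = x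
    rw [e, hΨinv]
    rfl
  · have hcard : Nat.card ↥(φ.range ⊔ Q) ≤ Nat.card ↥(A ⊔ Q) := by
      have hinj : Function.Injective ((Ψi.comp (Subgroup.inclusion hle)).codRestrict (A ⊔ Q)
          (fun z => by
            show Ψi (Subgroup.inclusion hle z) ∈ A ⊔ Q
            obtain ⟨w, hw⟩ := (Subgroup.inclusion hle z).2
            have e : Subgroup.inclusion hle z = ⟨Ψ w, ⟨w, rfl⟩⟩ := Subtype.ext hw.symm
            rw [e, hΨinv]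
            exact w.2)) := by
        intro a b hab
        exact F.injective_of_mem hΨ' (congrArg Subtype.val hab)
      exact Nat.card_le_card_of_injective _ hinj
    have hcA : Nat.card Q < Nat.card ↥(A ⊔ Q) := lt_of_lt_of_le hc' hcard
    have hD := h.mem_D le_sup_right hAS hcA
    rw [h.hth.inv' hD hΨ hΨ' hvalΨ hinvΨ, hc hcA]
    refine (h.tq_inv' (restrict_mem F le_sup_right hΨ) (restrict_mem F le_sup_right hΨ') (fun y => hq y)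
      hq' (fun y => ?_)).symm
    exact hinvΨ (Subgroup.inclusion le_sup_right y)

end lemma3

section autgood

variable [Finite S] {p : ℕ} [Fact p.Prime] {F : FusionSystem S} {lam : S →* C} {𝒟 : Set (Subgroup Ω)}
  {th : (P : Subgroup Ω) → (P →* Ω) → C} {Q : Subgroup Ω} {tq : (Q →* Ω) → C}

theorem aut_good3 (hC : IsPGroup p C) (h : L3Ctx F lam 𝒟 th Q tq)
    {𝒩 : FusionSystem (FusionSystem.normalizerIn S Q)}
    (hK : KNorm F Q ⊤ (FusionSystem.normalizerIn S Q) 𝒩) {R : Subgroup Ω}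
    (hRN : R ≤ FusionSystem.normalizerIn S Q) (hRfa : 𝒩.IsFullyAutomized p R) {α : MulAut R}
    (hα : α ∈ 𝒩.autGroup R) : Good3 F th Q tq R (R.subtype.comp α.toMonoidHom) := by
  have hQS := h.hQ2.1
  have hRS : R ⊔ Q ≤ S := hK.sup_le_S hRN
  haveI : Finite ↥(R ⊔ Q) := finite_of_le hRS
  haveI : Finite Q := finite_of_le hQS
  by_cases hc : Nat.card Q < Nat.card ↥(R ⊔ Q)
  · have hD := h.mem_D le_sup_right hRS hc
    have hrange := autGroup_eq_range_resK hK hRN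
    have hmemF : ∀ g : AutK F (⊤ : Subgroup (MulAut Q)) R,
        (R ⊔ Q).subtype.comp (g : MulAut ↥(R ⊔ Q)).toMonoidHom ∈ F.Hom (R ⊔ Q) := fun g =>
      (mem_autGroup_iff F hRS).1 (mem_AutK.1 g.2).1
    have hmemQ : ∀ (g : AutK F (⊤ : Subgroup (MulAut Q)) R) (y : Q),
        (((g : MulAut ↥(R ⊔ Q)) (Subgroup.inclusion le_sup_right y) : ↥(R ⊔ Q)) : Ω) ∈ Q := by
      intro g y
      obtain ⟨_, _, κ, _, hκ⟩ := mem_AutK.1 g.2
      rw [hκ y]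
      exact (κ y).2
    let f₁ : AutK F (⊤ : Subgroup (MulAut Q)) R →* C :=
      MonoidHom.mk' (fun g => th (R ⊔ Q) ((R ⊔ Q).subtype.comp (g : MulAut ↥(R ⊔ Q)).toMonoidHom))
        (fun a b => h.hth.mul' hD (hmemF b) (hmemF a)
          (fun z => ((b : MulAut ↥(R ⊔ Q)) z).2) (fun z => rfl))
    let f₂ : AutK F (⊤ : Subgroup (MulAut Q)) R →* C :=
      MonoidHom.mk' (fun g => tq (((R ⊔ Q).subtype.comp (g : MulAut ↥(R ⊔ Q)).toMonoidHom).comp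
          (Subgroup.inclusion le_sup_right)))
        (fun a b => h.tqm' (restrict_mem F le_sup_right (hmemF b)) (restrict_mem F le_sup_right (hmemF a))
          (fun y => hmemQ b y) (fun y => hmemQ a y) (fun y => rfl))
    let res : AutK F (⊤ : Subgroup (MulAut Q)) R →* 𝒩.autGroup R :=
      (resK F ⊤ R).codRestrict (𝒩.autGroup R) (fun g => by rw [hrange]; exact ⟨g, rfl⟩)
    have hres : Function.Surjective res := by
      intro a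
      have ha : (a : MulAut R) ∈ (resK F (⊤ : Subgroup (MulAut Q)) R).range := by
        rw [← hrange]
        exact a.2
      obtain ⟨g, hg⟩ := ha
      exact ⟨g, Subtype.ext hg⟩
    obtain ⟨_, Sy, hSy⟩ := hRfa
    have hP : ∀ a ∈ (Sy : Subgroup (𝒩.autGroup R)), ∃ g, res g = a ∧ f₁ g = f₂ g := by
      intro a ha
      rw [hSy, Subgroup.mem_subgroupOf, autInducedBy_eq_map_resK hK hRN] at ha
      obtain ⟨t, ht, hta⟩ := ha
      obtain ⟨n, hn, hnt⟩ := mem_TK.1 (Subgroup.mem_subgroupOf.1 ht)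
      have hnN : (n : Ω) ∈ FusionSystem.normalizerIn S Q := hn.1
      refine ⟨t, Subtype.ext hta, ?_⟩
      have e1 : (R ⊔ Q).subtype.comp (t : MulAut ↥(R ⊔ Q)).toMonoidHom = conjHom (R ⊔ Q) (n : Ω) := by
        rw [← hnt]
        rfl
      show th (R ⊔ Q) ((R ⊔ Q).subtype.comp (t : MulAut ↥(R ⊔ Q)).toMonoidHom) =
        tq (((R ⊔ Q).subtype.comp (t : MulAut ↥(R ⊔ Q)).toMonoidHom).comp (Subgroup.inclusion le_sup_right))
      rw [e1, h.hth.conj _ hD (n : Ω) hnN.1]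
      have e2 : (conjHom (R ⊔ Q) (n : Ω)).comp (Subgroup.inclusion le_sup_right) = conjHom Q (n : Ω) := rfl
      rw [e2, h.tqc (n : Ω) hnN.1 hnN.2]
    obtain ⟨g, hg, hgeq⟩ := exists_preimage_agree hC res hres f₁ f₂ Sy hP ⟨α, hα⟩
    refine ⟨_, hmemF g, fun x => ?_, fun y => hmemQ g y, fun _ => hgeq⟩
    have h1 : resK F (⊤ : Subgroup (MulAut Q)) R g = α := congrArg Subtype.val hg
    show (((g : MulAut ↥(R ⊔ Q)) (Subgroup.inclusion le_sup_left x) : ↥(R ⊔ Q)) : Ω) = ((α x : R) : Ω)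
    rw [← h1]
    rfl
  · have h1 := (mem_autGroup_iff 𝒩 hRN).1 hα
    obtain ⟨_, _, _, Ψ, hΨ, hΨe, κ, _, hκ⟩ := (hK.mem_hom _ _).1 h1
    refine ⟨Ψ, hΨ, hΨe, fun y => ?_, fun hc' => absurd hc' hc⟩
    rw [hκ y]
    exact (κ y).2

end autgood

section lemma3main

variable [Finite S] {p : ℕ} [Fact p.Prime] {F : FusionSystem S} {lam : S →* C} {𝒟 : Set (Subgroup Ω)}
  {th : (P : Subgroup Ω) → (P →* Ω) → C} {Q : Subgroup Ω} {tq : (Q →* Ω) → C}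

/-- `θ_Q` and `θ` agree on the maps of overgroups of `Q` in `N_S(Q)` normalizing `Q` -/
theorem theta_lemma3 (hS : IsPGroup p S) (hF : F.IsSaturated p) (hC : IsPGroup p C)
    (h : L3Ctx F lam 𝒟 th Q tq) (hQfn : F.IsFullyNormalized Q) {M : Subgroup Ω} (hQM : Q ≤ M)
    (hMN : M ≤ FusionSystem.normalizerIn S Q) (hcard : Nat.card Q < Nat.card M) {ω : M →* Ω}
    (hω : ω ∈ F.Hom M) (hωQ : ∀ y : Q, ω (Subgroup.inclusion hQM y) ∈ Q) :
    tq (ω.comp (Subgroup.inclusion hQM)) = th M ω := by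
  have hQS := hQfn.1
  have hMS : M ≤ S := hMN.trans inf_le_left
  haveI : Finite Q := finite_of_le hQS
  haveI : Finite M := finite_of_le hMS
  obtain ⟨𝒩, h𝒩⟩ := Cfsg.Agent.S5096.result F Q hQS
  have hK := knorm_of_normalizerSystem hS hF hQfn h𝒩
  have hSN : IsPGroup p ↥(FusionSystem.normalizerIn S Q) :=
    hS.to_le (inf_le_left : FusionSystem.normalizerIn S Q ≤ S)
  haveI : Finite ↥(FusionSystem.normalizerIn S Q) := finite_of_le inf_le_left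
  have h𝒩sat := hK.saturated hS hF
  obtain ⟨𝒢, h𝒢⟩ := exists_subsystem 𝒩 (Good3 F th Q tq)
    (fun A g hA hg => good3_conj h A g hA hg)
    (fun A B φ ψ hv _ _ h1 h2 => good3_comp h A B φ ψ hv h1 h2)
    (fun A φ ψ _ _ hinv h1 => good3_inv h A φ ψ hinv h1)
  have hsat𝒩 := (Cfsg.Agent.S5077.result p hSN 𝒩).1 h𝒩sat
  have hle : 𝒩 ≤ 𝒢 := by
    apply alperin p hSN 𝒩 h𝒩sat 𝒢
    intro R hR α hα
    have hRfn : 𝒩.IsFullyNormalized R := by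
      rcases hR with rfl | hR
      · exact fullyNormalized_top 𝒩
      · exact hR.2.1
    have hRN := hRfn.1
    have hRfa := (hsat𝒩.1 R hRfn).2
    rw [mem_autGroup_iff 𝒢 hRN, h𝒢]
    exact ⟨(mem_autGroup_iff 𝒩 hRN).1 hα, aut_good3 hC h hK hRN hRfa hα⟩
  -- `ω` restricted to `Q` is an automorphism
  obtain ⟨κ, _, hκ⟩ := exists_aut_of_hom F (restrict_mem F hQM hω) hωQ
  have hω𝒩 : ω ∈ 𝒩.Hom M := by
    rw [hK.mem_hom]
    refine ⟨hω, hMN, fun x => ⟨(F.le_of_mem hω).2 x, ?_⟩, ?_⟩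
    · apply mem_normalizer_of_conj_le
      intro y hy
      have hy' : ((κ (κ⁻¹ ⟨y, hy⟩) : Q) : Ω) = y := by rw [MulAut.apply_inv_self]
      rw [hκ] at hy'
      set y' := κ⁻¹ ⟨y, hy⟩ with hy'def
      have hxy : (x : Ω) * (y' : Ω) * (x : Ω)⁻¹ ∈ Q :=
        (Subgroup.mem_normalizer_iff.1 (hMN x.2).2 _).1 y'.2
      have e : ω x * y * (ω x)⁻¹ = ω (Subgroup.inclusion hQM ⟨_, hxy⟩) := by
        rw [← hy']
        show ω x * ω (Subgroup.inclusion hQM y') * (ω x)⁻¹ = _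
        rw [← map_inv, ← map_mul, ← map_mul]
        rfl
      rw [e]
      exact hωQ _
    · refine ⟨ω.comp (Subgroup.inclusion (sup_le le_rfl hQM)),
        restrict_mem F (sup_le le_rfl hQM) hω, fun x => rfl, κ, Subgroup.mem_top _, fun x => ?_⟩
      exact (hκ x).symm
  obtain ⟨Ψ, hΨ, hΨe, hΨq, hΨc⟩ := ((h𝒢 M ω).1 (hle M hω𝒩)).2
  have hMQS : M ⊔ Q ≤ S := sup_le hMS hQS
  haveI : Finite ↥(M ⊔ Q) := finite_of_le hMQS
  have hcard' : Nat.card Q < Nat.card ↥(M ⊔ Q) :=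
    lt_of_lt_of_le hcard (Nat.card_le_card_of_injective _ (Subgroup.inclusion_injective le_sup_left))
  have e1 : th M ω = th (M ⊔ Q) Ψ :=
    h.hth.res' (h.mem_D hQM hMS hcard) hMS le_sup_left hΨ (fun x => (hΨe x).symm)
  have e2 : ω.comp (Subgroup.inclusion hQM) = Ψ.comp (Subgroup.inclusion le_sup_right) := by
    ext y
    exact (hΨe (Subgroup.inclusion hQM y)).symm
  rw [e1, e2, hΨc hcard']

end lemma3main

end Cfsg.Agent.Lib.Helper29
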