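import Cfsg.Agent.Lib.Helper29.PPIMain
import Cfsg.Agent.Lib.Helper29.FusionPullback

/-!
The subsystems of `p`-power index: the Frattini property with respect to conjugation by elements of `S`.
-/
set_option autoImplicit false

universe u

namespace Cfsg.Agent.Lib.Helper29
open Cfsg
open scoped commutatorElement

variable {Ω : Type u} [Group Ω] {S : Subgroup Ω}

/-- every map of `F` between subgroups of `T` is a map of `E` followed by conjugation by an element of `S` -/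
def SFrattini {T : Subgroup Ω} (E : FusionSystem T) (F : FusionSystem S) : Prop :=
  ∀ (P : Subgroup Ω), P ≤ T → ∀ (φ : P →* Ω), φ ∈ F.Hom P →
    ∃ s ∈ S, ∃ φ₀ ∈ E.Hom P, ∀ x : P, φ x = s * φ₀ x * s⁻¹

section

variable [Finite S] {p : ℕ} [Fact p.Prime] {F : FusionSystem S}

theorem KerCtx.sFrattini {C : Type*} [CommGroup C] {lam : S →* C} {T : Subgroup Ω}
    {th : (P : Subgroup Ω) → (P →* Ω) → C} (h : KerCtx p F lam T th) {E : FusionSystem T}
    (hE : ∀ (P : Subgroup Ω) (φ : P →* Ω),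
      φ ∈ E.Hom P ↔ φ ∈ F.Hom P ∧ P ≤ T ∧ (Type2 F lam P → th P φ = 1)) : SFrattini E F := by
  intro P hPT φ hφ
  by_cases hP2 : Type2 F lam P
  · obtain ⟨s, hs⟩ := h.hsurj (th P φ)⁻¹
    have hconj : conjHom φ.range (s : Ω) ∈ F.Hom φ.range :=
      F.conj_mem (range_le_of_hom_mem F hφ) s.2
    have hχ := F.comp_mem hφ hconj (fun x => ⟨x, rfl⟩)
    refine ⟨(s : Ω)⁻¹, S.inv_mem s.2, _, (hE _ _).2 ⟨hχ, hPT, fun _ => ?_⟩, fun x => ?_⟩
    · refine (h.hth.mul' hP2 hφ hconj (fun x => ⟨x, rfl⟩) (fun x => rfl)).trans ?_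
      rw [h.hth.conj _ (hP2.conj ⟨φ, hφ, rfl⟩) s s.2]
      have e : (⟨(s : Ω), s.2⟩ : S) = s := Subtype.ext rfl
      rw [e, hs, inv_mul_cancel]
    · show φ x = (s : Ω)⁻¹ * ((s : Ω) * φ x * (s : Ω)⁻¹) * ((s : Ω)⁻¹)⁻¹
      group
  · refine ⟨1, S.one_mem, φ, (hE _ _).2 ⟨hφ, hPT, fun h2 => absurd h2 hP2⟩, fun x => ?_⟩
    simp

/-- a homomorphism to a commutative group with kernel containing `hyp(F)` is `F`-invariant -/
theorem lamInv_of_ker (hS : IsPGroup p S) (hF : F.IsSaturated p) {M : Subgroup Ω}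
    (hhyp : F.hyperfocalSubgroup p ≤ M) {C : Type*} [CommGroup C] (lam : S →* C)
    (hker : ∀ (x : Ω) (hx : x ∈ S), x ∈ M ↔ lam ⟨x, hx⟩ = 1) : LamInv F lam := by
  have hcomm : ⁅S, S⁆ ≤ M := by
    rw [Subgroup.commutator_le]
    intro a ha b hb
    have habS : ⁅a, b⁆ ∈ S := by
      rw [commutatorElement_def]
      exact S.mul_mem (S.mul_mem (S.mul_mem ha hb) (S.inv_mem ha)) (S.inv_mem hb)
    rw [hker _ habS]
    have e : (⟨⁅a, b⁆, habS⟩ : S) = ⁅(⟨a, ha⟩ : S), ⟨b, hb⟩⁆ := rfl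
    rw [e, map_commutatorElement, commutatorElement_eq_one_iff_commute]
    exact Commute.all _ _
  intro P φ hφ x
  have h1 : (x : Ω)⁻¹ * φ x ∈ M :=
    (sup_le hhyp hcomm) ((le_modSys_hyp p hS F hF P hφ).2 x)
  have hxS := (F.le_of_mem hφ).1 x.2
  have hφS := (F.le_of_mem hφ).2 x
  have h2 := (hker _ (S.mul_mem (S.inv_mem hxS) hφS)).1 h1
  have e : (⟨(x : Ω)⁻¹ * φ x, S.mul_mem (S.inv_mem hxS) hφS⟩ : S) =
      (⟨x, hxS⟩ : S)⁻¹ * ⟨φ x, hφS⟩ := rfl
  rw [e, map_mul, map_inv, inv_mul_eq_one] at h2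
  exact h2.symm

/-- the index `p` step, with the Frattini property -/
theorem exists_pPowerIndex_step' (hS : IsPGroup p S) (hF : F.IsSaturated p) {M : Subgroup Ω}
    (hMS : M ≤ S) (hhyp : F.hyperfocalSubgroup p ≤ M) {C : Type*} [CommGroup C] (lam : S →* C)
    (hcard : Nat.card C = p) (hsurj : Function.Surjective lam)
    (hker : ∀ (x : Ω) (hx : x ∈ S), x ∈ M ↔ lam ⟨x, hx⟩ = 1) :
    ∃ E : FusionSystem M, E.IsSaturated p ∧ E.HasPPowerIndexIn F p ∧ F.StronglyClosed M ∧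
      SFrattini E F := by
  obtain ⟨E, hEs, hEi, hMsc⟩ := exists_pPowerIndex_step hS hF hMS hhyp lam hcard hsurj hker
  have hC : IsPGroup p C := IsPGroup.of_card (n := 1) (by rw [hcard, pow_one])
  have hinv : LamInv F lam := lamInv_of_ker hS hF hhyp lam hker
  obtain ⟨th, hth⟩ := exists_theta hS hF hC hinv
  have hctx : KerCtx p F lam M th := ⟨hinv, hth, hMS, hker, hsurj, hcard⟩
  obtain ⟨E', hE'⟩ := hctx.exists_kerSys
  have heq : E' = E := pPowerIndex_unique p hS F E' E (hctx.saturated hS hF hE')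
    (hctx.pPowerIndex hE' hhyp) hEs hEi
  subst heq
  exact ⟨E', hEs, hEi, hMsc, hctx.sFrattini hE'⟩

end

section chain

variable {p : ℕ} [Fact p.Prime]

theorem exists_pPowerIndex_sat' (n : ℕ) : ∀ (S : Subgroup Ω) [Finite S] (_ : IsPGroup p S)
    (F : FusionSystem S) (_ : F.IsSaturated p) (T : Subgroup Ω) (_ : T ≤ S)
    (_ : F.hyperfocalSubgroup p ≤ T), Nat.card S - Nat.card T = n →
    ∃ E : FusionSystem T, E.IsSaturated p ∧ E.HasPPowerIndexIn F p ∧ SFrattini E F := by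
  induction n using Nat.strong_induction_on with
  | _ n ih =>
    intro S _ hS F hF T hTS hT hn
    by_cases hTeq : T = S
    · subst hTeq
      refine ⟨F, hF, hasPPowerIndexIn_self p F, fun P _ φ hφ => ⟨1, Subgroup.one_mem _, φ, hφ, fun x => ?_⟩⟩
      simp
    · obtain ⟨M, hTM, hMS, hMne, C, instC, lam, hcard, hsurj, hker⟩ := exists_index_p_hom hS hTS hTeq
      obtain ⟨E, hEsat, hEidx, hMsc, hEfr⟩ :=
        exists_pPowerIndex_step' hS hF hMS (hT.trans hTM) lam hcard hsurj hker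
      haveI : Finite M := finite_of_le hMS
      have hMp : IsPGroup p M := hS.to_le hMS
      have hhypE : E.hyperfocalSubgroup p ≤ T := (hyperfocal_le_of_subsystem p F E hEidx.1).trans hT
      have hlt : Nat.card M < Nat.card S := by
        by_contra hcon
        rw [not_lt] at hcon
        exact hMne (Subgroup.eq_of_le_of_card_ge hMS hcon)
      haveI : Finite T := finite_of_le hTS
      have hTle : Nat.card T ≤ Nat.card M := Subgroup.card_le_of_le hTM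
      obtain ⟨D, hDsat, hDidx, hDfr⟩ :=
        ih (Nat.card M - Nat.card T) (by omega) M hMp E hEsat T hTM hhypE rfl
      refine ⟨D, hDsat, pPowerIndex_trans p hS F E hEsat hEidx hMsc D hDidx, ?_⟩
      intro P hPT φ hφ
      obtain ⟨s, hs, φ₁, hφ₁, hφe⟩ := hEfr P (hPT.trans hTM) φ hφ
      obtain ⟨m, hm, φ₀, hφ₀, hφ₁e⟩ := hDfr P hPT φ₁ hφ₁
      refine ⟨s * m, S.mul_mem hs (hMS hm), φ₀, hφ₀, fun x => ?_⟩
      rw [hφe, hφ₁e]
      group

/-- the saturated subsystem of `p`-power index over `T` has the Frattini property with respect to `S` -/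
theorem sFrattini_of_pPowerIndex [Finite S] (hS : IsPGroup p S) {F : FusionSystem S}
    (hF : F.IsSaturated p) {T : Subgroup Ω} (hTS : T ≤ S) (hT : F.hyperfocalSubgroup p ≤ T)
    (E : FusionSystem T) (hEs : E.IsSaturated p) (hEi : E.HasPPowerIndexIn F p) : SFrattini E F := by
  obtain ⟨E', hE's, hE'i, hfr⟩ := exists_pPowerIndex_sat' (p := p) _ S hS F hF T hTS hT rfl
  have heq : E' = E := pPowerIndex_unique p hS F E' E hE's hE'i hEs hEi
  subst heq
  exact hfr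

end chain

section stronglyClosed

variable [Finite S] {p : ℕ} [Fact p.Prime]

/-- `F`-automorphisms of fully normalized subgroups preserve a normal subgroup of `S` containing `hyp(F)` -/
theorem aut_mem_of_normal_hyp (hS : IsPGroup p S) (F : FusionSystem S) (hF : F.IsSaturated p)
    {T : Subgroup Ω} (hTn : ∀ s ∈ S, ∀ y ∈ T, s * y * s⁻¹ ∈ T) (hT : F.hyperfocalSubgroup p ≤ T)
    {U : Subgroup Ω} (hU : F.IsFullyNormalized U) {α : MulAut U} (hα : α ∈ F.autGroup U) (x : U)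
    (hx : (x : Ω) ∈ T) : ((α x : U) : Ω) ∈ T := by
  obtain ⟨hUS, R, hR⟩ := (((Cfsg.Agent.S5077.result p hS F).1 hF).1 U hU).2
  have : Finite U := finite_of_le hUS
  obtain ⟨b, hb, s, hs, hbs⟩ := exists_mul_pResidual_sylow p R ⟨α, hα⟩
  rw [← SetLike.mem_coe, hR, SetLike.mem_coe, Subgroup.mem_subgroupOf, autInducedBy_eq_map] at hs
  obtain ⟨n, hn, hns⟩ := hs
  have hnS : (n : Ω) ∈ S := hn
  have hα' : α = (b : MulAut U) * (s : MulAut U) := congrArg Subtype.val hbs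
  have hsx : (((s : MulAut U) x : U) : Ω) = (n : Ω) * x * (n : Ω)⁻¹ := by
    rw [← hns]
    rfl
  have e : ((α x : U) : Ω) = (((s : MulAut U) x : U) : Ω) *
      ((((s : MulAut U) x : U) : Ω)⁻¹ * (((b : MulAut U) ((s : MulAut U) x) : U) : Ω)) := by
    rw [hα', MulAut.mul_apply]
    group
  rw [e]
  apply Subgroup.mul_mem
  · rw [hsx]
    exact hTn _ hnS _ hx
  · apply hT
    apply Subgroup.subset_closure
    exact ⟨U, b, (s : MulAut U) x, hUS, hb, rfl⟩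

theorem stronglyClosed_of_normal_hyp (hS : IsPGroup p S) (F : FusionSystem S) (hF : F.IsSaturated p)
    {T : Subgroup Ω} (hTS : T ≤ S) (hTn : ∀ s ∈ S, ∀ y ∈ T, s * y * s⁻¹ ∈ T)
    (hT : F.hyperfocalSubgroup p ≤ T) : F.StronglyClosed T := by
  obtain ⟨𝒢, h𝒢⟩ := exists_subsystem F (fun P φ => ∀ x : P, (x : Ω) ∈ T ↔ φ x ∈ T)
    (fun A g _ hg x => by
      constructor
      · exact hTn g hg _
      · intro h
        have h1 := hTn g⁻¹ (S.inv_mem hg) _ h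
        have e : g⁻¹ * (conjHom A g x) * g⁻¹⁻¹ = x := by
          show g⁻¹ * (g * (x : Ω) * g⁻¹) * g⁻¹⁻¹ = x
          group
        rwa [e] at h1)
    (fun A B φ ψ hv _ _ h1 h2 x => (h1 x).trans (h2 ⟨φ x, hv x⟩))
    (fun A φ ψ _ _ hinv h1 => by
      rintro ⟨_, x, rfl⟩
      rw [hinv x]
      exact (h1 x).symm)
  have hle : F ≤ 𝒢 := by
    apply alperin p hS F hF
    intro U hU α hα
    have hUfn : F.IsFullyNormalized U := by
      rcases hU with rfl | hU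
      · exact fullyNormalized_top F
      · exact hU.2.1
    have hUS : U ≤ S := hUfn.1
    rw [mem_autGroup_iff _ hUS, h𝒢]
    refine ⟨(mem_autGroup_iff F hUS).1 hα, fun x => ⟨fun hx => ?_, fun hx => ?_⟩⟩
    · exact aut_mem_of_normal_hyp hS F hF hTn hT hUfn hα x hx
    · have := aut_mem_of_normal_hyp hS F hF hTn hT hUfn (inv_mem hα) (α x) hx
      rwa [MulAut.inv_apply_self] at this
  refine ⟨hTS, fun R hR φ hφ x => ?_⟩
  exact (((h𝒢 R φ).1 (hle R hφ)).2 x).1 (hR x.2)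

end stronglyClosed

section invariance

variable [Finite S] {p : ℕ} [Fact p.Prime]

/-- a saturated subsystem of `p`-power index is invariant under `Aut_F(T)` -/
theorem invCond_of_pPowerIndex (hS : IsPGroup p S) {F : FusionSystem S} {T : Subgroup Ω} (hTS : T ≤ S)
    (E : FusionSystem T) (hEs : E.IsSaturated p) (hEi : E.HasPPowerIndexIn F p) : InvCond E F := by
  intro P hPT φ hφ α hα
  have hαF : T.subtype.comp α.toMonoidHom ∈ F.Hom T := (mem_autGroup_iff F hTS).1 hα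
  have hαiF : T.subtype.comp (α⁻¹).toMonoidHom ∈ F.Hom T :=
    (mem_autGroup_iff F hTS).1 (inv_mem hα)
  obtain ⟨E', hE'⟩ := exists_pullback E (α⁻¹ : T ≃* T)
  have hE'sat : E'.IsSaturated p := hE'.saturated_pull hEs
  have hE'F : E'.IsSubsystemOf F := by
    intro P₁ φ₁ hφ₁
    have hP₁T := (E'.le_of_mem hφ₁).1
    have hφ₁T := (E'.le_of_mem hφ₁).2
    obtain ⟨φ', hφ', heq⟩ := (hE' P₁ hP₁T φ₁ hφ₁T).1 hφ₁
    have ha₁ := restrict_mem F hP₁T hαiF
    have hv₁ : ∀ x : P₁, ((T.subtype.comp (α⁻¹).toMonoidHom).comp (Subgroup.inclusion hP₁T)) x ∈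
        imgE (α⁻¹ : T ≃* T) P₁ := fun x => coe_mem_imgE (α⁻¹ : T ≃* T) ⟨x, hP₁T x.2⟩ x.2
    have hb := F.comp_mem ha₁ (hEi.1 _ hφ') hv₁
    have hv₂ : ∀ x : P₁, (φ'.comp (((T.subtype.comp (α⁻¹).toMonoidHom).comp
        (Subgroup.inclusion hP₁T)).codRestrict _ hv₁)) x ∈ T := fun x => (E.le_of_mem hφ').2 _
    apply comp_mem' F hb hαF hv₂
    intro x
    have h1 := heq x (hv₁ x)
    have h2 : (⟨(φ'.comp (((T.subtype.comp (α⁻¹).toMonoidHom).comp
        (Subgroup.inclusion hP₁T)).codRestrict _ hv₁)) x, hv₂ x⟩ : T) =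
        (α⁻¹ : T ≃* T) ⟨φ₁ x, hφ₁T x⟩ := Subtype.ext h1
    show φ₁ x = ((α ⟨_, hv₂ x⟩ : T) : Ω)
    rw [h2]
    show φ₁ x = ((α (α⁻¹ ⟨φ₁ x, hφ₁T x⟩) : T) : Ω)
    rw [MulAut.apply_inv_self]
  have hE'E : E'.IsSubsystemOf E := subsystem_le_of_pPowerIndex p hS F E' hE'sat hE'F E le_rfl hEi
  -- the transported map
  have hP'T : (P.subgroupOf T).map (T.subtype.comp α.toMonoidHom) ≤ T := by
    rintro _ ⟨x, _, rfl⟩
    exact (α x).2
  have hc₁ := restrict_mem F hP'T hαiF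
  have hv : ∀ y : ↥((P.subgroupOf T).map (T.subtype.comp α.toMonoidHom)),
      ((T.subtype.comp (α⁻¹).toMonoidHom).comp (Subgroup.inclusion hP'T)) y ∈ P := by
    rintro ⟨_, x, hx, rfl⟩
    show ((α⁻¹ ⟨((α x : T) : Ω), _⟩ : T) : Ω) ∈ P
    have e : (⟨((α x : T) : Ω), (α x).2⟩ : T) = α x := rfl
    rw [e, MulAut.inv_apply_self]
    exact hx
  have hc₂ := F.comp_mem hc₁ (hEi.1 P hφ) hv
  have hvT : ∀ y, (φ.comp (((T.subtype.comp (α⁻¹).toMonoidHom).comp
      (Subgroup.inclusion hP'T)).codRestrict P hv)) y ∈ T := fun y => (E.le_of_mem hφ).2 _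
  have hχ := F.comp_mem hc₂ hαF hvT
  have hPeq : P = imgE (α⁻¹ : T ≃* T) ((P.subgroupOf T).map (T.subtype.comp α.toMonoidHom)) := by
    ext z
    rw [mem_imgE]
    constructor
    · intro hz
      refine ⟨α ⟨z, hPT hz⟩, ⟨⟨z, hPT hz⟩, hz, rfl⟩, ?_⟩
      show ((α⁻¹ (α ⟨z, hPT hz⟩) : T) : Ω) = z
      rw [MulAut.inv_apply_self]
    · rintro ⟨y, ⟨x, hx, hxy⟩, rfl⟩
      have e : y = α x := Subtype.ext hxy.symm
      rw [e]
      show ((α⁻¹ (α x) : T) : Ω) ∈ P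
      rw [MulAut.inv_apply_self]
      exact hx
  obtain ⟨φ', hφ', hφ'e⟩ := hom_of_eq E hPeq hφ
  have hχE' : (T.subtype.comp α.toMonoidHom).comp ((φ.comp (((T.subtype.comp (α⁻¹).toMonoidHom).comp
      (Subgroup.inclusion hP'T)).codRestrict P hv)).codRestrict T hvT) ∈ E'.Hom _ := by
    rw [hE' _ hP'T _ (fun y => (F.le_of_mem hχ).2 y |> fun _ => (α _).2)]
    refine ⟨φ', hφ', fun y h => ?_⟩
    refine (hφ'e (((α⁻¹ : MulAut T) ⟨(y : Ω), hP'T y.2⟩ : T) : Ω) (hv y) h).trans ?_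
    show φ ⟨_, hv y⟩ = ((α⁻¹ (α ⟨φ ⟨_, hv y⟩, hvT y⟩) : T) : Ω)
    rw [MulAut.inv_apply_self]
  refine ⟨_, hE'E _ hχE', fun x hφx hαx => ?_⟩
  have e2 : ∀ (a : Ω) (ha : a ∈ P) (hh : φ ⟨a, ha⟩ ∈ T), a = x →
      ((α ⟨φ ⟨a, ha⟩, hh⟩ : T) : Ω) = ((α ⟨φ x, hφx⟩ : T) : Ω) := by
    intro a ha hh hax
    subst hax
    rfl
  apply e2
  show ((α⁻¹ ⟨((α ⟨x, hPT x.2⟩ : T) : Ω), _⟩ : T) : Ω) = x
  have e : (⟨((α ⟨x, hPT x.2⟩ : T) : Ω), (α ⟨x, hPT x.2⟩).2⟩ : T) = α ⟨x, hPT x.2⟩ := rfl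
  rw [e, MulAut.inv_apply_self]

end invariance

end Cfsg.Agent.Lib.Helper29
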