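import Cfsg.Agent.Lib.Helper29.PPIKernel
import Cfsg.Agent.Lib.Helper29.FusionNormal2
import Cfsg.Agent.S5110

/-!
Saturation of the kernel system of the functor `θ`.
-/
set_option autoImplicit false

namespace Cfsg.Agent.Lib.Helper29
open Cfsg

variable {Ω : Type*} [Group Ω] {S : Subgroup Ω} {C : Type*} [CommGroup C]

section sat

variable [Finite S] {p : ℕ} [Fact p.Prime] {F : FusionSystem S} {lam : S →* C} {T : Subgroup Ω}
  {th : (P : Subgroup Ω) → (P →* Ω) → C}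

namespace KerCtx

theorem exists_conj_fn (h : KerCtx p F lam T th) {E : FusionSystem T}
    (hE : ∀ (P : Subgroup Ω) (φ : P →* Ω),
      φ ∈ E.Hom P ↔ φ ∈ F.Hom P ∧ P ≤ T ∧ (Type2 F lam P → th P φ = 1))
    {P : Subgroup Ω} (hPT : P ≤ T) : ∃ Q, E.IsConj P Q ∧ F.IsFullyNormalized Q := by
  have hPS := hPT.trans h.hTS
  obtain ⟨Q', ⟨φ, hφ, rfl⟩, hQ'fn⟩ := exists_fullyNormalized_conj F hPS
  by_cases hP2 : Type2 F lam P
  · obtain ⟨s, hs⟩ := h.hsurj (th P φ)⁻¹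
    have hconj : conjHom φ.range (s : Ω) ∈ F.Hom φ.range := F.conj_mem hQ'fn.1 s.2
    have hχ := F.comp_mem hφ hconj (fun x => ⟨x, rfl⟩)
    refine ⟨(conjHom φ.range (s : Ω)).range, ⟨_, (hE _ _).2 ⟨hχ, hPT, fun _ => ?_⟩, ?_⟩,
      fullyNormalized_conjHom_range hQ'fn s.2⟩
    · refine (h.hth.mul' hP2 hφ hconj (fun x => ⟨x, rfl⟩) (fun x => rfl)).trans ?_
      rw [h.hth.conj _ (hP2.conj ⟨φ, hφ, rfl⟩) s s.2]
      have e : (⟨(s : Ω), s.2⟩ : S) = s := Subtype.ext rfl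
      rw [e, hs, inv_mul_cancel]
    · ext z
      constructor
      · rintro ⟨x, rfl⟩
        exact ⟨⟨φ x, ⟨x, rfl⟩⟩, rfl⟩
      · rintro ⟨⟨_, x, rfl⟩, rfl⟩
        exact ⟨x, rfl⟩
  · exact ⟨φ.range, ⟨φ, (hE _ _).2 ⟨hφ, hPT, fun h2 => absurd h2 hP2⟩, rfl⟩, hQ'fn⟩

theorem fullyAutomized_of_fn (hS : IsPGroup p S) (hF : F.IsSaturated p) (h : KerCtx p F lam T th)
    {E : FusionSystem T}
    (hE : ∀ (P : Subgroup Ω) (φ : P →* Ω),
      φ ∈ E.Hom P ↔ φ ∈ F.Hom P ∧ P ≤ T ∧ (Type2 F lam P → th P φ = 1))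
    {Q : Subgroup Ω} (hQT : Q ≤ T) (hQfn : F.IsFullyNormalized Q) : E.IsFullyAutomized p Q := by
  have hQS := hQfn.1
  haveI : Finite Q := finite_of_le hQS
  have hsat := (Cfsg.Agent.S5077.result p hS F).1 hF
  obtain ⟨_, R, hR⟩ := (hsat.1 Q hQfn).2
  have hEF : E.IsSubsystemOf F := fun P φ hφ => ((hE P φ).1 hφ).1
  have hAEF := autGroup_le_of_subsystem F E hEF hQT
  refine ⟨hQT, sylow_of_normal_sub (AF := F.autGroup Q) (AE := E.autGroup Q) (US := autInducedBy S Q)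
    (UT := autInducedBy T Q) hAEF ?_ ⟨R, hR⟩ ?_⟩
  · intro a ha e he
    rw [mem_autGroup_iff E hQT, hE]
    have hmem : a * e * a⁻¹ ∈ F.autGroup Q :=
      Subgroup.mul_mem _ (Subgroup.mul_mem _ ha (hAEF he)) (Subgroup.inv_mem _ ha)
    refine ⟨(mem_autGroup_iff F hQS).1 hmem, hQT, fun hQ2 => ?_⟩
    obtain ⟨Θ, hΘ⟩ := h.exists_thetaAut hQ2
    have he1 := ((hE _ _).1 ((mem_autGroup_iff E hQT).1 he)).2.2 hQ2
    have e1 : (⟨a * e * a⁻¹, hmem⟩ : F.autGroup Q) = ⟨a, ha⟩ * ⟨e, hAEF he⟩ * ⟨a, ha⟩⁻¹ := rfl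
    have h2 : th Q (Q.subtype.comp (a * e * a⁻¹).toMonoidHom) = Θ ⟨a * e * a⁻¹, hmem⟩ :=
      (hΘ ⟨a * e * a⁻¹, hmem⟩).symm
    rw [h2, e1, map_mul, map_mul, map_inv, hΘ ⟨e, hAEF he⟩]
    show Θ ⟨a, ha⟩ * th Q (Q.subtype.comp e.toMonoidHom) * (Θ ⟨a, ha⟩)⁻¹ = 1
    rw [he1, mul_one, mul_inv_cancel]
  · apply le_antisymm
    · exact le_inf (autInducedBy_mono h.hTS Q) (autInducedBy_le_autGroup E hQT)
    · rintro α ⟨hαS, hαE⟩
      obtain ⟨g, hgS, hgN, rfl⟩ := mem_autInducedBy_iff.1 hαS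
      have hαE' := ((hE _ _).1 ((mem_autGroup_iff E hQT).1 hαE)).2.2
      have ecj : Q.subtype.comp (Q.normalizerMonoidHom ⟨g, hgN⟩).toMonoidHom = conjHom Q g := rfl
      rw [ecj] at hαE'
      by_cases hQ2 : Type2 F lam Q
      · have h1 := hαE' hQ2
        rw [h.hth.conj Q hQ2 g hgS] at h1
        exact mem_autInducedBy_iff.2 ⟨g, (h.hT g hgS).2 h1, hgN, rfl⟩
      · obtain ⟨c₀, hc₀, hlc⟩ := exists_cent_not_ker hS hF h.hinv hQfn hQ2
        obtain ⟨k, hk⟩ := exists_zpow_eq h.hcard hlc (lam ⟨g, hgS⟩)⁻¹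
        have hck : c₀ ^ k ∈ FusionSystem.centralizerIn S Q := Subgroup.zpow_mem _ hc₀ k
        have hckc : c₀ ^ k ∈ Subgroup.centralizer (Q : Set Ω) := hck.2
        have hs'S : g * c₀ ^ k ∈ S := S.mul_mem hgS hck.1
        have hs'T : g * c₀ ^ k ∈ T := by
          rw [h.hT _ hs'S]
          have e : (⟨g * c₀ ^ k, hs'S⟩ : S) = ⟨g, hgS⟩ * (⟨c₀, hc₀.1⟩ : S) ^ k := by
            apply Subtype.ext
            rw [Subgroup.coe_mul, Subgroup.coe_zpow]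
          rw [e, map_mul, map_zpow, hk, mul_inv_cancel]
        have hs'N : g * c₀ ^ k ∈ Subgroup.normalizer (Q : Set Ω) :=
          Subgroup.mul_mem _ hgN (Subgroup.centralizer_le_normalizer _ hckc)
        refine mem_autInducedBy_iff.2 ⟨g * c₀ ^ k, hs'T, hs'N, ?_⟩
        ext x
        show g * (x : Ω) * g⁻¹ = g * c₀ ^ k * (x : Ω) * (g * c₀ ^ k)⁻¹
        have hcx := (Subgroup.mem_centralizer_iff.1 hckc) x x.2
        calc g * (x : Ω) * g⁻¹ = g * ((x : Ω) * c₀ ^ k * (c₀ ^ k)⁻¹) * g⁻¹ := by group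
          _ = g * (c₀ ^ k * (x : Ω) * (c₀ ^ k)⁻¹) * g⁻¹ := by rw [hcx]
          _ = g * c₀ ^ k * (x : Ω) * (g * c₀ ^ k)⁻¹ := by group

end KerCtx

end sat

section rec

variable [Finite S] {p : ℕ} [Fact p.Prime] {F : FusionSystem S} {lam : S →* C} {T : Subgroup Ω}
  {th : (P : Subgroup Ω) → (P →* Ω) → C}

namespace KerCtx

theorem receptive_of_fn (hS : IsPGroup p S) (hF : F.IsSaturated p) (h : KerCtx p F lam T th)
    {E : FusionSystem T}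
    (hE : ∀ (P : Subgroup Ω) (φ : P →* Ω),
      φ ∈ E.Hom P ↔ φ ∈ F.Hom P ∧ P ≤ T ∧ (Type2 F lam P → th P φ = 1))
    {Q : Subgroup Ω} (hQT : Q ≤ T) (hQfn : F.IsFullyNormalized Q) : E.IsReceptive Q := by
  have hQS := hQfn.1
  have hsat := (Cfsg.Agent.S5077.result p hS F).1 hF
  have hrec := hsat.2 Q (hsat.1 Q hQfn).1
  refine ⟨hQT, fun P φ hφE hr => ?_⟩
  obtain ⟨hφ, hPT, hφ1⟩ := (hE P φ).1 hφE
  have hPS := hPT.trans h.hTS
  obtain ⟨ψF, hψF, hext⟩ := hrec.2 P φ hφ hr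
  have hle : FusionSystem.extender T P φ ≤ FusionSystem.extender S P φ := by
    unfold FusionSystem.extender
    apply Subgroup.closure_mono
    rintro g ⟨hgT, hgN, h', hh'T, hh'⟩
    exact ⟨h.hTS hgT, hgN, h', h.hTS hh'T, hh'⟩
  have hNT : FusionSystem.extender T P φ ≤ T := extender_le (S := T) P φ
  have hψ₀ := restrict_mem F hle hψF
  have hPN : P ≤ FusionSystem.extender T P φ := le_extender E hφE
  by_cases hN2 : Type2 F lam (FusionSystem.extender T P φ)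
  · by_cases hP2 : Type2 F lam P
    · refine ⟨ψF.comp (Subgroup.inclusion hle), (hE _ _).2 ⟨hψ₀, hNT, fun _ => ?_⟩,
        fun x hP hN => hext x hP (hle hN)⟩
      have h1 := h.hth.res' hP2 hPS hPN hψ₀ (χ := φ) (fun x => (hext x x.2 (hle (hPN x.2))).symm)
      rw [← h1]
      exact hφ1 hP2
    · have hQ1 : ¬ Type2 F lam Q := fun hQ2 => hP2 (hQ2.conj (isConj_symm F ⟨φ, hφ, hr⟩))
      obtain ⟨c₀, hc₀, hlc⟩ := exists_cent_not_ker hS hF h.hinv hQfn hQ1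
      obtain ⟨k, hk⟩ := exists_zpow_eq h.hcard hlc
        (th _ (ψF.comp (Subgroup.inclusion hle)))⁻¹
      have hck : c₀ ^ k ∈ FusionSystem.centralizerIn S Q := Subgroup.zpow_mem _ hc₀ k
      have hckc : c₀ ^ k ∈ Subgroup.centralizer (Q : Set Ω) := hck.2
      have hconj : conjHom (ψF.comp (Subgroup.inclusion hle)).range (c₀ ^ k) ∈ F.Hom _ :=
        F.conj_mem (range_le_of_hom_mem F hψ₀) hck.1
      have hψ := F.comp_mem hψ₀ hconj (fun x => ⟨x, rfl⟩)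
      refine ⟨_, (hE _ _).2 ⟨hψ, hNT, fun _ => ?_⟩, fun x hP hN => ?_⟩
      · refine (h.hth.mul' hN2 hψ₀ hconj (fun x => ⟨x, rfl⟩) (fun x => rfl)).trans ?_
        rw [h.hth.conj _ (hN2.conj ⟨_, hψ₀, rfl⟩) _ hck.1]
        have e : (⟨c₀ ^ k, hck.1⟩ : S) = (⟨c₀, hc₀.1⟩ : S) ^ k :=
          Subtype.ext (by rw [Subgroup.coe_zpow])
        rw [e, map_zpow, hk, inv_mul_cancel]
      · show c₀ ^ k * ψF ⟨x, _⟩ * (c₀ ^ k)⁻¹ = φ ⟨x, hP⟩
        rw [hext x hP (hle hN)]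
        have hφQ : φ ⟨x, hP⟩ ∈ Q := by
          rw [← hr]
          exact ⟨⟨x, hP⟩, rfl⟩
        have h2 := (Subgroup.mem_centralizer_iff.1 hckc) _ hφQ
        rw [← h2]
        group
  · exact ⟨ψF.comp (Subgroup.inclusion hle), (hE _ _).2 ⟨hψ₀, hNT, fun h2 => absurd h2 hN2⟩,
      fun x hP hN => hext x hP (hle hN)⟩

/-- the kernel system is saturated -/
theorem saturated (hS : IsPGroup p S) (hF : F.IsSaturated p) (h : KerCtx p F lam T th)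
    {E : FusionSystem T}
    (hE : ∀ (P : Subgroup Ω) (φ : P →* Ω),
      φ ∈ E.Hom P ↔ φ ∈ F.Hom P ∧ P ≤ T ∧ (Type2 F lam P → th P φ = 1)) : E.IsSaturated p := by
  haveI : Finite T := finite_of_le h.hTS
  have hT : IsPGroup p T := hS.to_le h.hTS
  apply Cfsg.Agent.S5110.result p hT E {P | P ≤ T} (fun P hP => hP)
  · rintro P hP Q ⟨φ, hφ, rfl⟩
    exact range_le_of_hom_mem E hφ
  · intro P hP
    obtain ⟨Q, hPQ, hQfn⟩ := h.exists_conj_fn hE hP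
    have hQT : Q ≤ T := isConj_le_right E hPQ
    exact ⟨Q, hPQ, h.fullyAutomized_of_fn hS hF hE hQT hQfn, h.receptive_of_fn hS hF hE hQT hQfn⟩
  · intro E' hE' P φ hφ
    exact hE' P (le_of_hom_mem E hφ) hφ
  · intro P hPc hP
    exact absurd hPc.1 hP

end KerCtx

end rec

end Cfsg.Agent.Lib.Helper29
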