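import Cfsg.Agent.Lib.Helper29.PPILemma3

/-!
The inductive step in the construction of the functor `θ`: extension to the conjugacy class of a fully
normalized subgroup `Q` of maximal order outside the family `𝒟`.
-/
set_option autoImplicit false

namespace Cfsg.Agent.Lib.Helper29
open Cfsg

variable {Ω : Type*} [Group Ω] {S : Subgroup Ω} {C : Type*} [CommGroup C]

section frames

variable [Finite S] {p : ℕ} [Fact p.Prime] {F : FusionSystem S}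

/-- a frame for `P` in the class of `Q`: an isomorphism `ε : Q → P` whose inverse extends to `ν` on `N_S(P)` -/
structure FrameOK (F : FusionSystem S) (Q P : Subgroup Ω)
    (e : (Q →* Ω) × (↥(FusionSystem.normalizerIn S P) →* Ω)) : Prop where
  hε : e.1 ∈ F.Hom Q
  hεr : e.1.range = P
  hν : e.2 ∈ F.Hom (FusionSystem.normalizerIn S P)
  hνε : ∀ (y : Q) (h : e.1 y ∈ FusionSystem.normalizerIn S P), e.2 ⟨e.1 y, h⟩ = y

namespace FrameOK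

variable {Q P : Subgroup Ω} {e : (Q →* Ω) × (↥(FusionSystem.normalizerIn S P) →* Ω)}

theorem mem (h : FrameOK F Q P e) (y : Q) : e.1 y ∈ P := by
  have h1 : e.1 y ∈ e.1.range := ⟨y, rfl⟩
  rw [h.hεr] at h1
  exact h1

theorem leS (h : FrameOK F Q P e) : P ≤ S := by
  have h1 := range_le_of_hom_mem F h.hε
  rw [h.hεr] at h1
  exact h1

theorem isConj (h : FrameOK F Q P e) : F.IsConj Q P := ⟨e.1, h.hε, h.hεr⟩

theorem exists_eq (h : FrameOK F Q P e) {x : Ω} (hx : x ∈ P) : ∃ y : Q, e.1 y = x := by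
  have hx' : x ∈ e.1.range := by rw [h.hεr]; exact hx
  exact hx'

theorem ν_mem (h : FrameOK F Q P e) {x : Ω} (hx : x ∈ P) (hx' : x ∈ FusionSystem.normalizerIn S P) :
    e.2 ⟨x, hx'⟩ ∈ Q := by
  obtain ⟨y, rfl⟩ := h.exists_eq hx
  rw [h.hνε y hx']
  exact y.2

theorem ε_ν (h : FrameOK F Q P e) {x : Ω} (hx : x ∈ P) (hx' : x ∈ FusionSystem.normalizerIn S P)
    (hq : e.2 ⟨x, hx'⟩ ∈ Q) : e.1 ⟨e.2 ⟨x, hx'⟩, hq⟩ = x := by
  obtain ⟨y, rfl⟩ := h.exists_eq hx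
  congr 1
  exact Subtype.ext (h.hνε y hx')

end FrameOK

theorem exists_frame (hS : IsPGroup p S) (hF : F.IsSaturated p) {Q P : Subgroup Ω}
    (hQfn : F.IsFullyNormalized Q) (hPQ : F.IsConj P Q) :
    ∃ e : (Q →* Ω) × (↥(FusionSystem.normalizerIn S P) →* Ω), FrameOK F Q P e := by
  have hsat := (Cfsg.Agent.S5077.result p hS F).1 hF
  obtain ⟨hfc, hfa⟩ := hsat.1 Q hQfn
  have hrec := hsat.2 Q hfc
  have hPS : P ≤ S := isConj_le_left F hPQ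
  obtain ⟨ν, hν, _, hνQ, hνmap⟩ := exists_hom_normalizer p hS F Q P hfa hrec hPQ
  have hνP := restrict_mem F (le_normalizerIn hPS) hν
  have hr : (ν.comp (Subgroup.inclusion (le_normalizerIn hPS))).range = Q := by
    rw [← hνmap]
    ext z
    constructor
    · rintro ⟨x, rfl⟩
      exact ⟨Subgroup.inclusion (le_normalizerIn hPS) x, Subgroup.mem_subgroupOf.2 x.2, rfl⟩
    · rintro ⟨x, hx, rfl⟩
      exact ⟨⟨x, Subgroup.mem_subgroupOf.1 hx⟩, rfl⟩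
  obtain ⟨ε, hε, hεinv⟩ := exists_inv_iso F hνP hr
  have hsurj : ∀ y : Q, ∃ x : P, ν (Subgroup.inclusion (le_normalizerIn hPS) x) = y := by
    intro y
    have hy : (y : Ω) ∈ (ν.comp (Subgroup.inclusion (le_normalizerIn hPS))).range := by
      rw [hr]
      exact y.2
    exact hy
  have hεy : ∀ (y : Q) (x : P), ν (Subgroup.inclusion (le_normalizerIn hPS) x) = y → ε y = x := by
    intro y x hx
    have h1 := hεinv x (by
      show ν (Subgroup.inclusion (le_normalizerIn hPS) x) ∈ Q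
      rw [hx]
      exact y.2)
    rw [← h1]
    congr 1
    exact Subtype.ext hx.symm
  refine ⟨(ε, ν), hε, ?_, hν, ?_⟩
  · ext z
    constructor
    · rintro ⟨y, rfl⟩
      obtain ⟨x, hx⟩ := hsurj y
      show ε y ∈ P
      rw [hεy y x hx]
      exact x.2
    · intro hz
      refine ⟨⟨ν (Subgroup.inclusion (le_normalizerIn hPS) ⟨z, hz⟩), ?_⟩, ?_⟩
      · exact hνQ z hz _
      · exact hεy _ ⟨z, hz⟩ rfl
  · intro y hy
    obtain ⟨x, hx⟩ := hsurj y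
    have e1 : (ε, ν).1 y = x := hεy y x hx
    show ν ⟨ε y, hy⟩ = y
    rw [← hx]
    congr 1
    exact Subtype.ext e1

theorem card_lt_normalizer_inf (hS : IsPGroup p S) {P R : Subgroup Ω} (hPR : P ≤ R) (hRS : R ≤ S)
    (hne : P ≠ R) : Nat.card P < Nat.card ↥(R ⊓ FusionSystem.normalizerIn S P) := by
  haveI : Finite R := finite_of_le hRS
  have hR : IsPGroup p R := hS.to_le hRS
  have h1 := normalizerIn_ne_self (S := R) hR hPR hne
  have hle1 : P ≤ FusionSystem.normalizerIn R P := le_normalizerIn hPR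
  have hle2 : FusionSystem.normalizerIn R P ≤ R ⊓ FusionSystem.normalizerIn S P :=
    fun x hx => ⟨hx.1, hRS hx.1, hx.2⟩
  haveI : Finite ↥(R ⊓ FusionSystem.normalizerIn S P) := finite_of_le (inf_le_left.trans hRS)
  haveI : Finite ↥(FusionSystem.normalizerIn R P) := finite_of_le (inf_le_left.trans hRS)
  by_contra hcon
  rw [not_lt] at hcon
  have h2 : Nat.card ↥(FusionSystem.normalizerIn R P) ≤ Nat.card P :=
    (Subgroup.card_le_of_le hle2).trans hcon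
  exact h1 (Subgroup.eq_of_le_of_card_ge hle1 h2).symm

end frames

section rel

variable [Finite S] {p : ℕ} [Fact p.Prime] {F : FusionSystem S} {lam : S →* C} {𝒟 : Set (Subgroup Ω)}
  {th : (P : Subgroup Ω) → (P →* Ω) → C} {Q : Subgroup Ω} {tq : (Q →* Ω) → C}

/-- relative form of `theta_lemma3`: two maps on `R ⊵ P` carrying `P` to `Q` -/
theorem theta_lemma3_rel (hS : IsPGroup p S) (hF : F.IsSaturated p) (hC : IsPGroup p C)
    (h : L3Ctx F lam 𝒟 th Q tq) (hQfn : F.IsFullyNormalized Q) {R P : Subgroup Ω} (hPR : P ≤ R)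
    (hRN : R ≤ FusionSystem.normalizerIn S P) (hcard : Nat.card Q < Nat.card R)
    {μ₁ μ₂ : R →* Ω} (hμ₁ : μ₁ ∈ F.Hom R) (hμ₂ : μ₂ ∈ F.Hom R) {ε : Q →* Ω} (hε : ε ∈ F.Hom Q)
    (hεr : ε.range = P) (hμ₁ε : ∀ (y : Q) (hy : ε y ∈ R), μ₁ ⟨ε y, hy⟩ = y)
    (hμ₂P : ∀ x : R, (x : Ω) ∈ P → μ₂ x ∈ Q) {β : Q →* Ω}
    (hβ : ∀ (y : Q) (hy : ε y ∈ R), β y = μ₂ ⟨ε y, hy⟩) :
    tq β = th R μ₂ * (th R μ₁)⁻¹ := by
  have hQS := hQfn.1
  have hRS : R ≤ S := hRN.trans inf_le_left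
  haveI : Finite Q := finite_of_le hQS
  haveI : Finite R := finite_of_le hRS
  have hεP : ∀ y : Q, ε y ∈ P := fun y => by
    have h1 : ε y ∈ ε.range := ⟨y, rfl⟩
    rwa [hεr] at h1
  have hεR : ∀ y : Q, ε y ∈ R := fun y => hPR (hεP y)
  have hQP : F.IsConj Q P := ⟨ε, hε, hεr⟩
  have hRD : R ∈ 𝒟 := h.hbig R ((h.hQ2.conj hQP).of_le hPR hRS) hcard
  have hMD : μ₁.range ∈ 𝒟 := h.adm.2.1 R hRD _ ⟨μ₁, hμ₁, rfl⟩
  have hQM : Q ≤ μ₁.range := fun y hy => ⟨⟨ε ⟨y, hy⟩, hεR _⟩, hμ₁ε ⟨y, hy⟩ _⟩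
  have hMN : μ₁.range ≤ FusionSystem.normalizerIn S Q := by
    rintro _ ⟨r, rfl⟩
    refine ⟨(F.le_of_mem hμ₁).2 r, ?_⟩
    apply mem_normalizer_of_conj_le
    intro y hy
    have hrP : (r : Ω) * ε ⟨y, hy⟩ * (r : Ω)⁻¹ ∈ P :=
      (Subgroup.mem_normalizer_iff.1 (hRN r.2).2 _).1 (hεP _)
    have hrP' : (r : Ω) * ε ⟨y, hy⟩ * (r : Ω)⁻¹ ∈ ε.range := by rw [hεr]; exact hrP
    obtain ⟨y', hy'⟩ := hrP'
    have e1 : μ₁ r * y * (μ₁ r)⁻¹ = μ₁ ⟨ε y', hεR y'⟩ := by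
      have e2 : (⟨ε y', hεR y'⟩ : R) = r * ⟨ε ⟨y, hy⟩, hεR _⟩ * r⁻¹ := Subtype.ext hy'
      rw [e2, map_mul, map_mul, map_inv, hμ₁ε ⟨y, hy⟩]
    rw [e1, hμ₁ε y']
    exact y'.2
  have hcardM : Nat.card Q < Nat.card μ₁.range := by
    have : Nat.card μ₁.range = Nat.card R :=
      (Nat.card_congr (MonoidHom.ofInjective (F.injective_of_mem hμ₁)).toEquiv).symm
    rw [this]
    exact hcard
  obtain ⟨ψ, hψ, hψinv⟩ := F.inv_mem hμ₁
  have hψR : ∀ m : μ₁.range, ψ m ∈ R := by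
    rintro ⟨_, r, rfl⟩
    rw [hψinv r]
    exact r.2
  have hω := F.comp_mem hψ hμ₂ hψR
  have hψy : ∀ y : Q, ψ (Subgroup.inclusion hQM y) = ε y := by
    intro y
    have e : (Subgroup.inclusion hQM y : μ₁.range) = ⟨μ₁ ⟨ε y, hεR y⟩, ⟨_, rfl⟩⟩ :=
      Subtype.ext (hμ₁ε y _).symm
    rw [e, hψinv]
  have hωy : ∀ y : Q, (μ₂.comp (ψ.codRestrict R hψR)) (Subgroup.inclusion hQM y) = μ₂ ⟨ε y, hεR y⟩ := by
    intro y
    show μ₂ ⟨ψ (Subgroup.inclusion hQM y), _⟩ = _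
    congr 1
    exact Subtype.ext (hψy y)
  have hωQ : ∀ y : Q, (μ₂.comp (ψ.codRestrict R hψR)) (Subgroup.inclusion hQM y) ∈ Q := by
    intro y
    rw [hωy]
    exact hμ₂P _ (hεP y)
  have h3 := theta_lemma3 hS hF hC h hQfn hQM hMN hcardM hω hωQ
  have e1 : (μ₂.comp (ψ.codRestrict R hψR)).comp (Subgroup.inclusion hQM) = β := by
    ext y
    rw [hβ y (hεR y)]
    exact hωy y
  rw [e1] at h3
  rw [h3, h.hth.mul _ hMD _ _ _ hψR hψ hμ₂,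
    h.hth.inv' hRD hμ₁ hψ (fun x => ⟨x, rfl⟩) (fun x => hψinv x)]

end rel

section step

variable [Finite S] {p : ℕ} [Fact p.Prime] {F : FusionSystem S} {lam : S →* C} {𝒟 : Set (Subgroup Ω)}
  {th : (P : Subgroup Ω) → (P →* Ω) → C} {Q : Subgroup Ω} {tq : (Q →* Ω) → C}

/-- a choice of frames -/
abbrev FrameFam (S Q : Subgroup Ω) :=
  (P : Subgroup Ω) → (Q →* Ω) × (↥(FusionSystem.normalizerIn S P) →* Ω)

/-- `w(P) = θ(ν_P)` -/
def Wt (th : (P : Subgroup Ω) → (P →* Ω) → C) (fr : FrameFam S Q) (P : Subgroup Ω) : C :=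
  th (FusionSystem.normalizerIn S P) (fr P).2

/-- `β = ν_{P₁} ∘ φ ∘ ε_P` -/
def IsB (fr : FrameFam S Q) (P : Subgroup Ω) (φ : P →* Ω) (P₁ : Subgroup Ω) (β : Q →* Ω) : Prop :=
  ∀ y : Q, ∃ (h1 : (fr P).1 y ∈ P) (h2 : φ ⟨(fr P).1 y, h1⟩ ∈ FusionSystem.normalizerIn S P₁),
    β y = (fr P₁).2 ⟨φ ⟨(fr P).1 y, h1⟩, h2⟩

theorem isB_unique {fr : FrameFam S Q} {P : Subgroup Ω} {φ : P →* Ω} {P₁ : Subgroup Ω} {β β' : Q →* Ω}
    (h : IsB fr P φ P₁ β) (h' : IsB fr P φ P₁ β') : β = β' := by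
  ext y
  obtain ⟨a1, a2, ha⟩ := h y
  obtain ⟨b1, b2, hb⟩ := h' y
  rw [ha, hb]

open Classical in
/-- the extension of `θ` to the class of `Q` -/
noncomputable def thNew (F : FusionSystem S) (th : (P : Subgroup Ω) → (P →* Ω) → C) (tq : (Q →* Ω) → C)
    (fr : FrameFam S Q) (P : Subgroup Ω) (φ : P →* Ω) : C :=
  if h : F.IsConj P Q ∧ ∃ β, IsB fr P φ φ.range β then
    (Wt th fr φ.range)⁻¹ * tq (Classical.choose h.2) * Wt th fr P
  else th P φ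

theorem thNew_eq {fr : FrameFam S Q} {P : Subgroup Ω} {φ : P →* Ω} {P₁ : Subgroup Ω} {β : Q →* Ω}
    (hPQ : F.IsConj P Q) (hr : φ.range = P₁) (hβ : IsB fr P φ P₁ β) :
    thNew F th tq fr P φ = (Wt th fr P₁)⁻¹ * tq β * Wt th fr P := by
  subst hr
  have h : F.IsConj P Q ∧ ∃ β, IsB fr P φ φ.range β := ⟨hPQ, β, hβ⟩
  unfold thNew
  rw [dif_pos h, isB_unique (Classical.choose_spec h.2) hβ]

theorem thNew_old {fr : FrameFam S Q} {P : Subgroup Ω} {φ : P →* Ω} (hPQ : ¬ F.IsConj P Q) :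
    thNew F th tq fr P φ = th P φ := by
  unfold thNew
  rw [dif_neg (fun h => hPQ h.1)]

/-- the hypotheses of the inductive step -/
structure StepCtx (F : FusionSystem S) (lam : S →* C) (𝒟 : Set (Subgroup Ω))
    (th : (P : Subgroup Ω) → (P →* Ω) → C) (Q : Subgroup Ω) (tq : (Q →* Ω) → C)
    (fr : FrameFam S Q) : Prop where
  ctx : L3Ctx F lam 𝒟 th Q tq
  hQfn : F.IsFullyNormalized Q
  hQD : Q ∉ 𝒟
  hSD : S ∈ 𝒟
  hfr : ∀ P, F.IsConj P Q → FrameOK F Q P (fr P)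

namespace StepCtx

variable {fr : FrameFam S Q}

theorem not_conj_of_mem (hc : StepCtx F lam 𝒟 th Q tq fr) {P : Subgroup Ω} (hP : P ∈ 𝒟) :
    ¬ F.IsConj P Q := fun h => hc.hQD (hc.ctx.adm.2.1 P hP Q h)

theorem exists_isB (hc : StepCtx F lam 𝒟 th Q tq fr) {P : Subgroup Ω} {φ : P →* Ω} {P₁ : Subgroup Ω}
    (hPQ : F.IsConj P Q) (hφ : φ ∈ F.Hom P) (hr : φ.range = P₁) :
    ∃ β, IsB fr P φ P₁ β ∧ β ∈ F.Hom Q ∧ ∀ y, β y ∈ Q := by
  have hP₁Q : F.IsConj P₁ Q := isConj_trans F (isConj_symm F ⟨φ, hφ, hr⟩) hPQ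
  have fP := hc.hfr P hPQ
  have fP₁ := hc.hfr P₁ hP₁Q
  have hmem : ∀ x : P, φ x ∈ P₁ := fun x => by rw [← hr]; exact ⟨x, rfl⟩
  have hh : ∀ y : Q, (φ.comp ((fr P).1.codRestrict P fP.mem)) y ∈ FusionSystem.normalizerIn S P₁ :=
    fun y => le_normalizerIn fP₁.leS (hmem _)
  refine ⟨(fr P₁).2.comp ((φ.comp ((fr P).1.codRestrict P fP.mem)).codRestrict _ hh), ?_, ?_, ?_⟩
  · intro y
    exact ⟨fP.mem y, hh y, rfl⟩
  · exact F.comp_mem (F.comp_mem fP.hε hφ fP.mem) fP₁.hν hh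
  · intro y
    exact fP₁.ν_mem (hmem _) (hh y)

theorem isB_mul (hc : StepCtx F lam 𝒟 th Q tq fr) {P P₁ P₂ : Subgroup Ω} {φ : P →* Ω} {ψ : P₁ →* Ω}
    {χ : P →* Ω} {β₁ β₂ β : Q →* Ω} (hP₁Q : F.IsConj P₁ Q) (hB₁ : IsB fr P φ P₁ β₁)
    (hB₂ : IsB fr P₁ ψ P₂ β₂) (hB : IsB fr P χ P₂ β) (hφ : ∀ x, φ x ∈ P₁)
    (hχ : ∀ x, χ x = ψ ⟨φ x, hφ x⟩) (h₁ : ∀ y, β₁ y ∈ Q) (y : Q) : β y = β₂ ⟨β₁ y, h₁ y⟩ := by
  have fP₁ := hc.hfr P₁ hP₁Q
  obtain ⟨a1, a2, hβ₁⟩ := hB₁ y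
  obtain ⟨b1, b2, hβ₂⟩ := hB₂ ⟨β₁ y, h₁ y⟩
  obtain ⟨c1, c2, hβ⟩ := hB y
  have key : (fr P₁).1 ⟨β₁ y, h₁ y⟩ = φ ⟨(fr P).1 y, a1⟩ := by
    have hq : (fr P₁).2 ⟨φ ⟨(fr P).1 y, a1⟩, a2⟩ ∈ Q := by rw [← hβ₁]; exact h₁ y
    have h2 := fP₁.ε_ν (hφ _) a2 hq
    rw [← h2]
    congr 1
    exact Subtype.ext hβ₁
  rw [hβ, hβ₂]
  congr 1
  apply Subtype.ext
  show χ ⟨(fr P).1 y, c1⟩ = ψ ⟨(fr P₁).1 ⟨β₁ y, h₁ y⟩, b1⟩
  rw [hχ]
  congr 1
  exact Subtype.ext key.symm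

end StepCtx

end step

section step2

variable [Finite S] {p : ℕ} [Fact p.Prime] {F : FusionSystem S} {lam : S →* C} {𝒟 : Set (Subgroup Ω)}
  {th : (P : Subgroup Ω) → (P →* Ω) → C} {Q : Subgroup Ω} {tq : (Q →* Ω) → C} {fr : FrameFam S Q}

namespace StepCtx

/-- the new `θ` on a member of the class of `Q` is compatible with restriction from `𝒟` -/
theorem res_new (hS : IsPGroup p S) (hF : F.IsSaturated p) (hC : IsPGroup p C)
    (hc : StepCtx F lam 𝒟 th Q tq fr) {P R : Subgroup Ω} (hPQ : F.IsConj P Q) (hPR : P ≤ R)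
    (hRD : R ∈ 𝒟) {ψ : R →* Ω} (hψ : ψ ∈ F.Hom R) {χ : P →* Ω} (hχ : ∀ x : P, χ x = ψ ⟨x, hPR x.2⟩) :
    thNew F th tq fr P χ = th R ψ := by
  have h := hc.ctx
  have hRS : R ≤ S := le_of_hom_mem F hψ
  have hPS : P ≤ S := hPR.trans hRS
  haveI : Finite P := finite_of_le hPS
  have hχe : χ = ψ.comp (Subgroup.inclusion hPR) := by
    ext x
    exact hχ x
  have hχF : χ ∈ F.Hom P := by
    rw [hχe]
    exact restrict_mem F hPR hψ
  have hP₂Q : F.IsConj χ.range Q := isConj_trans F (isConj_symm F ⟨χ, hχF, rfl⟩) hPQ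
  have fP := hc.hfr P hPQ
  have fP₂ := hc.hfr χ.range hP₂Q
  haveI : Finite χ.range := finite_of_le fP₂.leS
  have hne : P ≠ R := by
    rintro rfl
    exact hc.not_conj_of_mem hRD hPQ
  have hlt := card_lt_normalizer_inf hS hPR hRS hne
  rw [card_eq_of_isConj F hPQ] at hlt
  have hPR₁ : P ≤ R ⊓ FusionSystem.normalizerIn S P := le_inf hPR (le_normalizerIn hPS)
  have hR₁S : R ⊓ FusionSystem.normalizerIn S P ≤ S := inf_le_left.trans hRS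
  have hR₁D : R ⊓ FusionSystem.normalizerIn S P ∈ 𝒟 :=
    h.hbig _ ((h.hQ2.conj (isConj_symm F hPQ)).of_le hPR₁ hR₁S) hlt
  -- the three maps on `R₁`
  have hψ₁ := restrict_mem F (inf_le_left : R ⊓ FusionSystem.normalizerIn S P ≤ R) hψ
  have hμ₁ := restrict_mem F (inf_le_right : R ⊓ FusionSystem.normalizerIn S P ≤ _) fP.hν
  have e1 : th _ (ψ.comp (Subgroup.inclusion (inf_le_left : R ⊓ FusionSystem.normalizerIn S P ≤ R))) =
      th R ψ := h.hth.res' hR₁D hR₁S inf_le_left hψ (fun x => rfl)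
  have e2 : th _ ((fr P).2.comp (Subgroup.inclusion
      (inf_le_right : R ⊓ FusionSystem.normalizerIn S P ≤ _))) = Wt th fr P :=
    h.hth.res' hR₁D hR₁S inf_le_right fP.hν (fun x => rfl)
  have hψ₁N : ∀ r : ↥(R ⊓ FusionSystem.normalizerIn S P),
      (ψ.comp (Subgroup.inclusion (inf_le_left : R ⊓ FusionSystem.normalizerIn S P ≤ R))) r ∈
        FusionSystem.normalizerIn S χ.range := by
    intro r
    refine ⟨(F.le_of_mem hψ₁).2 r, ?_⟩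
    apply mem_normalizer_of_conj_le
    rintro _ ⟨x, rfl⟩
    have hrx : (r : Ω) * x * (r : Ω)⁻¹ ∈ P := (Subgroup.mem_normalizer_iff.1 r.2.2.2 _).1 x.2
    refine ⟨⟨_, hrx⟩, ?_⟩
    rw [hχ, hχ]
    show ψ ⟨(r : Ω) * x * (r : Ω)⁻¹, _⟩ = ψ ⟨r, _⟩ * ψ ⟨x, _⟩ * (ψ ⟨r, _⟩)⁻¹
    rw [← map_inv, ← map_mul, ← map_mul]
    rfl
  have hμ₂ := F.comp_mem hψ₁ fP₂.hν hψ₁N
  have e3 := h.hth.mul _ hR₁D _ _ _ hψ₁N hψ₁ fP₂.hν
  obtain ⟨β, hB, hβF, hβQ⟩ := hc.exists_isB hPQ hχF rfl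
  rw [thNew_eq hPQ rfl hB]
  have h3 := theta_lemma3_rel hS hF hC h hc.hQfn hPR₁ inf_le_right hlt hμ₁ hμ₂ fP.hε fP.hεr
    (fun y hy => fP.hνε y _)
    (fun x hx => by
      show (fr χ.range).2 ⟨ψ ⟨x, _⟩, _⟩ ∈ Q
      apply fP₂.ν_mem
      exact ⟨⟨x, hx⟩, hχ _⟩)
    (β := β) (fun y hy => by
      obtain ⟨a1, a2, ha⟩ := hB y
      rw [ha]
      show _ = (fr χ.range).2 ⟨ψ ⟨(fr P).1 y, _⟩, _⟩
      congr 1
      exact Subtype.ext (hχ _))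
  rw [h3, e3, e2, e1]
  show (Wt th fr χ.range)⁻¹ * (Wt th fr χ.range * th R ψ * (Wt th fr P)⁻¹) * Wt th fr P = th R ψ
  group

/-- multiplicativity of the new `θ` inside the class of `Q` -/
theorem mul_new_class (hc : StepCtx F lam 𝒟 th Q tq fr) {P : Subgroup Ω} (hPQ : F.IsConj P Q)
    {φ : P →* Ω} (hφ : φ ∈ F.Hom P) {ψ₁ : φ.range →* Ω} (hψ₁ : ψ₁ ∈ F.Hom φ.range) {χ : P →* Ω}
    (hχ : ∀ x, χ x = ψ₁ ⟨φ x, ⟨x, rfl⟩⟩) :
    thNew F th tq fr P χ = thNew F th tq fr φ.range ψ₁ * thNew F th tq fr P φ := by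
  have h := hc.ctx
  have hP₁Q : F.IsConj φ.range Q := isConj_trans F (isConj_symm F ⟨φ, hφ, rfl⟩) hPQ
  have hχF : χ ∈ F.Hom P := comp_mem' F hφ hψ₁ (fun x => ⟨x, rfl⟩) hχ
  have hr : χ.range = ψ₁.range := by
    ext z
    constructor
    · rintro ⟨x, rfl⟩
      exact ⟨_, (hχ x).symm⟩
    · rintro ⟨⟨_, x, rfl⟩, rfl⟩
      exact ⟨x, hχ x⟩
  obtain ⟨β₁, hB₁, hβ₁F, hβ₁Q⟩ := hc.exists_isB hPQ hφ rfl
  obtain ⟨β₂, hB₂, hβ₂F, hβ₂Q⟩ := hc.exists_isB hP₁Q hψ₁ rfl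
  obtain ⟨β, hB, hβF, hβQ⟩ := hc.exists_isB hPQ hχF hr
  rw [thNew_eq hPQ hr hB, thNew_eq hP₁Q rfl hB₂, thNew_eq hPQ rfl hB₁,
    h.tqm' hβ₁F hβ₂F hβ₁Q hβ₂Q (hc.isB_mul hP₁Q hB₁ hB₂ hB (fun x => ⟨x, rfl⟩) hχ hβ₁Q)]
  group

end StepCtx

end step2

section step3

variable [Finite S] {p : ℕ} [Fact p.Prime] {F : FusionSystem S} {lam : S →* C} {𝒟 : Set (Subgroup Ω)}
  {th : (P : Subgroup Ω) → (P →* Ω) → C} {Q : Subgroup Ω} {tq : (Q →* Ω) → C} {fr : FrameFam S Q}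

namespace StepCtx

theorem admissible_union (hc : StepCtx F lam 𝒟 th Q tq fr) :
    Admissible F lam (𝒟 ∪ {P | F.IsConj P Q}) := by
  have h := hc.ctx
  refine ⟨?_, ?_, ?_⟩
  · rintro P (hP | hP)
    · exact h.adm.1 P hP
    · exact h.hQ2.conj (isConj_symm F hP)
  · rintro P (hP | hP) P' hPP'
    · exact Or.inl (h.adm.2.1 P hP P' hPP')
    · exact Or.inr (isConj_trans F (isConj_symm F hPP') hP)
  · rintro P (hP | hP) R hPR hRS
    · exact Or.inl (h.adm.2.2 P hP R hPR hRS)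
    · haveI : Finite R := finite_of_le hRS
      have hR2 : Type2 F lam R := (h.hQ2.conj (isConj_symm F hP)).of_le hPR hRS
      by_cases hlt : Nat.card Q < Nat.card R
      · exact Or.inl (h.hbig R hR2 hlt)
      · rw [not_lt, ← card_eq_of_isConj F hP] at hlt
        have e := Subgroup.eq_of_le_of_card_ge hPR hlt
        subst e
        exact Or.inr hP

theorem thetaOn_union (hS : IsPGroup p S) (hF : F.IsSaturated p) (hC : IsPGroup p C)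
    (hc : StepCtx F lam 𝒟 th Q tq fr) :
    ThetaOn F lam (𝒟 ∪ {P | F.IsConj P Q}) (thNew F th tq fr) := by
  have h := hc.ctx
  refine ⟨?_, ?_⟩
  · intro P hP g hg
    by_cases hPQ : F.IsConj P Q
    · have hPS := isConj_le_left F hPQ
      rw [hc.res_new hS hF hC hPQ hPS hc.hSD (F.conj_mem le_rfl hg) (χ := conjHom P g) (fun x => rfl)]
      exact h.hth.conj S hc.hSD g hg
    · rcases hP with hP | hP
      · rw [thNew_old hPQ]
        exact h.hth.conj P hP g hg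
      · exact absurd hP hPQ
  · intro P hP R φ ψ hv hφ hψ
    have hRS : R ≤ S := le_of_hom_mem F hψ
    haveI : Finite R := finite_of_le hRS
    by_cases hPQ : F.IsConj P Q
    · have hP₁Q : F.IsConj φ.range Q := isConj_trans F (isConj_symm F ⟨φ, hφ, rfl⟩) hPQ
      have hP₁R : φ.range ≤ R := by
        rintro _ ⟨x, rfl⟩
        exact hv x
      have hψ₁ := restrict_mem F hP₁R hψ
      rw [hc.mul_new_class hPQ hφ hψ₁ (χ := ψ.comp (φ.codRestrict R hv)) (fun x => rfl)]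
      congr 1
      by_cases hRD : R ∈ 𝒟
      · rw [thNew_old (hc.not_conj_of_mem hRD)]
        exact hc.res_new hS hF hC hP₁Q hP₁R hRD hψ (fun x => rfl)
      · have hR2 : Type2 F lam R := (h.hQ2.conj (isConj_symm F hP₁Q)).of_le hP₁R hRS
        have hlt : ¬ Nat.card Q < Nat.card R := fun hlt => hRD (h.hbig R hR2 hlt)
        rw [not_lt, ← card_eq_of_isConj F hP₁Q] at hlt
        have e := Subgroup.eq_of_le_of_card_ge hP₁R hlt
        subst e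
        congr 1
    · have hPD : P ∈ 𝒟 := by
        rcases hP with hP | hP
        · exact hP
        · exact absurd hP hPQ
      have hP₁D : φ.range ∈ 𝒟 := h.adm.2.1 P hPD _ ⟨φ, hφ, rfl⟩
      have hRD : R ∈ 𝒟 := h.adm.2.2 _ hP₁D R (by
        rintro _ ⟨x, rfl⟩
        exact hv x) hRS
      rw [thNew_old hPQ, thNew_old hPQ, thNew_old (hc.not_conj_of_mem hRD)]
      exact h.hth.mul P hPD R φ ψ hv hφ hψ

end StepCtx

end step3

end Cfsg.Agent.Lib.Helper29
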