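import Cfsg.Agent.Lib.Helper29.SatLeads

set_option autoImplicit false
open Cfsg

namespace Cfsg.Agent.Lib.Helper29

variable {Ω : Type*} [Group Ω] {S : Subgroup Ω}

section transportCore

variable {A B : Type*} [Group A] [Group B]

theorem map_sSup_mulEquiv' (e : A ≃* B) (SA : Set (Subgroup A)) (SB : Set (Subgroup B))
    (h1 : ∀ N ∈ SA, N.map e.toMonoidHom ∈ SB) (h2 : ∀ N ∈ SB, N.map e.symm.toMonoidHom ∈ SA) :
    (sSup SA).map e.toMonoidHom = sSup SB := by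
  apply le_antisymm
  · rw [Subgroup.map_le_iff_le_comap]
    apply sSup_le
    intro N hN
    rw [← Subgroup.map_le_iff_le_comap]
    exact le_sSup (h1 N hN)
  · apply sSup_le
    intro N hN
    have h3 : (N.map e.symm.toMonoidHom).map e.toMonoidHom = N := by
      rw [Subgroup.map_map]
      have : e.toMonoidHom.comp e.symm.toMonoidHom = MonoidHom.id B := by
        ext x
        simp
      rw [this, Subgroup.map_id]
    rw [← h3]
    exact Subgroup.map_mono (le_sSup (h2 N hN))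

theorem pCore_map_mulEquiv' (p : ℕ) (e : A ≃* B) : (pCore p A).map e.toMonoidHom = pCore p B := by
  unfold pCore
  apply map_sSup_mulEquiv'
  · rintro N ⟨hNn, hNp⟩
    exact ⟨hNn.map _ e.surjective, hNp.map _⟩
  · rintro N ⟨hNn, hNp⟩
    exact ⟨hNn.map _ e.symm.surjective, hNp.map _⟩

/-- transport of the `p`-core of a subgroup along an isomorphism of ambient groups -/
theorem pCore_transport {M M' : Type*} [Group M] [Group M'] (p : ℕ) (Φ : M ≃* M') {A : Subgroup M}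
    {A' : Subgroup M'} (hA : ∀ α, α ∈ A ↔ Φ α ∈ A') (α : M) :
    α ∈ (pCore p A).map A.subtype ↔ Φ α ∈ (pCore p A').map A'.subtype := by
  have hAA' : A.map Φ.toMonoidHom = A' := by
    ext y
    constructor
    · rintro ⟨x, hx, rfl⟩
      exact (hA x).1 hx
    · intro hy
      refine ⟨Φ.symm y, (hA _).2 ?_, ?_⟩
      · rw [MulEquiv.apply_symm_apply]
        exact hy
      · exact Φ.apply_symm_apply y
  set Ψ : A ≃* A' := (Φ.subgroupMap A).trans (MulEquiv.subgroupCongr hAA') with hΨ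
  have hΨcoe : ∀ a : A, ((Ψ a : A') : M') = Φ a := fun a => rfl
  have hcore := pCore_map_mulEquiv' p Ψ
  constructor
  · rintro ⟨a, ha, rfl⟩
    refine ⟨Ψ a, ?_, hΨcoe a⟩
    rw [← hcore]
    exact ⟨a, ha, rfl⟩
  · rintro ⟨a', ha', hae⟩
    rw [← hcore] at ha'
    obtain ⟨a, ha, rfl⟩ := ha'
    refine ⟨a, ha, ?_⟩
    apply Φ.injective
    rw [← hae]
    exact (hΨcoe a).symm

end transportCore

/-- `O_p(Aut_F(P))` as a subgroup of `Aut(P)` -/
def opAut (F : FusionSystem S) (p : ℕ) (P : Subgroup Ω) : Subgroup (MulAut P) :=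
  (pCore p (F.autGroup P)).map (F.autGroup P).subtype

theorem opAut_le (F : FusionSystem S) (p : ℕ) (P : Subgroup Ω) : opAut F p P ≤ F.autGroup P := by
  rintro _ ⟨a, _, rfl⟩
  exact a.2

theorem opAut_conj_mem (F : FusionSystem S) (p : ℕ) {P : Subgroup Ω} {α o : MulAut P}
    (hα : α ∈ F.autGroup P) (ho : o ∈ opAut F p P) : α * o * α⁻¹ ∈ opAut F p P := by
  obtain ⟨a, ha, rfl⟩ := ho
  have hn : (pCore p (F.autGroup P)).Normal := pCore_normal' p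
  exact ⟨⟨α, hα⟩ * a * ⟨α, hα⟩⁻¹, hn.conj_mem a ha ⟨α, hα⟩, rfl⟩

theorem inn_normal' (G : Type*) [Group G] : (Inn G).Normal := by
  constructor
  rintro _ ⟨g, rfl⟩ α
  refine ⟨α g, ?_⟩
  ext x
  simp [MulAut.conj_apply]

theorem inn_le_opAut {p : ℕ} (hS : IsPGroup p S) (F : FusionSystem S) {P : Subgroup Ω} (hP : P ≤ S) :
    Inn P ≤ opAut F p P := by
  intro α hα
  have hle := inn_le_autGroup F hP
  have hn : ((Inn P).subgroupOf (F.autGroup P)).Normal := (inn_normal' P).subgroupOf _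
  have hp : IsPGroup p ((Inn P).subgroupOf (F.autGroup P)) :=
    (isPGroup_subgroupOf_iff_of_le hle).2 (isPGroup_inn hS hP)
  have h1 := le_pCore' hn hp
  exact ⟨⟨α, hle hα⟩, h1 (Subgroup.mem_subgroupOf.2 hα), rfl⟩

theorem opAut_congr (F : FusionSystem S) (p : ℕ) {Q P : Subgroup Ω} {φ : Q →* Ω} (hφ : φ ∈ F.Hom Q)
    (hr : φ.range = P) (α : MulAut Q) :
    α ∈ opAut F p Q ↔ MulAut.congr (isoOfHom F hφ hr) α ∈ opAut F p P :=
  pCore_transport p (MulAut.congr (isoOfHom F hφ hr)) (fun α => congr_mem_autGroup_iff F hφ hr α) α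

/-- the elements of `N_S(P)` inducing on `P` an element of `O_p(Aut_F(P))` -/
def hatSub (F : FusionSystem S) (p : ℕ) (P : Subgroup Ω) : Subgroup Ω :=
  (((opAut F p P).comap P.normalizerMonoidHom).map (Subgroup.normalizer (P : Set Ω)).subtype) ⊓ S

theorem mem_hatSub {F : FusionSystem S} {p : ℕ} {P : Subgroup Ω} {g : Ω} : g ∈ hatSub F p P ↔
    g ∈ S ∧ ∃ hg : g ∈ Subgroup.normalizer (P : Set Ω), P.normalizerMonoidHom ⟨g, hg⟩ ∈ opAut F p P := by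
  constructor
  · rintro ⟨⟨n, hn, rfl⟩, hS⟩
    exact ⟨hS, n.2, hn⟩
  · rintro ⟨hS, hg, h⟩
    exact ⟨⟨⟨g, hg⟩, h, rfl⟩, hS⟩

theorem hatSub_le_S (F : FusionSystem S) (p : ℕ) (P : Subgroup Ω) : hatSub F p P ≤ S := inf_le_right

theorem hatSub_le_normalizerIn (F : FusionSystem S) (p : ℕ) (P : Subgroup Ω) :
    hatSub F p P ≤ FusionSystem.normalizerIn S P := by
  intro g hg
  obtain ⟨h1, h2, _⟩ := mem_hatSub.1 hg
  exact ⟨h1, h2⟩

theorem le_hatSub {p : ℕ} (hS : IsPGroup p S) (F : FusionSystem S) {P : Subgroup Ω} (hP : P ≤ S) :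
    P ≤ hatSub F p P := by
  intro g hg
  refine mem_hatSub.2 ⟨hP hg, Subgroup.le_normalizer hg, ?_⟩
  apply inn_le_opAut hS F hP
  refine ⟨⟨g, hg⟩, ?_⟩
  ext x
  rfl

theorem centralizerIn_le_hatSub (F : FusionSystem S) (p : ℕ) (P : Subgroup Ω) :
    FusionSystem.centralizerIn S P ≤ hatSub F p P := by
  intro g hg
  have hgN : g ∈ Subgroup.normalizer (P : Set Ω) :=
    (centralizerIn_le_normalizerIn S P hg).2
  refine mem_hatSub.2 ⟨hg.1, hgN, ?_⟩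
  have h1 : P.normalizerMonoidHom ⟨g, hgN⟩ = 1 := by
    refine MulEquiv.ext (fun x => Subtype.ext ?_)
    rw [normalizerMonoidHom_apply_coe]
    show g * (x : Ω) * g⁻¹ = x
    have := Subgroup.mem_centralizer_iff.1 hg.2 x x.2
    rw [← this]
    group
  rw [h1]
  exact Subgroup.one_mem _

theorem normalizerMonoidHom_mem_autGroup (F : FusionSystem S) {P : Subgroup Ω} (hP : P ≤ S) {g : Ω}
    (hgS : g ∈ S) (hg : g ∈ Subgroup.normalizer (P : Set Ω)) :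
    P.normalizerMonoidHom ⟨g, hg⟩ ∈ F.autGroup P :=
  autInducedBy_le_autGroup F hP (mem_autInducedBy_iff.2 ⟨g, hgS, hg, rfl⟩)

/-- `N_S(P)` normalizes the hat subgroup -/
theorem normalizerIn_le_normalizer_hatSub (F : FusionSystem S) (p : ℕ) {P : Subgroup Ω} (hP : P ≤ S) :
    FusionSystem.normalizerIn S P ≤ Subgroup.normalizer ((hatSub F p P : Subgroup Ω) : Set Ω) := by
  have key : ∀ n ∈ FusionSystem.normalizerIn S P, ∀ g ∈ hatSub F p P, n * g * n⁻¹ ∈ hatSub F p P := by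
    intro n hn g hg
    obtain ⟨hgS, hgN, hgO⟩ := mem_hatSub.1 hg
    have hnN : n ∈ Subgroup.normalizer (P : Set Ω) := hn.2
    have hN : n * g * n⁻¹ ∈ Subgroup.normalizer (P : Set Ω) :=
      Subgroup.mul_mem _ (Subgroup.mul_mem _ hnN hgN) (Subgroup.inv_mem _ hnN)
    refine mem_hatSub.2 ⟨S.mul_mem (S.mul_mem hn.1 hgS) (S.inv_mem hn.1), hN, ?_⟩
    have e : P.normalizerMonoidHom ⟨n * g * n⁻¹, hN⟩ =
        P.normalizerMonoidHom ⟨n, hnN⟩ * P.normalizerMonoidHom ⟨g, hgN⟩ *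
          (P.normalizerMonoidHom ⟨n, hnN⟩)⁻¹ := by
      rw [← map_inv, ← map_mul, ← map_mul]
      rfl
    rw [e]
    exact opAut_conj_mem F p (normalizerMonoidHom_mem_autGroup F hP hn.1 hnN) hgO
  intro n hn
  rw [Subgroup.mem_normalizer_iff]
  intro g
  constructor
  · exact key n hn g
  · intro h
    have := key n⁻¹ ((FusionSystem.normalizerIn S P).inv_mem hn) _ h
    have e : n⁻¹ * (n * g * n⁻¹) * n⁻¹⁻¹ = g := by group
    rwa [e] at this

/-- a map of the system defined on `R ≥ P` and stabilizing `P` carries elements of the hat subgroup to the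
hat subgroup -/
theorem hom_mem_hatSub [Finite S] (F : FusionSystem S) (p : ℕ) {P R : Subgroup Ω} {φ : R →* Ω}
    (hφ : φ ∈ F.Hom R) (hPR : P ≤ R) (himg : imgSub φ P = P) {g : R} (hg : (g : Ω) ∈ hatSub F p P) :
    φ g ∈ hatSub F p P := by
  have hRS : R ≤ S := le_of_hom_mem F hφ
  have hPS : P ≤ S := hPR.trans hRS
  haveI : Finite P := finite_of_le hPS
  obtain ⟨hgS, hgN, hgO⟩ := mem_hatSub.1 hg
  have hφP : ∀ x : P, φ (Subgroup.inclusion hPR x) ∈ P := by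
    intro x
    have h1 := imgSub_mem φ (Q := P) (x := Subgroup.inclusion hPR x) x.2
    rw [himg] at h1
    exact h1
  obtain ⟨α, hα, hαe⟩ := exists_aut_of_hom F (restrict_mem F hPR hφ) hφP
  have hN : φ g ∈ Subgroup.normalizer (P : Set Ω) := by
    have := imgSub_normalizer φ (Q := P) (g := g) hgN
    rwa [himg] at this
  refine mem_hatSub.2 ⟨(F.le_of_mem hφ).2 g, hN, ?_⟩
  have e : P.normalizerMonoidHom ⟨φ g, hN⟩ = α * P.normalizerMonoidHom ⟨(g : Ω), hgN⟩ * α⁻¹ := by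
    refine MulEquiv.ext (fun y => Subtype.ext ?_)
    obtain ⟨x, rfl⟩ := α.surjective y
    rw [normalizerMonoidHom_apply_coe]
    show φ g * ((α x : P) : Ω) * (φ g)⁻¹ = ((α (P.normalizerMonoidHom ⟨(g : Ω), hgN⟩ (α⁻¹ (α x))) : P) : Ω)
    rw [MulAut.inv_apply_self, hαe, hαe]
    show φ g * φ (Subgroup.inclusion hPR x) * (φ g)⁻¹ = φ (Subgroup.inclusion hPR _)
    rw [← map_inv, ← map_mul, ← map_mul]
    rfl
  rw [e]
  exact opAut_conj_mem F p hα hgO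

/-- a map of the system defined on `R ≥ hat(P)` and stabilizing `P` induces an `F`-automorphism of the hat
subgroup -/
theorem exists_hatAut_direct [Finite S] (F : FusionSystem S) (p : ℕ) {P R : Subgroup Ω} {φ : R →* Ω}
    (hφ : φ ∈ F.Hom R) (hPR : P ≤ R) (himg : imgSub φ P = P) (hle : hatSub F p P ≤ R) :
    ∃ α ∈ F.autGroup (hatSub F p P), ∀ (y : Ω) (_ : y ∈ P) (hR : y ∈ R) (hh : y ∈ hatSub F p P),
      ((α ⟨y, hh⟩ : hatSub F p P) : Ω) = φ ⟨y, hR⟩ := by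
  haveI : Finite (hatSub F p P) := finite_of_le (hatSub_le_S F p P)
  have hval : ∀ x : hatSub F p P, (φ.comp (Subgroup.inclusion hle)) x ∈ hatSub F p P :=
    fun x => hom_mem_hatSub F p hφ hPR himg (g := Subgroup.inclusion hle x) x.2
  obtain ⟨α, hα, hαe⟩ := exists_aut_of_hom F (restrict_mem F hle hφ) hval
  exact ⟨α, hα, fun y _ hR hh => hαe ⟨y, hh⟩⟩

/-- the product `H R` of a subgroup `H` with a subgroup `R` normalizing it -/
def mulSub (H R : Subgroup Ω) (hRH : R ≤ Subgroup.normalizer (H : Set Ω)) : Subgroup Ω where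
  carrier := {g | ∃ h ∈ H, ∃ r ∈ R, g = h * r}
  one_mem' := ⟨1, H.one_mem, 1, R.one_mem, by simp⟩
  mul_mem' := by
    rintro _ _ ⟨h₁, hh₁, r₁, hr₁, rfl⟩ ⟨h₂, hh₂, r₂, hr₂, rfl⟩
    refine ⟨h₁ * (r₁ * h₂ * r₁⁻¹),
      H.mul_mem hh₁ ((Subgroup.mem_normalizer_iff.1 (hRH hr₁) h₂).1 hh₂), r₁ * r₂, R.mul_mem hr₁ hr₂, ?_⟩
    group
  inv_mem' := by
    rintro _ ⟨h, hh, r, hr, rfl⟩
    refine ⟨r⁻¹ * h⁻¹ * r⁻¹⁻¹,
      (Subgroup.mem_normalizer_iff.1 (hRH (R.inv_mem hr)) h⁻¹).1 (H.inv_mem hh), r⁻¹, R.inv_mem hr, ?_⟩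
    group

/-- if `H ≰ R` and `R` normalizes `H` (inside the finite `p`-group `S`), some element of `H` outside `R`
normalizes `R` -/
theorem exists_normalizing_not_mem [Finite S] {p : ℕ} [Fact p.Prime] (hS : IsPGroup p S)
    {H R : Subgroup Ω} (hHS : H ≤ S) (hRS : R ≤ S) (hRH : R ≤ Subgroup.normalizer (H : Set Ω))
    (hnle : ¬ H ≤ R) : ∃ g ∈ H, g ∈ Subgroup.normalizer (R : Set Ω) ∧ g ∉ R := by
  set G := mulSub H R hRH with hG
  have hGS : G ≤ S := by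
    rintro _ ⟨h, hh, r, hr, rfl⟩
    exact S.mul_mem (hHS hh) (hRS hr)
  have hHG : H ≤ G := fun h hh => ⟨h, hh, 1, R.one_mem, by simp⟩
  have hRG : R ≤ G := fun r hr => ⟨1, H.one_mem, r, hr, by simp⟩
  haveI : Finite G := finite_of_le hGS
  have hne : R ≠ G := by
    intro heq
    apply hnle
    rw [heq]
    exact hHG
  have h1 := normalizerIn_ne_self (S := G) (hS.to_le hGS) hRG hne
  have h2 : ∃ g ∈ FusionSystem.normalizerIn G R, g ∉ R := by
    by_contra hcon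
    apply h1
    refine le_antisymm (fun g hg => ?_) (le_normalizerIn hRG)
    by_contra hgR
    exact hcon ⟨g, hg, hgR⟩
  obtain ⟨g, ⟨⟨h, hh, r, hr, rfl⟩, hgN⟩, hgR⟩ := h2
  refine ⟨h, hh, ?_, ?_⟩
  · have h3 : h * r * r⁻¹ ∈ Subgroup.normalizer (R : Set Ω) :=
      Subgroup.mul_mem _ hgN (Subgroup.inv_mem _ (Subgroup.le_normalizer hr))
    simpa using h3
  · intro hhR
    exact hgR (R.mul_mem hhR hr)

/-- the elements `g` of `N_S(R) ∩ N_S(P)` such that `β c_g β⁻¹` acts on `P` like an element of `M` -/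
def adjSub (S : Subgroup Ω) {R : Subgroup Ω} (P M : Subgroup Ω) (β : MulAut R) : Subgroup Ω where
  carrier := {g | g ∈ S ∧ g ∈ Subgroup.normalizer (R : Set Ω) ∧ g ∈ Subgroup.normalizer (P : Set Ω) ∧
      ∃ h ∈ M, ∀ (x : R) (hx : g * (x : Ω) * g⁻¹ ∈ R), (x : Ω) ∈ P →
        ((β ⟨g * x * g⁻¹, hx⟩ : R) : Ω) = h * ((β x : R) : Ω) * h⁻¹}
  one_mem' := by
    refine ⟨S.one_mem, Subgroup.one_mem _, Subgroup.one_mem _, 1, M.one_mem, fun x hx _ => ?_⟩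
    have e : (⟨1 * (x : Ω) * 1⁻¹, hx⟩ : R) = x := Subtype.ext (by simp)
    rw [e]
    simp
  mul_mem' := by
    rintro g₁ g₂ ⟨hS₁, hn₁, hp₁, h₁, hh₁M, hh₁⟩ ⟨hS₂, hn₂, hp₂, h₂, hh₂M, hh₂⟩
    refine ⟨S.mul_mem hS₁ hS₂, Subgroup.mul_mem _ hn₁ hn₂, Subgroup.mul_mem _ hp₁ hp₂, h₁ * h₂,
      M.mul_mem hh₁M hh₂M, fun x hx hxP => ?_⟩
    have hx2 : g₂ * (x : Ω) * g₂⁻¹ ∈ R := (Subgroup.mem_normalizer_iff.1 hn₂ x).1 x.2
    have hx2P : g₂ * (x : Ω) * g₂⁻¹ ∈ P := (Subgroup.mem_normalizer_iff.1 hp₂ x).1 hxP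
    have hx1 : g₁ * ((⟨g₂ * (x : Ω) * g₂⁻¹, hx2⟩ : R) : Ω) * g₁⁻¹ ∈ R :=
      (Subgroup.mem_normalizer_iff.1 hn₁ _).1 hx2
    have e : (⟨g₁ * g₂ * (x : Ω) * (g₁ * g₂)⁻¹, hx⟩ : R) =
        ⟨g₁ * ((⟨g₂ * (x : Ω) * g₂⁻¹, hx2⟩ : R) : Ω) * g₁⁻¹, hx1⟩ := by
      apply Subtype.ext
      show g₁ * g₂ * (x : Ω) * (g₁ * g₂)⁻¹ = g₁ * (g₂ * (x : Ω) * g₂⁻¹) * g₁⁻¹
      group
    rw [e, hh₁ _ hx1 hx2P, hh₂ x hx2 hxP]
    group
  inv_mem' := by
    rintro g ⟨hS, hn, hp, h, hhM, hh⟩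
    have hn' : g⁻¹ ∈ Subgroup.normalizer (R : Set Ω) := Subgroup.inv_mem _ hn
    have hp' : g⁻¹ ∈ Subgroup.normalizer (P : Set Ω) := Subgroup.inv_mem _ hp
    refine ⟨S.inv_mem hS, hn', hp', h⁻¹, M.inv_mem hhM, fun x hx hxP => ?_⟩
    have hxP' : g⁻¹ * (x : Ω) * g⁻¹⁻¹ ∈ P := (Subgroup.mem_normalizer_iff.1 hp' x).1 hxP
    have hx1 : g * ((⟨g⁻¹ * (x : Ω) * g⁻¹⁻¹, hx⟩ : R) : Ω) * g⁻¹ ∈ R := by
      show g * (g⁻¹ * (x : Ω) * g⁻¹⁻¹) * g⁻¹ ∈ R
      have : g * (g⁻¹ * (x : Ω) * g⁻¹⁻¹) * g⁻¹ = x := by group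
      rw [this]
      exact x.2
    have h1 := hh ⟨g⁻¹ * (x : Ω) * g⁻¹⁻¹, hx⟩ hx1 hxP'
    have e : (⟨g * ((⟨g⁻¹ * (x : Ω) * g⁻¹⁻¹, hx⟩ : R) : Ω) * g⁻¹, hx1⟩ : R) = x := by
      apply Subtype.ext
      show g * (g⁻¹ * (x : Ω) * g⁻¹⁻¹) * g⁻¹ = x
      group
    rw [e] at h1
    rw [h1]
    group

theorem mem_adjSub {R P M : Subgroup Ω} {β : MulAut R} {g : Ω} : g ∈ adjSub S P M β ↔
    g ∈ S ∧ g ∈ Subgroup.normalizer (R : Set Ω) ∧ g ∈ Subgroup.normalizer (P : Set Ω) ∧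
      ∃ h ∈ M, ∀ (x : R) (hx : g * (x : Ω) * g⁻¹ ∈ R), (x : Ω) ∈ P →
        ((β ⟨g * x * g⁻¹, hx⟩ : R) : Ω) = h * ((β x : R) : Ω) * h⁻¹ := Iff.rfl

/-- the hat subgroup of a universal member of the class is strictly larger -/
theorem exists_mem_hatSub_not_mem [Finite S] {p : ℕ} [Fact p.Prime] (F : FusionSystem S)
    {P : Subgroup Ω} (hPS : P ≤ S) (huniv : ∀ Q, F.IsConj P Q → Leads F Q P)
    (hstar : F.IsCentric P → ∃ Q, F.IsConj P Q ∧ ¬ (autInducedBy S Q ⊓ opAut F p Q ≤ Inn Q)) :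
    ∃ g ∈ hatSub F p P, g ∉ P := by
  by_cases hc : F.IsCentric P
  · obtain ⟨Q, hQ, hnot⟩ := hstar hc
    obtain ⟨θ, hθ, hθimg⟩ := huniv Q hQ
    have hQS : Q ≤ S := isConj_le_right F hQ
    have hinj := F.injective_of_mem hθ
    obtain ⟨α, ⟨hαS, hαO⟩, hαI⟩ := SetLike.not_le_iff_exists.1 hnot
    obtain ⟨g, hgS, hgN, rfl⟩ := mem_autInducedBy_iff.1 hαS
    have hgNS : g ∈ FusionSystem.normalizerIn S Q := ⟨hgS, hgN⟩
    have hval := leads_values F hθ hθimg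
    refine ⟨θ ⟨g, hgNS⟩, ?_, ?_⟩
    · have hQN : Q ≤ FusionSystem.normalizerIn S Q := le_normalizerIn hQS
      have hθQ : θ.comp (Subgroup.inclusion hQN) ∈ F.Hom Q := restrict_mem F hQN hθ
      have hθQr : (θ.comp (Subgroup.inclusion hQN)).range = P := by
        rw [range_comp_inclusion, hθimg]
      have h1 := (opAut_congr F p hθQ hθQr _).1 hαO
      have hN' := (hval ⟨g, hgNS⟩).2
      have e : MulAut.congr (isoOfHom F hθQ hθQr) (Q.normalizerMonoidHom ⟨g, hgN⟩) =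
          P.normalizerMonoidHom ⟨θ ⟨g, hgNS⟩, hN'⟩ := by
        refine MulEquiv.ext (fun y => ?_)
        obtain ⟨x, rfl⟩ := (isoOfHom F hθQ hθQr).surjective y
        rw [congr_apply, MulEquiv.symm_apply_apply]
        apply Subtype.ext
        rw [isoOfHom_coe, normalizerMonoidHom_apply_coe, isoOfHom_coe]
        show θ (Subgroup.inclusion hQN (Q.normalizerMonoidHom ⟨g, hgN⟩ x)) =
          θ ⟨g, hgNS⟩ * θ (Subgroup.inclusion hQN x) * (θ ⟨g, hgNS⟩)⁻¹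
        rw [← map_inv, ← map_mul, ← map_mul]
        rfl
      rw [e] at h1
      exact mem_hatSub.2 ⟨(hval _).1, hN', h1⟩
    · intro hmem
      rw [← hθimg, mem_imgSub_iff_of_injective hinj] at hmem
      apply hαI
      refine ⟨⟨g, hmem⟩, ?_⟩
      ext x
      rfl
  · unfold FusionSystem.IsCentric at hc
    have hc' := not_and.1 hc hPS
    obtain ⟨Q, hQ'⟩ := not_forall.1 hc'
    obtain ⟨hQ, hnot⟩ := Classical.not_imp.1 hQ'
    obtain ⟨c, hc1, hc2⟩ := SetLike.not_le_iff_exists.1 hnot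
    obtain ⟨θ, hθ, hθimg⟩ := huniv Q hQ
    have hinj := F.injective_of_mem hθ
    have hcN : c ∈ FusionSystem.normalizerIn S Q := centralizerIn_le_normalizerIn S Q hc1
    refine ⟨θ ⟨c, hcN⟩, ?_, ?_⟩
    · apply centralizerIn_le_hatSub
      refine ⟨(F.le_of_mem hθ).2 _, ?_⟩
      show θ ⟨c, hcN⟩ ∈ Subgroup.centralizer (P : Set Ω)
      rw [Subgroup.mem_centralizer_iff]
      intro y hy
      have hy' : y ∈ imgSub θ Q := by
        rw [hθimg]
        exact hy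
      obtain ⟨x, hx, rfl⟩ := mem_imgSub.1 hy'
      rw [← map_mul, ← map_mul]
      congr 1
      apply Subtype.ext
      exact Subgroup.mem_centralizer_iff.1 hc1.2 x hx
    · intro hmem
      rw [← hθimg, mem_imgSub_iff_of_injective hinj] at hmem
      exact hc2 hmem

section claimD

variable [Finite S] {p : ℕ} [Fact p.Prime] (hS : IsPGroup p S) (F : FusionSystem S) {P : Subgroup Ω}
  (hPS : P ≤ S) (huniv : ∀ Q, F.IsConj P Q → Leads F Q P)
  (above : ∀ R : Subgroup Ω, R ≤ S → Nat.card P < Nat.card R →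
    ∃ R', F.IsConj R R' ∧ F.IsFullyAutomized p R' ∧ F.IsReceptive R')

include hS hPS huniv above

/-- Claim (D): an automorphism of `P` that extends to a strictly larger subgroup of `N_S(P)` extends to an
`F`-automorphism of the hat subgroup. -/
theorem exists_hatAut_of_extends :
    ∀ (n : ℕ) (R : Subgroup Ω) (φ : R →* Ω), Nat.card S - Nat.card R = n → P ≤ R → P ≠ R →
      R ≤ Subgroup.normalizer (P : Set Ω) → φ ∈ F.Hom R → imgSub φ P = P →
      ∃ α ∈ F.autGroup (hatSub F p P), ∀ (y : Ω) (_ : y ∈ P) (hR : y ∈ R) (hh : y ∈ hatSub F p P),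
        ((α ⟨y, hh⟩ : hatSub F p P) : Ω) = φ ⟨y, hR⟩ := by
  intro n
  induction n using Nat.strong_induction_on with
  | _ n ih =>
  intro R φ hn hPR hne hRN hφ himg
  have hRS : R ≤ S := le_of_hom_mem F hφ
  have hinj := F.injective_of_mem hφ
  haveI : Finite R := finite_of_le hRS
  have hPPh : P ≤ hatSub F p P := le_hatSub hS F hPS
  by_cases hcase : hatSub F p P ≤ R
  · exact exists_hatAut_direct F p hφ hPR himg hcase
  · have hRN' : R ≤ FusionSystem.normalizerIn S P := fun x hx => ⟨hRS hx, hRN hx⟩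
    have hRne : R ≠ FusionSystem.normalizerIn S P := by
      intro heq
      apply hcase
      rw [heq]
      exact hatSub_le_normalizerIn F p P
    haveI : Finite (FusionSystem.normalizerIn S P) := finite_normalizerIn P
    have hlt : Nat.card R < Nat.card (pairNorm S R P) := pairNorm_lt hS hRN' hRne
    have hRltN : Nat.card R < Nat.card (FusionSystem.normalizerIn S P) := card_lt_of_le_ne hRN' hRne
    have hPlt : Nat.card P < Nat.card R := card_lt_of_le_ne hPR hne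
    set R₁ := φ.range with hR₁
    have hR₁S : R₁ ≤ S := range_le_of_hom_mem F hφ
    have hPR₁ : P ≤ R₁ := by
      have := imgSub_le_range φ P
      rw [himg] at this
      exact this
    have hR₁N : R₁ ≤ Subgroup.normalizer (P : Set Ω) := by
      rintro _ ⟨x, rfl⟩
      have := imgSub_normalizer φ (Q := P) (hRN x.2)
      rw [himg] at this
      exact this
    have hcardR₁ : Nat.card R₁ = Nat.card R := by
      rw [hR₁, ← imgSub_self, card_imgSub hinj le_rfl]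
    have hR₁N' : R₁ ≤ FusionSystem.normalizerIn S P := fun x hx => ⟨hR₁S hx, hR₁N hx⟩
    have hR₁ne : R₁ ≠ FusionSystem.normalizerIn S P := by
      intro heq
      rw [heq] at hcardR₁
      omega
    have hlt₁ : Nat.card R₁ < Nat.card (pairNorm S R₁ P) := pairNorm_lt hS hR₁N' hR₁ne
    obtain ⟨Rs, hconj, hfa, hrec⟩ := above R hRS hPlt
    obtain ⟨χ, hχ, hχr, hK⟩ := exists_kgood_conj F hRN hconj hfa hrec
    set Q₀ := imgSub χ P with hQ₀
    obtain ⟨θ, hθ, hθimg⟩ := huniv Q₀ (isConj_of_imgSub F hχ hPR)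
    have hMN : pairNorm S Rs Q₀ ≤ FusionSystem.normalizerIn S Q₀ := inf_le_right
    have hK' := hK.transport hMN hθ
    rw [hθimg] at hK'
    set Rc := imgSub θ Rs with hRc
    set Mc := imgSub θ (pairNorm S Rs Q₀) with hMc
    have hχN : ∀ x : R, χ x ∈ FusionSystem.normalizerIn S Q₀ := by
      intro x
      apply hMN
      apply hK.hRM
      rw [← hχr]
      exact ⟨x, rfl⟩
    have hψ₀ := F.comp_mem hχ hθ hχN
    have hψ₀r : (θ.comp (χ.codRestrict _ hχN)).range = Rc := by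
      rw [← imgSub_self, imgSub_comp, imgSub_self, hχr]
    have hψ₀P : imgSub (θ.comp (χ.codRestrict _ hχN)) P = P := by
      rw [imgSub_comp, hθimg]
    obtain ⟨ρ, hρ, hρR, hρP⟩ := hK'.exists_hom hS hψ₀ hψ₀r hPR hRN hψ₀P
    obtain ⟨inv, hinvmem, hinv⟩ := F.inv_mem hφ
    have hinvR := inv_values φ inv hinv
    have hψ₁ := F.comp_mem hinvmem hψ₀ hinvR
    have hinvimgR : imgSub inv R₁ = R := by
      have := imgSub_inv φ inv hinv (le_refl R)
      rw [imgSub_self] at this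
      exact this
    have hψ₁r : ((θ.comp (χ.codRestrict _ hχN)).comp (inv.codRestrict R hinvR)).range = Rc := by
      rw [← imgSub_self, imgSub_comp, hinvimgR, imgSub_self, hψ₀r]
    have hinvimgP : imgSub inv P = P := by
      have := imgSub_inv φ inv hinv hPR
      rw [himg] at this
      exact this
    have hψ₁P : imgSub ((θ.comp (χ.codRestrict _ hχN)).comp (inv.codRestrict R hinvR)) P = P := by
      rw [imgSub_comp, hinvimgP, hψ₀P]
    obtain ⟨ρ₂, hρ₂, hρ₂R, hρ₂P⟩ := hK'.exists_hom hS hψ₁ hψ₁r hPR₁ hR₁N hψ₁P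
    have hXS : pairNorm S R P ≤ S := pairNorm_le R P
    have hX₁S : pairNorm S R₁ P ≤ S := pairNorm_le R₁ P
    have hc1 := card_le_of_le_S hXS
    have hc2 := card_le_of_le_S hX₁S
    have hPX : P ≤ pairNorm S R P :=
      fun x hx => mem_pairNorm.2 ⟨hPS hx, Subgroup.le_normalizer (hPR hx), Subgroup.le_normalizer hx⟩
    have hPX₁ : P ≤ pairNorm S R₁ P :=
      fun x hx => mem_pairNorm.2 ⟨hPS hx, Subgroup.le_normalizer (hPR₁ hx), Subgroup.le_normalizer hx⟩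
    obtain ⟨α₁, hα₁, hα₁e⟩ := ih (Nat.card S - Nat.card (pairNorm S R P)) (by omega) (pairNorm S R P) ρ rfl
      hPX (by intro heq; rw [← heq] at hlt; omega) (fun x hx => (mem_pairNorm.1 hx).2.2) hρ hρP
    obtain ⟨α₃, hα₃, hα₃e⟩ := ih (Nat.card S - Nat.card (pairNorm S R₁ P)) (by omega) (pairNorm S R₁ P) ρ₂
      rfl hPX₁ (by intro heq; rw [← heq] at hlt₁; omega) (fun x hx => (mem_pairNorm.1 hx).2.2) hρ₂ hρ₂P
    have hRX : R ≤ pairNorm S R P :=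
      fun x hx => mem_pairNorm.2 ⟨hRS hx, Subgroup.le_normalizer hx, hRN hx⟩
    have ha : ρ.comp (Subgroup.inclusion hRX) ∈ F.Hom R := restrict_mem F hRX hρ
    have har : (ρ.comp (Subgroup.inclusion hRX)).range = Rc := by
      rw [range_comp_inclusion, hρR]
    have hR₁X₁ : R₁ ≤ pairNorm S R₁ P :=
      fun x hx => mem_pairNorm.2 ⟨hR₁S hx, Subgroup.le_normalizer hx, hR₁N hx⟩
    have hφX₁ : ∀ x : R, φ x ∈ pairNorm S R₁ P := fun x => hR₁X₁ ⟨x, rfl⟩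
    have hb := F.comp_mem hφ hρ₂ hφX₁
    have hbr : (ρ₂.comp (φ.codRestrict _ hφX₁)).range = Rc := by
      rw [← imgSub_self, imgSub_comp, imgSub_self, hρ₂R]
    set ea := isoOfHom F ha har with hea
    set eb := isoOfHom F hb hbr with heb
    set β : MulAut Rc := ea.symm.trans eb with hβdef
    have hβea : ∀ x : R, β (ea x) = eb x := fun x => by simp [hβdef]
    have heacoe : ∀ x : R, ((ea x : Rc) : Ω) = ρ (Subgroup.inclusion hRX x) := fun x => rfl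
    have hebcoe : ∀ x : R, ((eb x : Rc) : Ω) = ρ₂ ⟨φ x, hφX₁ x⟩ := fun x => rfl
    have hRcS : Rc ≤ S := hK'.hRM.trans hK'.hMS
    have hPRc : P ≤ Rc := hK'.hQR
    have hβF : β ∈ F.autGroup Rc := by
      rw [mem_autGroup_iff F hRcS]
      obtain ⟨ainv, hainv, hainve⟩ := exists_inv_iso F ha har
      have hae : ∀ x : R, ainv (ea x) = x := fun x => hainve x (ea x).2
      have hv : ∀ y : Rc, ainv y ∈ R := by
        intro y
        obtain ⟨x, rfl⟩ := ea.surjective y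
        rw [hae]
        exact x.2
      apply comp_mem' F hainv hb hv
      intro y
      obtain ⟨x, rfl⟩ := ea.surjective y
      show ((β (ea x) : Rc) : Ω) = (ρ₂.comp (φ.codRestrict _ hφX₁)) ⟨ainv (ea x), hv _⟩
      have e3 : (⟨ainv (ea x), hv _⟩ : R) = x := Subtype.ext (hae x)
      rw [hβea, hebcoe, e3]
      rfl
    have hρinj := F.injective_of_mem hρ
    have hρ₂inj := F.injective_of_mem hρ₂
    have hβstab : β ∈ stabSub Rc P := by
      intro y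
      obtain ⟨x, rfl⟩ := ea.surjective y
      rw [hβea, heacoe, hebcoe]
      have h1 : ρ (Subgroup.inclusion hRX x) ∈ P ↔ (x : Ω) ∈ P := by
        have := mem_imgSub_iff_of_injective hρinj (Q := P) (Subgroup.inclusion hRX x)
        rw [hρP] at this
        exact this
      have h2 : ρ₂ ⟨φ x, hφX₁ x⟩ ∈ P ↔ φ x ∈ P := by
        have := mem_imgSub_iff_of_injective hρ₂inj (Q := P) ⟨φ x, hφX₁ x⟩
        rw [hρ₂P] at this
        exact this
      have h3 : φ x ∈ P ↔ (x : Ω) ∈ P := by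
        have := mem_imgSub_iff_of_injective hinj (Q := P) x
        rw [himg] at this
        exact this
      rw [h1, h2, h3]
    have hβ : β ∈ autPair F Rc P := ⟨hβF, hβstab⟩
    have hα₂ : ∃ α₂ ∈ F.autGroup (hatSub F p P), ∀ (y : Rc) (_ : (y : Ω) ∈ P)
        (hh : (y : Ω) ∈ hatSub F p P), ((α₂ ⟨y, hh⟩ : hatSub F p P) : Ω) = ((β y : Rc) : Ω) := by
      have hβmem : Rc.subtype.comp β.toMonoidHom ∈ F.Hom Rc := (mem_autGroup_iff F hRcS).1 hβF
      have hβimg : imgSub (Rc.subtype.comp β.toMonoidHom) P = P := by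
        ext y
        rw [mem_imgSub]
        constructor
        · rintro ⟨x, hx, rfl⟩
          exact (mem_stabSub.1 hβstab x).1 hx
        · intro hy
          have hβi : β⁻¹ ∈ stabSub Rc P := (stabSub Rc P).inv_mem hβstab
          refine ⟨β⁻¹ ⟨y, hPRc hy⟩, (mem_stabSub.1 hβi _).1 hy, ?_⟩
          show ((β (β⁻¹ ⟨y, hPRc hy⟩) : Rc) : Ω) = y
          rw [MulAut.apply_inv_self]
      by_cases hcase2 : hatSub F p P ≤ Rc
      · obtain ⟨α₂, hα₂, hα₂e⟩ := exists_hatAut_direct F p hβmem hPRc hβimg hcase2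
        exact ⟨α₂, hα₂, fun y hy hh => hα₂e y hy y.2 hh⟩
      · have hRcN : Rc ≤ Subgroup.normalizer ((hatSub F p P : Subgroup Ω) : Set Ω) := by
          intro y hy
          apply normalizerIn_le_normalizer_hatSub F p hPS
          exact ⟨hRcS hy, hK'.hMQ (hK'.hRM hy)⟩
        obtain ⟨g₀, hg₀Ph, hg₀N, hg₀R⟩ :=
          exists_normalizing_not_mem hS (hatSub_le_S F p P) hRcS hRcN hcase2
        have hRcX : Rc ≤ adjSub S P Mc β := by
          intro g hg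
          refine mem_adjSub.2 ⟨hRcS hg, Subgroup.le_normalizer hg, hK'.hMQ (hK'.hRM hg),
            ((β ⟨g, hg⟩ : Rc) : Ω), hK'.hRM (β ⟨g, hg⟩).2, fun x hx _ => ?_⟩
          have e : (⟨g * (x : Ω) * g⁻¹, hx⟩ : Rc) = ⟨g, hg⟩ * x * ⟨g, hg⟩⁻¹ := Subtype.ext rfl
          rw [e, map_mul, map_mul, map_inv]
          rfl
        have hg₀X : g₀ ∈ adjSub S P Mc β := by
          obtain ⟨hg₀S, hg₀NP, hg₀O⟩ := mem_hatSub.1 hg₀Ph
          have hcA : Rc.normalizerMonoidHom ⟨g₀, hg₀N⟩ ∈ autPair F Rc P :=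
            ⟨normalizerMonoidHom_mem_autGroup F hRcS hg₀S hg₀N,
              normalizerMonoidHom_mem_stabSub hg₀N hg₀NP⟩
          have hlA : β * Rc.normalizerMonoidHom ⟨g₀, hg₀N⟩ * β⁻¹ ∈ autPair F Rc P :=
            (autPair F Rc P).mul_mem ((autPair F Rc P).mul_mem hβ hcA) ((autPair F Rc P).inv_mem hβ)
          have hO : resAut hK'.hQR ⟨_, hlA.2⟩ ∈ opAut F p P := by
            have e : (⟨β * Rc.normalizerMonoidHom ⟨g₀, hg₀N⟩ * β⁻¹, hlA.2⟩ : stabSub Rc P) =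
                ⟨β, hβstab⟩ * ⟨_, hcA.2⟩ * ⟨β, hβstab⟩⁻¹ := rfl
            rw [e, map_mul, map_mul, map_inv]
            apply opAut_conj_mem F p (resAut_mem_autGroup F hK'.hQR hRcS hβ)
            have e2 : resAut hK'.hQR ⟨_, hcA.2⟩ = P.normalizerMonoidHom ⟨g₀, hg₀NP⟩ := by
              refine MulEquiv.ext (fun x => Subtype.ext ?_)
              rfl
            rw [e2]
            exact hg₀O
          obtain ⟨h, hh, hhe⟩ := hK'.exists_of_mem_pCore hlA hO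
          refine mem_adjSub.2 ⟨hg₀S, hg₀N, hg₀NP, h, hh, fun x hx hxP => ?_⟩
          have hβxP : ((β x : Rc) : Ω) ∈ P := (mem_stabSub.1 hβstab x).1 hxP
          have h1 := hhe ⟨_, hβxP⟩
          have e3 : (Subgroup.inclusion hK'.hQR ⟨((β x : Rc) : Ω), hβxP⟩ : Rc) = β x := Subtype.ext rfl
          rw [e3] at h1
          rw [← h1]
          show _ = ((β (Rc.normalizerMonoidHom ⟨g₀, hg₀N⟩ (β⁻¹ (β x))) : Rc) : Ω)
          rw [MulAut.inv_apply_self]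
          rfl
        have hXS' : adjSub S P Mc β ≤ S := fun g hg => (mem_adjSub.1 hg).1
        haveI : Finite (adjSub S P Mc β) := finite_of_le hXS'
        have hRcne : Rc ≠ adjSub S P Mc β := by
          intro heq
          apply hg₀R
          rw [heq]
          exact hg₀X
        have hltX : Nat.card Rc < Nat.card (adjSub S P Mc β) := card_lt_of_le_ne hRcX hRcne
        have hcardRc : Nat.card Rc = Nat.card R := by
          rw [← har, ← imgSub_self, card_imgSub (F.injective_of_mem ha) le_rfl]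
        obtain ⟨ρ₃, hρ₃, hρ₃e⟩ := hK'.exists_adjust hS hβ hRcX (fun g hg => mem_adjSub.1 hg)
        have hPX3 : P ≤ adjSub S P Mc β := hPRc.trans hRcX
        have hρ₃P : imgSub ρ₃ P = P :=
          (imgSub_congr hPX3 hPRc (fun x hx => hρ₃e x hx _)).trans hβimg
        have hc3 := card_le_of_le_S hXS'
        obtain ⟨α₂, hα₂, hα₂e⟩ := ih (Nat.card S - Nat.card (adjSub S P Mc β)) (by omega)
          (adjSub S P Mc β) ρ₃ rfl hPX3 (by intro heq; rw [← heq] at hltX; omega)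
          (fun g hg => (mem_adjSub.1 hg).2.2.1) hρ₃ hρ₃P
        refine ⟨α₂, hα₂, fun y hy hh => ?_⟩
        rw [hα₂e y hy (hPX3 hy) hh, hρ₃e y hy]
    obtain ⟨α₂, hα₂, hα₂e⟩ := hα₂
    refine ⟨α₃⁻¹ * α₂ * α₁, (F.autGroup _).mul_mem ((F.autGroup _).mul_mem ((F.autGroup _).inv_mem hα₃) hα₂)
      hα₁, ?_⟩
    intro y hy hR hh
    have h1 : ((α₁ ⟨y, hh⟩ : hatSub F p P) : Ω) = ρ ⟨y, hPX hy⟩ := hα₁e y hy _ hh
    have hρyP : ρ ⟨y, hPX hy⟩ ∈ P := by
      have := imgSub_mem ρ (Q := P) (x := ⟨y, hPX hy⟩) hy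
      rw [hρP] at this
      exact this
    have h2 : ((α₂ ⟨ρ ⟨y, hPX hy⟩, hPPh hρyP⟩ : hatSub F p P) : Ω) = ((β (ea ⟨y, hR⟩) : Rc) : Ω) :=
      hα₂e (ea ⟨y, hR⟩) hρyP (hPPh hρyP)
    have hφyP : φ ⟨y, hR⟩ ∈ P := by
      have := imgSub_mem φ (Q := P) (x := ⟨y, hR⟩) hy
      rw [himg] at this
      exact this
    have h3 : ((α₃ ⟨φ ⟨y, hR⟩, hPPh hφyP⟩ : hatSub F p P) : Ω) = ρ₂ ⟨φ ⟨y, hR⟩, hPX₁ hφyP⟩ :=
      hα₃e _ hφyP _ _
    have e1 : α₁ ⟨y, hh⟩ = ⟨ρ ⟨y, hPX hy⟩, hPPh hρyP⟩ := Subtype.ext h1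
    have e2 : α₂ ⟨ρ ⟨y, hPX hy⟩, hPPh hρyP⟩ = α₃ ⟨φ ⟨y, hR⟩, hPPh hφyP⟩ := by
      apply Subtype.ext
      rw [h2, h3, hβea, hebcoe]
    show ((α₃⁻¹ (α₂ (α₁ ⟨y, hh⟩)) : hatSub F p P) : Ω) = φ ⟨y, hR⟩
    rw [e1, e2, MulAut.inv_apply_self]

end claimD

theorem imgSub_subtype {N Q : Subgroup Ω} (h : Q ≤ N) : imgSub N.subtype Q = Q := by
  ext y
  rw [mem_imgSub]
  constructor
  · rintro ⟨x, hx, rfl⟩
    exact hx
  · intro hy
    exact ⟨⟨y, h hy⟩, hy, rfl⟩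

section claimD'

variable [Finite S] {p : ℕ} [Fact p.Prime] (hS : IsPGroup p S) (F : FusionSystem S) {P : Subgroup Ω}
  (hPS : P ≤ S) (huniv : ∀ Q, F.IsConj P Q → Leads F Q P)
  (above : ∀ R : Subgroup Ω, R ≤ S → Nat.card P < Nat.card R →
    ∃ R', F.IsConj R R' ∧ F.IsFullyAutomized p R' ∧ F.IsReceptive R')

include hS hPS huniv above

/-- Claim (D) for a map between two members of the class, read through maps `N_S(Q) → N_S(P)` -/
theorem exists_hatAut_of_pair {Q R' : Subgroup Ω} {φ' : R' →* Ω} (hQR' : Q ≤ R') (hne : Q ≠ R')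
    (hR'N : R' ≤ Subgroup.normalizer (Q : Set Ω)) (hφ' : φ' ∈ F.Hom R') {Q' : Subgroup Ω}
    (himg : imgSub φ' Q = Q')
    {θ₁ : FusionSystem.normalizerIn S Q →* Ω} (hθ₁ : θ₁ ∈ F.Hom (FusionSystem.normalizerIn S Q))
    (hθ₁img : imgSub θ₁ Q = P)
    {θ₂ : FusionSystem.normalizerIn S Q' →* Ω} (hθ₂ : θ₂ ∈ F.Hom (FusionSystem.normalizerIn S Q'))
    (hθ₂img : imgSub θ₂ Q' = P) :
    ∃ α ∈ F.autGroup (hatSub F p P), ∀ (x : R') (_ : (x : Ω) ∈ Q)
      (h1 : (x : Ω) ∈ FusionSystem.normalizerIn S Q) (h2 : θ₁ ⟨x, h1⟩ ∈ hatSub F p P)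
      (h3 : φ' x ∈ FusionSystem.normalizerIn S Q'),
      ((α ⟨θ₁ ⟨x, h1⟩, h2⟩ : hatSub F p P) : Ω) = θ₂ ⟨φ' x, h3⟩ := by
  subst himg
  have hR'S : R' ≤ S := le_of_hom_mem F hφ'
  haveI : Finite R' := finite_of_le hR'S
  have hR'N' : R' ≤ FusionSystem.normalizerIn S Q := fun x hx => ⟨hR'S hx, hR'N hx⟩
  have ht₁ : θ₁.comp (Subgroup.inclusion hR'N') ∈ F.Hom R' := restrict_mem F hR'N' hθ₁
  set t₁ := θ₁.comp (Subgroup.inclusion hR'N') with ht₁def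
  obtain ⟨inv₁, hinv₁mem, hinv₁⟩ := F.inv_mem ht₁
  have hinv₁R := inv_values t₁ inv₁ hinv₁
  have hφ'N : ∀ x : R', φ' x ∈ FusionSystem.normalizerIn S (imgSub φ' Q) :=
    fun x => ⟨(F.le_of_mem hφ').2 x, imgSub_normalizer φ' (hR'N x.2)⟩
  have hm := F.comp_mem hφ' hθ₂ hφ'N
  have hφbar := F.comp_mem hinv₁mem hm hinv₁R
  have ht₁inj := F.injective_of_mem ht₁
  have ht₁Q : imgSub t₁ Q = P := by
    rw [ht₁def, imgSub_inclusion hR'N' θ₁ hQR', hθ₁img]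
  have hPR : P ≤ t₁.range := by
    have := imgSub_le_range t₁ Q
    rw [ht₁Q] at this
    exact this
  have hcardP : Nat.card P = Nat.card Q := by
    rw [← ht₁Q, card_imgSub ht₁inj hQR']
  have hcardR : Nat.card t₁.range = Nat.card R' := by
    rw [← imgSub_self, card_imgSub ht₁inj le_rfl]
  have hQlt := card_lt_of_le_ne hQR' hne
  have hPne : P ≠ t₁.range := by
    intro heq
    rw [← heq] at hcardR
    omega
  have hRN : t₁.range ≤ Subgroup.normalizer (P : Set Ω) := by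
    rintro _ ⟨x, rfl⟩
    have := imgSub_normalizer t₁ (Q := Q) (hR'N x.2)
    rw [ht₁Q] at this
    exact this
  have himgbar : imgSub ((θ₂.comp (φ'.codRestrict _ hφ'N)).comp (inv₁.codRestrict R' hinv₁R)) P = P := by
    rw [imgSub_comp]
    have h1 : imgSub inv₁ P = Q := by
      have := imgSub_inv t₁ inv₁ hinv₁ hQR'
      rw [ht₁Q] at this
      exact this
    rw [h1, imgSub_comp, hθ₂img]
  obtain ⟨α, hα, hαe⟩ := exists_hatAut_of_extends hS F hPS huniv above _ t₁.range _ rfl hPR hPne hRN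
    hφbar himgbar
  refine ⟨α, hα, fun x hx h1 h2 h3 => ?_⟩
  have hxP : θ₁ ⟨x, h1⟩ ∈ P := by
    have := imgSub_mem θ₁ (Q := Q) (x := ⟨x, h1⟩) hx
    rw [hθ₁img] at this
    exact this
  have h4 := hαe (θ₁ ⟨x, h1⟩) hxP ⟨x, rfl⟩ h2
  rw [h4]
  have e' : (⟨inv₁ ⟨θ₁ ⟨x, h1⟩, ⟨x, rfl⟩⟩, hinv₁R _⟩ : R') = x := Subtype.ext (hinv₁ x)
  show θ₂ ⟨φ' ⟨inv₁ ⟨θ₁ ⟨x, h1⟩, ⟨x, rfl⟩⟩, hinv₁R _⟩, hφ'N _⟩ = θ₂ ⟨φ' x, h3⟩
  congr 1
  apply Subtype.ext
  show φ' ⟨inv₁ ⟨θ₁ ⟨x, h1⟩, ⟨x, rfl⟩⟩, hinv₁R _⟩ = φ' x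
  rw [e']

/-- every `F`-automorphism of `P` extends to an `F`-automorphism of the hat subgroup -/
theorem exists_hatAut_of_aut (hPne : ∃ g ∈ hatSub F p P, g ∉ P)
    (hgen : ∀ E : FusionSystem S, (∀ R, ¬ F.IsConj P R → F.Hom R ⊆ E.Hom R) → F ≤ E) :
    ∀ φ ∈ F.Hom P, φ.range = P → ∃ α ∈ F.autGroup (hatSub F p P),
      ∀ (y : P) (hh : (y : Ω) ∈ hatSub F p P), ((α ⟨y, hh⟩ : hatSub F p P) : Ω) = φ y := by
  have hPPh := le_hatSub hS F hPS
  have hPneS : P ≠ S := by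
    obtain ⟨g, hg, hgP⟩ := hPne
    intro heq
    apply hgP
    rw [heq]
    exact hatSub_le_S F p P hg
  have key := good_of_gen F P hgen
    (fun A φ => ∀ Q Q', Q ≤ A → F.IsConj P Q → imgSub φ Q = Q' →
      ∀ θ₁ ∈ F.Hom (FusionSystem.normalizerIn S Q), imgSub θ₁ Q = P →
      ∀ θ₂ ∈ F.Hom (FusionSystem.normalizerIn S Q'), imgSub θ₂ Q' = P →
      ∃ α ∈ F.autGroup (hatSub F p P), ∀ (x : A) (_ : (x : Ω) ∈ Q)
        (h1 : (x : Ω) ∈ FusionSystem.normalizerIn S Q) (h2 : θ₁ ⟨x, h1⟩ ∈ hatSub F p P)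
        (h3 : φ x ∈ FusionSystem.normalizerIn S Q'),
        ((α ⟨θ₁ ⟨x, h1⟩, h2⟩ : hatSub F p P) : Ω) = θ₂ ⟨φ x, h3⟩) ?_ ?_ ?_ ?_
  · intro φ hφ hr
    have hPN : P ≤ FusionSystem.normalizerIn S P := le_normalizerIn hPS
    have hsub : (FusionSystem.normalizerIn S P).subtype ∈ F.Hom (FusionSystem.normalizerIn S P) :=
      subtype_mem F inf_le_left
    obtain ⟨α, hα, hαe⟩ := key P φ hφ P P le_rfl (isConj_refl F hPS) (by rw [imgSub_self, hr])
      _ hsub (imgSub_subtype hPN) _ hsub (imgSub_subtype hPN)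
    refine ⟨α, hα, fun y hh => ?_⟩
    have hφy : φ y ∈ P := by
      have h0 : φ y ∈ φ.range := ⟨y, rfl⟩
      rw [hr] at h0
      exact h0
    exact hαe y y.2 (hPN y.2) hh (hPN hφy)
  · -- conjugations
    intro A g hAS hg Q Q' hQA hQ himg θ₁ hθ₁ hθ₁img θ₂ hθ₂ hθ₂img
    have hQS : Q ≤ S := hQA.trans hAS
    have hQne : Q ≠ S := by
      intro heq
      apply hPneS
      have h1 := card_eq_of_isConj F hQ
      rw [heq] at h1
      exact Subgroup.eq_of_le_of_card_ge hPS h1.ge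
    have hN := normalizerIn_ne_self hS hQS hQne
    have hQN : Q ≤ FusionSystem.normalizerIn S Q := le_normalizerIn hQS
    have himg' : imgSub (conjHom (FusionSystem.normalizerIn S Q) g) Q = Q' := by
      rw [← himg]
      exact imgSub_congr hQN hQA (fun _ _ => rfl)
    obtain ⟨α, hα, hαe⟩ := exists_hatAut_of_pair hS F hPS huniv above hQN (Ne.symm hN)
      (fun x hx => hx.2) (F.conj_mem (inf_le_left : FusionSystem.normalizerIn S Q ≤ S) hg) himg'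
      hθ₁ hθ₁img hθ₂ hθ₂img
    refine ⟨α, hα, fun x hx h1 h2 h3 => ?_⟩
    exact hαe ⟨x, h1⟩ hx h1 h2 h3
  · -- composition
    intro A B φ ψ h hφ hψ hgφ hgψ Q Q'' hQA hQ himg θ₁ hθ₁ hθ₁img θ₂ hθ₂ hθ₂img
    have hQ'B : imgSub φ Q ≤ B := by
      intro y hy
      obtain ⟨x, _, rfl⟩ := mem_imgSub.1 hy
      exact h x
    have hQ' : F.IsConj P (imgSub φ Q) := isConj_trans F hQ (isConj_of_imgSub F hφ hQA)
    obtain ⟨θm, hθm, hθmimg⟩ := huniv (imgSub φ Q) hQ'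
    obtain ⟨α₁, hα₁, hα₁e⟩ := hgφ Q (imgSub φ Q) hQA hQ rfl θ₁ hθ₁ hθ₁img θm hθm hθmimg
    have himg2 : imgSub ψ (imgSub φ Q) = Q'' := by
      rw [← himg, imgSub_comp]
    obtain ⟨α₂, hα₂, hα₂e⟩ := hgψ (imgSub φ Q) Q'' hQ'B hQ' himg2 θm hθm hθmimg θ₂ hθ₂ hθ₂img
    refine ⟨α₂ * α₁, (F.autGroup _).mul_mem hα₂ hα₁, fun x hx h1 h2 h3 => ?_⟩
    have hφxQ' : φ x ∈ imgSub φ Q := imgSub_mem φ hx
    have hQ'S : imgSub φ Q ≤ S := isConj_le_right F hQ'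
    have hφxN : φ x ∈ FusionSystem.normalizerIn S (imgSub φ Q) := le_normalizerIn hQ'S hφxQ'
    have hθmP : θm ⟨φ x, hφxN⟩ ∈ P := by
      have := imgSub_mem θm (Q := imgSub φ Q) (x := ⟨φ x, hφxN⟩) hφxQ'
      rw [hθmimg] at this
      exact this
    have e1 := hα₁e x hx h1 h2 hφxN
    have e2 := hα₂e ⟨φ x, h x⟩ hφxQ' hφxN (hPPh hθmP) h3
    have e3 : α₁ ⟨θ₁ ⟨x, h1⟩, h2⟩ = ⟨θm ⟨φ x, hφxN⟩, hPPh hθmP⟩ := Subtype.ext e1
    show ((α₂ (α₁ ⟨θ₁ ⟨x, h1⟩, h2⟩) : hatSub F p P) : Ω) = _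
    rw [e3, e2]
    rfl
  · -- inverses
    intro A φ ψ hφ hψ hinv hgφ Q₁ Q₁' hQ₁r hQ₁ himg θ₁ hθ₁ hθ₁img θ₂ hθ₂ hθ₂img
    subst himg
    have hψA := inv_values φ ψ hinv
    have hQ₁'A : imgSub ψ Q₁ ≤ A := by
      intro y hy
      obtain ⟨z, _, rfl⟩ := mem_imgSub.1 hy
      exact hψA z
    have hQ₁' : F.IsConj P (imgSub ψ Q₁) := isConj_trans F hQ₁ (isConj_of_imgSub F hψ hQ₁r)
    have himg2 : imgSub φ (imgSub ψ Q₁) = Q₁ := imgSub_inv' φ ψ hinv hQ₁r hψA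
    obtain ⟨α, hα, hαe⟩ := hgφ (imgSub ψ Q₁) Q₁ hQ₁'A hQ₁' himg2 θ₂ hθ₂ hθ₂img θ₁ hθ₁ hθ₁img
    refine ⟨α⁻¹, (F.autGroup _).inv_mem hα, fun z hz h1 h2 h3 => ?_⟩
    have hxQ : ψ z ∈ imgSub ψ Q₁ := imgSub_mem ψ hz
    have keyφ : ∀ x : A, φ ⟨ψ ⟨φ x, ⟨x, rfl⟩⟩, hψA _⟩ = φ x := by
      intro x
      congr 1
      exact Subtype.ext (hinv x)
    have hφx : φ ⟨ψ z, hψA z⟩ = z := by
      obtain ⟨x, hx⟩ := z.2
      have e : z = ⟨φ x, ⟨x, rfl⟩⟩ := Subtype.ext hx.symm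
      rw [e]
      exact keyφ x
    have hθ₂P : θ₂ ⟨ψ z, h3⟩ ∈ P := by
      have := imgSub_mem θ₂ (Q := imgSub ψ Q₁) (x := ⟨ψ z, h3⟩) hxQ
      rw [hθ₂img] at this
      exact this
    have h1' : φ ⟨ψ z, hψA z⟩ ∈ FusionSystem.normalizerIn S Q₁ := by
      rw [hφx]
      exact h1
    have e1 := hαe ⟨ψ z, hψA z⟩ hxQ h3 (hPPh hθ₂P) h1'
    have e2 : α ⟨θ₂ ⟨ψ z, h3⟩, hPPh hθ₂P⟩ = ⟨θ₁ ⟨z, h1⟩, h2⟩ := by
      apply Subtype.ext
      rw [e1]
      show θ₁ ⟨φ ⟨ψ z, hψA z⟩, h1'⟩ = θ₁ ⟨z, h1⟩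
      congr 1
      exact Subtype.ext hφx
    show ((α⁻¹ ⟨θ₁ ⟨z, h1⟩, h2⟩ : hatSub F p P) : Ω) = θ₂ ⟨ψ z, h3⟩
    rw [← e2, MulAut.inv_apply_self]
  · -- maps between subgroups outside the class
    intro R hR φ hφ Q Q' hQR hQ himg θ₁ hθ₁ hθ₁img θ₂ hθ₂ hθ₂img
    have hRS : R ≤ S := le_of_hom_mem F hφ
    haveI : Finite R := finite_of_le hRS
    have hQne : Q ≠ R := by
      intro heq
      apply hR
      rw [← heq]
      exact hQ
    have hN := normalizerIn_ne_self (S := R) (hS.to_le hRS) hQR hQne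
    have hle : FusionSystem.normalizerIn R Q ≤ R := inf_le_left
    have hQN : Q ≤ FusionSystem.normalizerIn R Q := le_normalizerIn hQR
    have himg' : imgSub (φ.comp (Subgroup.inclusion hle)) Q = Q' := by
      rw [imgSub_inclusion hle φ hQN, himg]
    obtain ⟨α, hα, hαe⟩ := exists_hatAut_of_pair hS F hPS huniv above hQN (Ne.symm hN)
      (fun x hx => hx.2) (restrict_mem F hle hφ) himg' hθ₁ hθ₁img hθ₂ hθ₂img
    refine ⟨α, hα, fun x hx h1 h2 h3 => ?_⟩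
    exact hαe ⟨x, ⟨x.2, h1.2⟩⟩ hx h1 h2 h3

end claimD'

end Cfsg.Agent.Lib.Helper29
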