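import Cfsg.Agent.Lib.Helper29.FocalExtend
import Cfsg.Agent.Lib.Helper29.SatExtend
import Cfsg.Agent.Lib.Helper29.FusionSub
import Cfsg.Agent.Lib.Helper29.PResidualSylow

/-!
Towards the subsystems of `p`-power index (AKO Theorem I.7.4): the functor `θ` on the subgroups all of whose
conjugates have centralizer in the kernel of an `F`-invariant homomorphism `λ : S → C` to an abelian `p`-group.
-/
set_option autoImplicit false

namespace Cfsg.Agent.Lib.Helper29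
open Cfsg

variable {Ω : Type*} [Group Ω] {S : Subgroup Ω}

/-- `λ` is invariant under the maps of `F` -/
def LamInv {C : Type*} [CommGroup C] (F : FusionSystem S) (lam : S →* C) : Prop :=
  ∀ (P : Subgroup Ω) (φ : P →* Ω) (hφ : φ ∈ F.Hom P) (x : P),
    lam ⟨φ x, (F.le_of_mem hφ).2 x⟩ = lam ⟨x, (F.le_of_mem hφ).1 x.2⟩

/-- `C_S(P)` lies in the kernel of `λ` -/
def CentKer {C : Type*} [CommGroup C] (lam : S →* C) (P : Subgroup Ω) : Prop :=
  ∀ (c : Ω) (hc : c ∈ FusionSystem.centralizerIn S P), lam ⟨c, hc.1⟩ = 1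

/-- all conjugates of `P` have centralizer in the kernel of `λ` -/
def Type2 {C : Type*} [CommGroup C] (F : FusionSystem S) (lam : S →* C) (P : Subgroup Ω) : Prop :=
  P ≤ S ∧ ∀ P', F.IsConj P P' → CentKer lam P'

theorem Type2.conj {C : Type*} [CommGroup C] {F : FusionSystem S} {lam : S →* C} {P P' : Subgroup Ω}
    (h : Type2 F lam P) (hc : F.IsConj P P') : Type2 F lam P' :=
  ⟨isConj_le_right F hc, fun P'' hc' => h.2 P'' (isConj_trans F hc hc')⟩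

theorem Type2.of_le {C : Type*} [CommGroup C] {F : FusionSystem S} {lam : S →* C} {P P₁ : Subgroup Ω}
    (h : Type2 F lam P) (hle : P ≤ P₁) (hP₁ : P₁ ≤ S) : Type2 F lam P₁ := by
  refine ⟨hP₁, ?_⟩
  rintro P₁' ⟨φ, hφ, rfl⟩ c hc
  have h1 := h.2 _ (isConj_map F hle hφ)
  refine h1 c ⟨hc.1, ?_⟩
  have hc2 : c ∈ Subgroup.centralizer (φ.range : Set Ω) := hc.2
  show c ∈ Subgroup.centralizer _
  rw [Subgroup.mem_centralizer_iff] at hc2 ⊢
  rintro y ⟨x, hx, rfl⟩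
  exact hc2 _ ⟨x, rfl⟩

theorem Type2.self {C : Type*} [CommGroup C] {F : FusionSystem S} {lam : S →* C} {P : Subgroup Ω}
    (h : Type2 F lam P) : CentKer lam P := h.2 P (isConj_refl F h.1)

section thetaQ

variable [Finite S] {p : ℕ} [Fact p.Prime] {C : Type*} [CommGroup C] {F : FusionSystem S} {lam : S →* C}

/-- elements of `N_S(Q)` inducing the same automorphism of `Q` have the same image under `λ` -/
theorem lam_eq_of_aut_eq {Q : Subgroup Ω} (hQc : CentKer lam Q) {g g' : Ω} (hg : g ∈ S) (hg' : g' ∈ S)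
    (h : ∀ x ∈ Q, g * x * g⁻¹ = g' * x * g'⁻¹) : lam ⟨g, hg⟩ = lam ⟨g', hg'⟩ := by
  have hc : g'⁻¹ * g ∈ FusionSystem.centralizerIn S Q := by
    refine ⟨S.mul_mem (S.inv_mem hg') hg, ?_⟩
    show g'⁻¹ * g ∈ Subgroup.centralizer (Q : Set Ω)
    rw [Subgroup.mem_centralizer_iff]
    intro x hx
    have h1 := h x hx
    calc x * (g'⁻¹ * g) = g'⁻¹ * (g' * x * g'⁻¹) * g := by group
      _ = g'⁻¹ * (g * x * g⁻¹) * g := by rw [h1]
      _ = g'⁻¹ * g * x := by group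
  have h2 := hQc _ hc
  have h3 : (⟨g'⁻¹ * g, hc.1⟩ : S) = (⟨g', hg'⟩ : S)⁻¹ * ⟨g, hg⟩ := rfl
  rw [h3, map_mul, map_inv, inv_mul_eq_one] at h2
  exact h2.symm

/-- the homomorphism `θ_Q : Aut_F(Q) → C` for a fully normalized `Q` with `C_S(Q) ≤ ker λ` -/
theorem exists_thetaQ (hS : IsPGroup p S) (hF : F.IsSaturated p) (hC : IsPGroup p C) (hinv : LamInv F lam)
    {Q : Subgroup Ω} (hQfn : F.IsFullyNormalized Q) (hQc : CentKer lam Q) :
    ∃ θQ : F.autGroup Q →* C, ∀ (g : Ω) (hgS : g ∈ S) (hgN : g ∈ Subgroup.normalizer (Q : Set Ω))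
      (hmem : Q.normalizerMonoidHom ⟨g, hgN⟩ ∈ F.autGroup Q), θQ ⟨_, hmem⟩ = lam ⟨g, hgS⟩ := by
  have hsat := (Cfsg.Agent.S5077.result p hS F).1 hF
  obtain ⟨hfc, hfa⟩ := hsat.1 Q hQfn
  have hrec := hsat.2 Q hfc
  have hQS := hQfn.1
  haveI : Finite Q := finite_of_le hQS
  obtain ⟨_, R, hR⟩ := hfa
  -- representatives
  have hrep : ∀ a : (R : Subgroup (F.autGroup Q)), ∃ g : Ω, g ∈ S ∧
      ∃ hgN : g ∈ Subgroup.normalizer (Q : Set Ω), (a : F.autGroup Q).1 = Q.normalizerMonoidHom ⟨g, hgN⟩ := by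
    intro a
    have h1 : (a : F.autGroup Q) ∈ (autInducedBy S Q).subgroupOf (F.autGroup Q) := by
      rw [← hR]
      exact a.2
    obtain ⟨g, hgS, hgN, hg⟩ := mem_autInducedBy_iff.1 (Subgroup.mem_subgroupOf.1 h1)
    exact ⟨g, hgS, hgN, hg⟩
  choose gOf hgS hgN hgOf using hrep
  have hval : ∀ (a : (R : Subgroup (F.autGroup Q))) (g : Ω) (hg : g ∈ S)
      (hN : g ∈ Subgroup.normalizer (Q : Set Ω)),
      (a : F.autGroup Q).1 = Q.normalizerMonoidHom ⟨g, hN⟩ → lam ⟨gOf a, hgS a⟩ = lam ⟨g, hg⟩ := by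
    intro a g hg hN h
    apply lam_eq_of_aut_eq hQc
    intro x hx
    have h1 : (Q.normalizerMonoidHom ⟨gOf a, hgN a⟩) ⟨x, hx⟩ = (Q.normalizerMonoidHom ⟨g, hN⟩) ⟨x, hx⟩ := by
      rw [← hgOf a, h]
    exact congrArg (fun z : Q => (z : Ω)) h1
  have hmulρ : ∀ a b : (R : Subgroup (F.autGroup Q)),
      lam ⟨gOf (a * b), hgS (a * b)⟩ = lam ⟨gOf a, hgS a⟩ * lam ⟨gOf b, hgS b⟩ := by
    intro a b
    have hN : gOf a * gOf b ∈ Subgroup.normalizer (Q : Set Ω) := Subgroup.mul_mem _ (hgN a) (hgN b)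
    have h1 := hval (a * b) (gOf a * gOf b) (S.mul_mem (hgS a) (hgS b)) hN (by
      show ((a : F.autGroup Q).1 * (b : F.autGroup Q).1) = _
      rw [hgOf a, hgOf b, ← map_mul]
      rfl)
    rw [h1]
    exact map_mul lam ⟨gOf a, hgS a⟩ ⟨gOf b, hgS b⟩
  -- invariance under conjugation
  have hconj : ∀ (x y : (R : Subgroup (F.autGroup Q))) (β : F.autGroup Q),
      (y : F.autGroup Q) = β * x * β⁻¹ → lam ⟨gOf y, hgS y⟩ = lam ⟨gOf x, hgS x⟩ := by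
    intro x y β hxy
    have hβ : Q.subtype.comp β.1.toMonoidHom ∈ F.Hom Q := (mem_autGroup_iff F hQS).1 β.2
    have hr : (Q.subtype.comp β.1.toMonoidHom).range = Q := by
      ext z
      constructor
      · rintro ⟨w, rfl⟩
        exact (β.1 w).2
      · intro hz
        exact ⟨β.1⁻¹ ⟨z, hz⟩, by simp⟩
    obtain ⟨ψ, hψ, hext⟩ := hrec.2 Q _ hβ hr
    -- the relation `β c_a = c_b β`
    have hrel : ∀ w : Q, ((β.1 ((Q.normalizerMonoidHom ⟨gOf x, hgN x⟩) w) : Q) : Ω) =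
        gOf y * ((β.1 w : Q) : Ω) * (gOf y)⁻¹ := by
      intro w
      have h1 : (y : F.autGroup Q).1 = β.1 * (x : F.autGroup Q).1 * β.1⁻¹ := by
        rw [hxy]
        rfl
      have h2 : (y : F.autGroup Q).1 (β.1 w) = β.1 ((x : F.autGroup Q).1 w) := by
        rw [h1]
        simp
      rw [hgOf y, hgOf x] at h2
      exact (congrArg (fun z : Q => (z : Ω)) h2).symm
    have hmemE : gOf x ∈ FusionSystem.extender S Q (Q.subtype.comp β.1.toMonoidHom) := by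
      rw [mem_extender_iff]
      refine ⟨hgS x, hgN x, gOf y, hgS y, fun w hw => ?_⟩
      exact hrel w
    -- `ψ (gOf x)` and `gOf y` induce the same automorphism
    have h3 : lam ⟨ψ ⟨gOf x, hmemE⟩, (F.le_of_mem hψ).2 _⟩ = lam ⟨gOf y, hgS y⟩ := by
      apply lam_eq_of_aut_eq hQc
      intro z hz
      obtain ⟨w, hw⟩ : ∃ w : Q, ((β.1 w : Q) : Ω) = z := ⟨β.1⁻¹ ⟨z, hz⟩, by simp⟩
      rw [← hw, ← hrel w]
      have hwE : (w : Ω) ∈ FusionSystem.extender S Q (Q.subtype.comp β.1.toMonoidHom) :=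
        le_extender F hβ w.2
      have e1 : ((β.1 w : Q) : Ω) = ψ ⟨w, hwE⟩ := (hext w.1 w.2 hwE).symm
      have hcw : gOf x * (w : Ω) * (gOf x)⁻¹ ∈ Q := ((Q.normalizerMonoidHom ⟨gOf x, hgN x⟩) w).2
      have e2 : ((β.1 ((Q.normalizerMonoidHom ⟨gOf x, hgN x⟩) w) : Q) : Ω) =
          ψ ⟨gOf x * (w : Ω) * (gOf x)⁻¹, le_extender F hβ hcw⟩ := (hext _ hcw _).symm
      rw [e1, e2, ← map_inv, ← map_mul, ← map_mul]
      rfl
    rw [← h3]
    exact hinv _ ψ hψ ⟨gOf x, hmemE⟩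
  obtain ⟨θQ, hθQ⟩ := exists_hom_extend_sylow hC R
    (MonoidHom.mk' (fun a => lam ⟨gOf a, hgS a⟩) hmulρ) (fun x y β h => hconj x y β h)
  refine ⟨θQ, fun g hg hN hmem => ?_⟩
  have hR' : (⟨_, hmem⟩ : F.autGroup Q) ∈ (R : Subgroup (F.autGroup Q)) := by
    rw [← SetLike.mem_coe, hR, SetLike.mem_coe, Subgroup.mem_subgroupOf]
    exact mem_autInducedBy_iff.2 ⟨g, hg, hN, rfl⟩
  have h1 := hθQ ⟨⟨_, hmem⟩, hR'⟩
  rw [h1]
  exact hval ⟨⟨_, hmem⟩, hR'⟩ g hg hN rfl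

end thetaQ

section tq

variable [Finite S] {p : ℕ} [Fact p.Prime] {C : Type*} [CommGroup C] {F : FusionSystem S} {lam : S →* C}

/-- the homomorphism `θ_Q` as a function on the maps `Q → Ω` of the system -/
theorem exists_tq (hS : IsPGroup p S) (hF : F.IsSaturated p) (hC : IsPGroup p C) (hinv : LamInv F lam)
    {Q : Subgroup Ω} (hQfn : F.IsFullyNormalized Q) (hQc : CentKer lam Q) :
    ∃ tq : (Q →* Ω) → C,
      (∀ (g : Ω) (hgS : g ∈ S), g ∈ Subgroup.normalizer (Q : Set Ω) →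
        tq (conjHom Q g) = lam ⟨g, hgS⟩) ∧
      (∀ (β₁ β₂ : Q →* Ω) (h₁ : ∀ x, β₁ x ∈ Q), β₁ ∈ F.Hom Q → β₂ ∈ F.Hom Q → (∀ x, β₂ x ∈ Q) →
        tq (β₂.comp (β₁.codRestrict Q h₁)) = tq β₂ * tq β₁) := by
  obtain ⟨θQ, hθQ⟩ := exists_thetaQ hS hF hC hinv hQfn hQc
  have hQS := hQfn.1
  haveI : Finite Q := finite_of_le hQS
  classical
  let tq : (Q →* Ω) → C := fun β =>
    if h : ∃ a : F.autGroup Q, ∀ x, (((a : MulAut Q) x : Q) : Ω) = β x then θQ (Classical.choose h) else 1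
  have htq : ∀ (a : F.autGroup Q) (β : Q →* Ω), (∀ x, (((a : MulAut Q) x : Q) : Ω) = β x) → tq β = θQ a := by
    intro a β ha
    have h : ∃ a : F.autGroup Q, ∀ x, (((a : MulAut Q) x : Q) : Ω) = β x := ⟨a, ha⟩
    show (if h : ∃ a : F.autGroup Q, ∀ x, (((a : MulAut Q) x : Q) : Ω) = β x then
      θQ (Classical.choose h) else 1) = θQ a
    rw [dif_pos h]
    congr 1
    apply Subtype.ext
    ext x
    rw [Classical.choose_spec h x, ha x]
  refine ⟨tq, ?_, ?_⟩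
  · intro g hgS hgN
    have hmem : Q.normalizerMonoidHom ⟨g, hgN⟩ ∈ F.autGroup Q := by
      apply autInducedBy_le_autGroup F hQS
      exact mem_autInducedBy_iff.2 ⟨g, hgS, hgN, rfl⟩
    rw [htq ⟨_, hmem⟩ (conjHom Q g) (fun x => rfl)]
    exact hθQ g hgS hgN hmem
  · intro β₁ β₂ h₁ hβ₁ hβ₂ h₂
    obtain ⟨a₁, ha₁, ha₁v⟩ := exists_aut_of_hom F hβ₁ h₁
    obtain ⟨a₂, ha₂, ha₂v⟩ := exists_aut_of_hom F hβ₂ h₂
    rw [htq ⟨a₁, ha₁⟩ β₁ ha₁v, htq ⟨a₂, ha₂⟩ β₂ ha₂v,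
      htq (⟨a₂, ha₂⟩ * ⟨a₁, ha₁⟩) (β₂.comp (β₁.codRestrict Q h₁)) ?_, map_mul]
    intro x
    show ((a₂ (a₁ x) : Q) : Ω) = β₂ ⟨β₁ x, h₁ x⟩
    rw [ha₂v]
    congr 1
    exact Subtype.ext (ha₁v x)

end tq

end Cfsg.Agent.Lib.Helper29
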