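import Cfsg.Agent.Lib.Helper29.FusionAlperin
import Cfsg.Agent.Lib.Helper29.HyperfocalFactor
import Cfsg.Agent.Lib.Helper29.PResidualSylow

/-!
A saturated subsystem `E ≤ F` over `T ≤ U` lies in every subsystem of `p`-power index over `U`.
-/

set_option autoImplicit false
open Cfsg

namespace Cfsg.Agent.Lib.Helper29

variable {Ω : Type*} [Group Ω]

/-- the restriction of a fusion system over `U` to a subgroup `T ≤ U` -/
def resSys {U : Subgroup Ω} (F₀ : FusionSystem U) (T : Subgroup Ω) (hTU : T ≤ U) : FusionSystem T where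
  Hom P := {φ | φ ∈ F₀.Hom P ∧ P ≤ T ∧ ∀ x, φ x ∈ T}
  le_of_mem h := ⟨h.2.1, h.2.2⟩
  injective_of_mem h := F₀.injective_of_mem h.1
  conj_mem := by
    intro P g hP hg
    refine ⟨F₀.conj_mem (hP.trans hTU) (hTU hg), hP, fun x => ?_⟩
    exact T.mul_mem (T.mul_mem hg (hP x.2)) (T.inv_mem hg)
  comp_mem := by
    intro P Q φ ψ hφ hψ h
    exact ⟨F₀.comp_mem hφ.1 hψ.1 h, hφ.2.1, fun x => hψ.2.2 _⟩
  inv_mem := by
    intro P φ hφ
    obtain ⟨ψ, hψ, hψv⟩ := F₀.inv_mem hφ.1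
    refine ⟨ψ, ⟨hψ, ?_, ?_⟩, hψv⟩
    · rintro _ ⟨x, rfl⟩
      exact hφ.2.2 x
    · rintro ⟨_, x, rfl⟩
      rw [hψv x]
      exact hφ.2.1 x.2

theorem subsystem_le_of_pPowerIndex {S : Subgroup Ω} [Finite S] (p : ℕ) [Fact p.Prime] (hS : IsPGroup p S)
    (F : FusionSystem S) {T U : Subgroup Ω} (E : FusionSystem T) (hEsat : E.IsSaturated p)
    (hEF : E.IsSubsystemOf F) (F₀ : FusionSystem U) (hTU : T ≤ U) (hidx : F₀.HasPPowerIndexIn F p) :
    E.IsSubsystemOf F₀ := by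
  have hTS : T ≤ S := (F.le_of_mem (hEF T (subtype_mem E le_rfl))).1
  have hUS : U ≤ S := (F.le_of_mem (hidx.1 U (subtype_mem F₀ le_rfl))).1
  have hfinT : Finite T := finite_of_le hTS
  have hTp : IsPGroup p T := hS.to_le hTS
  have hle : E ≤ resSys F₀ T hTU := by
    apply alperin p hTp E hEsat
    intro P hP
    have hPfn : E.IsFullyNormalized P := by
      rcases hP with rfl | hP
      · exact fullyNormalized_top E
      · exact hP.2.1
    have hPT : P ≤ T := hPfn.1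
    have hPU : P ≤ U := hPT.trans hTU
    have hPS : P ≤ S := hPT.trans hTS
    have hfinP : Finite P := finite_of_le hPS
    intro α hα
    obtain ⟨_, R, hR⟩ := (((Cfsg.Agent.S5077.result p hTp E).1 hEsat).1 P hPfn).2
    obtain ⟨b, hb, s, hs, hbs⟩ := exists_mul_pResidual_sylow p R ⟨α, hα⟩
    have hα' : α = (b : MulAut P) * (s : MulAut P) := congrArg Subtype.val hbs
    rw [hα']
    apply Subgroup.mul_mem
    · -- `b ∈ O^p(Aut_E(P)) ≤ O^p(Aut_F(P)) ≤ Aut_{F₀}(P)`
      have hEFaut : E.autGroup P ≤ F.autGroup P := by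
        intro β hβ
        rw [mem_autGroup_iff F hPS]
        exact hEF P ((mem_autGroup_iff E hPT).1 hβ)
      have h1 := map_mem_pResidual p (Subgroup.inclusion hEFaut) hb
      have h2 : ((Subgroup.inclusion hEFaut b : F.autGroup P) : MulAut P) ∈ F₀.autGroup P :=
        hidx.2.2 P hPU ⟨_, h1, rfl⟩
      have h3 : (b : MulAut P) ∈ F₀.autGroup P := h2
      rw [mem_autGroup_iff _ hPT]
      refine ⟨(mem_autGroup_iff F₀ hPU).1 h3, hPT, fun x => hPT ((b : MulAut P) x).2⟩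
    · -- `s ∈ Aut_T(P)`
      rw [← SetLike.mem_coe, hR, SetLike.mem_coe, Subgroup.mem_subgroupOf] at hs
      exact autInducedBy_le_autGroup _ hPT hs
  intro P φ hφ
  exact (hle P hφ).1

end Cfsg.Agent.Lib.Helper29
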