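import Cfsg.Agent.Lib.Helper29.FusionRealized
import Cfsg.Agent.Lib.Helper29.FusionAut
import Cfsg.Agent.Lib.Helper20.PSolvable
import Cfsg.Agent.Lib.Helper15.QuadPSolv
import Cfsg.Agent.Lib.Lead.PSolvOfSolv

/-!
Automizers in a realized fusion system as sections of the realizing group.
-/
set_option autoImplicit false

namespace Cfsg.Agent.Lib.Helper29

open Cfsg

variable {Ω : Type*} [Group Ω] {S : Subgroup Ω} {G : Type*} [Group G]

/-- the image of `R ≤ S` in the realizing group -/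
def imgD (ι : S →* G) (R : Subgroup Ω) : Subgroup G := (R.subgroupOf S).map ι

theorem mem_imgD {ι : S →* G} {R : Subgroup Ω} (hRS : R ≤ S) (x : R) :
    ι ⟨x, hRS x.2⟩ ∈ imgD ι R := ⟨⟨x, hRS x.2⟩, x.2, rfl⟩

theorem exists_of_mem_imgD {ι : S →* G} {R : Subgroup Ω} (hRS : R ≤ S) {d : G} (hd : d ∈ imgD ι R) :
    ∃ x : R, ι ⟨x, hRS x.2⟩ = d := by
  obtain ⟨t, ht, rfl⟩ := hd
  exact ⟨⟨t, ht⟩, rfl⟩

/-- `R ≃ ι(R)` -/
noncomputable def isoD {ι : S →* G} (hinj : Function.Injective ι) {R : Subgroup Ω} (hRS : R ≤ S) :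
    R ≃* imgD ι R :=
  MulEquiv.ofBijective
    ((ι.comp (Subgroup.inclusion hRS)).codRestrict (imgD ι R) (fun x => mem_imgD hRS x))
    ⟨fun a b hab => by
      have h1 : ι ⟨a, hRS a.2⟩ = ι ⟨b, hRS b.2⟩ := congrArg Subtype.val hab
      have h2 := hinj h1
      exact Subtype.ext (congrArg (fun t : S => (t : Ω)) h2),
     fun d => by
      obtain ⟨x, hx⟩ := exists_of_mem_imgD hRS d.2
      exact ⟨x, Subtype.ext hx⟩⟩

theorem isoD_coe {ι : S →* G} (hinj : Function.Injective ι) {R : Subgroup Ω} (hRS : R ≤ S) (x : R) :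
    ((isoD hinj hRS x : imgD ι R) : G) = ι ⟨x, hRS x.2⟩ := rfl

/-- the action of the normalizer of `ι(R)` on `R` -/
noncomputable def autHom {ι : S →* G} (hinj : Function.Injective ι) {R : Subgroup Ω} (hRS : R ≤ S) :
    Subgroup.normalizer ((imgD ι R : Subgroup G) : Set G) →* MulAut R :=
  (MulAut.congr (isoD hinj hRS).symm).toMonoidHom.comp (imgD ι R).normalizerMonoidHom

theorem autHom_apply {ι : S →* G} (hinj : Function.Injective ι) {R : Subgroup Ω} (hRS : R ≤ S)
    (n : Subgroup.normalizer ((imgD ι R : Subgroup G) : Set G)) (x : R) :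
    ι ⟨(autHom hinj hRS n x : R), hRS (autHom hinj hRS n x).2⟩ = (n : G) * ι ⟨x, hRS x.2⟩ * (n : G)⁻¹ := by
  rw [← isoD_coe hinj hRS]
  show (((isoD hinj hRS) ((isoD hinj hRS).symm
    ((imgD ι R).normalizerMonoidHom n ((isoD hinj hRS).symm.symm x))) : imgD ι R) : G) = _
  rw [MulEquiv.apply_symm_apply]
  rfl

section

variable {F : FusionSystem S} {ι : S →* G} (hreal : F.IsRealizedBy ι) {R : Subgroup Ω} (hRS : R ≤ S)

include hreal hRS

theorem autHom_mem (n : Subgroup.normalizer ((imgD ι R : Subgroup G) : Set G)) :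
    autHom hreal.1 hRS n ∈ F.autGroup R := by
  rw [mem_autGroup_iff F hRS]
  rw [hreal.2 R hRS _ (fun x => hRS (autHom hreal.1 hRS n x).2)]
  exact ⟨n, fun x => autHom_apply hreal.1 hRS n x⟩

theorem autHom_surj {α : MulAut R} (hα : α ∈ F.autGroup R) :
    ∃ n : Subgroup.normalizer ((imgD ι R : Subgroup G) : Set G), autHom hreal.1 hRS n = α := by
  have hφ := (mem_autGroup_iff F hRS).1 hα
  obtain ⟨g, hg⟩ := (hreal.2 R hRS _ (fun x => hRS (α x).2)).1 hφ
  have hg' : ∀ x : R, ι ⟨(α x : R), hRS (α x).2⟩ = g * ι ⟨x, hRS x.2⟩ * g⁻¹ := hg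
  have hgN : g ∈ Subgroup.normalizer ((imgD ι R : Subgroup G) : Set G) := by
    rw [Subgroup.mem_normalizer_iff]
    intro d
    constructor
    · intro hd
      obtain ⟨x, rfl⟩ := exists_of_mem_imgD hRS hd
      rw [← hg']
      exact mem_imgD hRS _
    · intro hd
      obtain ⟨y, hy⟩ := exists_of_mem_imgD hRS hd
      have h1 := hg' (α⁻¹ y)
      have e : α (α⁻¹ y) = y := MulAut.apply_inv_self _ α y
      have h1' : ι ⟨(y : Ω), hRS y.2⟩ = g * ι ⟨(α⁻¹ y : R), hRS (α⁻¹ y).2⟩ * g⁻¹ := by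
        rw [← h1]
        congr 1
        exact Subtype.ext (congrArg Subtype.val e).symm
      rw [hy] at h1'
      have h2 : d = ι ⟨(α⁻¹ y : R), hRS (α⁻¹ y).2⟩ := by
        have e1 : d = g⁻¹ * (g * d * g⁻¹) * g := by group
        rw [e1, h1']
        group
      rw [h2]
      exact mem_imgD hRS _
  refine ⟨⟨g, hgN⟩, ?_⟩
  apply MulEquiv.ext
  intro x
  apply Subtype.ext
  have h1 := autHom_apply hreal.1 hRS ⟨g, hgN⟩ x
  rw [← hg' x] at h1
  exact congrArg (fun t : S => (t : Ω)) (hreal.1 h1)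

theorem autHom_eq_one_iff (n : Subgroup.normalizer ((imgD ι R : Subgroup G) : Set G)) :
    autHom hreal.1 hRS n = 1 ↔ (n : G) ∈ Subgroup.centralizer ((imgD ι R : Subgroup G) : Set G) := by
  rw [Subgroup.mem_centralizer_iff]
  constructor
  · intro h d hd
    obtain ⟨x, rfl⟩ := exists_of_mem_imgD hRS hd
    have h1 := autHom_apply hreal.1 hRS n x
    rw [h] at h1
    have h2 : ι ⟨((1 : MulAut R) x : R), hRS ((1 : MulAut R) x).2⟩ = ι ⟨x, hRS x.2⟩ := rfl
    rw [h2] at h1
    calc ι ⟨x, hRS x.2⟩ * (n : G) = ((n : G) * ι ⟨x, hRS x.2⟩ * (n : G)⁻¹) * n := by rw [← h1]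
      _ = (n : G) * ι ⟨x, hRS x.2⟩ := by group
  · intro h
    apply MulEquiv.ext
    intro x
    apply Subtype.ext
    have h1 := autHom_apply hreal.1 hRS n x
    have h2 := h _ (mem_imgD hRS x)
    have h3 : (n : G) * ι ⟨x, hRS x.2⟩ * (n : G)⁻¹ = ι ⟨x, hRS x.2⟩ := by
      rw [← h2]
      group
    rw [h3] at h1
    exact congrArg (fun t : S => (t : Ω)) (hreal.1 h1)

/-- the action as a homomorphism onto `Aut_F(R)` -/
noncomputable def autHom' : Subgroup.normalizer ((imgD ι R : Subgroup G) : Set G) →* F.autGroup R :=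
  (autHom hreal.1 hRS).codRestrict _ (autHom_mem hreal hRS)

theorem autHom'_surjective : Function.Surjective (autHom' hreal hRS) := by
  rintro ⟨α, hα⟩
  obtain ⟨n, hn⟩ := autHom_surj hreal hRS hα
  exact ⟨n, Subtype.ext hn⟩

/-- automizers of a system realized by a `p`-solvable group are `p`-solvable -/
theorem autGroup_isPSolvable_of_realized {p : ℕ} [Fact p.Prime] (hsol : IsPSolvable p G) :
    IsPSolvable p ↥(F.autGroup R) :=
  Cfsg.Agent.Lib.Helper20.isPSolvable_of_surjective (autHom' hreal hRS) (autHom'_surjective hreal hRS)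
    (Cfsg.Agent.Lib.Helper15.QuadPSolv.isPSolvable_subgroup Fact.out hsol _)

/-- if `C_G(ι R)` is a `p`-group and `Aut_F(R)` is `p`-solvable then `N_G(ι R)` is `p`-solvable -/
theorem normalizer_isPSolvable_of_autGroup [Finite G] {p : ℕ} [Fact p.Prime]
    (hC : IsPGroup p (Subgroup.centralizer ((imgD ι R : Subgroup G) : Set G)))
    (hsol : IsPSolvable p ↥(F.autGroup R)) :
    IsPSolvable p ↥(Subgroup.normalizer ((imgD ι R : Subgroup G) : Set G)) := by
  apply Cfsg.Agent.Lib.Lead.PSolvOfSolv.isPSolvable_of_normal (autHom' hreal hRS).ker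
  · left
    have hkp : IsPGroup p (autHom' hreal hRS).ker := by
      rintro ⟨n, hn⟩
      have h1 : autHom hreal.1 hRS n = 1 := by
        have := MonoidHom.mem_ker.mp hn
        exact congrArg Subtype.val this
      rw [autHom_eq_one_iff hreal hRS] at h1
      obtain ⟨k, hk⟩ := hC ⟨n, h1⟩
      refine ⟨k, ?_⟩
      apply Subtype.ext
      apply Subtype.ext
      have := congrArg Subtype.val hk
      simpa using this
    obtain ⟨k, hk⟩ := IsPGroup.iff_card.mp hkp
    exact ⟨k, hk⟩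
  · have e := QuotientGroup.quotientKerEquivOfSurjective (autHom' hreal hRS)
      (autHom'_surjective hreal hRS)
    exact Cfsg.Agent.Lib.Helper20.isPSolvable_of_surjective e.symm.toMonoidHom e.symm.surjective hsol

end

end Cfsg.Agent.Lib.Helper29
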