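import Mathlib

/-!
Conjugacy modulo a normal `p'`-subgroup: two homomorphisms from a `p`-group that agree modulo a normal
subgroup of order prime to `p` are conjugate by an element of that subgroup.
-/
set_option autoImplicit false

namespace Cfsg.Agent.Lib.Helper29

open scoped Pointwise

variable {G : Type*} [Group G] [Finite G] {p : ℕ} [Fact p.Prime]

theorem inf_eq_bot_of_isPGroup_of_coprime {A K : Subgroup G} (hA : IsPGroup p A)
    (hK : (Nat.card K).Coprime p) : A ⊓ K = ⊥ := by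
  rw [eq_bot_iff]
  intro x hx
  rw [Subgroup.mem_bot]
  obtain ⟨k, hk⟩ := hA ⟨x, hx.1⟩
  have hk' : x ^ p ^ k = 1 := by
    have := congrArg Subtype.val hk
    simpa using this
  have h1 : orderOf x ∣ p ^ k := orderOf_dvd_of_pow_eq_one hk'
  have h2 : orderOf x ∣ Nat.card K := by
    have := orderOf_dvd_natCard (⟨x, hx.2⟩ : K)
    rwa [Subgroup.orderOf_mk] at this
  have h3 : Nat.Coprime (p ^ k) (Nat.card K) := (Nat.Coprime.pow_right k hK).symm
  have h4 : orderOf x ∣ 1 := by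
    have := Nat.dvd_gcd h1 h2
    rwa [Nat.Coprime.gcd_eq_one h3] at this
  exact orderOf_eq_one_iff.mp (Nat.dvd_one.mp h4)

/-- a `p`-subgroup `A` is a Sylow `p`-subgroup of `A K` for `K` normal of order prime to `p` -/
theorem eq_of_le_sylow_sup {A K : Subgroup G} [K.Normal] (hK : (Nat.card K).Coprime p)
    (Q : Subgroup G) (hQ : IsPGroup p Q) (hAQ : A ≤ Q) (hQM : Q ≤ K ⊔ A) : Q = A := by
  apply le_antisymm _ hAQ
  intro q hq
  have hqM := hQM hq
  rw [← SetLike.mem_coe, Subgroup.normal_mul] at hqM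
  obtain ⟨k, hk, a, ha, rfl⟩ := hqM
  have hkQ : k ∈ Q := by
    have := Q.mul_mem hq (Q.inv_mem (hAQ ha))
    rwa [mul_inv_cancel_right] at this
  have h1 : k ∈ Q ⊓ K := ⟨hkQ, hk⟩
  rw [inf_eq_bot_of_isPGroup_of_coprime hQ hK, Subgroup.mem_bot] at h1
  show k * a ∈ A
  rw [h1, one_mul]
  exact ha

theorem conj_of_congr_mod_pPrime (K : Subgroup G) [hKn : K.Normal] (hK : (Nat.card K).Coprime p)
    {P : Type*} [Group P] (hP : IsPGroup p P) (u v : P →* G) (h : ∀ x, (u x)⁻¹ * v x ∈ K) :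
    ∃ k ∈ K, ∀ x, v x = k * u x * k⁻¹ := by
  classical
  obtain ⟨A, hAe⟩ : ∃ A, A = u.range := ⟨_, rfl⟩
  obtain ⟨B, hBe⟩ : ∃ B, B = v.range := ⟨_, rfl⟩
  have hAp : IsPGroup p A := by
    rw [hAe]
    exact hP.of_surjective u.rangeRestrict u.rangeRestrict_surjective
  have hBp : IsPGroup p B := by
    rw [hBe]
    exact hP.of_surjective v.rangeRestrict v.rangeRestrict_surjective
  obtain ⟨M, hMe⟩ : ∃ M, M = K ⊔ A := ⟨_, rfl⟩
  have hKM : K ≤ M := hMe ▸ le_sup_left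
  have hAM : A ≤ M := hMe ▸ le_sup_right
  have hBM : B ≤ M := by
    rw [hBe]
    rintro _ ⟨x, rfl⟩
    have h1 : v x = u x * ((u x)⁻¹ * v x) := by group
    rw [h1]
    exact M.mul_mem (hAM (hAe ▸ ⟨x, rfl⟩)) (hKM (h x))
  have hMB : M = K ⊔ B := by
    apply le_antisymm
    · rw [hMe]
      refine sup_le le_sup_left ?_
      rw [hAe]
      rintro _ ⟨x, rfl⟩
      have h1 : u x = v x * ((u x)⁻¹ * v x)⁻¹ := by group
      rw [h1]
      exact Subgroup.mul_mem _ (Subgroup.mem_sup_right (hBe ▸ ⟨x, rfl⟩))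
        (Subgroup.mem_sup_left (K.inv_mem (h x)))
    · exact sup_le hKM hBM
  -- Sylow subgroups of `M`
  obtain ⟨QA, hQA⟩ := (hAp.comap_subtype (K := M) : IsPGroup p (A.subgroupOf M)).exists_le_sylow
  obtain ⟨QB, hQB⟩ := (hBp.comap_subtype (K := M) : IsPGroup p (B.subgroupOf M)).exists_le_sylow
  have hQA' : (QA : Subgroup M).map M.subtype = A := by
    apply eq_of_le_sylow_sup hK _ (QA.isPGroup'.map _)
    · intro a ha
      exact ⟨⟨a, hAM ha⟩, hQA (Subgroup.mem_subgroupOf.mpr ha), rfl⟩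
    · rw [← hMe]
      exact Subgroup.map_subtype_le _
  have hQB' : (QB : Subgroup M).map M.subtype = B := by
    apply eq_of_le_sylow_sup hK _ (QB.isPGroup'.map _)
    · intro a ha
      exact ⟨⟨a, hBM ha⟩, hQB (Subgroup.mem_subgroupOf.mpr ha), rfl⟩
    · rw [← hMB]
      exact Subgroup.map_subtype_le _
  obtain ⟨m, hm⟩ := MulAction.exists_smul_eq M QA QB
  -- `m A m⁻¹ = B`
  have hconj : ∀ a ∈ A, (m : G) * a * (m : G)⁻¹ ∈ B := by
    intro a ha
    rw [← hQB', ← hm]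
    rw [← hQA'] at ha
    obtain ⟨a', ha', rfl⟩ := ha
    refine ⟨m * a' * m⁻¹, ?_, rfl⟩
    rw [Sylow.coe_subgroup_smul]
    show m * a' * m⁻¹ ∈ (MulAut.conj m • (QA : Subgroup M) : Subgroup M)
    rw [Subgroup.mem_pointwise_smul_iff_inv_smul_mem]
    simp only [MulAut.smul_def, MulAut.conj_inv_apply]
    have e : m⁻¹ * (m * a' * m⁻¹) * m = a' := by group
    rw [e]
    exact ha'
  have hmM : (m : G) ∈ K ⊔ A := hMe ▸ m.2
  rw [← SetLike.mem_coe, Subgroup.normal_mul] at hmM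
  obtain ⟨k, hk, a₀, ha₀, hka⟩ := hmM
  refine ⟨k, hk, fun x => ?_⟩
  -- `k u(x) k⁻¹ ∈ B`
  have h1 : k * u x * k⁻¹ ∈ B := by
    have hux : a₀⁻¹ * u x * a₀ ∈ A :=
      A.mul_mem (A.mul_mem (A.inv_mem ha₀) (hAe ▸ ⟨x, rfl⟩)) ha₀
    have := hconj _ hux
    rw [← hka] at this
    have e : k * a₀ * (a₀⁻¹ * u x * a₀) * (k * a₀)⁻¹ = k * u x * k⁻¹ := by group
    rwa [e] at this
  have h2 : v x ∈ B := hBe ▸ ⟨x, rfl⟩
  have h3 : (k * u x * k⁻¹)⁻¹ * v x ∈ B ⊓ K := by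
    refine ⟨B.mul_mem (B.inv_mem h1) h2, ?_⟩
    have e : (k * u x * k⁻¹)⁻¹ * v x = (k * ((u x)⁻¹ * k⁻¹ * u x)) * ((u x)⁻¹ * v x) := by group
    rw [e]
    refine K.mul_mem (K.mul_mem hk ?_) (h x)
    have := hKn.conj_mem _ (K.inv_mem hk) (u x)⁻¹
    rwa [inv_inv] at this
  rw [inf_eq_bot_of_isPGroup_of_coprime hBp hK, Subgroup.mem_bot] at h3
  have e : v x = (k * u x * k⁻¹) * ((k * u x * k⁻¹)⁻¹ * v x) := by group
  rw [e, h3, mul_one]

end Cfsg.Agent.Lib.Helper29
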