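import Cfsg.Agent.Lib.Helper29.PSolvAut
import Cfsg.Agent.Lib.Helper29.PSolvFusion
import Cfsg.Agent.Lib.Helper29.ModelInst
import Cfsg.Agent.Lib.Helper29.GTCentric
import Cfsg.Agent.Lib.Helper16.PCore
import Cfsg.Agent.Lib.Helper1.FusionSup

/-!
Fusion systems of `p`-solvable groups.
-/
set_option autoImplicit false
universe u

namespace Cfsg.Agent.Lib.Helper29

open Cfsg

section quotient

variable {Ω : Type*} [Group Ω] {S : Subgroup Ω} {G : Type*} [Group G] [Finite G]
  {p : ℕ} [Fact p.Prime]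

/-- the quotient by a normal `p'`-subgroup realizes the same fusion system -/
theorem realized_quotient {F : FusionSystem S} {ι : S →* G} (hreal : F.IsRealizedBy ι)
    (hS : IsPGroup p S) (K : Subgroup G) [hKn : K.Normal] (hK : (Nat.card K).Coprime p) :
    F.IsRealizedBy ((QuotientGroup.mk' K).comp ι) := by
  have hrp : IsPGroup p ι.range := hS.of_surjective ι.rangeRestrict ι.rangeRestrict_surjective
  have hdisj := inf_eq_bot_of_isPGroup_of_coprime hrp hK
  refine ⟨?_, fun P hP φ hφ => ?_⟩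
  · intro a b hab
    have h1 : (QuotientGroup.mk' K) (ι a) = (QuotientGroup.mk' K) (ι b) := hab
    rw [QuotientGroup.mk'_apply, QuotientGroup.mk'_apply, QuotientGroup.eq] at h1
    have h2 : (ι a)⁻¹ * ι b ∈ ι.range ⊓ K :=
      ⟨ι.range.mul_mem (ι.range.inv_mem ⟨a, rfl⟩) ⟨b, rfl⟩, h1⟩
    rw [hdisj, Subgroup.mem_bot] at h2
    apply hreal.1
    calc ι a = ι a * ((ι a)⁻¹ * ι b) := by rw [h2, mul_one]
      _ = ι b := by group
  · rw [hreal.2 P hP φ hφ]
    constructor
    · rintro ⟨g, hg⟩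
      refine ⟨QuotientGroup.mk' K g, fun x => ?_⟩
      show (QuotientGroup.mk' K) (ι ⟨φ x, hφ x⟩) = _
      rw [hg x, map_mul, map_mul, map_inv]
      rfl
    · rintro ⟨g', hg'⟩
      obtain ⟨g, rfl⟩ := QuotientGroup.mk'_surjective K g'
      have hPp : IsPGroup p P := hS.to_le hP
      obtain ⟨k, hk, hkv⟩ := conj_of_congr_mod_pPrime K hK hPp
        ((MulAut.conj g).toMonoidHom.comp (ι.comp (Subgroup.inclusion hP)))
        (ι.comp (φ.codRestrict S hφ)) (fun x => by
          have h1 := hg' x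
          have h2 : (QuotientGroup.mk' K) (ι ⟨φ x, hφ x⟩) =
              (QuotientGroup.mk' K) (g * ι ⟨x, hP x.2⟩ * g⁻¹) := by
            rw [map_mul, map_mul, map_inv]
            exact h1
          rw [QuotientGroup.mk'_apply, QuotientGroup.mk'_apply, eq_comm, QuotientGroup.eq] at h2
          exact h2)
      refine ⟨k * g, fun x => ?_⟩
      have h1 := hkv x
      have h2 : (ι.comp (φ.codRestrict S hφ)) x = ι ⟨φ x, hφ x⟩ := rfl
      have h3 : ((MulAut.conj g).toMonoidHom.comp (ι.comp (Subgroup.inclusion hP))) x =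
          g * ι ⟨x, hP x.2⟩ * g⁻¹ := rfl
      rw [h2, h3] at h1
      rw [h1]
      group

end quotient

section main

variable {Ω : Type u} [Group Ω] {S : Subgroup Ω}

theorem constrained_of_psolvable_realized [Finite S] (p : ℕ) [Fact p.Prime] (hS : IsPGroup p S)
    (F : FusionSystem S) (hF : F.IsSaturated p) {G : Type u} [Group G] [Finite G] (ι : S →* G)
    (hsol : IsPSolvable p G) (hreal : F.IsRealizedBy ι) (T : Sylow p G)
    (hT : (T : Subgroup G) = ι.range) : F.IsConstrained p := by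
  haveI hKn : (pPrimeCore p G).Normal := Cfsg.Agent.Lib.Helper2.pPrimeCore_normal p
  have hK : (Nat.card (pPrimeCore p G)).Coprime p := Cfsg.Agent.Lib.Helper2.pPrimeCore_coprime p
  have hsurj := QuotientGroup.mk'_surjective (pPrimeCore p G)
  have hrealbar := realized_quotient hreal hS (pPrimeCore p G) hK
  have hsolbar := Cfsg.Agent.Lib.Helper20.isPSolvable_of_surjective _ hsurj hsol
  have hObar : pPrimeCore p (G ⧸ pPrimeCore p G) = ⊥ :=
    Cfsg.Agent.Lib.Helper3.pPrimeCore_quotient_pPrimeCore p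
  have hC := Cfsg.Agent.Lib.Helper20.centralizer_pCore_le_of_isPSolvable hsolbar hObar
  have hTbar : ((T.mapSurjective hsurj : Sylow p (G ⧸ pPrimeCore p G)) : Subgroup _) =
      ((QuotientGroup.mk' (pPrimeCore p G)).comp ι).range := by
    rw [Sylow.coe_mapSurjective, hT, MonoidHom.map_range]
  have hOle : pCore p (G ⧸ pPrimeCore p G) ≤ ((QuotientGroup.mk' (pPrimeCore p G)).comp ι).range :=
    hTbar ▸ Cfsg.Agent.Lib.Helper16.pCore_le_sylow (T.mapSurjective hsurj)
  have hOn := Cfsg.Agent.Lib.Helper16.pCore_normal p (G ⧸ pPrimeCore p G)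
  exact ⟨hF, _, isNormal_preimg_of_normal hrealbar hOn hOle,
    isCentric_preimg_of_normal hrealbar hOn hOle hC⟩

/-- restriction `Aut_F(R) → Aut_F(Q)` is onto for `Q ≤ R` both normal in the system -/
theorem autGroup_isPSolvable_of_normal_le [Finite S] (p : ℕ) [Fact p.Prime] (F : FusionSystem S)
    {Q R : Subgroup Ω} (hQ : F.IsNormal Q) (hR : F.IsNormal R) (hQR : Q ≤ R)
    (hsol : IsPSolvable p ↥(F.autGroup R)) : IsPSolvable p ↥(F.autGroup Q) := by
  have hQsc := stronglyClosed_of_isNormal F hQ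
  have hRS : R ≤ S := hR.1
  have hQS : Q ≤ S := hQ.1
  haveI : Finite R := finite_of_le hRS
  have hle : F.autGroup R ≤ stabSub R Q := autGroup_le_stabSub_gt F hQsc hRS
  obtain ⟨f, hf⟩ : ∃ f : F.autGroup R →* F.autGroup Q,
      ∀ β : F.autGroup R, ((f β : F.autGroup Q) : MulAut Q) =
        resAut hQR ⟨(β : MulAut R), hle β.2⟩ :=
    ⟨((resAut hQR).comp (Subgroup.inclusion hle)).codRestrict _
      (fun β => resAut_mem_autGroup_gt F hQR hRS ⟨(β : MulAut R), hle β.2⟩ β.2), fun β => rfl⟩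
  apply Cfsg.Agent.Lib.Helper20.isPSolvable_of_surjective f _ hsol
  rintro ⟨α, hα⟩
  have hφ := (mem_autGroup_iff F hQS).1 hα
  obtain ⟨ψ, hψ, hψP, hψR⟩ := hR.2 Q _ hφ
  have hsup : Q ⊔ R = R := sup_eq_right.mpr hQR
  have hψ' : ψ.comp (Subgroup.inclusion hsup.ge) ∈ F.Hom R := hom_cast_mem F hsup.symm hψ
  have hval : ∀ x : R, (ψ.comp (Subgroup.inclusion hsup.ge)) x ∈ R := by
    intro x
    have h1 : (ψ.comp (Subgroup.inclusion hsup.ge)) x ∈ (R.subgroupOf (Q ⊔ R)).map ψ :=
      ⟨Subgroup.inclusion hsup.ge x, x.2, rfl⟩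
    have h2 : ∀ y : Ω, y ∈ (R.subgroupOf (Q ⊔ R)).map ψ → y ∈ R := fun y hy => by
      rw [hψR] at hy
      exact hy
    exact h2 _ h1
  obtain ⟨β, hβ, hβe⟩ := exists_aut_of_hom F hψ' hval
  refine ⟨⟨β, hβ⟩, ?_⟩
  apply Subtype.ext
  rw [hf]
  apply MulEquiv.ext
  intro x
  apply Subtype.ext
  rw [resAut_apply_coe]
  show ((β (Subgroup.inclusion hQR x) : R) : Ω) = (α x : Q)
  rw [hβe]
  have e : (ψ.comp (Subgroup.inclusion hsup.ge)) (Subgroup.inclusion hQR x) =
      ψ (Subgroup.inclusion le_sup_left x) := rfl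
  rw [e, hψP]
  rfl

theorem exists_psolvable_of_constrained [Finite S] (p : ℕ) [Fact p.Prime] (hS : IsPGroup p S)
    (F : FusionSystem S) (hcons : F.IsConstrained p)
    (hsol : IsPSolvable p ↥(F.autGroup F.core)) :
    ∃ (G : Type u) (_ : Group G) (_ : Finite G) (ι : S →* G), IsPSolvable p G ∧ F.IsRealizedBy ι ∧
      ∃ T : Sylow p G, (T : Subgroup G) = ι.range := by
  obtain ⟨L, hL, ι, hmodel⟩ := exists_model_of_constrained p hS F hcons
  obtain ⟨hfin, hreal, ⟨T, hT⟩, hcL⟩ := hmodel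
  refine ⟨L, hL, hfin, ι, ?_, hreal, T, hT⟩
  have hOn := Cfsg.Agent.Lib.Helper16.pCore_normal p L
  have hOle : pCore p L ≤ ι.range := hT ▸ Cfsg.Agent.Lib.Helper16.pCore_le_sylow T
  have hQn : F.IsNormal (preimg ι (pCore p L)) := isNormal_preimg_of_normal hreal hOn hOle
  have hQle : preimg ι (pCore p L) ≤ F.core := le_sSup hQn
  have hsolQ := autGroup_isPSolvable_of_normal_le p F hQn (Cfsg.Agent.Lib.Helper1.isNormal_core F)
    hQle hsol
  have hQS : preimg ι (pCore p L) ≤ S := preimg_le ι _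
  have himg : imgD ι (preimg ι (pCore p L)) = pCore p L := by
    ext y
    constructor
    · rintro ⟨t, ht, rfl⟩
      have ht' : (t : Ω) ∈ preimg ι (pCore p L) := ht
      obtain ⟨_, h⟩ := mem_preimg.1 ht'
      exact h
    · intro hy
      obtain ⟨t, rfl⟩ := hOle hy
      exact ⟨t, mem_preimg.2 ⟨t.2, hy⟩, rfl⟩
  have hCp : IsPGroup p (Subgroup.centralizer ((imgD ι (preimg ι (pCore p L)) : Subgroup L) : Set L)) := by
    rw [himg]
    exact (Cfsg.Agent.Lib.Helper16.pCore_isPGroup p L).to_le hcL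
  have hN := normalizer_isPSolvable_of_autGroup hreal hQS hCp hsolQ
  have htop : Subgroup.normalizer ((imgD ι (preimg ι (pCore p L)) : Subgroup L) : Set L) = ⊤ := by
    rw [himg]
    exact Subgroup.normalizer_eq_top _
  rw [htop] at hN
  exact Cfsg.Agent.Lib.Helper20.isPSolvable_of_surjective (Subgroup.topEquiv (G := L)).toMonoidHom
    (Subgroup.topEquiv (G := L)).surjective hN

end main

end Cfsg.Agent.Lib.Helper29
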