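import Mathlib

/-!
Ring-theoretic core of the theorem on `p^n`-th powers of the centre for `p`-groups of class at most
`n(p-1)+1`: if `t^(n(p-1)+1) = 0` and `(t+1)^p = 1` in a commutative ring then `p^n t = 0`.
-/
set_option autoImplicit false

namespace Cfsg.Agent.Lib.Helper29

open Finset in
theorem pcz_ring {Q : Type*} [CommRing Q] {p : ℕ} (hp : p.Prime) (n : ℕ) (t : Q)
    (h1 : t ^ (n * (p - 1) + 1) = 0) (h2 : (t + 1) ^ p = 1) : (p : Q) ^ n * t = 0 := by
  have hnil : IsNilpotent t := ⟨_, h1⟩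
  have hexp := add_pow_prime_eq hp t (1 : Q)
  set u : Q := ∑ k ∈ Ioo 0 p, t ^ (k - 1) * (1 : Q) ^ (p - k - 1) * ((p.choose k / p : ℕ) : Q) with hu
  have h1mem : 1 ∈ Ioo 0 p := by
    rw [mem_Ioo]
    exact ⟨Nat.one_pos, hp.one_lt⟩
  have hu1 : u = 1 + ∑ k ∈ (Ioo 0 p).erase 1,
      t ^ (k - 1) * (1 : Q) ^ (p - k - 1) * ((p.choose k / p : ℕ) : Q) := by
    rw [hu, ← Finset.add_sum_erase _ _ h1mem]
    congr 1
    simp [Nat.div_self hp.pos]
  have hunit : IsUnit u := by
    rw [hu1]
    apply IsNilpotent.isUnit_one_add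
    apply isNilpotent_sum
    intro k hk
    rw [Finset.mem_erase, mem_Ioo] at hk
    have hk2 : 0 < k - 1 := by omega
    have : IsNilpotent (t ^ (k - 1)) := hnil.pow_of_pos hk2.ne'
    rw [mul_assoc]
    exact (Commute.all _ _).isNilpotent_mul_right this
  -- `t^p = - p t u`
  have htp : t ^ p = -((p : Q) * t * u) := by
    have : (t + 1) ^ p = t ^ p + 1 + (p : Q) * t * u := by
      rw [hexp]
      simp [hu]
    rw [h2] at this
    linear_combination -this
  have hpow : ∀ k : ℕ, t ^ (k * (p - 1) + 1) = (-((p : Q) * u)) ^ k * t := by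
    intro k
    induction k with
    | zero => simp
    | succ k ih =>
      have e : (k + 1) * (p - 1) + 1 = (k * (p - 1) + 1) + (p - 1) := by ring
      have e2 : t * t ^ (p - 1) = t ^ p := by
        rw [← pow_succ']
        congr 1
        have := hp.one_lt
        omega
      rw [e, pow_add, ih, mul_assoc, e2, htp]
      ring
  have h3 := hpow n
  rw [h1] at h3
  have h4 : (-((p : Q) * u)) ^ n * t = (-u) ^ n * ((p : Q) ^ n * t) := by
    rw [show -((p : Q) * u) = (-u) * (p : Q) by ring, mul_pow]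
    ring
  rw [h4] at h3
  have hunit' : IsUnit ((-u) ^ n) := (hunit.neg).pow n
  exact (hunit'.mul_right_eq_zero).1 h3.symm
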