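import Cfsg.Agent.Lib.Helper29.PowCenterGroup

/-!
Conjugation form: in a group `S` of class at most `n(p-1)+1`, an element `x` normalizing an abelian subgroup `C`
with `x^p` centralizing `v ∈ C` centralizes `v^(p^n)`.
-/
set_option autoImplicit false

namespace Cfsg.Agent.Lib.Helper29

variable {Ω : Type*} [Group Ω]

open scoped commutatorElement

theorem pcz_conj {S C : Subgroup Ω} {p : ℕ} (hp : p.Prime) (n : ℕ)
    (hcl : S.lowerCentralSeries (n * (p - 1) + 1) = ⊥) (hCS : C ≤ S)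
    (hC : ∀ a ∈ C, ∀ b ∈ C, a * b = b * a) {x : Ω} (hxS : x ∈ S) (hx : ∀ a ∈ C, x * a * x⁻¹ ∈ C)
    {v : Ω} (hv : v ∈ C) (hxp : x ^ p * v * (x ^ p)⁻¹ = v) :
    x * v ^ p ^ n * x⁻¹ = v ^ p ^ n := by
  letI : CommGroup C := { (inferInstance : Group C) with
    mul_comm := fun a b => Subtype.ext (hC a.1 a.2 b.1 b.2) }
  let f : C →* C :=
    { toFun := fun a => ⟨x * a.1 * x⁻¹, hx a.1 a.2⟩
      map_one' := Subtype.ext (by simp)
      map_mul' := fun a b => Subtype.ext (by simp [mul_assoc]) }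
  have hf : ∀ a : C, ((f a : C) : Ω) = x * a.1 * x⁻¹ := fun _ => rfl
  have hit : ∀ k (a : C), ((f^[k] a : C) : Ω) = x ^ k * a.1 * (x ^ k)⁻¹ := by
    intro k
    induction k with
    | zero => intro a; simp
    | succ k ih =>
      intro a
      rw [Function.iterate_succ_apply', hf, ih, pow_succ']
      simp [mul_assoc]
  have h1 : f^[p] ⟨v, hv⟩ = ⟨v, hv⟩ := Subtype.ext (by rw [hit]; exact hxp)
  have hlcs : ∀ k, (((fun a : C => f a * a⁻¹)^[k] ⟨v, hv⟩ : C) : Ω) ∈ S.lowerCentralSeries k := by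
    intro k
    induction k with
    | zero => exact hCS hv
    | succ k ih =>
      rw [Function.iterate_succ_apply']
      set a := (fun a : C => f a * a⁻¹)^[k] ⟨v, hv⟩ with ha
      show x * a.1 * x⁻¹ * a.1⁻¹ ∈ _
      rw [Subgroup.lowerCentralSeries_succ]
      have h2 : ⁅a.1, x⁆ ∈ ⁅S.lowerCentralSeries k, S⁆ := Subgroup.commutator_mem_commutator ih hxS
      have h3 := Subgroup.inv_mem _ h2
      rw [commutatorElement_inv] at h3
      exact h3
  have h2 : (fun a : C => f a * a⁻¹)^[n * (p - 1) + 1] ⟨v, hv⟩ = 1 := by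
    have := hlcs (n * (p - 1) + 1)
    rw [hcl, Subgroup.mem_bot] at this
    exact Subtype.ext this
  have key := pcz_group f ⟨v, hv⟩ hp n h1 h2
  have := congrArg Subtype.val key
  rw [hf] at this
  simpa using this
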