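import Cfsg.Agent.Lib.Helper29.PowCenterAlg

/-!
Module form: an endomorphism `f` of an abelian group with `f^p v = v` and `(f-1)^(n(p-1)+1) v = 0`
fixes `p^n v`.
-/
set_option autoImplicit false

namespace Cfsg.Agent.Lib.Helper29

open Polynomial in
theorem pcz_poly {p : ℕ} (hp : p.Prime) (n : ℕ) :
    ∃ a b : ℤ[X], a * (X - 1) ^ (n * (p - 1) + 1) + b * (X ^ p - 1) = (p : ℤ[X]) ^ n * (X - 1) := by
  set J : Ideal ℤ[X] := Ideal.span {(X - 1) ^ (n * (p - 1) + 1), X ^ p - 1} with hJ
  have hm1 : (X - 1 : ℤ[X]) ^ (n * (p - 1) + 1) ∈ J := Ideal.subset_span (by simp)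
  have hm2 : (X ^ p - 1 : ℤ[X]) ∈ J := Ideal.subset_span (by simp)
  have key := pcz_ring (Q := ℤ[X] ⧸ J) hp n (Ideal.Quotient.mk J (X - 1))
    (by rw [← map_pow]; exact Ideal.Quotient.eq_zero_iff_mem.2 hm1)
    (by
      have : Ideal.Quotient.mk J (X - 1) + 1 = Ideal.Quotient.mk J X := by
        rw [map_sub, map_one]; ring
      rw [this, ← map_pow]
      have h := Ideal.Quotient.eq_zero_iff_mem.2 hm2
      rw [map_sub, map_one, sub_eq_zero] at h
      exact h)
  have : Ideal.Quotient.mk J ((p : ℤ[X]) ^ n * (X - 1)) = 0 := by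
    rw [map_mul, map_pow, map_natCast]
    exact key
  have hmem := Ideal.Quotient.eq_zero_iff_mem.1 this
  rw [hJ, Ideal.mem_span_pair] at hmem
  exact hmem

theorem pcz_addgroup {B : Type*} [AddCommGroup B] (φ : AddMonoid.End B) (v : B) {p : ℕ} (hp : p.Prime) (n : ℕ)
    (h1 : (φ ^ p) v = v) (h2 : ((φ - 1) ^ (n * (p - 1) + 1)) v = 0) : φ (p ^ n • v) = p ^ n • v := by
  obtain ⟨a, b, hab⟩ := pcz_poly hp n
  have h := congrArg (Polynomial.aeval φ) hab
  simp only [map_add, map_mul, map_pow, map_sub, Polynomial.aeval_X, map_one, map_natCast] at h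
  have hadd : ∀ (ψ χ : AddMonoid.End B) (x : B), (ψ + χ) x = ψ x + χ x := fun _ _ _ => rfl
  have hsub : ∀ (ψ χ : AddMonoid.End B) (x : B), (ψ - χ) x = ψ x - χ x := fun _ _ _ => rfl
  have hone : ∀ x : B, (1 : AddMonoid.End B) x = x := fun _ => rfl
  have h3 := congrArg (fun ψ : AddMonoid.End B => ψ v) h
  simp only [hadd, AddMonoid.End.coe_mul, Function.comp_apply, h2, map_zero, zero_add] at h3
  have h4 : (φ ^ p - 1) v = 0 := by
    rw [hsub, h1, hone, sub_self]
  rw [h4, map_zero] at h3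
  have h5 : ((p : AddMonoid.End B) ^ n) ((φ - 1) v) = p ^ n • (φ v - v) := by
    rw [← Nat.cast_pow, AddMonoid.End.natCast_apply, hsub, hone]
  rw [h5, smul_sub] at h3
  rw [map_nsmul]
  exact (sub_eq_zero.1 h3.symm)

theorem pcz_group {A : Type*} [CommGroup A] (f : A →* A) (v : A) {p : ℕ} (hp : p.Prime) (n : ℕ)
    (h1 : (f^[p]) v = v) (h2 : (fun a => f a * a⁻¹)^[n * (p - 1) + 1] v = 1) :
    f (v ^ p ^ n) = v ^ p ^ n := by
  let φ : AddMonoid.End (Additive A) := MonoidHom.toAdditive f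
  have hpow : ∀ k (a : A), (φ ^ k) (Additive.ofMul a) = Additive.ofMul (f^[k] a) := by
    intro k
    induction k with
    | zero => intro a; rfl
    | succ k ih =>
      intro a
      rw [pow_succ, AddMonoid.End.coe_mul, Function.comp_apply, Function.iterate_succ_apply]
      exact ih (f a)
  have hpow2 : ∀ k (a : A), ((φ - 1) ^ k) (Additive.ofMul a) =
      Additive.ofMul ((fun a => f a * a⁻¹)^[k] a) := by
    intro k
    induction k with
    | zero => intro a; rfl
    | succ k ih =>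
      intro a
      rw [pow_succ, AddMonoid.End.coe_mul, Function.comp_apply, Function.iterate_succ_apply]
      have e : (φ - 1) (Additive.ofMul a) = Additive.ofMul (f a * a⁻¹) := by
        show Additive.ofMul (f a) - Additive.ofMul a = _
        rw [← ofMul_div, div_eq_mul_inv]
      rw [e]
      exact ih (f a * a⁻¹)
  have := pcz_addgroup φ (Additive.ofMul v) hp n (by rw [hpow, h1]) (by rw [hpow2, h2]; rfl)
  exact this
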