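import Cfsg.Agent.Lib.Helper29.PowCenterConj
import Cfsg.Agent.Lib.Helper29.AlperinFiltered
import Cfsg.Agent.Lib.Helper29.FusionNormal
import Cfsg.Agent.Lib.Helper29.CentralizerControl
import Cfsg.Prelude.Def_PLocal

/-!
If `S` has class at most `n(p-1)+1` then the subgroup of `p^n`-th powers of `Z(S)` is normal in every saturated
fusion system over `S`.
-/
set_option autoImplicit false

namespace Cfsg.Agent.Lib.Helper29

open Cfsg

variable {Ω : Type*} [Group Ω] {S : Subgroup Ω}

theorem mem_pcZ_iff (p n : ℕ) (w : Ω) :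
    w ∈ powerClosure p n (S ⊓ Subgroup.centralizer (S : Set Ω)) ↔
      ∃ z ∈ S ⊓ Subgroup.centralizer (S : Set Ω), w = z ^ p ^ n := by
  constructor
  · intro hw
    unfold powerClosure at hw
    induction hw using Subgroup.closure_induction with
    | mem x hx => exact hx
    | one => exact ⟨1, Subgroup.one_mem _, by simp⟩
    | mul a b _ _ ha hb =>
      obtain ⟨z1, hz1, rfl⟩ := ha
      obtain ⟨z2, hz2, rfl⟩ := hb
      refine ⟨z1 * z2, Subgroup.mul_mem _ hz1 hz2, ?_⟩
      have hc : Commute z1 z2 := (Subgroup.mem_centralizer_iff.1 hz2.2 z1 hz1.1)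
      exact (hc.mul_pow _).symm
    | inv a _ ha =>
      obtain ⟨z, hz, rfl⟩ := ha
      exact ⟨z⁻¹, Subgroup.inv_mem _ hz, by simp⟩
  · rintro ⟨z, hz, rfl⟩
    exact Subgroup.subset_closure ⟨z, hz, rfl⟩

theorem pcZ_le (p n : ℕ) :
    powerClosure p n (S ⊓ Subgroup.centralizer (S : Set Ω)) ≤ S ⊓ Subgroup.centralizer (S : Set Ω) := by
  intro w hw
  obtain ⟨z, hz, rfl⟩ := (mem_pcZ_iff p n w).1 hw
  exact Subgroup.pow_mem _ hz _

theorem map_eq_of_forall_mem_pc {W P : Subgroup Ω} [Finite P] (α : MulAut P)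
    (h : ∀ u : P, (u : Ω) ∈ W → ((α u : P) : Ω) ∈ W) :
    (W.subgroupOf P).map α.toMonoidHom = W.subgroupOf P := by
  have hle : (W.subgroupOf P).map α.toMonoidHom ≤ W.subgroupOf P := by
    rintro _ ⟨w, hw, rfl⟩
    exact h w hw
  apply Subgroup.eq_of_le_of_card_ge hle
  rw [Subgroup.card_map_of_injective α.injective]

/-- automorphisms of `P` preserving `Q ≤ P` lie in the normalizer-type relative system -/
theorem mem_autGroup_relSys_norm (F : FusionSystem S) {Q P : Subgroup Ω} (hQS : Q ≤ S)
    (hQn : ∀ g ∈ S, ∀ x ∈ Q, g * x * g⁻¹ ∈ Q) (hPS : P ≤ S) (hQP : Q ≤ P) {α : MulAut P}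
    (hα : α ∈ F.autGroup P) (hmap : (Q.subgroupOf P).map α.toMonoidHom = Q.subgroupOf P) :
    α ∈ (relSys F hQS (normData hQn)).autGroup P := by
  rw [mem_autGroup_iff _ hPS]
  rw [mem_autGroup_iff F hPS] at hα
  have hsup : P ⊔ Q ≤ P := sup_le le_rfl hQP
  refine ⟨hα, (P.subtype.comp α.toMonoidHom).comp (Subgroup.inclusion hsup),
    restrict_mem F hsup hα, fun x => rfl, ?_⟩
  show MonoidHom.range _ = Q
  ext y
  constructor
  · rintro ⟨x, rfl⟩
    have h2 : α ⟨x, hQP x.2⟩ ∈ (Q.subgroupOf P).map α.toMonoidHom := ⟨_, x.2, rfl⟩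
    rw [hmap] at h2
    exact h2
  · intro hy
    have h2 : (⟨y, hQP hy⟩ : P) ∈ Q.subgroupOf P := hy
    rw [← hmap] at h2
    obtain ⟨z, hz, hzy⟩ := h2
    refine ⟨⟨z.1, hz⟩, ?_⟩
    show ((α ⟨z.1, _⟩ : P) : Ω) = y
    have e : (⟨z.1, hQP hz⟩ : P) = z := Subtype.ext rfl
    rw [e]
    exact congrArg Subtype.val hzy

/-- maps of the normalizer-type relative system send elements of `Q` into `Q` -/
theorem relSys_norm_map_mem (F : FusionSystem S) {Q P : Subgroup Ω} (hQS : Q ≤ S)
    (hQn : ∀ g ∈ S, ∀ x ∈ Q, g * x * g⁻¹ ∈ Q) {φ : P →* Ω}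
    (hφ : φ ∈ (relSys F hQS (normData hQn)).Hom P) (u : P) (hu : (u : Ω) ∈ Q) : φ u ∈ Q := by
  obtain ⟨_, ψ, _, hext, hK⟩ := hφ
  have hK' : (ψ.comp (Subgroup.inclusion (le_sup_right : Q ≤ P ⊔ Q))).range = Q := hK
  rw [← hext u]
  have e : Subgroup.inclusion (le_sup_left : P ≤ P ⊔ Q) u =
      Subgroup.inclusion (le_sup_right : Q ≤ P ⊔ Q) ⟨u.1, hu⟩ := Subtype.ext rfl
  rw [e]
  have : ψ (Subgroup.inclusion (le_sup_right : Q ≤ P ⊔ Q) ⟨u.1, hu⟩) ∈
      (ψ.comp (Subgroup.inclusion (le_sup_right : Q ≤ P ⊔ Q))).range := ⟨⟨u.1, hu⟩, rfl⟩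
  exact hK'.le this

/-- an element of `N_S(P)` outside `P` whose `p`-th power lies in `P` -/
theorem exists_normalizer_elt [Finite S] {p : ℕ} [Fact p.Prime] (hS : IsPGroup p S) {P : Subgroup Ω}
    (hPS : P ≤ S) (hne : P ≠ S) :
    ∃ x ∈ FusionSystem.normalizerIn S P, x ∉ P ∧ x ^ p ∈ P := by
  have h1 := normalizerIn_ne_self hS hPS hne
  have hle : P ≤ FusionSystem.normalizerIn S P := le_normalizerIn hPS
  have : ¬ FusionSystem.normalizerIn S P ≤ P := fun h => h1 (le_antisymm h hle)
  obtain ⟨y, hyN, hyP⟩ := SetLike.not_le_iff_exists.1 this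
  have hex : ∃ j : ℕ, y ^ p ^ j ∈ P := by
    obtain ⟨k, hk⟩ := hS ⟨y, hyN.1⟩
    refine ⟨k, ?_⟩
    have : y ^ p ^ k = 1 := by
      have := congrArg Subtype.val hk
      simpa using this
    rw [this]
    exact P.one_mem
  classical
  have hj0 : Nat.find hex ≠ 0 := by
    intro h0
    have := Nat.find_spec hex
    rw [h0, pow_zero, pow_one] at this
    exact hyP this
  obtain ⟨j, hj⟩ := Nat.exists_eq_succ_of_ne_zero hj0
  refine ⟨y ^ p ^ j, Subgroup.pow_mem _ hyN _, ?_, ?_⟩
  · exact Nat.find_min hex (by omega)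
  · have := Nat.find_spec hex
    rw [hj, pow_succ, pow_mul] at this
    exact this

theorem pcz_normal [Finite S] (p : ℕ) [Fact p.Prime] (hS : IsPGroup p S) (F : FusionSystem S)
    (hF : F.IsSaturated p) (n : ℕ) (hcl : S.lowerCentralSeries (n * (p - 1) + 1) = ⊥) :
    F.IsNormal (powerClosure p n (S ⊓ Subgroup.centralizer (S : Set Ω))) := by
  have hp : p.Prime := Fact.out
  set Z : Subgroup Ω := S ⊓ Subgroup.centralizer (S : Set Ω) with hZ
  set W : Subgroup Ω := powerClosure p n Z with hW
  have hWZ : W ≤ Z := pcZ_le p n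
  have hWS : W ≤ S := hWZ.trans inf_le_left
  have hWc : ∀ g ∈ S, ∀ x ∈ W, g * x * g⁻¹ = x := by
    intro g hg x hx
    have := Subgroup.mem_centralizer_iff.1 (hWZ hx).2 g hg
    rw [this, mul_inv_cancel_right]
  have hWn : ∀ g ∈ S, ∀ x ∈ W, g * x * g⁻¹ ∈ W := by
    intro g hg x hx
    rw [hWc g hg x hx]
    exact hx
  have hZcen : ∀ P : Subgroup Ω, F.IsCentric P → Z ≤ P := by
    intro P hP
    have hPS := hP.1
    refine le_trans ?_ (hP.2 P (isConj_refl F hPS))
    intro z hz
    exact ⟨hz.1, Subgroup.centralizer_le (by exact_mod_cast hPS) hz.2⟩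
  have hrecY : ∀ w ∈ Z, F.IsReceptive (Subgroup.zpowers w) := by
    intro w hw
    apply ((Cfsg.Agent.S5077.result p hS F).1 hF).2
    refine ⟨(Subgroup.zpowers_le.2 hw.1), fun Q _ => ?_⟩
    have : FusionSystem.centralizerIn S (Subgroup.zpowers w) = S := by
      apply le_antisymm inf_le_left
      intro s hs
      refine ⟨hs, Subgroup.mem_centralizer_iff.2 ?_⟩
      rintro h ⟨i, rfl⟩
      have hc : Commute w s := (Subgroup.mem_centralizer_iff.1 hw.2 s hs).symm
      exact (hc.zpow_left i).eq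
    rw [this]
    exact Subgroup.card_le_of_le inf_le_left
  -- main claim
  have claim : ∀ k : ℕ, ∀ P : Subgroup Ω, (P = S ∨ F.IsEssential p P) → Nat.card S - Nat.card P = k →
      ∀ α ∈ F.autGroup P, ∀ u : P, (u : Ω) ∈ W → ((α u : P) : Ω) ∈ W := by
    intro k
    induction k using Nat.strong_induction_on with
    | _ k ih =>
      intro P hP hk α hα u hu
      by_cases hPeq : P = S
      · subst hPeq
        obtain ⟨z, hz, huz⟩ := (mem_pcZ_iff p n _).1 hu
        have e : u = (⟨z, hz.1⟩ : P) ^ p ^ n := Subtype.ext (by simpa using huz)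
        rw [e, map_pow]
        rw [Subgroup.coe_pow]
        apply (mem_pcZ_iff p n _).2
        refine ⟨_, ⟨(α ⟨z, hz.1⟩).2, Subgroup.mem_centralizer_iff.2 ?_⟩, rfl⟩
        intro s hs
        obtain ⟨s', hs'⟩ := α.surjective ⟨s, hs⟩
        have h1 : s' * ⟨z, hz.1⟩ = ⟨z, hz.1⟩ * s' :=
          Subtype.ext (Subgroup.mem_centralizer_iff.1 hz.2 s'.1 s'.2)
        have h2 := congrArg (fun t : P => ((α t : P) : Ω)) h1
        simp only [map_mul, hs', Subgroup.coe_mul] at h2
        exact h2
      · have hess : F.IsEssential p P := hP.resolve_left hPeq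
        have hPS : P ≤ S := hess.1.1
        haveI : Finite P := finite_of_le hPS
        have hZP : Z ≤ P := hZcen P hess.1
        obtain ⟨z, hz, huz⟩ := (mem_pcZ_iff p n _).1 hu
        have e : u = (⟨z, hZP hz⟩ : P) ^ p ^ n := Subtype.ext (by simpa using huz)
        set v : Ω := ((α ⟨z, hZP hz⟩ : P) : Ω) with hv
        have hvP : v ∈ P := (α ⟨z, hZP hz⟩).2
        have hvc : v ∈ Subgroup.centralizer (P : Set Ω) := by
          rw [Subgroup.mem_centralizer_iff]
          intro b hb
          obtain ⟨b', hb'⟩ := α.surjective ⟨b, hb⟩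
          have h1 : b' * ⟨z, hZP hz⟩ = ⟨z, hZP hz⟩ * b' :=
            Subtype.ext (Subgroup.mem_centralizer_iff.1 hz.2 b'.1 (hPS b'.2))
          have h2 := congrArg (fun t : P => ((α t : P) : Ω)) h1
          simp only [map_mul, hb', Subgroup.coe_mul] at h2
          exact h2
        have hw' : ((α u : P) : Ω) = v ^ p ^ n := by
          rw [e, map_pow, Subgroup.coe_pow]
        rw [hw']
        -- the element x
        obtain ⟨x, hxN, hxP, hxp⟩ := exists_normalizer_elt hS hPS hPeq
        have hxS : x ∈ S := hxN.1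
        have hxn : x ∈ Subgroup.normalizer (P : Set Ω) := hxN.2
        set C : Subgroup Ω := P ⊓ Subgroup.centralizer (P : Set Ω) with hC
        have hCcomm : ∀ a ∈ C, ∀ b ∈ C, a * b = b * a := by
          intro a ha b hb
          exact Subgroup.mem_centralizer_iff.1 hb.2 a ha.1
        have hxC : ∀ a ∈ C, x * a * x⁻¹ ∈ C := by
          intro a ha
          refine ⟨(Subgroup.mem_normalizer_iff.1 hxn a).1 ha.1, Subgroup.mem_centralizer_iff.2 ?_⟩
          intro b hb
          have hb' : x⁻¹ * b * x ∈ P := (Subgroup.mem_normalizer_iff''.1 hxn b).1 hb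
          have hcomm := Subgroup.mem_centralizer_iff.1 ha.2 _ hb'
          calc b * (x * a * x⁻¹) = x * ((x⁻¹ * b * x) * a) * x⁻¹ := by group
            _ = x * (a * (x⁻¹ * b * x)) * x⁻¹ := by rw [hcomm]
            _ = x * a * x⁻¹ * b := by group
        have hxpv : x ^ p * v * (x ^ p)⁻¹ = v := by
          have := Subgroup.mem_centralizer_iff.1 hvc _ hxp
          rw [this, mul_inv_cancel_right]
        have hfix : x * v ^ p ^ n * x⁻¹ = v ^ p ^ n :=
          pcz_conj hp n hcl (inf_le_left.trans hPS) hCcomm hxS hxC ⟨hvP, hvc⟩ hxpv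
        set w' : Ω := v ^ p ^ n with hw'def
        have hw'P : w' ∈ P := Subgroup.pow_mem _ hvP _
        have hw'c : w' ∈ Subgroup.centralizer (P : Set Ω) := Subgroup.pow_mem _ hvc _
        -- the subgroup P₁
        set P₁ : Subgroup Ω := P ⊔ Subgroup.zpowers x with hP₁
        have hPP₁ : P ≤ P₁ := le_sup_left
        have hxP₁ : x ∈ P₁ := (le_sup_right : Subgroup.zpowers x ≤ P₁) (Subgroup.mem_zpowers x)
        have hP₁S : P₁ ≤ S := sup_le hPS (Subgroup.zpowers_le.2 hxS)
        haveI : Finite P₁ := finite_of_le hP₁S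
        have hcard : Nat.card P < Nat.card P₁ := by
          rcases (Subgroup.card_le_of_le hPP₁).lt_or_eq with h | h
          · exact h
          · exfalso
            have := Subgroup.eq_of_le_of_card_ge hPP₁ h.ge
            rw [← this] at hxP₁
            exact hxP hxP₁
        have hP₁C : P₁ ≤ FusionSystem.centralizerIn S (Subgroup.zpowers w') := by
          refine sup_le ?_ ?_
          · intro b hb
            refine ⟨hPS hb, Subgroup.mem_centralizer_iff.2 ?_⟩
            rintro h ⟨i, rfl⟩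
            have hc : Commute w' b := (Subgroup.mem_centralizer_iff.1 hw'c b hb).symm
            exact (hc.zpow_left i).eq
          · rw [Subgroup.zpowers_le]
            refine ⟨hxS, Subgroup.mem_centralizer_iff.2 ?_⟩
            rintro h ⟨i, rfl⟩
            have hc : Commute w' x := by
              have : x * w' = w' * x := by
                have := hfix
                rw [mul_inv_eq_iff_eq_mul] at this
                exact this
              exact this.symm
            exact (hc.zpow_left i).eq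
        have hY'P₁ : Subgroup.zpowers w' ≤ P₁ := (Subgroup.zpowers_le.2 hw'P).trans hPP₁
        have hY'P : Subgroup.zpowers w' ≤ P := Subgroup.zpowers_le.2 hw'P
        -- the map ψ
        have hαinv : α⁻¹ ∈ F.autGroup P := Subgroup.inv_mem _ hα
        have hβ : P.subtype.comp (α⁻¹).toMonoidHom ∈ F.Hom P := (mem_autGroup_iff F hPS).1 hαinv
        set ψ : Subgroup.zpowers w' →* Ω :=
          (P.subtype.comp (α⁻¹).toMonoidHom).comp (Subgroup.inclusion hY'P) with hψdef
        have hψ : ψ ∈ F.Hom (Subgroup.zpowers w') := restrict_mem F hY'P hβ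
        have hψw : ψ ⟨w', Subgroup.mem_zpowers w'⟩ = (u : Ω) := by
          show ((α⁻¹ ⟨w', hw'P⟩ : P) : Ω) = u
          have : (⟨w', hw'P⟩ : P) = α u := Subtype.ext hw'.symm
          rw [this]
          simp
        have hψr : ψ.range = Subgroup.zpowers (u : Ω) := by
          ext y
          constructor
          · rintro ⟨⟨_, i, rfl⟩, rfl⟩
            have : (⟨w' ^ i, ⟨i, rfl⟩⟩ : Subgroup.zpowers w') =
                (⟨w', Subgroup.mem_zpowers w'⟩ : Subgroup.zpowers w') ^ i := Subtype.ext rfl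
            rw [this, map_zpow, hψw]
            exact ⟨i, rfl⟩
          · rintro ⟨i, rfl⟩
            refine ⟨(⟨w', Subgroup.mem_zpowers w'⟩ : Subgroup.zpowers w') ^ i, ?_⟩
            rw [map_zpow, hψw]
        have hrec := hrecY (u : Ω) (hWZ hu)
        obtain ⟨a, ha, haext, _⟩ := exists_ext_of_le_centralizer F hrec hY'P₁ hP₁C hψ hψr
        have haw : a ⟨w', hY'P₁ (Subgroup.mem_zpowers w')⟩ = (u : Ω) := by
          rw [← hψw, ← haext]
          rfl
        obtain ⟨χ, hχ, hχinv⟩ := F.inv_mem ha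
        have hP₂S : a.range ≤ S := (F.le_of_mem hχ).1
        have hcard₂ : Nat.card P₁ = Nat.card a.range := card_eq_of_isConj F ⟨a, ha, rfl⟩
        -- use the induction hypothesis through Alperin's theorem
        have hE : ∀ P' : Subgroup Ω, Nat.card P < Nat.card P' → (P' = S ∨ F.IsEssential p P') →
            F.autGroup P' ≤ (relSys F hWS (normData hWn)).autGroup P' := by
          intro P' hlt hP' α' hα'
          have hP'S : P' ≤ S := by
            rcases hP' with rfl | h
            · exact le_rfl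
            · exact h.1.1
          haveI : Finite P' := finite_of_le hP'S
          have hWP' : W ≤ P' := by
            rcases hP' with rfl | h
            · exact hWS
            · exact hWZ.trans (hZcen P' h.1)
          have hle : Nat.card P' ≤ Nat.card S := Subgroup.card_le_of_le hP'S
          have := ih (Nat.card S - Nat.card P') (by omega) P' hP' rfl α' hα'
          exact mem_autGroup_relSys_norm F hWS hWn hP'S hWP' hα' (map_eq_of_forall_mem_pc α' this)
        have hsub := alperin_aux_filtered p hS F hF (relSys F hWS (normData hWn)) (Nat.card P) hE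
          (Nat.card S - Nat.card a.range) a.range hP₂S (by rw [← hcard₂]; exact hcard) rfl
        have hχE := hsub hχ
        have hmem := relSys_norm_map_mem F hWS hWn hχE
          ⟨a ⟨w', hY'P₁ (Subgroup.mem_zpowers w')⟩, ⟨_, rfl⟩⟩ (by
            show a ⟨w', hY'P₁ (Subgroup.mem_zpowers w')⟩ ∈ W
            rw [haw]; exact hu)
        rw [hχinv] at hmem
        exact hmem
  apply isNormal_of_aut p hS F hF
  intro P hP
  have hPS : P ≤ S := by
    rcases hP with rfl | h
    · exact le_rfl
    · exact h.1.1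
  haveI : Finite P := finite_of_le hPS
  refine ⟨?_, fun α hα => ?_⟩
  · rcases hP with rfl | h
    · exact hWS
    · exact hWZ.trans (hZcen P h.1)
  · exact map_eq_of_forall_mem_pc α (claim _ P hP rfl α hα)
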