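import Cfsg.Agent.Lib.Helper29.HullSaturation
import Cfsg.Prelude.Def_FusionComponents

/-!
The direct product of two saturated fusion systems is saturated.
-/
set_option autoImplicit false

namespace Cfsg.Agent.Lib.Helper29
open Cfsg

variable {Ω₁ Ω₂ : Type*} [Group Ω₁] [Group Ω₂]

/-- first projection of a subgroup of a product -/
abbrev pr₁ (P : Subgroup (Ω₁ × Ω₂)) : Subgroup Ω₁ := P.map (MonoidHom.fst Ω₁ Ω₂)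

/-- second projection of a subgroup of a product -/
abbrev pr₂ (P : Subgroup (Ω₁ × Ω₂)) : Subgroup Ω₂ := P.map (MonoidHom.snd Ω₁ Ω₂)

theorem fst_mem_pr₁ {P : Subgroup (Ω₁ × Ω₂)} {x : Ω₁ × Ω₂} (hx : x ∈ P) : x.1 ∈ pr₁ P := ⟨x, hx, rfl⟩

theorem snd_mem_pr₂ {P : Subgroup (Ω₁ × Ω₂)} {x : Ω₁ × Ω₂} (hx : x ∈ P) : x.2 ∈ pr₂ P := ⟨x, hx, rfl⟩

theorem pr₁_prod (Q₁ : Subgroup Ω₁) (Q₂ : Subgroup Ω₂) : pr₁ (Q₁.prod Q₂) = Q₁ := by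
  ext a
  constructor
  · rintro ⟨x, hx, rfl⟩
    exact (Subgroup.mem_prod.1 hx).1
  · intro ha
    exact ⟨(a, 1), Subgroup.mem_prod.2 ⟨ha, Q₂.one_mem⟩, rfl⟩

theorem pr₂_prod (Q₁ : Subgroup Ω₁) (Q₂ : Subgroup Ω₂) : pr₂ (Q₁.prod Q₂) = Q₂ := by
  ext a
  constructor
  · rintro ⟨x, hx, rfl⟩
    exact (Subgroup.mem_prod.1 hx).2
  · intro ha
    exact ⟨(1, a), Subgroup.mem_prod.2 ⟨Q₁.one_mem, ha⟩, rfl⟩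

theorem le_prod_pr (P : Subgroup (Ω₁ × Ω₂)) : P ≤ (pr₁ P).prod (pr₂ P) :=
  fun _ hx => Subgroup.mem_prod.2 ⟨fst_mem_pr₁ hx, snd_mem_pr₂ hx⟩

theorem pr₁_le {P : Subgroup (Ω₁ × Ω₂)} {S₁ : Subgroup Ω₁} {S₂ : Subgroup Ω₂} (h : P ≤ S₁.prod S₂) :
    pr₁ P ≤ S₁ := by
  rintro _ ⟨x, hx, rfl⟩
  exact (Subgroup.mem_prod.1 (h hx)).1

theorem pr₂_le {P : Subgroup (Ω₁ × Ω₂)} {S₁ : Subgroup Ω₁} {S₂ : Subgroup Ω₂} (h : P ≤ S₁.prod S₂) :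
    pr₂ P ≤ S₂ := by
  rintro _ ⟨x, hx, rfl⟩
  exact (Subgroup.mem_prod.1 (h hx)).2

/-- the normalizer of `P` normalizes the product of the projections -/
theorem normalizer_le_normalizer_prod_pr (P : Subgroup (Ω₁ × Ω₂)) :
    Subgroup.normalizer (P : Set (Ω₁ × Ω₂)) ≤
      Subgroup.normalizer (((pr₁ P).prod (pr₂ P) : Subgroup (Ω₁ × Ω₂)) : Set (Ω₁ × Ω₂)) := by
  apply le_normalizer_of_conj_mem
  intro g hg x hx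
  obtain ⟨⟨r, hr, hr1⟩, ⟨r', hr', hr2⟩⟩ := Subgroup.mem_prod.1 hx
  have h1 := (Subgroup.mem_normalizer_iff.1 hg r).1 hr
  have h2 := (Subgroup.mem_normalizer_iff.1 hg r').1 hr'
  refine Subgroup.mem_prod.2 ⟨⟨_, h1, ?_⟩, ⟨_, h2, ?_⟩⟩
  · show (g * r * g⁻¹).1 = (g * x * g⁻¹).1
    have : r.1 = x.1 := hr1
    simp [this]
  · show (g * r' * g⁻¹).2 = (g * x * g⁻¹).2
    have : r'.2 = x.2 := hr2
    simp [this]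

section prod

variable {S₁ : Subgroup Ω₁} {S₂ : Subgroup Ω₂} {F₁ : FusionSystem S₁} {F₂ : FusionSystem S₂}
  {E : FusionSystem (S₁.prod S₂)}

/-- a restriction of a product of maps of the factors is a map of the product system -/
theorem mem_of_prod (hE : FusionSystem.IsProductSystem F₁ F₂ E) {P : Subgroup (Ω₁ × Ω₂)}
    (hP : P ≤ S₁.prod S₂) {R₁ : Subgroup Ω₁} {R₂ : Subgroup Ω₂} (h₁ : pr₁ P ≤ R₁) (h₂ : pr₂ P ≤ R₂)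
    {ψ₁ : R₁ →* Ω₁} {ψ₂ : R₂ →* Ω₂} (hψ₁ : ψ₁ ∈ F₁.Hom R₁) (hψ₂ : ψ₂ ∈ F₂.Hom R₂) {φ : P →* Ω₁ × Ω₂}
    (hφ : ∀ x : P, φ x = (ψ₁ ⟨(x : Ω₁ × Ω₂).1, h₁ (fst_mem_pr₁ x.2)⟩,
      ψ₂ ⟨(x : Ω₁ × Ω₂).2, h₂ (snd_mem_pr₂ x.2)⟩)) : φ ∈ E.Hom P := by
  rw [hE P φ]
  refine ⟨hP, ψ₁.comp (Subgroup.inclusion h₁), restrict_mem F₁ h₁ hψ₁, ψ₂.comp (Subgroup.inclusion h₂),
    restrict_mem F₂ h₂ hψ₂, fun x _ _ => ?_⟩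
  rw [hφ x]
  rfl

/-- every map of the product system is a restriction of a product of maps of the factors -/
theorem exists_prod_of_mem (hE : FusionSystem.IsProductSystem F₁ F₂ E) {P : Subgroup (Ω₁ × Ω₂)}
    {φ : P →* Ω₁ × Ω₂} (hφ : φ ∈ E.Hom P) :
    ∃ φ₁ ∈ F₁.Hom (pr₁ P), ∃ φ₂ ∈ F₂.Hom (pr₂ P), ∀ x : P,
      φ x = (φ₁ ⟨(x : Ω₁ × Ω₂).1, fst_mem_pr₁ x.2⟩, φ₂ ⟨(x : Ω₁ × Ω₂).2, snd_mem_pr₂ x.2⟩) := by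
  obtain ⟨_, φ₁, hφ₁, φ₂, hφ₂, h⟩ := (hE P φ).1 hφ
  exact ⟨φ₁, hφ₁, φ₂, hφ₂, fun x => h x _ _⟩

/-- the projections of the image -/
theorem pr₁_range {P : Subgroup (Ω₁ × Ω₂)} {φ : P →* Ω₁ × Ω₂} {φ₁ : pr₁ P →* Ω₁} {φ₂ : pr₂ P →* Ω₂}
    (h : ∀ x : P, φ x = (φ₁ ⟨(x : Ω₁ × Ω₂).1, fst_mem_pr₁ x.2⟩, φ₂ ⟨(x : Ω₁ × Ω₂).2, snd_mem_pr₂ x.2⟩)) :
    pr₁ φ.range = φ₁.range := by
  ext y
  constructor
  · rintro ⟨_, ⟨x, rfl⟩, rfl⟩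
    rw [h x]
    exact ⟨_, rfl⟩
  · rintro ⟨⟨a, x, hx, rfl⟩, rfl⟩
    refine ⟨φ ⟨x, hx⟩, ⟨_, rfl⟩, ?_⟩
    rw [h ⟨x, hx⟩]
    rfl

theorem pr₂_range {P : Subgroup (Ω₁ × Ω₂)} {φ : P →* Ω₁ × Ω₂} {φ₁ : pr₁ P →* Ω₁} {φ₂ : pr₂ P →* Ω₂}
    (h : ∀ x : P, φ x = (φ₁ ⟨(x : Ω₁ × Ω₂).1, fst_mem_pr₁ x.2⟩, φ₂ ⟨(x : Ω₁ × Ω₂).2, snd_mem_pr₂ x.2⟩)) :
    pr₂ φ.range = φ₂.range := by
  ext y
  constructor
  · rintro ⟨_, ⟨x, rfl⟩, rfl⟩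
    rw [h x]
    exact ⟨_, rfl⟩
  · rintro ⟨⟨a, x, hx, rfl⟩, rfl⟩
    refine ⟨φ ⟨x, hx⟩, ⟨_, rfl⟩, ?_⟩
    rw [h ⟨x, hx⟩]
    rfl

/-- the product of two maps, on a product of subgroups -/
def prodHom {R₁ : Subgroup Ω₁} {R₂ : Subgroup Ω₂} (ψ₁ : R₁ →* Ω₁) (ψ₂ : R₂ →* Ω₂) :
    ↥(R₁.prod R₂) →* Ω₁ × Ω₂ :=
  (ψ₁.comp (((MonoidHom.fst Ω₁ Ω₂).comp (R₁.prod R₂).subtype).codRestrict R₁
    (fun x => (Subgroup.mem_prod.1 x.2).1))).prod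
  (ψ₂.comp (((MonoidHom.snd Ω₁ Ω₂).comp (R₁.prod R₂).subtype).codRestrict R₂
    (fun x => (Subgroup.mem_prod.1 x.2).2)))

theorem prodHom_apply {R₁ : Subgroup Ω₁} {R₂ : Subgroup Ω₂} (ψ₁ : R₁ →* Ω₁) (ψ₂ : R₂ →* Ω₂)
    (x : ↥(R₁.prod R₂)) : prodHom ψ₁ ψ₂ x =
      (ψ₁ ⟨(x : Ω₁ × Ω₂).1, (Subgroup.mem_prod.1 x.2).1⟩, ψ₂ ⟨(x : Ω₁ × Ω₂).2, (Subgroup.mem_prod.1 x.2).2⟩) :=
  rfl

theorem prodHom_range {R₁ : Subgroup Ω₁} {R₂ : Subgroup Ω₂} (ψ₁ : R₁ →* Ω₁) (ψ₂ : R₂ →* Ω₂) :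
    (prodHom ψ₁ ψ₂).range = ψ₁.range.prod ψ₂.range := by
  ext y
  constructor
  · rintro ⟨x, rfl⟩
    rw [prodHom_apply]
    exact Subgroup.mem_prod.2 ⟨⟨_, rfl⟩, ⟨_, rfl⟩⟩
  · intro hy
    obtain ⟨⟨a, ha⟩, ⟨b, hb⟩⟩ := Subgroup.mem_prod.1 hy
    refine ⟨⟨((a : Ω₁), (b : Ω₂)), Subgroup.mem_prod.2 ⟨a.2, b.2⟩⟩, ?_⟩
    rw [prodHom_apply]
    exact Prod.ext ha hb

theorem prodHom_mem (hE : FusionSystem.IsProductSystem F₁ F₂ E) {R₁ : Subgroup Ω₁} {R₂ : Subgroup Ω₂}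
    {ψ₁ : R₁ →* Ω₁} {ψ₂ : R₂ →* Ω₂} (hψ₁ : ψ₁ ∈ F₁.Hom R₁) (hψ₂ : ψ₂ ∈ F₂.Hom R₂) :
    prodHom ψ₁ ψ₂ ∈ E.Hom (R₁.prod R₂) := by
  have hR₁ : R₁ ≤ S₁ := (F₁.le_of_mem hψ₁).1
  have hR₂ : R₂ ≤ S₂ := (F₂.le_of_mem hψ₂).1
  refine mem_of_prod hE (Subgroup.prod_mono hR₁ hR₂) (pr₁_prod R₁ R₂).le (pr₂_prod R₁ R₂).le hψ₁ hψ₂
    (fun x => ?_)
  rw [prodHom_apply]

end prod

section hull

variable {S₁ : Subgroup Ω₁} {S₂ : Subgroup Ω₂} {F₁ : FusionSystem S₁} {F₂ : FusionSystem S₂}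
  {E : FusionSystem (S₁.prod S₂)}

/-- the candidates: subgroups of `Q₁ × Q₂` with projections `Q₁` and `Q₂` -/
def ProdCand (Q₁ : Subgroup Ω₁) (Q₂ : Subgroup Ω₂) (Q : Subgroup (Ω₁ × Ω₂)) : Prop :=
  Q ≤ Q₁.prod Q₂ ∧ pr₁ Q = Q₁ ∧ pr₂ Q = Q₂

/-- the components of an automorphism of `Q₁ × Q₂` in the product system -/
theorem aut_components (hE : FusionSystem.IsProductSystem F₁ F₂ E) {Q₁ : Subgroup Ω₁} {Q₂ : Subgroup Ω₂}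
    (hQh : Q₁.prod Q₂ ≤ S₁.prod S₂) {α : MulAut ↥(Q₁.prod Q₂)} (hα : α ∈ E.autGroup (Q₁.prod Q₂)) :
    ∃ α₁ ∈ F₁.Hom Q₁, ∃ α₂ ∈ F₂.Hom Q₂, ∀ w : ↥(Q₁.prod Q₂), ((α w : ↥(Q₁.prod Q₂)) : Ω₁ × Ω₂) =
      (α₁ ⟨(w : Ω₁ × Ω₂).1, (Subgroup.mem_prod.1 w.2).1⟩, α₂ ⟨(w : Ω₁ × Ω₂).2, (Subgroup.mem_prod.1 w.2).2⟩) := by
  have h := (mem_autGroup_iff E hQh).1 hα
  obtain ⟨φ₁, hφ₁, φ₂, hφ₂, hv⟩ := exists_prod_of_mem hE h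
  obtain ⟨φ₁', hφ₁', e₁⟩ := hom_of_eq F₁ (pr₁_prod Q₁ Q₂) hφ₁
  obtain ⟨φ₂', hφ₂', e₂⟩ := hom_of_eq F₂ (pr₂_prod Q₁ Q₂) hφ₂
  refine ⟨φ₁', hφ₁', φ₂', hφ₂', fun w => ?_⟩
  rw [e₁ _ (fst_mem_pr₁ w.2) _, e₂ _ (snd_mem_pr₂ w.2) _]
  exact hv w

theorem hullData_prod [Finite S₁] [Finite S₂] (hE : FusionSystem.IsProductSystem F₁ F₂ E)
    {Q₁ : Subgroup Ω₁} {Q₂ : Subgroup Ω₂} (hQ₁S : Q₁ ≤ S₁) (hQ₂S : Q₂ ≤ S₂) :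
    HullData E (Q₁.prod Q₂) (ProdCand Q₁ Q₂) := by
  have hQh : Q₁.prod Q₂ ≤ S₁.prod S₂ := Subgroup.prod_mono hQ₁S hQ₂S
  refine ⟨fun Q hC => hC.1, ?_, ?_, ?_, ?_, ?_⟩
  · -- aut
    intro Q hC χ hχ
    obtain ⟨χ₁, _, χ₂, _, hv⟩ := aut_components hE hQh hχ
    refine ⟨autMap_le χ Q, ?_, ?_⟩
    · ext y
      constructor
      · rintro ⟨_, hz, rfl⟩
        obtain ⟨x, _, rfl⟩ := mem_autMap.1 hz
        exact (Subgroup.mem_prod.1 (χ x).2).1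
      · intro hy
        have hy1 : ((y, 1) : Ω₁ × Ω₂) ∈ Q₁.prod Q₂ := Subgroup.mem_prod.2 ⟨hy, Q₂.one_mem⟩
        have hz1 : ((χ.symm ⟨(y, 1), hy1⟩ : ↥(Q₁.prod Q₂)) : Ω₁ × Ω₂).1 ∈ pr₁ Q := by
          rw [hC.2.1]
          exact (Subgroup.mem_prod.1 (χ.symm ⟨(y, 1), hy1⟩).2).1
        obtain ⟨x, hx, hxz⟩ := hz1
        refine ⟨((χ ⟨x, hC.1 hx⟩ : ↥(Q₁.prod Q₂)) : Ω₁ × Ω₂), mem_autMap.2 ⟨⟨x, hC.1 hx⟩, hx, rfl⟩, ?_⟩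
        show ((χ ⟨x, hC.1 hx⟩ : ↥(Q₁.prod Q₂)) : Ω₁ × Ω₂).1 = y
        have e1 := congrArg Prod.fst (hv ⟨x, hC.1 hx⟩)
        have e2 := congrArg Prod.fst (hv (χ.symm ⟨(y, 1), hy1⟩))
        rw [MulEquiv.apply_symm_apply] at e2
        rw [e1]
        refine Eq.trans ?_ e2.symm
        show χ₁ _ = χ₁ _
        congr 1
        exact Subtype.ext hxz
    · ext y
      constructor
      · rintro ⟨_, hz, rfl⟩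
        obtain ⟨x, _, rfl⟩ := mem_autMap.1 hz
        exact (Subgroup.mem_prod.1 (χ x).2).2
      · intro hy
        have hy1 : ((1, y) : Ω₁ × Ω₂) ∈ Q₁.prod Q₂ := Subgroup.mem_prod.2 ⟨Q₁.one_mem, hy⟩
        have hz1 : ((χ.symm ⟨(1, y), hy1⟩ : ↥(Q₁.prod Q₂)) : Ω₁ × Ω₂).2 ∈ pr₂ Q := by
          rw [hC.2.2]
          exact (Subgroup.mem_prod.1 (χ.symm ⟨(1, y), hy1⟩).2).2
        obtain ⟨x, hx, hxz⟩ := hz1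
        refine ⟨((χ ⟨x, hC.1 hx⟩ : ↥(Q₁.prod Q₂)) : Ω₁ × Ω₂), mem_autMap.2 ⟨⟨x, hC.1 hx⟩, hx, rfl⟩, ?_⟩
        show ((χ ⟨x, hC.1 hx⟩ : ↥(Q₁.prod Q₂)) : Ω₁ × Ω₂).2 = y
        have e1 := congrArg Prod.snd (hv ⟨x, hC.1 hx⟩)
        have e2 := congrArg Prod.snd (hv (χ.symm ⟨(1, y), hy1⟩))
        rw [MulEquiv.apply_symm_apply] at e2
        rw [e1]
        refine Eq.trans ?_ e2.symm
        show χ₂ _ = χ₂ _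
        congr 1
        exact Subtype.ext hxz
  · -- ext
    intro Q hC R φ hφ hr
    obtain ⟨φ₁, hφ₁, φ₂, hφ₂, hv⟩ := exists_prod_of_mem hE hφ
    refine ⟨(pr₁ R).prod (pr₂ R), le_prod_pr R, fun g hg => normalizer_le_normalizer_prod_pr R hg.2,
      prodHom φ₁ φ₂, prodHom_mem hE hφ₁ hφ₂, ?_, fun x => ?_⟩
    · rw [prodHom_range, ← pr₁_range hv, ← pr₂_range hv, hr, hC.2.1, hC.2.2]
    · rw [prodHom_apply, hv x]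
      rfl
  · -- extAut
    intro Q hC α hα
    obtain ⟨hQle, h1, h2⟩ := hC
    subst h1
    subst h2
    have hQS : Q ≤ S₁.prod S₂ := hQle.trans hQh
    haveI : Finite ↥(S₁.prod S₂) := Finite.of_equiv _ (Subgroup.prodEquiv S₁ S₂).symm.toEquiv
    haveI : Finite ↥((pr₁ Q).prod (pr₂ Q)) := finite_of_le hQh
    have hφ : Q.subtype.comp α.toMonoidHom ∈ E.Hom Q := (mem_autGroup_iff E hQS).1 hα
    obtain ⟨φ₁, hφ₁, φ₂, hφ₂, hv⟩ := exists_prod_of_mem hE hφ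
    have hmem := prodHom_mem hE hφ₁ hφ₂
    have hval : ∀ w : ↥((pr₁ Q).prod (pr₂ Q)), prodHom φ₁ φ₂ w ∈ (pr₁ Q).prod (pr₂ Q) := by
      intro w
      have h3 : prodHom φ₁ φ₂ w ∈ (prodHom φ₁ φ₂).range := ⟨w, rfl⟩
      rw [prodHom_range, ← pr₁_range hv, ← pr₂_range hv, range_subtype_comp_aut α] at h3
      exact h3
    obtain ⟨αh, hαh, hαhv⟩ := exists_aut_of_hom E hmem hval
    refine ⟨αh, hαh, fun x hx => ?_⟩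
    rw [hαhv, prodHom_apply]
    exact (hv x).symm
  · -- uniq
    intro Q hC α hα hfix
    obtain ⟨α₁, _, α₂, _, hv⟩ := aut_components hE hQh hα
    ext w
    · show ((α w : ↥(Q₁.prod Q₂)) : Ω₁ × Ω₂).1 = (w : Ω₁ × Ω₂).1
      have hw1 : (w : Ω₁ × Ω₂).1 ∈ pr₁ Q := by
        rw [hC.2.1]
        exact (Subgroup.mem_prod.1 w.2).1
      obtain ⟨x, hx, hxw⟩ := hw1
      have e1 := congrArg Prod.fst (hv w)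
      have e2 := congrArg Prod.fst (hv ⟨x, hC.1 hx⟩)
      rw [hfix ⟨x, hC.1 hx⟩ hx] at e2
      rw [e1]
      have hxw' : x.1 = (w : Ω₁ × Ω₂).1 := hxw
      have e3 : α₁ ⟨(w : Ω₁ × Ω₂).1, (Subgroup.mem_prod.1 w.2).1⟩ =
          α₁ ⟨x.1, (Subgroup.mem_prod.1 (hC.1 hx)).1⟩ := by
        congr 1
        exact Subtype.ext hxw'.symm
      exact e3.trans (e2.symm.trans hxw')
    · show ((α w : ↥(Q₁.prod Q₂)) : Ω₁ × Ω₂).2 = (w : Ω₁ × Ω₂).2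
      have hw1 : (w : Ω₁ × Ω₂).2 ∈ pr₂ Q := by
        rw [hC.2.2]
        exact (Subgroup.mem_prod.1 w.2).2
      obtain ⟨x, hx, hxw⟩ := hw1
      have e1 := congrArg Prod.snd (hv w)
      have e2 := congrArg Prod.snd (hv ⟨x, hC.1 hx⟩)
      rw [hfix ⟨x, hC.1 hx⟩ hx] at e2
      rw [e1]
      have hxw' : x.2 = (w : Ω₁ × Ω₂).2 := hxw
      have e3 : α₂ ⟨(w : Ω₁ × Ω₂).2, (Subgroup.mem_prod.1 w.2).2⟩ =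
          α₂ ⟨x.2, (Subgroup.mem_prod.1 (hC.1 hx)).2⟩ := by
        congr 1
        exact Subtype.ext hxw'.symm
      exact e3.trans (e2.symm.trans hxw')
  · -- norm
    intro Q hC g hg
    have := normalizer_le_normalizer_prod_pr Q hg.2
    rw [hC.2.1, hC.2.2] at this
    exact this

end hull

section receptive

variable {S₁ : Subgroup Ω₁} {S₂ : Subgroup Ω₂} {F₁ : FusionSystem S₁} {F₂ : FusionSystem S₂}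
  {E : FusionSystem (S₁.prod S₂)}

theorem pr₁_normalizer_le (R : Subgroup (Ω₁ × Ω₂)) :
    pr₁ (Subgroup.normalizer (R : Set (Ω₁ × Ω₂))) ≤ Subgroup.normalizer ((pr₁ R : Subgroup Ω₁) : Set Ω₁) := by
  apply le_normalizer_of_conj_mem
  rintro _ ⟨g, hg, rfl⟩ _ ⟨r, hr, rfl⟩
  exact ⟨g * r * g⁻¹, (Subgroup.mem_normalizer_iff.1 hg r).1 hr, rfl⟩

theorem pr₂_normalizer_le (R : Subgroup (Ω₁ × Ω₂)) :
    pr₂ (Subgroup.normalizer (R : Set (Ω₁ × Ω₂))) ≤ Subgroup.normalizer ((pr₂ R : Subgroup Ω₂) : Set Ω₂) := by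
  apply le_normalizer_of_conj_mem
  rintro _ ⟨g, hg, rfl⟩ _ ⟨r, hr, rfl⟩
  exact ⟨g * r * g⁻¹, (Subgroup.mem_normalizer_iff.1 hg r).1 hr, rfl⟩

theorem pr₁_extender_le {R : Subgroup (Ω₁ × Ω₂)} {φ : R →* Ω₁ × Ω₂} {φ₁ : pr₁ R →* Ω₁} {φ₂ : pr₂ R →* Ω₂}
    (hv : ∀ x : R, φ x = (φ₁ ⟨(x : Ω₁ × Ω₂).1, fst_mem_pr₁ x.2⟩, φ₂ ⟨(x : Ω₁ × Ω₂).2, snd_mem_pr₂ x.2⟩)) :
    pr₁ (FusionSystem.extender (S₁.prod S₂) R φ) ≤ FusionSystem.extender S₁ (pr₁ R) φ₁ := by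
  unfold FusionSystem.extender
  rw [pr₁, MonoidHom.map_closure, Subgroup.closure_le]
  rintro _ ⟨g, ⟨hgS, hgN, h, hhS, hrel⟩, rfl⟩
  apply Subgroup.subset_closure
  refine ⟨(Subgroup.mem_prod.1 hgS).1, pr₁_normalizer_le R ⟨g, hgN, rfl⟩, h.1, (Subgroup.mem_prod.1 hhS).1, ?_⟩
  rintro ⟨a, r, hr, rfl⟩ ha
  have hgr : g * r * g⁻¹ ∈ R := (Subgroup.mem_normalizer_iff.1 hgN r).1 hr
  have h1 := hrel ⟨r, hr⟩ hgr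
  rw [hv ⟨g * r * g⁻¹, hgr⟩, hv ⟨r, hr⟩] at h1
  exact congrArg Prod.fst h1

theorem pr₂_extender_le {R : Subgroup (Ω₁ × Ω₂)} {φ : R →* Ω₁ × Ω₂} {φ₁ : pr₁ R →* Ω₁} {φ₂ : pr₂ R →* Ω₂}
    (hv : ∀ x : R, φ x = (φ₁ ⟨(x : Ω₁ × Ω₂).1, fst_mem_pr₁ x.2⟩, φ₂ ⟨(x : Ω₁ × Ω₂).2, snd_mem_pr₂ x.2⟩)) :
    pr₂ (FusionSystem.extender (S₁.prod S₂) R φ) ≤ FusionSystem.extender S₂ (pr₂ R) φ₂ := by
  unfold FusionSystem.extender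
  rw [pr₂, MonoidHom.map_closure, Subgroup.closure_le]
  rintro _ ⟨g, ⟨hgS, hgN, h, hhS, hrel⟩, rfl⟩
  apply Subgroup.subset_closure
  refine ⟨(Subgroup.mem_prod.1 hgS).2, pr₂_normalizer_le R ⟨g, hgN, rfl⟩, h.2, (Subgroup.mem_prod.1 hhS).2, ?_⟩
  rintro ⟨a, r, hr, rfl⟩ ha
  have hgr : g * r * g⁻¹ ∈ R := (Subgroup.mem_normalizer_iff.1 hgN r).1 hr
  have h1 := hrel ⟨r, hr⟩ hgr
  rw [hv ⟨g * r * g⁻¹, hgr⟩, hv ⟨r, hr⟩] at h1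
  exact congrArg Prod.snd h1

theorem prod_receptive (hE : FusionSystem.IsProductSystem F₁ F₂ E) {Q₁ : Subgroup Ω₁} {Q₂ : Subgroup Ω₂}
    (hr₁ : F₁.IsReceptive Q₁) (hr₂ : F₂.IsReceptive Q₂) : E.IsReceptive (Q₁.prod Q₂) := by
  refine ⟨Subgroup.prod_mono hr₁.1 hr₂.1, fun R φ hφ hr => ?_⟩
  obtain ⟨φ₁, hφ₁, φ₂, hφ₂, hv⟩ := exists_prod_of_mem hE hφ
  have hr1 : φ₁.range = Q₁ := by rw [← pr₁_range hv, hr, pr₁_prod]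
  have hr2 : φ₂.range = Q₂ := by rw [← pr₂_range hv, hr, pr₂_prod]
  obtain ⟨ψ₁, hψ₁, he₁⟩ := hr₁.2 _ φ₁ hφ₁ hr1
  obtain ⟨ψ₂, hψ₂, he₂⟩ := hr₂.2 _ φ₂ hφ₂ hr2
  have hle : FusionSystem.extender (S₁.prod S₂) R φ ≤
      (FusionSystem.extender S₁ (pr₁ R) φ₁).prod (FusionSystem.extender S₂ (pr₂ R) φ₂) :=
    (le_prod_pr _).trans (Subgroup.prod_mono (pr₁_extender_le hv) (pr₂_extender_le hv))
  refine ⟨(prodHom ψ₁ ψ₂).comp (Subgroup.inclusion hle), restrict_mem E hle (prodHom_mem hE hψ₁ hψ₂),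
    fun x hP hN => ?_⟩
  show prodHom ψ₁ ψ₂ ⟨x, hle hN⟩ = φ ⟨x, hP⟩
  rw [prodHom_apply, hv ⟨x, hP⟩, he₁ x.1 (fst_mem_pr₁ hP), he₂ x.2 (snd_mem_pr₂ hP)]

end receptive

section automized

variable {S₁ : Subgroup Ω₁} {S₂ : Subgroup Ω₂} {F₁ : FusionSystem S₁} {F₂ : FusionSystem S₂}
  {E : FusionSystem (S₁.prod S₂)}

/-- the automorphism of `Q₁ × Q₂` induced by a pair of automorphisms -/
def prodAut (Q₁ : Subgroup Ω₁) (Q₂ : Subgroup Ω₂) : MulAut Q₁ × MulAut Q₂ →* MulAut ↥(Q₁.prod Q₂) :=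
  MonoidHom.mk' (fun a => (Subgroup.prodEquiv Q₁ Q₂).trans
    ((MulEquiv.prodCongr a.1 a.2).trans (Subgroup.prodEquiv Q₁ Q₂).symm)) (by
      intro a b
      ext w <;> rfl)

theorem prodAut_apply (Q₁ : Subgroup Ω₁) (Q₂ : Subgroup Ω₂) (a : MulAut Q₁ × MulAut Q₂) (w : ↥(Q₁.prod Q₂)) :
    ((prodAut Q₁ Q₂ a w : ↥(Q₁.prod Q₂)) : Ω₁ × Ω₂) =
      (((a.1 ⟨(w : Ω₁ × Ω₂).1, (Subgroup.mem_prod.1 w.2).1⟩ : Q₁) : Ω₁),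
        ((a.2 ⟨(w : Ω₁ × Ω₂).2, (Subgroup.mem_prod.1 w.2).2⟩ : Q₂) : Ω₂)) := rfl

theorem prodAut_injective (Q₁ : Subgroup Ω₁) (Q₂ : Subgroup Ω₂) : Function.Injective (prodAut Q₁ Q₂) := by
  intro a b hab
  apply Prod.ext
  · ext x
    have h1 := congrArg (fun f : MulAut ↥(Q₁.prod Q₂) =>
      ((f ⟨((x : Ω₁), (1 : Ω₂)), Subgroup.mem_prod.2 ⟨x.2, Q₂.one_mem⟩⟩ : ↥(Q₁.prod Q₂)) : Ω₁ × Ω₂).1) hab
    exact h1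
  · ext x
    have h1 := congrArg (fun f : MulAut ↥(Q₁.prod Q₂) =>
      ((f ⟨((1 : Ω₁), (x : Ω₂)), Subgroup.mem_prod.2 ⟨Q₁.one_mem, x.2⟩⟩ : ↥(Q₁.prod Q₂)) : Ω₁ × Ω₂).2) hab
    exact h1

theorem map_prodAut_autGroup [Finite S₁] [Finite S₂] (hE : FusionSystem.IsProductSystem F₁ F₂ E)
    {Q₁ : Subgroup Ω₁} {Q₂ : Subgroup Ω₂} (hQ₁S : Q₁ ≤ S₁) (hQ₂S : Q₂ ≤ S₂) :
    ((F₁.autGroup Q₁).prod (F₂.autGroup Q₂)).map (prodAut Q₁ Q₂) = E.autGroup (Q₁.prod Q₂) := by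
  have hQh : Q₁.prod Q₂ ≤ S₁.prod S₂ := Subgroup.prod_mono hQ₁S hQ₂S
  haveI : Finite Q₁ := finite_of_le hQ₁S
  haveI : Finite Q₂ := finite_of_le hQ₂S
  apply le_antisymm
  · rintro _ ⟨a, ha, rfl⟩
    obtain ⟨ha₁, ha₂⟩ := Subgroup.mem_prod.1 ha
    apply Subgroup.subset_closure
    show (Q₁.prod Q₂).subtype.comp (prodAut Q₁ Q₂ a).toMonoidHom ∈ E.Hom (Q₁.prod Q₂)
    exact mem_of_prod hE hQh (pr₁_prod Q₁ Q₂).le (pr₂_prod Q₁ Q₂).le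
      ((mem_autGroup_iff F₁ hQ₁S).1 ha₁) ((mem_autGroup_iff F₂ hQ₂S).1 ha₂) (fun w => rfl)
  · intro α hα
    obtain ⟨α₁, hα₁, α₂, hα₂, hv⟩ := aut_components hE hQh hα
    have hval₁ : ∀ x : Q₁, α₁ x ∈ Q₁ := by
      intro x
      have h1 := congrArg Prod.fst (hv ⟨((x : Ω₁), (1 : Ω₂)), Subgroup.mem_prod.2 ⟨x.2, Q₂.one_mem⟩⟩)
      have h2 : α₁ x = ((α ⟨((x : Ω₁), (1 : Ω₂)), Subgroup.mem_prod.2 ⟨x.2, Q₂.one_mem⟩⟩ :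
          ↥(Q₁.prod Q₂)) : Ω₁ × Ω₂).1 := h1.symm
      rw [h2]
      exact (Subgroup.mem_prod.1 (Subtype.property _)).1
    have hval₂ : ∀ x : Q₂, α₂ x ∈ Q₂ := by
      intro x
      have h1 := congrArg Prod.snd (hv ⟨((1 : Ω₁), (x : Ω₂)), Subgroup.mem_prod.2 ⟨Q₁.one_mem, x.2⟩⟩)
      have h2 : α₂ x = ((α ⟨((1 : Ω₁), (x : Ω₂)), Subgroup.mem_prod.2 ⟨Q₁.one_mem, x.2⟩⟩ :
          ↥(Q₁.prod Q₂)) : Ω₁ × Ω₂).2 := h1.symm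
      rw [h2]
      exact (Subgroup.mem_prod.1 (Subtype.property _)).2
    obtain ⟨a₁, ha₁, ha₁v⟩ := exists_aut_of_hom F₁ hα₁ hval₁
    obtain ⟨a₂, ha₂, ha₂v⟩ := exists_aut_of_hom F₂ hα₂ hval₂
    refine ⟨(a₁, a₂), Subgroup.mem_prod.2 ⟨ha₁, ha₂⟩, ?_⟩
    ext w
    · show ((prodAut Q₁ Q₂ (a₁, a₂) w : ↥(Q₁.prod Q₂)) : Ω₁ × Ω₂).1 = ((α w : ↥(Q₁.prod Q₂)) : Ω₁ × Ω₂).1
      rw [prodAut_apply, hv w]
      exact ha₁v _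
    · show ((prodAut Q₁ Q₂ (a₁, a₂) w : ↥(Q₁.prod Q₂)) : Ω₁ × Ω₂).2 = ((α w : ↥(Q₁.prod Q₂)) : Ω₁ × Ω₂).2
      rw [prodAut_apply, hv w]
      exact ha₂v _

theorem map_prodAut_autInducedBy (Q₁ : Subgroup Ω₁) (Q₂ : Subgroup Ω₂) :
    ((autInducedBy S₁ Q₁).prod (autInducedBy S₂ Q₂)).map (prodAut Q₁ Q₂) =
      autInducedBy (S₁.prod S₂) (Q₁.prod Q₂) := by
  apply le_antisymm
  · rintro _ ⟨a, ha, rfl⟩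
    obtain ⟨ha₁, ha₂⟩ := Subgroup.mem_prod.1 ha
    rw [autInducedBy_eq_map] at ha₁ ha₂
    obtain ⟨s₁, hs₁S, hs₁⟩ := ha₁
    obtain ⟨s₂, hs₂S, hs₂⟩ := ha₂
    apply Subgroup.subset_closure
    refine ⟨((s₁ : Ω₁), (s₂ : Ω₂)), Subgroup.mem_prod.2 ⟨hs₁S, hs₂S⟩, fun w => ?_⟩
    rw [prodAut_apply, ← hs₁, ← hs₂]
    rfl
  · unfold autInducedBy
    rw [Subgroup.closure_le]
    rintro α ⟨g, hgS, hg⟩
    have hN₁ : g.1 ∈ Subgroup.normalizer ((Q₁ : Subgroup Ω₁) : Set Ω₁) := by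
      rw [Subgroup.mem_normalizer_iff]
      intro a
      constructor
      · intro ha
        have h1 := hg ⟨(a, 1), Subgroup.mem_prod.2 ⟨ha, Q₂.one_mem⟩⟩
        have h2 := (Subgroup.mem_prod.1 (α ⟨(a, 1), Subgroup.mem_prod.2 ⟨ha, Q₂.one_mem⟩⟩).2).1
        rw [h1] at h2
        exact h2
      · intro ha
        have hw : ((g.1 * a * g.1⁻¹, 1) : Ω₁ × Ω₂) ∈ Q₁.prod Q₂ := Subgroup.mem_prod.2 ⟨ha, Q₂.one_mem⟩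
        have h1 := hg (α.symm ⟨_, hw⟩)
        rw [MulEquiv.apply_symm_apply] at h1
        have h2 : g.1 * a * g.1⁻¹ = g.1 * ((α.symm ⟨_, hw⟩ : ↥(Q₁.prod Q₂)) : Ω₁ × Ω₂).1 * g.1⁻¹ :=
          congrArg Prod.fst h1
        have h3 : a = ((α.symm ⟨_, hw⟩ : ↥(Q₁.prod Q₂)) : Ω₁ × Ω₂).1 :=
          mul_left_cancel (mul_right_cancel h2)
        rw [h3]
        exact (Subgroup.mem_prod.1 (Subtype.property _)).1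
    have hN₂ : g.2 ∈ Subgroup.normalizer ((Q₂ : Subgroup Ω₂) : Set Ω₂) := by
      rw [Subgroup.mem_normalizer_iff]
      intro a
      constructor
      · intro ha
        have h1 := hg ⟨(1, a), Subgroup.mem_prod.2 ⟨Q₁.one_mem, ha⟩⟩
        have h2 := (Subgroup.mem_prod.1 (α ⟨(1, a), Subgroup.mem_prod.2 ⟨Q₁.one_mem, ha⟩⟩).2).2
        rw [h1] at h2
        exact h2
      · intro ha
        have hw : ((1, g.2 * a * g.2⁻¹) : Ω₁ × Ω₂) ∈ Q₁.prod Q₂ := Subgroup.mem_prod.2 ⟨Q₁.one_mem, ha⟩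
        have h1 := hg (α.symm ⟨_, hw⟩)
        rw [MulEquiv.apply_symm_apply] at h1
        have h2 : g.2 * a * g.2⁻¹ = g.2 * ((α.symm ⟨_, hw⟩ : ↥(Q₁.prod Q₂)) : Ω₁ × Ω₂).2 * g.2⁻¹ :=
          congrArg Prod.snd h1
        have h3 : a = ((α.symm ⟨_, hw⟩ : ↥(Q₁.prod Q₂)) : Ω₁ × Ω₂).2 :=
          mul_left_cancel (mul_right_cancel h2)
        rw [h3]
        exact (Subgroup.mem_prod.1 (Subtype.property _)).2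
    refine ⟨(Q₁.normalizerMonoidHom ⟨g.1, hN₁⟩, Q₂.normalizerMonoidHom ⟨g.2, hN₂⟩), Subgroup.mem_prod.2
      ⟨Subgroup.subset_closure ⟨g.1, (Subgroup.mem_prod.1 hgS).1, fun x => rfl⟩,
       Subgroup.subset_closure ⟨g.2, (Subgroup.mem_prod.1 hgS).2, fun x => rfl⟩⟩, ?_⟩
    ext w
    · show ((prodAut Q₁ Q₂ _ w : ↥(Q₁.prod Q₂)) : Ω₁ × Ω₂).1 = ((α w : ↥(Q₁.prod Q₂)) : Ω₁ × Ω₂).1
      rw [prodAut_apply, hg w]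
      rfl
    · show ((prodAut Q₁ Q₂ _ w : ↥(Q₁.prod Q₂)) : Ω₁ × Ω₂).2 = ((α w : ↥(Q₁.prod Q₂)) : Ω₁ × Ω₂).2
      rw [prodAut_apply, hg w]
      rfl

theorem card_of_sylow_eq {A : Type*} [Group A] [Finite A] {p : ℕ} [Fact p.Prime] {X Y : Subgroup A}
    (hYX : Y ≤ X) (Sy : Sylow p X) (hSy : (Sy : Subgroup X) = Y.subgroupOf X) :
    Nat.card Y = p ^ (Nat.card X).factorization p := by
  rw [← Sy.card_eq_multiplicity, hSy]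
  exact (Nat.card_congr (Subgroup.subgroupOfEquivOfLe hYX).toEquiv).symm

theorem prod_fullyAutomized [Finite S₁] [Finite S₂] {p : ℕ} [Fact p.Prime]
    (hE : FusionSystem.IsProductSystem F₁ F₂ E) {Q₁ : Subgroup Ω₁} {Q₂ : Subgroup Ω₂}
    (hfa₁ : F₁.IsFullyAutomized p Q₁) (hfa₂ : F₂.IsFullyAutomized p Q₂) :
    E.IsFullyAutomized p (Q₁.prod Q₂) := by
  obtain ⟨hQ₁S, Sy₁, hSy₁⟩ := hfa₁
  obtain ⟨hQ₂S, Sy₂, hSy₂⟩ := hfa₂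
  have hQh : Q₁.prod Q₂ ≤ S₁.prod S₂ := Subgroup.prod_mono hQ₁S hQ₂S
  haveI : Finite Q₁ := finite_of_le hQ₁S
  haveI : Finite Q₂ := finite_of_le hQ₂S
  haveI : Finite ↥(S₁.prod S₂) := Finite.of_equiv _ (Subgroup.prodEquiv S₁ S₂).symm.toEquiv
  haveI : Finite ↥(Q₁.prod Q₂) := finite_of_le hQh
  refine ⟨hQh, ?_⟩
  have hY₁ := card_of_sylow_eq (autInducedBy_le_autGroup F₁ hQ₁S) Sy₁ hSy₁
  have hY₂ := card_of_sylow_eq (autInducedBy_le_autGroup F₂ hQ₂S) Sy₂ hSy₂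
  have hYX : autInducedBy (S₁.prod S₂) (Q₁.prod Q₂) ≤ E.autGroup (Q₁.prod Q₂) :=
    autInducedBy_le_autGroup E hQh
  have hcardX : Nat.card (E.autGroup (Q₁.prod Q₂)) =
      Nat.card (F₁.autGroup Q₁) * Nat.card (F₂.autGroup Q₂) := by
    rw [← map_prodAut_autGroup hE hQ₁S hQ₂S, Subgroup.card_map_of_injective (prodAut_injective Q₁ Q₂),
      Nat.card_congr (Subgroup.prodEquiv _ _).toEquiv, Nat.card_prod]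
  have hcardY : Nat.card (autInducedBy (S₁.prod S₂) (Q₁.prod Q₂)) =
      Nat.card (autInducedBy S₁ Q₁) * Nat.card (autInducedBy S₂ Q₂) := by
    rw [← map_prodAut_autInducedBy Q₁ Q₂, Subgroup.card_map_of_injective (prodAut_injective Q₁ Q₂),
      Nat.card_congr (Subgroup.prodEquiv _ _).toEquiv, Nat.card_prod]
  have hcard : Nat.card ((autInducedBy (S₁.prod S₂) (Q₁.prod Q₂)).subgroupOf (E.autGroup (Q₁.prod Q₂))) =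
      p ^ (Nat.card (E.autGroup (Q₁.prod Q₂))).factorization p := by
    rw [Nat.card_congr (Subgroup.subgroupOfEquivOfLe hYX).toEquiv, hcardY, hcardX, hY₁, hY₂,
      Nat.factorization_mul Nat.card_pos.ne' Nat.card_pos.ne', Finsupp.add_apply, pow_add]
  exact ⟨Sylow.ofCard _ hcard, rfl⟩

end automized

/-- the direct product of two saturated fusion systems is saturated -/
theorem product_saturated {S₁ : Subgroup Ω₁} {S₂ : Subgroup Ω₂} [Finite S₁] [Finite S₂] {p : ℕ} [Fact p.Prime]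
    (h₁ : IsPGroup p S₁) (h₂ : IsPGroup p S₂) {F₁ : FusionSystem S₁} {F₂ : FusionSystem S₂}
    (hF₁ : F₁.IsSaturated p) (hF₂ : F₂.IsSaturated p) {E : FusionSystem (S₁.prod S₂)}
    (hE : FusionSystem.IsProductSystem F₁ F₂ E) : E.IsSaturated p := by
  intro P hPS
  haveI : Finite ↥(S₁.prod S₂) := Finite.of_equiv _ (Subgroup.prodEquiv S₁ S₂).symm.toEquiv
  have hS : IsPGroup p ↥(S₁.prod S₂) := by
    obtain ⟨a, ha⟩ := IsPGroup.iff_card.1 h₁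
    obtain ⟨b, hb⟩ := IsPGroup.iff_card.1 h₂
    apply IsPGroup.of_card (n := a + b)
    rw [Nat.card_congr (Subgroup.prodEquiv S₁ S₂).toEquiv, Nat.card_prod, ha, hb, pow_add]
  obtain ⟨Q₁, hc₁, hfa₁, hrec₁⟩ := hF₁ (pr₁ P) (pr₁_le hPS)
  obtain ⟨Q₂, hc₂, hfa₂, hrec₂⟩ := hF₂ (pr₂ P) (pr₂_le hPS)
  obtain ⟨φ₁, hφ₁, hr₁⟩ := hc₁
  obtain ⟨φ₂, hφ₂, hr₂⟩ := hc₂
  have hφ : (prodHom φ₁ φ₂).comp (Subgroup.inclusion (le_prod_pr P)) ∈ E.Hom P :=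
    restrict_mem E _ (prodHom_mem hE hφ₁ hφ₂)
  have hv : ∀ x : P, ((prodHom φ₁ φ₂).comp (Subgroup.inclusion (le_prod_pr P))) x =
      (φ₁ ⟨(x : Ω₁ × Ω₂).1, fst_mem_pr₁ x.2⟩, φ₂ ⟨(x : Ω₁ × Ω₂).2, snd_mem_pr₂ x.2⟩) := fun x => rfl
  have hp1 : pr₁ ((prodHom φ₁ φ₂).comp (Subgroup.inclusion (le_prod_pr P))).range = Q₁ := by
    rw [pr₁_range hv, hr₁]
  have hp2 : pr₂ ((prodHom φ₁ φ₂).comp (Subgroup.inclusion (le_prod_pr P))).range = Q₂ := by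
    rw [pr₂_range hv, hr₂]
  have hC : ProdCand Q₁ Q₂ ((prodHom φ₁ φ₂).comp (Subgroup.inclusion (le_prod_pr P))).range := by
    refine ⟨?_, hp1, hp2⟩
    have := le_prod_pr ((prodHom φ₁ φ₂).comp (Subgroup.inclusion (le_prod_pr P))).range
    rw [hp1, hp2] at this
    exact this
  obtain ⟨Q, _, hconj, hfa, hrec⟩ := exists_fa_rec_of_hull hS (hullData_prod hE hfa₁.1 hfa₂.1)
    (prod_fullyAutomized hE hfa₁ hfa₂) (prod_receptive hE hrec₁ hrec₂) hC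
  exact ⟨Q, isConj_trans E ⟨_, hφ, rfl⟩ hconj, hfa, hrec⟩

end Cfsg.Agent.Lib.Helper29
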