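import Cfsg.Agent.Lib.Helper29.PPowerIndexContains
import Cfsg.Prelude.Def_FusionReduction

/-!
Uniqueness of residual subsystems and of residual limits.
-/

set_option autoImplicit false
open Cfsg

namespace Cfsg.Agent.Lib.Helper29

universe u

variable {Ω : Type u} [Group Ω]

theorem fusionSystem_eq_of_subsystem {S : Subgroup Ω} {F₁ F₂ : FusionSystem S} (h₁ : F₁.IsSubsystemOf F₂)
    (h₂ : F₂.IsSubsystemOf F₁) : F₁ = F₂ :=
  fusionSystem_ext fun P => Set.Subset.antisymm (h₁ P) (h₂ P)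

/-- saturated subsystems of `p`-power index over the same subgroup coincide -/
theorem pPowerIndex_unique {S : Subgroup Ω} [Finite S] (p : ℕ) [Fact p.Prime] (hS : IsPGroup p S)
    (F : FusionSystem S) {T : Subgroup Ω} (D₁ D₂ : FusionSystem T) (h₁s : D₁.IsSaturated p)
    (h₁ : D₁.HasPPowerIndexIn F p) (h₂s : D₂.IsSaturated p) (h₂ : D₂.HasPPowerIndexIn F p) : D₁ = D₂ :=
  fusionSystem_eq_of_subsystem
    (subsystem_le_of_pPowerIndex p hS F D₁ h₁s h₁.1 D₂ le_rfl h₂)
    (subsystem_le_of_pPowerIndex p hS F D₂ h₂s h₂.1 D₁ le_rfl h₁)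

theorem pPrimeResidual_unique {S : Subgroup Ω} (p : ℕ) (F : FusionSystem S) (D₁ D₂ : FusionSystem S)
    (h₁ : F.IsPPrimeResidual p D₁) (h₂ : F.IsPPrimeResidual p D₂) : D₁ = D₂ :=
  fusionSystem_eq_of_subsystem (h₁.2.2 D₂ h₂.1 h₂.2.1) (h₂.2.2 D₁ h₁.1 h₁.2.1)

theorem hasPPowerIndexIn_self {S : Subgroup Ω} (p : ℕ) (F : FusionSystem S) :
    F.HasPPowerIndexIn F p := by
  refine ⟨fun P => le_rfl, hyperfocal_le F p, fun P _ => ?_⟩
  rintro _ ⟨α, _, rfl⟩
  exact α.2

/-- one residual step from a stable system returns the system -/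
theorem stable_step_aux {S : Subgroup Ω} [Finite S] (p : ℕ) [Fact p.Prime] (hS : IsPGroup p S)
    (F : FusionSystem S) (h1 : F.hyperfocalSubgroup p = S) (hF : F.IsPPrimeResidual p F)
    (H : Subgroup Ω) (hH : H = S)
    (D D' : FusionSystem H) (hDs : D.IsSaturated p) (hD : D.HasPPowerIndexIn F p)
    (hD' : D.IsPPrimeResidual p D') :
    (∀ P, D'.Hom P = F.Hom P) ∧ D'.IsPPrimeResidual p D' ∧ D'.hyperfocalSubgroup p = H := by
  subst hH
  have e1 : D = F := pPowerIndex_unique p hS F D F hDs hD hF.1 (hasPPowerIndexIn_self p F)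
  subst e1
  have e2 : D' = D := pPrimeResidual_unique p D D' D hD' hF
  subst e2
  exact ⟨fun P => rfl, hF, h1⟩

/-- a residual limit of a stable system is that system -/
theorem limit_of_stable {T S : Subgroup Ω} {L : FusionSystem T} {F : FusionSystem S} {p : ℕ}
    (hL : FusionSystem.IsResidualLimitOf L F p) :
    ∀ (_ : Fact p.Prime) [Finite S] (_ : IsPGroup p S), F.hyperfocalSubgroup p = S →
      F.IsPPrimeResidual p F → T = S ∧ ∀ P, L.Hom P = F.Hom P := by
  induction hL with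
  | stable F p h1 h2 =>
    intro _ _ _ _ _
    exact ⟨rfl, fun P => rfl⟩
  | step F p D D' hD hD' hL' ih =>
    intro hp hfin hS h1 h2
    have hHS : F.hyperfocalSubgroup p ≤ _ := hyperfocal_le F p
    have hfinH : Finite ↥(F.hyperfocalSubgroup p) := finite_of_le hHS
    have hHp : IsPGroup p ↥(F.hyperfocalSubgroup p) := hS.to_le hHS
    obtain ⟨hD'F, hD'res, hhyp⟩ := stable_step_aux p hS F h1 h2 _ h1 D D' hD.1 hD.2 hD'
    obtain ⟨hT, hLD'⟩ := ih hp hHp hhyp hD'res
    exact ⟨hT.trans h1, fun P => (hLD' P).trans (hD'F P)⟩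

/-- residual limits are unique -/
theorem limit_unique {T₁ S : Subgroup Ω} {L₁ : FusionSystem T₁} {F : FusionSystem S} {p : ℕ}
    (hL₁ : FusionSystem.IsResidualLimitOf L₁ F p) :
    ∀ (_ : Fact p.Prime) [Finite S] (_ : IsPGroup p S) {T₂ : Subgroup Ω} (L₂ : FusionSystem T₂),
      FusionSystem.IsResidualLimitOf L₂ F p → T₁ = T₂ ∧ ∀ P, L₁.Hom P = L₂.Hom P := by
  induction hL₁ with
  | stable F p h1 h2 =>
    intro hp _ hS T₂ L₂ hL₂
    obtain ⟨h3, h4⟩ := limit_of_stable hL₂ hp hS h1 h2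
    exact ⟨h3.symm, fun P => (h4 P).symm⟩
  | step F p D D' hD hD' hL₁' ih =>
    intro hp hfin hS T₂ L₂ hL₂
    have hHS : F.hyperfocalSubgroup p ≤ _ := hyperfocal_le F p
    have hfinH : Finite ↥(F.hyperfocalSubgroup p) := finite_of_le hHS
    have hHp : IsPGroup p ↥(F.hyperfocalSubgroup p) := hS.to_le hHS
    cases hL₂ with
    | stable _ _ h1 h2 =>
      exact limit_of_stable (FusionSystem.IsResidualLimitOf.step F p D D' hD hD' hL₁') hp hS h1 h2
    | step _ _ D₂ D₂' hD₂ hD₂' hL₂' =>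
      have e1 : D = D₂ := pPowerIndex_unique p hS F D D₂ hD.1 hD.2 hD₂.1 hD₂.2
      subst e1
      have e2 : D' = D₂' := pPrimeResidual_unique p D D' D₂' hD' hD₂'
      subst e2
      exact ih hp hHp L₂ hL₂'

end Cfsg.Agent.Lib.Helper29
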