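import Mathlib
import Cfsg.Agent.Lib.Helper29.PResidualSylow
import Cfsg.Agent.Lib.Helper29.HyperfocalFactor
import Cfsg.Agent.Lib.Helper29.BisetCount

/-!
Sign characters of coset actions: an element acting semiregularly with an odd number of cycles of even
length lies outside a subgroup of index two; iterating gives a lower bound for the index of `O^2(G)`.
-/
set_option autoImplicit false
open Cfsg

namespace Cfsg.Agent.Lib.Helper29

section SignStep
variable {H : Type*} [Group H] {U : Subgroup H}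

theorem sign_eq_neg_one_of_semiregular [Finite H] [Fintype (H ⧸ U)] [DecidableEq (H ⧸ U)] (y : H) (j : ℕ)
    (hj : 1 ≤ j) (hsemi : ∀ h : H, ∀ r : ℕ, h⁻¹ * y ^ r * h ∈ U → 2 ^ j ∣ r) (hyj : y ^ (2 ^ j) = 1)
    (m : ℕ) (hm : Odd m) (hidx : U.index = 2 ^ j * m) :
    Equiv.Perm.sign (MulAction.toPermHom H (H ⧸ U) y) = -1 := by
  set ρ : H →* Equiv.Perm (H ⧸ U) := MulAction.toPermHom H (H ⧸ U) with hρ
  set σ : Equiv.Perm (H ⧸ U) := ρ y with hσ
  have hpow : ∀ (r : ℕ) (h : H), (σ ^ r) (h : H ⧸ U) = ((y ^ r * h : H) : H ⧸ U) := by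
    intro r h
    rw [hσ, ← map_pow]
    rfl
  have h1 : ∀ x : H ⧸ U, ∀ r : ℕ, (σ ^ r) x = x → 2 ^ j ∣ r := by
    intro x r hx
    induction x using QuotientGroup.induction_on with
    | H h =>
      rw [hpow] at hx
      apply hsemi h r
      have := (QuotientGroup.eq.1 hx.symm)
      rwa [← mul_assoc] at this
  have h2 : σ ^ (2 ^ j) = 1 := by
    rw [hσ, ← map_pow, hyj, map_one]
  have h3 : ∀ n ∈ σ.cycleType, n = 2 ^ j := by
    intro n hn
    have hdvd : n ∣ 2 ^ j := (Equiv.Perm.dvd_of_mem_cycleType hn).trans (orderOf_dvd_of_pow_eq_one h2)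
    obtain ⟨c, τ, hστ, hd, hc, hcard⟩ := Equiv.Perm.mem_cycleType_iff.1 hn
    obtain ⟨a, ha, _⟩ := hc
    have hτa : τ a = a := (hd a).resolve_left ha
    have hcn : c ^ n = 1 := by
      rw [← hcard, ← Equiv.Perm.IsCycle.orderOf ⟨a, ha, ‹_›⟩, pow_orderOf_eq_one]
    have hfix : (σ ^ n) a = a := by
      rw [hστ, hd.commute.mul_pow, hcn, one_mul]
      exact Equiv.Perm.pow_apply_eq_self_of_apply_eq_self hτa n
    exact Nat.dvd_antisymm hdvd (h1 a n hfix)
  have h4 : σ.cycleType = Multiset.replicate (Multiset.card σ.cycleType) (2 ^ j) :=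
    Multiset.eq_replicate.2 ⟨rfl, h3⟩
  have h5 : σ.cycleType.sum = 2 ^ j * m := by
    rw [Equiv.Perm.sum_cycleType]
    have : σ.support = Finset.univ := by
      rw [Finset.eq_univ_iff_forall]
      intro x
      rw [Equiv.Perm.mem_support]
      intro hx
      have := h1 x 1 (by rw [pow_one]; exact hx)
      have h2j : 2 ≤ 2 ^ j := by
        calc 2 = 2 ^ 1 := by norm_num
          _ ≤ 2 ^ j := Nat.pow_le_pow_right (by norm_num) hj
      have := Nat.le_of_dvd one_pos this
      omega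
    rw [this, Finset.card_univ, ← Nat.card_eq_fintype_card, ← Subgroup.index_eq_card, hidx]
  have h6 : Multiset.card σ.cycleType = m := by
    have h7 : σ.cycleType.sum = Multiset.card σ.cycleType * 2 ^ j := by
      conv_lhs => rw [h4]
      rw [Multiset.sum_replicate, smul_eq_mul]
    rw [h5, mul_comm] at h7
    exact (Nat.eq_of_mul_eq_mul_right (by positivity) h7).symm
  show Equiv.Perm.sign σ = -1
  rw [Equiv.Perm.sign_of_cycleType, h5, h6]
  apply Odd.neg_one_pow
  obtain ⟨t, ht⟩ := hm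
  refine ⟨2 ^ (j - 1) * m + t, ?_⟩
  have : 2 ^ j = 2 * 2 ^ (j - 1) := by
    conv_lhs => rw [← Nat.sub_add_cancel hj, pow_succ]
    ring
  rw [this, ht]
  ring

/-- a subgroup of index two avoiding every element that acts semiregularly with cycles of length `2 ^ j` -/
theorem exists_index_two_of_semiregular' [Finite H] (U : Subgroup H) (y₀ : H) (j : ℕ)
    (hj : 1 ≤ j) (hsemi₀ : ∀ h : H, ∀ r : ℕ, h⁻¹ * y₀ ^ r * h ∈ U → 2 ^ j ∣ r) (hyj₀ : y₀ ^ (2 ^ j) = 1)
    (m : ℕ) (hm : Odd m) (hidx : U.index = 2 ^ j * m) :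
    ∃ N : Subgroup H, N.index = 2 ∧
      (∀ y : H, (∀ h : H, ∀ r : ℕ, h⁻¹ * y ^ r * h ∈ U → 2 ^ j ∣ r) → y ^ (2 ^ j) = 1 → y ∉ N) ∧
      ∀ g : H, Odd (orderOf g) → g ∈ N := by
  classical
  letI : Fintype (H ⧸ U) := Fintype.ofFinite _
  set sg : H →* ℤˣ := Equiv.Perm.sign.comp (MulAction.toPermHom H (H ⧸ U)) with hsg
  have key : ∀ y : H, (∀ h : H, ∀ r : ℕ, h⁻¹ * y ^ r * h ∈ U → 2 ^ j ∣ r) → y ^ (2 ^ j) = 1 → sg y = -1 :=
    fun y hs hy => sign_eq_neg_one_of_semiregular (U := U) y j hj hs hy m hm hidx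
  refine ⟨sg.ker, ?_, ?_, ?_⟩
  · rw [Subgroup.index_ker]
    have hsurj : Function.Surjective sg := by
      intro u
      rcases Int.units_eq_one_or u with rfl | rfl
      · exact ⟨1, map_one _⟩
      · exact ⟨y₀, key y₀ hsemi₀ hyj₀⟩
    rw [MonoidHom.range_eq_top.2 hsurj, Nat.card_congr Subgroup.topEquiv.toEquiv, Nat.card_eq_fintype_card]
    rfl
  · intro y hs hy
    rw [MonoidHom.mem_ker, key y hs hy]
    decide
  · intro g hg
    rw [MonoidHom.mem_ker]
    rcases Int.units_eq_one_or (sg g) with h | h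
    · exact h
    · exfalso
      have h8 : sg g ^ orderOf g = 1 := by rw [← map_pow, pow_orderOf_eq_one, map_one]
      rw [h, hg.neg_one_pow] at h8
      exact absurd h8 (by decide)

theorem exists_index_two_of_semiregular [Finite H] (U : Subgroup H) (y : H) (j : ℕ)
    (hj : 1 ≤ j) (hsemi : ∀ h : H, ∀ r : ℕ, h⁻¹ * y ^ r * h ∈ U → 2 ^ j ∣ r) (hyj : y ^ (2 ^ j) = 1)
    (m : ℕ) (hm : Odd m) (hidx : U.index = 2 ^ j * m) :
    ∃ N : Subgroup H, N.index = 2 ∧ y ∉ N ∧ ∀ g : H, Odd (orderOf g) → g ∈ N := by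
  obtain ⟨N, h1, h2, h3⟩ := exists_index_two_of_semiregular' U y j hj hsemi hyj m hm hidx
  exact ⟨N, h1, h2 y hsemi hyj, h3⟩

end SignStep

section Relative
variable {G : Type*} [Group G]

theorem exists_relIndex_two_of_semiregular [Finite G] (H₀ U : Subgroup G) (y : G) (hy : y ∈ H₀)
    (j : ℕ) (hj : 1 ≤ j) (hsemi : ∀ h ∈ H₀, ∀ r : ℕ, h⁻¹ * y ^ r * h ∈ U → 2 ^ j ∣ r)
    (hyj : y ^ (2 ^ j) = 1) (m : ℕ) (hm : Odd m) (hidx : U.relIndex H₀ = 2 ^ j * m) :
    ∃ N : Subgroup G, N ≤ H₀ ∧ N.relIndex H₀ = 2 ∧ y ∉ N ∧ ∀ g ∈ H₀, Odd (orderOf g) → g ∈ N := by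
  obtain ⟨N', hN1, hN2, hN3⟩ := exists_index_two_of_semiregular (H := H₀) (U.subgroupOf H₀) ⟨y, hy⟩ j hj
    (by
      intro h r hr
      apply hsemi h h.2 r
      exact hr) (by
      apply Subtype.ext
      exact hyj) m hm hidx
  refine ⟨N'.map H₀.subtype, Subgroup.map_subtype_le _, ?_, ?_, ?_⟩
  · unfold Subgroup.relIndex Subgroup.subgroupOf
    rw [Subgroup.comap_map_eq_self_of_injective (Subgroup.subtype_injective _)]
    exact hN1
  · rintro ⟨z, hz, hzy⟩
    apply hN2
    have : z = ⟨y, hy⟩ := Subtype.ext hzy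
    rwa [← this]
  · intro g hg hodd
    refine ⟨⟨g, hg⟩, hN3 ⟨g, hg⟩ ?_, rfl⟩
    rw [← Subgroup.orderOf_coe]
    exact hodd

/-- iterating the sign argument along a cyclic 2-group acting semiregularly -/
theorem exists_chain_of_semiregular [Finite G] (T : Subgroup G) (hTK : T ≤ pResidual 2 G) (k : ℕ) :
    ∀ (H₀ : Subgroup G) (c : G), c ∈ H₀ → orderOf c = 2 ^ k → pResidual 2 G ≤ H₀ →
      (∀ g : G, ∀ r : ℕ, g⁻¹ * c ^ r * g ∈ T → c ^ r = 1) →
      (∃ m, Odd m ∧ T.relIndex H₀ = 2 ^ k * m) →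
      ∃ N₀ : Subgroup G, N₀ ≤ H₀ ∧ N₀.relIndex H₀ = 2 ^ k ∧ pResidual 2 G ≤ N₀ := by
  induction k with
  | zero =>
    intro H₀ c _ _ hK _ _
    exact ⟨H₀, le_rfl, by rw [Subgroup.relIndex_self, pow_zero], hK⟩
  | succ k ih =>
    intro H₀ c hc hord hK hsemi ⟨m, hm, hidx⟩
    obtain ⟨N₁, hN1, hN2, hN3, hN4⟩ := exists_relIndex_two_of_semiregular H₀ T c hc (k + 1) (by omega)
      (by
        intro h _ r hr
        rw [← hord]
        exact orderOf_dvd_of_pow_eq_one (hsemi h r hr)) (by rw [← hord, pow_orderOf_eq_one]) m hm hidx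
    have hKN : pResidual 2 G ≤ N₁ := by
      unfold pResidual
      rw [Subgroup.closure_le]
      intro g hg
      have hg' : Nat.Coprime (orderOf g) 2 := hg
      apply hN4 g (hK (Subgroup.subset_closure hg))
      rw [Nat.odd_iff]
      rcases Nat.mod_two_eq_zero_or_one (orderOf g) with h | h
      · exfalso
        have h2 : 2 ∣ orderOf g := Nat.dvd_of_mod_eq_zero h
        have := Nat.Coprime.eq_one_of_dvd hg'.symm h2
        omega
      · exact h
    have hc2 : c ^ 2 ∈ N₁ := by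
      have h1 : (N₁.subgroupOf H₀).index = 2 := hN2
      have := Subgroup.sq_mem_of_index_two h1 ⟨c, hc⟩
      exact this
    have hord2 : orderOf (c ^ 2) = 2 ^ k := by
      rw [orderOf_pow_of_dvd (by norm_num) (by rw [hord, pow_succ]; exact dvd_mul_left 2 _), hord, pow_succ,
        Nat.mul_div_cancel _ (by norm_num)]
    have hidx2 : T.relIndex N₁ = 2 ^ k * m := by
      have h1 := Subgroup.relIndex_mul_relIndex T N₁ H₀ (hTK.trans hKN) hN1
      rw [hN2, hidx, pow_succ] at h1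
      have : T.relIndex N₁ * 2 = 2 ^ k * m * 2 := by rw [h1]; ring
      exact Nat.eq_of_mul_eq_mul_right (by norm_num) this
    obtain ⟨N₀, hN01, hN02, hN03⟩ := ih N₁ (c ^ 2) hc2 hord2 hKN (by
      intro g r hr
      rw [← pow_mul] at hr ⊢
      exact hsemi g _ hr) ⟨m, hm, hidx2⟩
    refine ⟨N₀, hN01.trans hN1, ?_, hN03⟩
    rw [← Subgroup.relIndex_mul_relIndex N₀ N₁ H₀ hN01 hN1, hN02, hN2, pow_succ]

end Relative

section Dihedral

/-- outside a cyclic subgroup of index two of a dihedral group every element squares to one -/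
theorem dihedral_sq_eq_one_of_not_mem {n : ℕ} (hn : 2 ≤ n) (C' : Subgroup (DihedralGroup n))
    (hC : IsCyclic C') (hidx : C'.index = 2) (y : DihedralGroup n) (hy : y ∉ C') : y ^ 2 = 1 := by
  haveI : NeZero n := ⟨by omega⟩
  cases y with
  | sr i => rw [pow_two, DihedralGroup.sr_mul_self]
  | r i =>
    by_cases hn2 : n = 2
    · subst hn2
      rw [DihedralGroup.r_pow, DihedralGroup.one_def]
      congr 1
    · exfalso
      have hn3 : 3 ≤ n := by omega
      have hcard : Nat.card C' = n := by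
        have h1 := C'.card_mul_index
        rw [hidx, DihedralGroup.nat_card] at h1
        omega
      obtain ⟨g, hg⟩ := hC.exists_generator
      have hord : orderOf g = n :=
        (orderOf_eq_card_of_forall_mem_zpowers hg).trans hcard
      rw [← Subgroup.orderOf_coe] at hord
      have hgr : ∃ j, (g : DihedralGroup n) = DihedralGroup.r j := by
        rcases hgv : (g : DihedralGroup n) with j | j
        · exact ⟨j, rfl⟩
        · rw [hgv, DihedralGroup.orderOf_sr] at hord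
          omega
      obtain ⟨j, hj⟩ := hgr
      have hle : C' ≤ Subgroup.zpowers (DihedralGroup.r 1 : DihedralGroup n) := by
        intro z hz
        have h2 := hg ⟨z, hz⟩
        obtain ⟨k, hk⟩ := Subgroup.mem_zpowers_iff.1 h2
        have h3 : z = (g : DihedralGroup n) ^ k := by
          rw [← Subgroup.coe_zpow, hk]
        rw [h3, hj, DihedralGroup.r_zpow]
        rw [Subgroup.mem_zpowers_iff]
        refine ⟨((j * (k : ZMod n) : ZMod n)).val, ?_⟩
        rw [zpow_natCast, DihedralGroup.r_one_pow, ZMod.natCast_zmod_val]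
      have heq : C' = Subgroup.zpowers (DihedralGroup.r 1 : DihedralGroup n) := by
        apply Subgroup.eq_of_le_of_card_ge hle
        rw [hcard, Nat.card_zpowers, DihedralGroup.orderOf_r_one]
      apply hy
      rw [heq, Subgroup.mem_zpowers_iff]
      refine ⟨(i.val : ℤ), ?_⟩
      rw [zpow_natCast, DihedralGroup.r_one_pow, ZMod.natCast_zmod_val]

end Dihedral

section Assembly
variable {G : Type*} [Group G]

theorem card_sup_of_inf_eq_bot [Finite G] (T C : Subgroup G) (h : T ⊓ C = ⊥) :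
    Nat.card T * Nat.card C ≤ Nat.card (T ⊔ C : Subgroup G) := by
  rw [← Nat.card_prod]
  apply Nat.card_le_card_of_injective
    (fun z : T × C => (⟨(z.1 : G) * z.2, Subgroup.mul_mem _ (Subgroup.mem_sup_left z.1.2)
      (Subgroup.mem_sup_right z.2.2)⟩ : (T ⊔ C : Subgroup G)))
  rintro ⟨⟨t, ht⟩, ⟨c, hc⟩⟩ ⟨⟨t', ht'⟩, ⟨c', hc'⟩⟩ heq
  have h1 : t * c = t' * c' := congrArg Subtype.val heq
  have h2 : t'⁻¹ * t = c' * c⁻¹ := by
    have : t'⁻¹ * (t * c) * c⁻¹ = t'⁻¹ * (t' * c') * c⁻¹ := by rw [h1]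
    have e1 : t'⁻¹ * (t * c) * c⁻¹ = t'⁻¹ * t := by group
    have e2 : t'⁻¹ * (t' * c') * c⁻¹ = c' * c⁻¹ := by group
    rw [e1, e2] at this
    exact this
  have h3 : t'⁻¹ * t ∈ T ⊓ C := ⟨T.mul_mem (T.inv_mem ht') ht, by rw [h2]; exact C.mul_mem hc' (C.inv_mem hc)⟩
  rw [h, Subgroup.mem_bot] at h3
  have h4 : t = t' := by
    have : t' * (t'⁻¹ * t) = t' * 1 := by rw [h3]
    rwa [mul_inv_cancel_left, mul_one] at this
  subst h4
  have h5 : c = c' := mul_left_cancel h1
  subst h5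
  rfl

/-- **A consequence of Thompson's transfer lemma**: `O^2(G)` meets `S = TD` in `T`. -/
theorem thompson_dihedral_residual [Finite G] (T S D C : Subgroup G) (hTK : T ≤ pResidual 2 G)
    (hS2 : IsPGroup 2 S) (hSsyl : ¬ 2 ∣ S.index) (hTS : T ≤ S) (hDS : D ≤ S)
    (hDih : ∃ n : ℕ, 2 ≤ n ∧ Nonempty (↥D ≃* DihedralGroup n)) (hDT : D ⊓ T = ⊥)
    (hTDc : Nat.card T * Nat.card D = Nat.card S)
    (hCD : C ≤ D) (hC : IsCyclic ↥C) (hCi : C.relIndex D = 2)
    (h1 : ∀ x ∈ D, x ∉ C → orderOf x = 2 → ∀ g : G, g * x * g⁻¹ ∈ T ⊔ C → False)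
    (h2 : ∀ c ∈ C, orderOf c = 2 → ∀ g : G, g * c * g⁻¹ ∈ T → False) :
    ¬ 2 ∣ T.relIndex (pResidual 2 G) := by
  classical
  obtain ⟨n, hn, ⟨e⟩⟩ := hDih
  -- elements of `D` outside `C` are involutions
  have hsq : ∀ y ∈ D, y ∉ C → orderOf y = 2 := by
    intro y hyD hyC
    set C' : Subgroup (DihedralGroup n) := (C.subgroupOf D).map e.toMonoidHom with hC'
    haveI : IsCyclic C' := by
      haveI := hC
      exact isCyclic_of_surjective
        ((Subgroup.subgroupOfEquivOfLe hCD).symm.trans (e.subgroupMap (C.subgroupOf D))).toMonoidHom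
        (MulEquiv.surjective _)
    have hidx : C'.index = 2 := by
      have := Subgroup.index_map_equiv (C.subgroupOf D) e
      rw [hC']
      exact this.trans hCi
    have hnot : e ⟨y, hyD⟩ ∉ C' := by
      rintro ⟨z, hz, hzy⟩
      have : z = ⟨y, hyD⟩ := e.injective hzy
      rw [this] at hz
      exact hyC hz
    have h3 := dihedral_sq_eq_one_of_not_mem hn C' inferInstance hidx _ hnot
    rw [← map_pow] at h3
    have h4 : (⟨y, hyD⟩ : D) ^ 2 = 1 := e.injective (h3.trans (map_one e).symm)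
    have h5 : y ^ 2 = 1 := congrArg Subtype.val h4
    have h6 : y ≠ 1 := by
      rintro rfl
      exact hyC C.one_mem
    exact orderOf_eq_prime h5 h6
  -- an element of `D` outside `C`
  obtain ⟨x, hxD, hxC⟩ : ∃ x ∈ D, x ∉ C := by
    by_contra hcon
    push_neg at hcon
    have : C.subgroupOf D = ⊤ := by
      rw [Subgroup.subgroupOf_eq_top]
      exact hcon
    have h3 : C.relIndex D = 1 := by
      unfold Subgroup.relIndex
      rw [this, Subgroup.index_top]
    omega
  have hx2 := hsq x hxD hxC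
  -- cardinalities
  have hcardD : Nat.card D = 2 * Nat.card C := by
    have h3 := (C.subgroupOf D).card_mul_index
    rw [Nat.card_congr (Subgroup.subgroupOfEquivOfLe hCD).toEquiv] at h3
    have h4 : (C.subgroupOf D).index = 2 := hCi
    rw [h4] at h3
    omega
  have hTC : T ⊓ C = ⊥ := by
    rw [eq_bot_iff, ← hDT]
    exact le_inf (inf_le_right.trans hCD) inf_le_left
  obtain ⟨U, hU⟩ : ∃ U : Subgroup G, U = T ⊔ C := ⟨_, rfl⟩
  have hxU : x ∉ U := by
    intro hx
    apply h1 x hxD hxC hx2 1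
    rw [one_mul, inv_one, mul_one, ← hU]
    exact hx
  have hUS : U ≤ S := by
    rw [hU]
    exact sup_le hTS (hCD.trans hDS)
  have hcardU : Nat.card U = Nat.card T * Nat.card C := by
    have hge := card_sup_of_inf_eq_bot T C hTC
    rw [← hU] at hge
    apply le_antisymm _ hge
    have h3 := (U.subgroupOf S).card_mul_index
    rw [Nat.card_congr (Subgroup.subgroupOfEquivOfLe hUS).toEquiv, ← hTDc, hcardD] at h3
    have hq1 : (U.subgroupOf S).index ≠ 1 := by
      intro h4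
      have h5 : U.relIndex S = 1 := h4
      rw [Subgroup.relIndex_eq_one] at h5
      exact hxU (h5 (hDS hxD))
    have hq0 : (U.subgroupOf S).index ≠ 0 := Subgroup.index_ne_zero_of_finite
    have hq : 2 ≤ (U.subgroupOf S).index := by omega
    have h6 : Nat.card U * 2 ≤ Nat.card U * (U.subgroupOf S).index := Nat.mul_le_mul_left _ hq
    rw [h3] at h6
    have h7 : Nat.card T * (2 * Nat.card C) = 2 * (Nat.card T * Nat.card C) := by ring
    omega
  have hTpos : 0 < Nat.card T := Nat.card_pos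
  have hCpos : 0 < Nat.card C := Nat.card_pos
  have hGcard : Nat.card G = Nat.card T * (2 * Nat.card C) * S.index := by
    rw [← S.card_mul_index, ← hTDc, hcardD]
  have hu : Odd S.index := by
    rw [← Nat.not_even_iff_odd, even_iff_two_dvd]
    exact hSsyl
  have hUidx : U.index = 2 ^ 1 * S.index := by
    have h3 := U.card_mul_index
    rw [hcardU, hGcard] at h3
    have h4 : Nat.card T * Nat.card C * U.index = Nat.card T * Nat.card C * (2 * S.index) := by
      rw [h3]; ring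
    rw [pow_one]
    exact Nat.eq_of_mul_eq_mul_left (Nat.mul_pos hTpos hCpos) h4
  -- the first step: a subgroup of index two containing no element of `D` outside `C`
  have hinv : ∀ y ∈ D, y ∉ C → (∀ h : G, ∀ r : ℕ, h⁻¹ * y ^ r * h ∈ U → 2 ^ 1 ∣ r) ∧ y ^ (2 ^ 1) = 1 := by
    intro y hyD hyC
    have hy2 := hsq y hyD hyC
    refine ⟨?_, by rw [pow_one, ← hy2, pow_orderOf_eq_one]⟩
    intro h r hr
    rw [pow_one]
    by_contra hodd
    have hr1 : r % 2 = 1 := by omega
    have hyr : y ^ r = y := by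
      rw [← Nat.div_add_mod r 2, hr1, pow_add, pow_mul, ← hy2, pow_orderOf_eq_one, one_pow, one_mul, pow_one]
    rw [hyr] at hr
    apply h1 y hyD hyC hy2 h⁻¹
    rw [inv_inv, ← hU]
    exact hr
  obtain ⟨G₁, hG1, hnotG1, hoddG1⟩ := exists_index_two_of_semiregular' U x 1 le_rfl (hinv x hxD hxC).1
    (hinv x hxD hxC).2 S.index hu hUidx
  have hxG1 : x ∉ G₁ := hnotG1 x (hinv x hxD hxC).1 (hinv x hxD hxC).2
  have hKG1 : pResidual 2 G ≤ G₁ := by
    unfold pResidual
    rw [Subgroup.closure_le]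
    intro g hg
    have hg' : Nat.Coprime (orderOf g) 2 := hg
    apply hoddG1 g
    rw [Nat.odd_iff]
    rcases Nat.mod_two_eq_zero_or_one (orderOf g) with h | h
    · exfalso
      have h2' : 2 ∣ orderOf g := Nat.dvd_of_mod_eq_zero h
      have := Nat.Coprime.eq_one_of_dvd hg'.symm h2'
      omega
    · exact h
  -- a generator of `C`
  obtain ⟨c₀, hc₀⟩ := hC.exists_generator
  obtain ⟨c, hc⟩ : ∃ c : G, c = (c₀ : G) := ⟨_, rfl⟩
  have hcC : c ∈ C := by rw [hc]; exact c₀.2
  have hordc : orderOf c = Nat.card C := by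
    rw [hc, Subgroup.orderOf_coe]
    exact orderOf_eq_card_of_forall_mem_zpowers hc₀
  obtain ⟨k, hk⟩ := (hS2.to_le (hCD.trans hDS)).exists_card_eq
  have hcG1 : c ∈ G₁ := by
    have hcx : c * x ∈ D := D.mul_mem (hCD hcC) hxD
    have hcxC : c * x ∉ C := by
      intro h3
      apply hxC
      have := C.mul_mem (C.inv_mem hcC) h3
      rwa [inv_mul_cancel_left] at this
    have h3 : c * x ∉ G₁ := hnotG1 _ (hinv _ hcx hcxC).1 (hinv _ hcx hcxC).2
    by_contra hcn
    have h4 := (Subgroup.mul_mem_iff_of_index_two hG1 (a := c) (b := x)).2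
      ⟨fun h => absurd h hcn, fun h => absurd h hxG1⟩
    exact h3 h4
  -- semiregularity of `c` on the cosets of `T`
  have hsemi : ∀ g : G, ∀ r : ℕ, g⁻¹ * c ^ r * g ∈ T → c ^ r = 1 := by
    intro g r hr
    by_contra hne
    -- some power of `c ^ r` has order two
    haveI : Fact (Nat.Prime 2) := ⟨Nat.prime_two⟩
    have hpg : IsPGroup 2 C := hS2.to_le (hCD.trans hDS)
    have hcr : c ^ r ∈ C := C.pow_mem hcC r
    obtain ⟨i, hi⟩ := (IsPGroup.iff_orderOf.1 hpg) ⟨c ^ r, hcr⟩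
    rw [← Subgroup.orderOf_coe] at hi
    have hi' : orderOf (c ^ r) = 2 ^ i := hi
    have hi0 : i ≠ 0 := by
      rintro rfl
      rw [pow_zero, orderOf_eq_one_iff] at hi'
      exact hne hi'
    obtain ⟨i', rfl⟩ := Nat.exists_eq_succ_of_ne_zero hi0
    have hw : orderOf ((c ^ r) ^ (2 ^ i')) = 2 := by
      rw [orderOf_pow_of_dvd (by positivity) (by rw [hi', pow_succ]; exact dvd_mul_right _ _), hi', pow_succ,
        Nat.mul_div_cancel_left _ (by positivity)]
    apply h2 ((c ^ r) ^ (2 ^ i')) (C.pow_mem hcr _) hw g⁻¹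
    rw [inv_inv]
    have : g⁻¹ * (c ^ r) ^ (2 ^ i') * g = (g⁻¹ * c ^ r * g) ^ (2 ^ i') := by
      rw [TwData.inv_conj_pow]
    rw [this]
    exact T.pow_mem hr _
  have hTidx : ∃ m, Odd m ∧ T.relIndex G₁ = 2 ^ k * m := by
    refine ⟨S.index, hu, ?_⟩
    have h3 := Subgroup.relIndex_mul_index (hTK.trans hKG1)
    rw [hG1] at h3
    have h4 := T.card_mul_index
    rw [hGcard, hk] at h4
    have h5 : Nat.card T * T.index = Nat.card T * (2 * 2 ^ k * S.index) := by rw [h4]; ring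
    have h6 := Nat.eq_of_mul_eq_mul_left hTpos h5
    rw [h6] at h3
    have h7 : T.relIndex G₁ * 2 = 2 ^ k * S.index * 2 := by rw [h3]; ring
    exact Nat.eq_of_mul_eq_mul_right (by norm_num) h7
  obtain ⟨N₀, hN01, hN02, hN03⟩ := exists_chain_of_semiregular T hTK k G₁ c hcG1 (by rw [hordc, hk]) hKG1
    hsemi hTidx
  -- numerics
  have e1 := Subgroup.relIndex_mul_index hN01
  rw [hN02, hG1] at e1
  have e2 := Subgroup.relIndex_mul_index hN03
  have e3 := Subgroup.relIndex_mul_index hTK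
  have e4 := T.card_mul_index
  rw [hGcard, hk] at e4
  have e5 : Nat.card T * T.index = Nat.card T * (2 * 2 ^ k * S.index) := by rw [e4]; ring
  have e6 := Nat.eq_of_mul_eq_mul_left hTpos e5
  rw [e6, ← e2, ← e1] at e3
  have e7 : (T.relIndex (pResidual 2 G) * (pResidual 2 G).relIndex N₀) * (2 ^ k * 2) = S.index * (2 ^ k * 2) := by
    calc (T.relIndex (pResidual 2 G) * (pResidual 2 G).relIndex N₀) * (2 ^ k * 2)
        = T.relIndex (pResidual 2 G) * ((pResidual 2 G).relIndex N₀ * (2 ^ k * 2)) := by ring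
      _ = 2 * 2 ^ k * S.index := e3
      _ = S.index * (2 ^ k * 2) := by ring
  have e8 := Nat.eq_of_mul_eq_mul_right (by positivity) e7
  intro hdvd
  apply hSsyl
  rw [← e8]
  exact Dvd.dvd.mul_right hdvd _

end Assembly

end Cfsg.Agent.Lib.Helper29
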