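import Cfsg.Agent.Lib.Helper29.SolvableSystem
import Cfsg.Agent.S5226

/-!
Solvable saturated fusion systems are constrained.
-/

set_option autoImplicit false
open Cfsg
open scoped commutatorElement Pointwise

namespace Cfsg.Agent.Lib.Helper29

variable {Ω : Type*} [Group Ω] {S : Subgroup Ω}

/-- the centralizer in `S` of a subgroup normal in the system is strongly closed -/
theorem stronglyClosed_centralizerIn_of_isNormal (F : FusionSystem S) {Q : Subgroup Ω} (hQ : F.IsNormal Q) :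
    F.StronglyClosed (FusionSystem.centralizerIn S Q) := by
  refine ⟨inf_le_left, fun R hR φ hφ x => ?_⟩
  obtain ⟨ψ, hψ, hψP, hψQ⟩ := hQ.2 R φ hφ
  have hxc : (x : Ω) ∈ Subgroup.centralizer (Q : Set Ω) := (hR x.2).2
  refine Subgroup.mem_inf.2 ⟨(F.le_of_mem hφ).2 x, ?_⟩
  rw [← hψP x, Subgroup.mem_centralizer_iff]
  intro q hq
  have hq' : q ∈ (Q.subgroupOf (R ⊔ Q)).map ψ := hψQ.ge hq
  obtain ⟨q₀, hq₀, rfl⟩ := hq'
  rw [← map_mul, ← map_mul]
  congr 1
  apply Subtype.ext
  exact (Subgroup.mem_centralizer_iff.1 hxc) (q₀ : Ω) (Subgroup.mem_subgroupOf.1 hq₀)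

theorem stronglyClosed_inf (F : FusionSystem S) {A B : Subgroup Ω} (hA : F.StronglyClosed A)
    (hB : F.StronglyClosed B) : F.StronglyClosed (A ⊓ B) := by
  refine ⟨inf_le_left.trans hA.1, fun R hR φ hφ x => ?_⟩
  exact Subgroup.mem_inf.2 ⟨hA.2 R (hR.trans inf_le_left) φ hφ x, hB.2 R (hR.trans inf_le_right) φ hφ x⟩

/-- decomposition of elements of `X ⊔ Q` when `X` normalizes `Q` -/
theorem exists_mul_of_mem_sup {X Q : Subgroup Ω} (hXQ : X ≤ Subgroup.normalizer (Q : Set Ω)) {h : Ω}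
    (hh : h ∈ X ⊔ Q) : ∃ x ∈ X, ∃ q ∈ Q, h = x * q := by
  have h1 : h ∈ ((X ⊔ Q : Subgroup Ω) : Set Ω) := hh
  rw [Subgroup.coe_mul_of_left_le_normalizer_right X Q hXQ] at h1
  obtain ⟨x, hx, q, hq, rfl⟩ := h1
  exact ⟨x, hx, q, hq, rfl⟩

/-- `X ⊔ Q` is strongly closed when `X` is strongly closed and `Q` is normal in the system -/
theorem stronglyClosed_sup_of_isNormal (F : FusionSystem S) {X Q : Subgroup Ω} (hX : F.StronglyClosed X)
    (hQ : F.IsNormal Q) : F.StronglyClosed (X ⊔ Q) := by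
  have hQsc := stronglyClosed_of_isNormal F hQ
  have hXN : X ≤ Subgroup.normalizer (Q : Set Ω) :=
    le_normalizer_of_conj_mem (fun g hg x hx => conj_mem_of_stronglyClosed F hQsc g (hX.1 hg) x hx)
  refine ⟨sup_le hX.1 hQ.1, fun R hR φ hφ r => ?_⟩
  obtain ⟨ψ, hψ, hψP, hψQ⟩ := hQ.2 R φ hφ
  obtain ⟨x, hx, q, hq, hrxq⟩ := exists_mul_of_mem_sup hXN (hR r.2)
  have hqRQ : q ∈ R ⊔ Q := Subgroup.mem_sup_right hq
  have hxRQ : x ∈ R ⊔ Q := by
    have e : x = (r : Ω) * q⁻¹ := by rw [hrxq]; group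
    rw [e]
    exact Subgroup.mul_mem _ (Subgroup.mem_sup_left r.2) (Subgroup.inv_mem _ hqRQ)
  have e : Subgroup.inclusion (le_sup_left : R ≤ R ⊔ Q) r = ⟨x, hxRQ⟩ * ⟨q, hqRQ⟩ := Subtype.ext hrxq
  rw [← hψP r, e, map_mul]
  apply Subgroup.mul_mem
  · exact Subgroup.mem_sup_left (stronglyClosed_hom_mem F hX hψ ⟨x, hxRQ⟩ hx)
  · exact Subgroup.mem_sup_right (stronglyClosed_hom_mem F hQsc hψ ⟨q, hqRQ⟩ hq)

/-- commutators with `x * q` for `x` centralizing `Q` -/
theorem commutator_mul_of_centralizes {Q : Subgroup Ω} {a x q : Ω} (ha : a ∈ Q) (hq : q ∈ Q)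
    (hx : x ∈ Subgroup.centralizer (Q : Set Ω)) : ⁅a, x * q⁆ = ⁅a, q⁆ := by
  have h1 : a * x = x * a := (Subgroup.mem_centralizer_iff.1 hx) a ha
  have hc : ⁅a, q⁆ ∈ Q := Subgroup.mul_mem _ (Subgroup.mul_mem _ (Subgroup.mul_mem _ ha hq)
    (Subgroup.inv_mem _ ha)) (Subgroup.inv_mem _ hq)
  have h2 : ⁅a, q⁆ * x = x * ⁅a, q⁆ := (Subgroup.mem_centralizer_iff.1 hx) _ hc
  calc ⁅a, x * q⁆ = (a * x) * q * a⁻¹ * q⁻¹ * x⁻¹ := by
        rw [commutatorElement_def]
        group
    _ = x * a * q * a⁻¹ * q⁻¹ * x⁻¹ := by rw [h1]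
    _ = (x * ⁅a, q⁆) * x⁻¹ := by
        rw [commutatorElement_def]
        group
    _ = ⁅a, q⁆ := by
        rw [← h2]
        group

/-- if `X` is strongly closed, centralizes the normal subgroup `Q` and is abelian modulo `Q`, then `X Q` is
normal in the system -/
theorem isNormal_sup_of_centralizing [Finite S] (p : ℕ) [Fact p.Prime] (hS : IsPGroup p S)
    (F : FusionSystem S) (hF : F.IsSaturated p) {Q X : Subgroup Ω} (hQ : F.IsNormal Q)
    (hX : F.StronglyClosed X) (hXc : X ≤ Subgroup.centralizer (Q : Set Ω)) (hXX : ⁅X, X⁆ ≤ Q) :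
    F.IsNormal (X ⊔ Q) := by
  have hQsc := stronglyClosed_of_isNormal F hQ
  have hXN : X ≤ Subgroup.normalizer (Q : Set Ω) :=
    le_normalizer_of_conj_mem (fun g hg x hx => conj_mem_of_stronglyClosed F hQsc g (hX.1 hg) x hx)
  obtain ⟨-, m, C, hC0, hCm, hCmono, hCcomm, hCwc⟩ := (Cfsg.Agent.S5226.result p hS F hF Q).1 hQ
  have hCQ : ∀ j : Fin (m + 1), C j ≤ Q := fun j => hCm ▸ hCmono (Fin.le_last j)
  apply isNormal_of_weaklyClosed_chain p hS F hF (X ⊔ Q) (stronglyClosed_sup_of_isNormal F hX hQ) (m + 1)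
    (Fin.snoc (α := fun _ => Subgroup Ω) C (X ⊔ Q))
  · have e : (0 : Fin (m + 1 + 1)) = Fin.castSucc (0 : Fin (m + 1)) := rfl
    rw [e, Fin.snoc_castSucc]
    exact hC0
  · exact Fin.snoc_last _ _
  · rw [Fin.monotone_iff_le_succ]
    intro i
    induction i using Fin.lastCases with
    | last =>
      rw [Fin.succ_last, Fin.snoc_last, Fin.snoc_castSucc, hCm]
      exact le_sup_right
    | cast j =>
      rw [Fin.succ_castSucc, Fin.snoc_castSucc, Fin.snoc_castSucc]
      exact hCmono (Fin.castSucc_le_succ j)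
  · intro i
    induction i using Fin.lastCases with
    | last =>
      rw [Fin.succ_last, Fin.snoc_last, Fin.snoc_castSucc, hCm]
      haveI : (Q.subgroupOf S).Normal := normal_subgroupOf_of_stronglyClosed F hQsc
      have hπq : ∀ (q : Ω) (_ : q ∈ Q) (hqS : q ∈ S),
          QuotientGroup.mk' (Q.subgroupOf S) ⟨q, hqS⟩ = 1 := by
        intro q hq hqS
        rw [QuotientGroup.mk'_apply, QuotientGroup.eq_one_iff, Subgroup.mem_subgroupOf]
        exact hq
      rw [Subgroup.commutator_le]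
      intro a ha b hb
      obtain ⟨x, hx, q, hq, rfl⟩ := exists_mul_of_mem_sup hXN ha
      obtain ⟨x', hx', q', hq', rfl⟩ := exists_mul_of_mem_sup hXN hb
      have hxS := hX.1 hx
      have hx'S := hX.1 hx'
      have hqS := hQ.1 hq
      have hq'S := hQ.1 hq'
      have h1 : QuotientGroup.mk' (Q.subgroupOf S)
          ⁅(⟨x * q, S.mul_mem hxS hqS⟩ : S), ⟨x' * q', S.mul_mem hx'S hq'S⟩⁆ = 1 := by
        have e1 : (⟨x * q, S.mul_mem hxS hqS⟩ : S) = ⟨x, hxS⟩ * ⟨q, hqS⟩ := rfl
        have e2 : (⟨x' * q', S.mul_mem hx'S hq'S⟩ : S) = ⟨x', hx'S⟩ * ⟨q', hq'S⟩ := rfl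
        rw [map_commutatorElement, e1, e2, map_mul, map_mul, hπq q hq, hπq q' hq', mul_one, mul_one,
          ← map_commutatorElement]
        have hc : ⁅x, x'⁆ ∈ Q := hXX (Subgroup.commutator_mem_commutator hx hx')
        exact hπq ⁅x, x'⁆ hc _
      rw [QuotientGroup.mk'_apply, QuotientGroup.eq_one_iff, Subgroup.mem_subgroupOf] at h1
      exact h1
    | cast j =>
      rw [Fin.succ_castSucc, Fin.snoc_castSucc, Fin.snoc_castSucc]
      rw [Subgroup.commutator_le]
      intro a ha h hh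
      obtain ⟨x, hx, q, hq, rfl⟩ := exists_mul_of_mem_sup hXN hh
      rw [commutator_mul_of_centralizes (hCQ _ ha) hq (hXc hx)]
      exact hCcomm j (Subgroup.commutator_mem_commutator ha hq)
  · intro i
    induction i using Fin.lastCases with
    | last =>
      rw [Fin.snoc_castSucc, hCm]
      exact weaklyClosed_of_stronglyClosed F hQsc
    | cast j =>
      rw [Fin.snoc_castSucc]
      exact hCwc j

/-- solvable saturated fusion systems are constrained -/
theorem constrained_of_solvable [Finite S] (p : ℕ) [Fact p.Prime] (hS : IsPGroup p S)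
    (F : FusionSystem S) (hF : F.IsSaturated p) (h : F.IsSolvableSystem) : F.IsConstrained p := by
  have hQ : F.IsNormal F.core := Cfsg.Agent.Lib.Helper1.isNormal_core F
  have hQsc := stronglyClosed_of_isNormal F hQ
  have hDsc := stronglyClosed_centralizerIn_of_isNormal F hQ
  obtain ⟨n, T, hT0, hTn, hTmono, hTsc, hTcomm⟩ := (solvable_iff_chain p hS F hF).1 h
  have hall : ∀ i : Fin (n + 1), FusionSystem.centralizerIn S F.core ⊓ T i ≤ F.core := by
    intro i
    induction i using Fin.induction with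
    | zero =>
      rw [hT0]
      exact inf_le_right.trans bot_le
    | succ i ih =>
      have hXsc : F.StronglyClosed (FusionSystem.centralizerIn S F.core ⊓ T i.succ) :=
        stronglyClosed_inf F hDsc (hTsc _)
      have hXc : FusionSystem.centralizerIn S F.core ⊓ T i.succ ≤
          Subgroup.centralizer (F.core : Set Ω) := inf_le_left.trans inf_le_right
      have hXX : ⁅FusionSystem.centralizerIn S F.core ⊓ T i.succ,
          FusionSystem.centralizerIn S F.core ⊓ T i.succ⁆ ≤ F.core := by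
        refine le_trans ?_ ih
        refine le_inf ?_ ?_
        · rw [Subgroup.commutator_le]
          intro a ha b hb
          exact Subgroup.mul_mem _ (Subgroup.mul_mem _ (Subgroup.mul_mem _ ha.1 hb.1)
            (Subgroup.inv_mem _ ha.1)) (Subgroup.inv_mem _ hb.1)
        · exact (Subgroup.commutator_mono inf_le_right inf_le_right).trans (hTcomm i)
      have hn := isNormal_sup_of_centralizing p hS F hF hQ hXsc hXc hXX
      have hle : FusionSystem.centralizerIn S F.core ⊓ T i.succ ⊔ F.core ≤ F.core := le_sSup hn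
      exact le_sup_left.trans hle
  have hD : FusionSystem.centralizerIn S F.core ≤ F.core := by
    have := hall (Fin.last n)
    rw [hTn] at this
    intro x hx
    exact this ⟨hx, hx.1⟩
  refine ⟨hF, F.core, hQ, hQ.1, fun Q' hQ' => ?_⟩
  obtain ⟨φ, hφ, hr⟩ := hQ'
  have hwc := weaklyClosed_of_stronglyClosed F hQsc
  have : Q' = F.core := by rw [← hr]; exact hwc.2 φ hφ
  rw [this]
  exact hD

end Cfsg.Agent.Lib.Helper29
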