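import Cfsg.Agent.Lib.Helper29.FusionChain5
import Cfsg.Agent.Lib.Helper29.FusionCentric
import Cfsg.Agent.Lib.Helper29.SolvableConstrained
import Cfsg.Agent.Lib.Helper1.FusionSup

/-!
A saturated subsystem on a strongly closed subgroup of a constrained fusion system is constrained.
-/
set_option autoImplicit false

namespace Cfsg.Agent.Lib.Helper29
open Cfsg
open scoped commutatorElement

variable {Ω : Type*} [Group Ω] {S : Subgroup Ω}

/-- variant of `le_of_stab_chain` where the chain ends at a self-centralizing normal subgroup of `P` -/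
theorem le_of_stab_chain' [Finite S] {p : ℕ} [Fact p.Prime] (hS : IsPGroup p S) (F : FusionSystem S)
    {P : Subgroup Ω} (hc : F.IsCentric P) (hr : F.IsRadical p P) (R : Subgroup Ω) (hRS : R ≤ S)
    (hPR : P ≤ Subgroup.normalizer (R : Set Ω))
    (M : ℕ → Subgroup Ω) (n : ℕ) (hmono : ∀ i, M i ≤ M (i + 1)) (htop : M n ≤ P)
    (hnorm : ∀ x ∈ P, ∀ q ∈ M n, x * q * x⁻¹ ∈ M n)
    (hcen : ∀ x ∈ P, (∀ q ∈ M n, x * q = q * x) → x ∈ M n)
    (hinv : ∀ i, ∀ α ∈ F.autGroup P, ∀ x : P, (x : Ω) ∈ M i → ((α x : P) : Ω) ∈ M i)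
    (hbase : ∀ α ∈ F.autGroup P, ∃ k, ∀ x : P, (x : Ω) ∈ M 0 → (α ^ (p ^ k)) x = x)
    (hact : ∀ g ∈ R, g ∈ Subgroup.normalizer (P : Set Ω) → ∀ i < n, ∀ x ∈ P, x ∈ M (i + 1) →
      x⁻¹ * (g * x * g⁻¹) ∈ M i) : R ≤ P := by
  have hPS : P ≤ S := hc.1
  have : Finite P := finite_of_le hPS
  have hPp : IsPGroup p P := hS.to_le hPS
  have hmono' : ∀ i, (M i).subgroupOf P ≤ (M (i + 1)).subgroupOf P := fun i x hx => hmono i hx
  have hCp : IsPGroup p (stabAut (F.autGroup P) (fun i => (M i).subgroupOf P) hmono' n) := by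
    rintro ⟨γ, hγ⟩
    obtain ⟨k, hk⟩ := stab_chain hPp (fun i => (M i).subgroupOf P) hmono' γ n
      (fun i hi x hx => (hγ.2 i hi x hx).1) (hbase γ hγ.1)
    have hstab : ∀ x ∈ (⊤ : Subgroup P), x⁻¹ * (γ ^ (p ^ k)) x ∈ (M n).subgroupOf P := by
      intro x _
      rw [Subgroup.mem_subgroupOf]
      apply hcen _ (x⁻¹ * (γ ^ (p ^ k)) x).2
      intro q hq
      have hq' : (⟨q, htop hq⟩ : P) ∈ (M n).subgroupOf P := hq
      have hxq : x * ⟨q, htop hq⟩ * x⁻¹ ∈ (M n).subgroupOf P := hnorm x x.2 q hq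
      have h1 := hk _ hxq
      have h2 := hk _ hq'
      rw [map_mul, map_mul, h2, map_inv] at h1
      have h3 : ((γ ^ (p ^ k)) x : Ω) * q * ((γ ^ (p ^ k)) x : Ω)⁻¹ = (x : Ω) * q * (x : Ω)⁻¹ :=
        congrArg Subtype.val h1
      have h4 : ((x⁻¹ * (γ ^ (p ^ k)) x : P) : Ω) = (x : Ω)⁻¹ * ((γ ^ (p ^ k)) x : Ω) := rfl
      rw [h4]
      calc (x : Ω)⁻¹ * ((γ ^ (p ^ k)) x : Ω) * q
          = (x : Ω)⁻¹ * (((γ ^ (p ^ k)) x : Ω) * q * ((γ ^ (p ^ k)) x : Ω)⁻¹) * ((γ ^ (p ^ k)) x : Ω) := by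
            group
        _ = q * ((x : Ω)⁻¹ * ((γ ^ (p ^ k)) x : Ω)) := by rw [h3]; group
    obtain ⟨k', hk'⟩ := stab_step hPp (le_top : (M n).subgroupOf P ≤ ⊤) (γ ^ (p ^ k)) hstab 0
      (fun x hx => by rw [pow_zero, pow_one]; exact hk x hx)
    refine ⟨k + k', Subtype.ext ?_⟩
    show γ ^ (p ^ (k + k')) = 1
    ext x
    have := hk' x (Subgroup.mem_top x)
    rw [← pow_mul, ← pow_add] at this
    rw [this]
    rfl
  have hCn : ((stabAut (F.autGroup P) (fun i => (M i).subgroupOf P) hmono' n).subgroupOf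
      (F.autGroup P)).Normal :=
    stabAut_normal _ _ hmono' n (fun i α hα x hx => hinv i α hα x hx)
  have hcore := le_pCore' hCn hCp.comap_subtype
  have hcen' : FusionSystem.centralizerIn S P ≤ P := hc.2 P (isConj_refl F hPS)
  have hN : ∀ g ∈ R, g ∈ Subgroup.normalizer (P : Set Ω) → g ∈ P := by
    intro g hgR hgN
    have h0 : P.normalizerMonoidHom ⟨g, hgN⟩ ∈ F.autGroup P :=
      autInducedBy_le_autGroup F hPS (Subgroup.subset_closure ⟨g, hRS hgR, fun x => rfl⟩)
    have h1 : P.normalizerMonoidHom ⟨g, hgN⟩ ∈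
        stabAut (F.autGroup P) (fun i => (M i).subgroupOf P) hmono' n := by
      refine ⟨h0, fun i hi x hx => ⟨?_, ?_⟩⟩
      · exact hact g hgR hgN i hi x x.2 hx
      · have e : (P.normalizerMonoidHom ⟨g, hgN⟩)⁻¹ = P.normalizerMonoidHom ⟨g, hgN⟩⁻¹ :=
          (map_inv _ _).symm
        rw [e]
        exact hact g⁻¹ (R.inv_mem hgR) (inv_mem hgN) i hi x x.2 hx
    have h2 : P.normalizerMonoidHom ⟨g, hgN⟩ ∈ Inn P := by
      rw [← hr.2]
      exact ⟨⟨_, h0⟩, hcore h1, rfl⟩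
    exact mem_of_conj_mem_inn hPS hcen' (hRS hgR) hgN h2
  have hTS : P ⊔ R ≤ S := sup_le hPS hRS
  have hNT : FusionSystem.normalizerIn (P ⊔ R) P ≤ P := by
    intro g hg
    have hgT : g ∈ ((P ⊔ R : Subgroup Ω) : Set Ω) := hg.1
    have hgN : g ∈ Subgroup.normalizer (P : Set Ω) := hg.2
    rw [Subgroup.coe_mul_of_left_le_normalizer_right P R hPR] at hgT
    obtain ⟨x, hx, r, hr', rfl⟩ := hgT
    have hrN : r ∈ Subgroup.normalizer (P : Set Ω) := by
      have : r = x⁻¹ * (x * r) := by group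
      rw [this]
      exact mul_mem (inv_mem (Subgroup.le_normalizer hx)) hgN
    exact P.mul_mem hx (hN r hr' hrN)
  have : Finite ↥(P ⊔ R) := finite_of_le hTS
  have hTp : IsPGroup p ↥(P ⊔ R) := hS.to_le hTS
  by_contra hRP
  have hne : P ≠ P ⊔ R := by
    intro h
    apply hRP
    rw [h]
    exact le_sup_right
  exact normalizerIn_ne_self hTp le_sup_left hne (le_antisymm hNT (le_normalizerIn le_sup_left))


theorem stronglyClosed_of_subsystem {T : Subgroup Ω} (F : FusionSystem S) (E : FusionSystem T)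
    (hEF : E.IsSubsystemOf F) {A : Subgroup Ω} (hA : F.StronglyClosed A) (hAT : A ≤ T) :
    E.StronglyClosed A :=
  ⟨hAT, fun R hR φ hφ x => hA.2 R hR φ (hEF R hφ) x⟩

theorem le_of_subsystem {T : Subgroup Ω} (F : FusionSystem S) (E : FusionSystem T)
    (hEF : E.IsSubsystemOf F) : T ≤ S :=
  (F.le_of_mem (hEF T (subtype_mem E le_rfl))).1

/-- if `Q ⊴ F` and `T'` is strongly closed in `F`, then `Q ⊓ T'` is normal in every saturated subsystem of
`F` over a subgroup containing `T'` -/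
theorem isNormal_inf_of_subsystem [Finite S] (p : ℕ) [Fact p.Prime] (hS : IsPGroup p S)
    (F : FusionSystem S) {Q : Subgroup Ω} (hQ : F.IsNormal Q) {T' : Subgroup Ω}
    (hT' : F.StronglyClosed T') {T : Subgroup Ω} (E : FusionSystem T) (hE : E.IsSaturated p)
    (hEF : E.IsSubsystemOf F) (hT'T : T' ≤ T) : E.IsNormal (Q ⊓ T') := by
  obtain ⟨n, Qs, h0, hn, hmono, h⟩ := exists_chain_of_ext hS F hQ.1 (exists_aut_of_isNormal F hQ)
  have hTS : T ≤ S := le_of_subsystem F E hEF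
  have : Finite T := finite_of_le hTS
  have hTp : IsPGroup p T := hS.to_le hTS
  have hsc : ∀ j : Fin (n + 1), F.StronglyClosed (Qs j ⊓ T') := by
    intro j
    refine Fin.cases ?_ (fun i => ?_) j
    · rw [h0, bot_inf_eq]
      exact stronglyClosed_bot F
    · exact stronglyClosed_inf F (h i).1 hT'
  have hscE : ∀ j : Fin (n + 1), E.StronglyClosed (Qs j ⊓ T') := fun j =>
    stronglyClosed_of_subsystem F E hEF (hsc j) (inf_le_right.trans hT'T)
  refine isNormal_of_weaklyClosed_chain p hTp E hE (Q ⊓ T') (hn ▸ hscE (Fin.last n)) n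
    (fun j => Qs j ⊓ T') ?_ ?_ ?_ ?_ ?_
  · show Qs 0 ⊓ T' = ⊥
    rw [h0, bot_inf_eq]
  · show Qs (Fin.last n) ⊓ T' = Q ⊓ T'
    rw [hn]
  · exact fun a b hab => inf_le_inf_right _ (hmono hab)
  · intro i
    apply le_inf
    · refine (Subgroup.commutator_mono inf_le_left inf_le_left).trans ?_
      rw [Subgroup.commutator_comm]
      exact (h i).2
    · refine (Subgroup.commutator_mono inf_le_right inf_le_right).trans ?_
      rw [Subgroup.commutator_le]
      intro a ha b hb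
      exact T'.mul_mem (T'.mul_mem (T'.mul_mem ha hb) (inv_mem ha)) (inv_mem hb)
  · intro i
    exact weaklyClosed_of_stronglyClosed E (hscE _)

/-- the chain `⊥ ≤ A ≤ B ≤ B ≤ …` -/
def chain3 (A B : Subgroup Ω) : ℕ → Subgroup Ω
  | 0 => ⊥
  | 1 => A
  | _ + 2 => B

/-- a saturated subsystem, over a strongly closed subgroup, of a constrained system is constrained -/
theorem constrained_of_subsystem [Finite S] (p : ℕ) [Fact p.Prime] (hS : IsPGroup p S)
    (F : FusionSystem S) (hF : F.IsConstrained p) {T : Subgroup Ω} (E : FusionSystem T)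
    (hE : E.IsSaturated p) (hEF : E.IsSubsystemOf F) (hT : F.StronglyClosed T) :
    E.IsConstrained p := by
  obtain ⟨hFs, Q₀, hQ₀n, hQ₀c⟩ := hF
  have hTS : T ≤ S := hT.1
  have : Finite T := finite_of_le hTS
  have hQn : F.IsNormal F.core := Cfsg.Agent.Lib.Helper1.isNormal_core F
  have hQ₀Q : Q₀ ≤ F.core := le_sSup hQ₀n
  have hQc : F.IsCentric F.core := isCentric_of_le F hQ₀c hQ₀Q hQn.1
  have hQsc := stronglyClosed_of_isNormal F hQn
  have hR₀F : F.IsNormal (F.core ⊓ T) :=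
    isNormal_inf_of_subsystem p hS F hQn hT F hFs (fun _ _ h => h) hT.1
  have hR₀E : E.IsNormal (F.core ⊓ T) :=
    isNormal_inf_of_subsystem p hS F hQn hT E hE hEF le_rfl
  have hR₀sc := stronglyClosed_of_isNormal F hR₀F
  have hCsc : F.StronglyClosed (FusionSystem.centralizerIn S (F.core ⊓ T)) :=
    stronglyClosed_centralizerIn_of_isNormal F hR₀F
  have hDsc : F.StronglyClosed (T ⊓ FusionSystem.centralizerIn S (F.core ⊓ T)) :=
    stronglyClosed_inf F hT hCsc
  have hDn : F.IsNormal (T ⊓ FusionSystem.centralizerIn S (F.core ⊓ T)) := by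
    refine isNormal_of_stronglyClosed p hS F hFs _ hDsc (fun P hc hr => ?_)
    have hPS : P ≤ S := hc.1
    refine le_of_stab_chain' hS F hc hr _ hDsc.1
      (le_normalizer_of_conj_mem (fun g hg x hx => conj_mem_of_stronglyClosed F hDsc g (hPS hg) x hx))
      (chain3 (F.core ⊓ T) F.core) 2 ?_ ?_ ?_ ?_ ?_ ?_ ?_
    · intro i
      match i with
      | 0 => exact bot_le
      | 1 => exact inf_le_left
      | _ + 2 => exact le_rfl
    · exact le_of_isNormal_of_centric_radical hS F hQn hc hr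
    · intro x hx q hq
      exact conj_mem_of_stronglyClosed F hQsc x (hPS hx) q hq
    · intro x hx hxq
      have hxc : x ∈ Subgroup.centralizer ((F.core : Subgroup Ω) : Set Ω) := by
        rw [Subgroup.mem_centralizer_iff]
        intro q hq
        exact (hxq q hq).symm
      exact hQc.2 _ (isConj_refl F hQn.1) (Subgroup.mem_inf.2 ⟨hPS hx, hxc⟩)
    · intro i α hα x hx
      match i with
      | 0 =>
        have hx1 : x = 1 := Subtype.ext ((Subgroup.mem_bot).1 hx)
        rw [hx1, map_one]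
        exact Subgroup.one_mem _
      | 1 => exact aut_mem_of_stronglyClosed F hR₀sc hPS hα x hx
      | _ + 2 => exact aut_mem_of_stronglyClosed F hQsc hPS hα x hx
    · intro α _
      refine ⟨0, fun x hx => ?_⟩
      have hx1 : x = 1 := Subtype.ext ((Subgroup.mem_bot).1 hx)
      rw [hx1, map_one]
    · intro g hg hgN i hi x hxP hx
      have hgT : g ∈ T := hg.1
      have hgS : g ∈ S := hTS hgT
      have hgC : g ∈ Subgroup.centralizer ((F.core ⊓ T : Subgroup Ω) : Set Ω) := hg.2.2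
      match i with
      | 0 =>
        have hx' : x ∈ F.core ⊓ T := hx
        have h1 : g * x = x * g := (Subgroup.mem_centralizer_iff.1 hgC x hx').symm
        have h2 : x⁻¹ * (g * x * g⁻¹) = 1 := by rw [h1]; group
        rw [h2]
        exact Subgroup.one_mem _
      | 1 =>
        have hx' : x ∈ F.core := hx
        show x⁻¹ * (g * x * g⁻¹) ∈ F.core ⊓ T
        refine Subgroup.mem_inf.2 ⟨?_, ?_⟩
        · exact F.core.mul_mem (inv_mem hx') (conj_mem_of_stronglyClosed F hQsc g hgS x hx')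
        · have e : x⁻¹ * (g * x * g⁻¹) = x⁻¹ * g * x⁻¹⁻¹ * g⁻¹ := by group
          rw [e]
          exact T.mul_mem (conj_mem_of_stronglyClosed F hT x⁻¹ (hPS (inv_mem hxP)) g hgT) (inv_mem hgT)
      | j + 2 => omega
  have hDQ : T ⊓ FusionSystem.centralizerIn S (F.core ⊓ T) ≤ F.core := le_sSup hDn
  refine ⟨hE, F.core ⊓ T, hR₀E, inf_le_right, fun R' hR' => ?_⟩
  have hwc := weaklyClosed_of_stronglyClosed E (stronglyClosed_of_isNormal E hR₀E)
  obtain ⟨φ, hφ, rfl⟩ := hR'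
  rw [hwc.2 φ hφ]
  intro c hc
  exact Subgroup.mem_inf.2 ⟨hDQ (Subgroup.mem_inf.2 ⟨hc.1, Subgroup.mem_inf.2 ⟨hTS hc.1, hc.2⟩⟩), hc.1⟩

end Cfsg.Agent.Lib.Helper29
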