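import Cfsg.Agent.Lib.Helper29.SolvableSystem
import Cfsg.Agent.Lib.Helper29.SubnormalConstrained

/-!
Solvability (chains of strongly closed subgroups with abelian factors) for a normal subsystem and the factor
system.
-/

set_option autoImplicit false
open Cfsg
open scoped commutatorElement

namespace Cfsg.Agent.Lib.Helper29

variable {Ω : Type*} [Group Ω] {S : Subgroup Ω} {Ω' : Type*} [Group Ω'] {S' : Subgroup Ω'}

/-- a chain of strongly closed subgroups with abelian factors from `A` up to `B` -/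
inductive SolvChain (F : FusionSystem S) : Subgroup Ω → Subgroup Ω → Prop
  | refl (A : Subgroup Ω) : SolvChain F A A
  | step {A A' B : Subgroup Ω} : A ≤ A' → F.StronglyClosed A → F.StronglyClosed A' → ⁅A', A'⁆ ≤ A →
      SolvChain F A' B → SolvChain F A B

theorem SolvChain.trans {F : FusionSystem S} {A B C : Subgroup Ω} (h1 : SolvChain F A B)
    (h2 : SolvChain F B C) : SolvChain F A C := by
  induction h1 with
  | refl A => exact h2
  | step hle hA hA' hc _ ih => exact SolvChain.step hle hA hA' hc (ih h2)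

theorem SolvChain.exists_step {F : FusionSystem S} {A B : Subgroup Ω} (h : SolvChain F A B)
    {R : Subgroup Ω} (hA : A ≤ R) (hB : ¬ B ≤ R) :
    ∃ A₁ A₁' : Subgroup Ω, A₁ ≤ R ∧ ¬ A₁' ≤ R ∧ F.StronglyClosed A₁' ∧ ⁅A₁', A₁'⁆ ≤ A₁ := by
  induction h with
  | refl A => exact absurd hA hB
  | @step A A' B hle hAsc hA' hc _ ih =>
    by_cases h' : A' ≤ R
    · exact ih h' hB
    · exact ⟨A, A', hA, h', hA', hc⟩

theorem solvable_of_solvChain [Finite S] (p : ℕ) [Fact p.Prime] (hS : IsPGroup p S) (F : FusionSystem S)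
    (hF : F.IsSaturated p) (h : SolvChain F ⊥ S) : F.IsSolvableSystem := by
  intro R hR hne inst E hE
  have hB : ¬ S ≤ R := fun hle => hne (le_antisymm hR.1 hle)
  obtain ⟨A₁, A₁', h1, h2, h3, h4⟩ := h.exists_step bot_le hB
  exact core_ne_bot_of_abelian_section p hS F hF hR E hE h3 (h4.trans h1) h2

/-- a `Fin`-indexed chain gives a `SolvChain` -/
theorem solvChain_of_fin (F : FusionSystem S) (n : ℕ) (U : Fin (n + 1) → Subgroup Ω) (hmono : Monotone U)
    (hsc : ∀ i, F.StronglyClosed (U i))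
    (hcomm : ∀ i : Fin n, ⁅U i.succ, U i.succ⁆ ≤ U (Fin.castSucc i)) (i : Fin (n + 1)) :
    SolvChain F (U i) (U (Fin.last n)) := by
  induction i using Fin.reverseInduction with
  | last => exact SolvChain.refl _
  | cast i ih =>
    exact SolvChain.step (hmono (Fin.castSucc_lt_succ (i := i)).le) (hsc _) (hsc _) (hcomm i) ih

section der

variable {T : Subgroup Ω}

/-- the canonical descending series of `E`-strongly closed subgroups with abelian factors -/
def derSC (E : FusionSystem T) : ℕ → Subgroup Ω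
  | 0 => T
  | k + 1 => sInf {X | E.StronglyClosed X ∧ X ≤ derSC E k ∧ ⁅derSC E k, derSC E k⁆ ≤ X}

theorem commutator_self_le (A : Subgroup Ω) : ⁅A, A⁆ ≤ A := by
  rw [Subgroup.commutator_le]
  intro a ha b hb
  exact A.mul_mem (A.mul_mem (A.mul_mem ha hb) (inv_mem ha)) (inv_mem hb)

theorem derSC_sc (E : FusionSystem T) : ∀ k, E.StronglyClosed (derSC E k)
  | 0 => ⟨le_rfl, fun _ _ _ hφ x => (E.le_of_mem hφ).2 x⟩
  | k + 1 => by
    have ih := derSC_sc E k
    have hmem : derSC E k ∈ {X | E.StronglyClosed X ∧ X ≤ derSC E k ∧ ⁅derSC E k, derSC E k⁆ ≤ X} :=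
      ⟨ih, le_rfl, commutator_self_le _⟩
    refine ⟨(sInf_le hmem).trans ih.1, fun R hR φ hφ x => ?_⟩
    show φ x ∈ sInf _
    rw [Subgroup.mem_sInf]
    intro X hX
    exact hX.1.2 R (hR.trans (sInf_le hX)) φ hφ x

theorem derSC_succ_le (E : FusionSystem T) (k : ℕ) : derSC E (k + 1) ≤ derSC E k :=
  sInf_le ⟨derSC_sc E k, le_rfl, commutator_self_le _⟩

theorem derSC_comm (E : FusionSystem T) (k : ℕ) : ⁅derSC E k, derSC E k⁆ ≤ derSC E (k + 1) :=
  le_sInf (fun _ hX => hX.2.2)

theorem derSC_le_of_chain (E : FusionSystem T) {A B : Subgroup Ω} (h : SolvChain E A B) :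
    ∀ k, derSC E k ≤ B → ∃ m, derSC E (k + m) ≤ A := by
  induction h with
  | refl A => exact fun k hk => ⟨0, hk⟩
  | @step A A' B hle hA hA' hc _ ih =>
    intro k hk
    obtain ⟨m, hm⟩ := ih k hk
    refine ⟨m + 1, ?_⟩
    have hmem : A ⊓ derSC E (k + m) ∈
        {X | E.StronglyClosed X ∧ X ≤ derSC E (k + m) ∧ ⁅derSC E (k + m), derSC E (k + m)⁆ ≤ X} := by
      refine ⟨stronglyClosed_inf E hA (derSC_sc E _), inf_le_right, le_inf ?_ (commutator_self_le _)⟩
      exact (Subgroup.commutator_mono hm hm).trans hc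
    exact (sInf_le hmem).trans inf_le_left

/-- the canonical series of an invariant subsystem is invariant under `Aut_F(T)` -/
theorem derSC_aut_mem (F : FusionSystem S) (E : FusionSystem T) (hinv : E.IsInvariantIn F) :
    ∀ k, ∀ α ∈ F.autGroup T, ∀ x : T, (x : Ω) ∈ derSC E k → ((α x : T) : Ω) ∈ derSC E k
  | 0 => fun α _ x _ => (α x).2
  | k + 1 => by
    have ih := derSC_aut_mem F E hinv k
    intro α hα x hx
    show ((α x : T) : Ω) ∈ sInf _
    rw [Subgroup.mem_sInf]
    intro X hX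
    have hXk : X ≤ derSC E k := hX.2.1
    have hkT : derSC E k ≤ T := (derSC_sc E k).1
    have hmemY : ∀ y : Ω, y ∈ ((X.subgroupOf T).comap α.toMonoidHom).map T.subtype ↔
        ∃ hy : y ∈ T, ((α ⟨y, hy⟩ : T) : Ω) ∈ X := by
      intro y
      constructor
      · rintro ⟨t, ht, rfl⟩
        exact ⟨t.2, ht⟩
      · rintro ⟨hy, h⟩
        exact ⟨⟨y, hy⟩, h, rfl⟩
    have hY : ((X.subgroupOf T).comap α.toMonoidHom).map T.subtype ∈
        {X | E.StronglyClosed X ∧ X ≤ derSC E k ∧ ⁅derSC E k, derSC E k⁆ ≤ X} := by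
      refine ⟨⟨?_, ?_⟩, ?_, ?_⟩
      · intro y hy
        exact ((hmemY y).1 hy).1
      · intro R hR ψ hψ r
        have hRT : R ≤ T := (E.le_of_mem hψ).1
        have hy : ψ r ∈ T := (E.le_of_mem hψ).2 r
        rw [hmemY]
        refine ⟨hy, ?_⟩
        obtain ⟨χ, hχ, hχv⟩ := hinv.2.2.1 R hRT ψ hψ α hα
        have hR'X : (R.subgroupOf T).map (T.subtype.comp α.toMonoidHom) ≤ X := by
          rintro _ ⟨t, ht, rfl⟩
          obtain ⟨ht', h⟩ := (hmemY _).1 (hR ht)
          exact h
        have hαr : ((α ⟨r, hRT r.2⟩ : T) : Ω) ∈ (R.subgroupOf T).map (T.subtype.comp α.toMonoidHom) :=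
          ⟨⟨r, hRT r.2⟩, r.2, rfl⟩
        have h1 := hX.1.2 _ hR'X χ hχ ⟨_, hαr⟩
        rw [hχv r hy hαr] at h1
        exact h1
      · intro y hy
        obtain ⟨hyT, h⟩ := (hmemY y).1 hy
        have h2 := ih α⁻¹ (inv_mem hα) _ (hXk h)
        rw [MulAut.inv_apply_self] at h2
        exact h2
      · rw [Subgroup.commutator_le]
        intro a ha b hb
        rw [hmemY]
        have haT : a ∈ T := hkT ha
        have hbT : b ∈ T := hkT hb
        refine ⟨T.mul_mem (T.mul_mem (T.mul_mem haT hbT) (inv_mem haT)) (inv_mem hbT), ?_⟩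
        have e : (⟨⁅a, b⁆, T.mul_mem (T.mul_mem (T.mul_mem haT hbT) (inv_mem haT)) (inv_mem hbT)⟩ : T) =
            ⁅(⟨a, haT⟩ : T), ⟨b, hbT⟩⁆ := rfl
        rw [e, map_commutatorElement]
        apply hX.2.2
        exact Subgroup.commutator_mem_commutator (ih α hα ⟨a, haT⟩ ha) (ih α hα ⟨b, hbT⟩ hb)
    have hxY := (sInf_le hY : sInf _ ≤ _) hx
    obtain ⟨_, h⟩ := (hmemY _).1 hxY
    exact h

/-- an `E`-strongly closed, `Aut_F(T)`-invariant subgroup is strongly closed in `F` (Frattini condition) -/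
theorem stronglyClosed_of_invariant (F : FusionSystem S) (E : FusionSystem T) (hinv : E.IsInvariantIn F)
    {X : Subgroup Ω} (hX : E.StronglyClosed X)
    (haut : ∀ α ∈ F.autGroup T, ∀ x : T, (x : Ω) ∈ X → ((α x : T) : Ω) ∈ X) : F.StronglyClosed X := by
  refine ⟨hX.1.trans hinv.2.1.1, fun R hR φ hφ x => ?_⟩
  obtain ⟨α, hα, φ₀, hφ₀, h⟩ := hinv.2.2.2 R (hR.trans hX.1) φ hφ
  have hx : φ₀ x ∈ T := (E.le_of_mem hφ₀).2 x
  rw [h x hx]
  exact haut α hα _ (hX.2 R hR φ₀ hφ₀ x)

theorem derSC_sc_of_invariant (F : FusionSystem S) (E : FusionSystem T) (hinv : E.IsInvariantIn F) (k : ℕ) :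
    F.StronglyClosed (derSC E k) :=
  stronglyClosed_of_invariant F E hinv (derSC_sc E k) (derSC_aut_mem F E hinv k)

/-- the canonical series gives a chain in `F` from `derSC E k` up to `T` -/
theorem solvChain_derSC (F : FusionSystem S) (E : FusionSystem T) (hinv : E.IsInvariantIn F) :
    ∀ k, SolvChain F (derSC E k) T
  | 0 => SolvChain.refl _
  | k + 1 => SolvChain.step (derSC_succ_le E k) (derSC_sc_of_invariant F E hinv _)
      (derSC_sc_of_invariant F E hinv _) (derSC_comm E k) (solvChain_derSC F E hinv k)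

end der

section main

variable [Finite S] (p : ℕ) [Fact p.Prime] (hS : IsPGroup p S) (F : FusionSystem S) (hF : F.IsSaturated p)
  {T : Subgroup Ω} (E : FusionSystem T) (hEs : E.IsSaturated p) (hinv : E.IsInvariantIn F)
  (θ : S →* Ω') (D : FusionSystem S') (hD : F.IsFactorSystem T θ D)

include hS hF hEs hinv in
theorem solvable_sub_of_solvable (h : F.IsSolvableSystem) : E.IsSolvableSystem := by
  obtain ⟨n, U, h0, hn, hmono, hsc, hcomm⟩ := (solvable_iff_chain p hS F hF).1 h
  have hTsc : F.StronglyClosed T := hinv.2.1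
  have hTS : T ≤ S := hTsc.1
  have : Finite T := finite_of_le hTS
  refine solvable_of_chain p (hS.to_le hTS) E hEs n (fun i => U i ⊓ T) ?_ ?_ ?_ ?_
  · show U 0 ⊓ T = ⊥
    rw [h0, bot_inf_eq]
  · show U (Fin.last n) ⊓ T = T
    rw [hn]
    exact inf_eq_right.2 hTS
  · intro i
    exact stronglyClosed_of_subsystem F E hinv.1 (stronglyClosed_inf F (hsc i) hTsc) inf_le_right
  · intro i
    apply le_inf
    · exact (Subgroup.commutator_mono inf_le_left inf_le_left).trans (hcomm i)
    · exact (Subgroup.commutator_mono inf_le_right inf_le_right).trans (commutator_self_le T)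

include hS hF hinv hD in
theorem solvable_factor_of_solvable (h : F.IsSolvableSystem) : D.IsSolvableSystem := by
  obtain ⟨n, U, h0, hn, hmono, hsc, hcomm⟩ := (solvable_iff_chain p hS F hF).1 h
  have hTsc : F.StronglyClosed T := hinv.2.1
  have hsm := factorSystem_surjectiveMorphism p hS F hF T hTsc θ D hD
  have hfinS' : Finite S' := finite_of_isFactorSystem F D hD
  have hS'p : IsPGroup p S' := isPGroup_of_isFactorSystem p hS F D hD
  have hDsat : D.IsSaturated p := saturated_image hS hF hsm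
  obtain ⟨hTS, hker, hrange, hhom⟩ := hD
  refine solvable_of_chain p hS'p D hDsat n (fun i => FusionSystem.imageAlong θ (U i)) ?_ ?_ ?_ ?_
  · show FusionSystem.imageAlong θ (U 0) = ⊥
    rw [h0, eq_bot_iff]
    intro y hy
    obtain ⟨x, hx, rfl⟩ := mem_imageAlong.1 hy
    have : x = 1 := Subtype.ext ((Subgroup.mem_bot).1 hx)
    rw [this, map_one]
    exact Subgroup.one_mem _
  · show FusionSystem.imageAlong θ (U (Fin.last n)) = S'
    rw [hn]
    apply le_antisymm
    · intro y hy
      obtain ⟨x, _, rfl⟩ := mem_imageAlong.1 hy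
      exact hrange.le ⟨x, rfl⟩
    · intro y hy
      obtain ⟨x, rfl⟩ := hrange.ge hy
      exact mem_imageAlong.2 ⟨x, x.2, rfl⟩
  · intro i
    exact stronglyClosed_imageAlong hsm (hsc i)
  · intro i
    rw [Subgroup.commutator_le]
    intro a ha b hb
    obtain ⟨x, hx, rfl⟩ := mem_imageAlong.1 ha
    obtain ⟨y, hy, rfl⟩ := mem_imageAlong.1 hb
    rw [← map_commutatorElement]
    exact mem_imageAlong.2 ⟨⁅x, y⁆, hcomm i (Subgroup.commutator_mem_commutator hx hy), rfl⟩

include hS hF hEs hinv hD in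
theorem solvable_of_sub_of_factor (hE : E.IsSolvableSystem) (hDs : D.IsSolvableSystem) :
    F.IsSolvableSystem := by
  have hTsc : F.StronglyClosed T := hinv.2.1
  have hTS : T ≤ S := hTsc.1
  have : Finite T := finite_of_le hTS
  have hsm := factorSystem_surjectiveMorphism p hS F hF T hTsc θ D hD
  have hfinS' : Finite S' := finite_of_isFactorSystem F D hD
  have hS'p : IsPGroup p S' := isPGroup_of_isFactorSystem p hS F D hD
  have hDsat : D.IsSaturated p := saturated_image hS hF hsm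
  obtain ⟨_, hker, hrange, hhom⟩ := hD
  -- lower part
  obtain ⟨n, U, h0, hn, hmono, hsc, hcomm⟩ := (solvable_iff_chain p (hS.to_le hTS) E hEs).1 hE
  have hc1 : SolvChain E ⊥ T := by
    have := solvChain_of_fin E n U hmono hsc hcomm 0
    rwa [h0, hn] at this
  obtain ⟨m, hm⟩ := derSC_le_of_chain E hc1 0 le_rfl
  have hbot : derSC E (0 + m) = ⊥ := eq_bot_iff.2 hm
  have hlow : SolvChain F ⊥ T := hbot ▸ solvChain_derSC F E hinv (0 + m)
  -- upper part
  obtain ⟨n', V, h0', hn', hmono', hsc', hcomm'⟩ := (solvable_iff_chain p hS'p D hDsat).1 hDs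
  have hc2 := solvChain_of_fin F n' (fun i => FusionSystem.preimageAlong θ (V i))
    (fun i j hij x hx => by
      obtain ⟨hxS, h⟩ := mem_preimageAlong.1 hx
      exact mem_preimageAlong.2 ⟨hxS, hmono' hij h⟩)
    (fun i => stronglyClosed_preimageAlong hsm.1 (hsc' i))
    (fun i => by
      rw [Subgroup.commutator_le]
      intro a ha b hb
      obtain ⟨haS, ha'⟩ := mem_preimageAlong.1 ha
      obtain ⟨hbS, hb'⟩ := mem_preimageAlong.1 hb
      refine mem_preimageAlong.2 ⟨S.mul_mem (S.mul_mem (S.mul_mem haS hbS) (inv_mem haS)) (inv_mem hbS), ?_⟩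
      have e : (⟨⁅a, b⁆, S.mul_mem (S.mul_mem (S.mul_mem haS hbS) (inv_mem haS)) (inv_mem hbS)⟩ : S) =
          ⁅(⟨a, haS⟩ : S), ⟨b, hbS⟩⁆ := rfl
      rw [e, map_commutatorElement]
      exact hcomm' i (Subgroup.commutator_mem_commutator ha' hb')) 0
  have e0 : FusionSystem.preimageAlong θ (V 0) = T := by
    rw [h0']
    ext x
    rw [mem_preimageAlong]
    constructor
    · rintro ⟨hxS, h⟩
      exact (hker _).1 ((Subgroup.mem_bot).1 h)
    · intro hx
      exact ⟨hTS hx, (Subgroup.mem_bot).2 ((hker ⟨x, hTS hx⟩).2 hx)⟩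
  have e1 : FusionSystem.preimageAlong θ (V (Fin.last n')) = S := by
    rw [hn']
    ext x
    rw [mem_preimageAlong]
    constructor
    · rintro ⟨hxS, _⟩
      exact hxS
    · intro hx
      exact ⟨hx, hrange.le ⟨⟨x, hx⟩, rfl⟩⟩
  have hup : SolvChain F T S := by
    have h3 : SolvChain F (FusionSystem.preimageAlong θ (V 0)) (FusionSystem.preimageAlong θ (V (Fin.last n'))) :=
      hc2
    rwa [e0, e1] at h3
  exact solvable_of_solvChain p hS F hF (hlow.trans hup)

end main

end Cfsg.Agent.Lib.Helper29
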