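import Cfsg.Agent.Lib.Helper29.FusionAlperin
import Cfsg.Agent.Lib.Helper29.FusionRel
import Cfsg.Agent.Lib.Helper29.FrattiniFactor
import Cfsg.Agent.S5077

set_option autoImplicit false
open Cfsg

namespace Cfsg.Agent.Lib.Helper29

variable {Ω : Type*} [Group Ω] {S : Subgroup Ω}

/-- `φ` agrees modulo `T` with a map of `F` defined on `P ⊔ T` -/
def ExtMod (F : FusionSystem S) (T P : Subgroup Ω) (φ : P →* Ω) : Prop :=
  ∃ φh ∈ F.Hom (P ⊔ T), ∀ x : P, (φ x)⁻¹ * φh (Subgroup.inclusion le_sup_left x) ∈ T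

theorem stronglyClosed_conj_mem (F : FusionSystem S) {T : Subgroup Ω} (hT : F.StronglyClosed T)
    {g : Ω} (hg : g ∈ S) {x : Ω} (hx : x ∈ T) : g * x * g⁻¹ ∈ T :=
  hT.2 T le_rfl (conjHom T g) (F.conj_mem hT.1 hg) ⟨x, hx⟩

theorem stronglyClosed_hom_mem (F : FusionSystem S) {T : Subgroup Ω} (hT : F.StronglyClosed T)
    {P : Subgroup Ω} {φ : P →* Ω} (hφ : φ ∈ F.Hom P) (x : P) (hx : (x : Ω) ∈ T) : φ x ∈ T := by
  have h1 : φ.comp (Subgroup.inclusion (inf_le_left : P ⊓ T ≤ P)) ∈ F.Hom (P ⊓ T) :=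
    restrict_mem F inf_le_left hφ
  exact hT.2 (P ⊓ T) inf_le_right _ h1 ⟨x, ⟨x.2, hx⟩⟩

theorem extMod_conj (F : FusionSystem S) {T : Subgroup Ω} (hT : F.StronglyClosed T) {P : Subgroup Ω}
    (hP : P ≤ S) {g : Ω} (hg : g ∈ S) : ExtMod F T P (conjHom P g) := by
  refine ⟨conjHom (P ⊔ T) g, F.conj_mem (sup_le hP hT.1) hg, fun x => ?_⟩
  have : (conjHom P g x)⁻¹ * conjHom (P ⊔ T) g (Subgroup.inclusion le_sup_left x) = 1 :=
    inv_mul_cancel _
  rw [this]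
  exact T.one_mem

/-- values of the extension on `P ⊔ T` -/
theorem extMod_val {F : FusionSystem S} {T : Subgroup Ω} (hT : F.StronglyClosed T) {P Q : Subgroup Ω}
    {φ : P →* Ω} (hφQ : ∀ x, φ x ∈ Q) {φh : ↥(P ⊔ T) →* Ω} (hφh : φh ∈ F.Hom (P ⊔ T))
    (hmod : ∀ x : P, (φ x)⁻¹ * φh (Subgroup.inclusion le_sup_left x) ∈ T) (z : ↥(P ⊔ T)) :
    φh z ∈ Q ⊔ T := by
  refine sup_hom_mem φh (fun x => ?_) (fun t => ?_) z
  · have h1 : φh (Subgroup.inclusion le_sup_left x) =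
        φ x * ((φ x)⁻¹ * φh (Subgroup.inclusion le_sup_left x)) := by group
    rw [h1]
    exact Subgroup.mul_mem _ (Subgroup.mem_sup_left (hφQ x)) (Subgroup.mem_sup_right (hmod x))
  · exact Subgroup.mem_sup_right (stronglyClosed_hom_mem F hT hφh _ t.2)

theorem extMod_comp (F : FusionSystem S) {T : Subgroup Ω} (hT : F.StronglyClosed T) {P Q : Subgroup Ω}
    {φ : P →* Ω} {ψ : Q →* Ω} (hφQ : ∀ x, φ x ∈ Q) (h₁ : ExtMod F T P φ) (h₂ : ExtMod F T Q ψ)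
    {χ : P →* Ω} (hχ : ∀ x : P, χ x = ψ ⟨φ x, hφQ x⟩) : ExtMod F T P χ := by
  obtain ⟨φh, hφh, hφmod⟩ := h₁
  obtain ⟨ψh, hψh, hψmod⟩ := h₂
  have hval := extMod_val hT hφQ hφh hφmod
  refine ⟨ψh.comp (φh.codRestrict (Q ⊔ T) hval), F.comp_mem hφh hψh hval, fun x => ?_⟩
  have ht := hφmod x
  have e : (φh.codRestrict (Q ⊔ T) hval) (Subgroup.inclusion le_sup_left x) =
      Subgroup.inclusion le_sup_left ⟨φ x, hφQ x⟩ *
        Subgroup.inclusion le_sup_right ⟨(φ x)⁻¹ * φh (Subgroup.inclusion le_sup_left x), ht⟩ := by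
    apply Subtype.ext
    show φh (Subgroup.inclusion le_sup_left x) =
      φ x * ((φ x)⁻¹ * φh (Subgroup.inclusion le_sup_left x))
    group
  show (χ x)⁻¹ * ψh ((φh.codRestrict (Q ⊔ T) hval) (Subgroup.inclusion le_sup_left x)) ∈ T
  rw [e, map_mul, hχ, ← mul_assoc]
  exact T.mul_mem (hψmod _) (stronglyClosed_hom_mem F hT hψh _ ht)

theorem extMod_inv [Finite S] (F : FusionSystem S) {T : Subgroup Ω} (hT : F.StronglyClosed T)
    {P : Subgroup Ω} {φ : P →* Ω} (hφ : φ ∈ F.Hom P) (h₁ : ExtMod F T P φ) {θ : φ.range →* Ω}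
    (hθ : ∀ x : P, θ ⟨φ x, ⟨x, rfl⟩⟩ = x) : ExtMod F T φ.range θ := by
  obtain ⟨φh, hφh, hφmod⟩ := h₁
  have hfinT : Finite T := finite_of_le hT.1
  -- `φh` maps `T` onto `T`
  have hTsurj : ∀ t : T, ∃ t' : T, φh (Subgroup.inclusion le_sup_right t') = t := by
    let f : T → T := fun t' => ⟨φh (Subgroup.inclusion le_sup_right t'),
      stronglyClosed_hom_mem F hT hφh _ t'.2⟩
    have hinj : Function.Injective f := by
      intro a b hab
      have h1 : φh (Subgroup.inclusion le_sup_right a) = φh (Subgroup.inclusion le_sup_right b) :=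
        congrArg Subtype.val hab
      have h2 := F.injective_of_mem hφh h1
      exact Subtype.ext (congrArg (fun z : ↥(P ⊔ T) => (z : Ω)) h2)
    have hsurj := Finite.injective_iff_surjective.1 hinj
    intro t
    obtain ⟨t', ht'⟩ := hsurj t
    exact ⟨t', congrArg Subtype.val ht'⟩
  -- every `φ x` is a value of `φh`, at `x * t''`
  have hpre : ∀ x : P, ∃ t'' : T, φh (Subgroup.inclusion le_sup_left x *
      Subgroup.inclusion le_sup_right t'') = φ x := by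
    intro x
    obtain ⟨t'', ht''⟩ := hTsurj ⟨_, T.inv_mem (hφmod x)⟩
    refine ⟨t'', ?_⟩
    rw [map_mul, ht'']
    show φh (Subgroup.inclusion le_sup_left x) * ((φ x)⁻¹ * φh (Subgroup.inclusion le_sup_left x))⁻¹ = φ x
    group
  have hr : φh.range = φ.range ⊔ T := by
    apply le_antisymm
    · rintro _ ⟨z, rfl⟩
      exact extMod_val hT (fun x => (⟨x, rfl⟩ : φ x ∈ φ.range)) hφh hφmod z
    · refine sup_le ?_ ?_
      · rintro _ ⟨x, rfl⟩
        obtain ⟨t'', ht''⟩ := hpre x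
        exact ⟨_, ht''⟩
      · intro t ht
        obtain ⟨t', ht'⟩ := hTsurj ⟨t, ht⟩
        exact ⟨_, ht'⟩
  obtain ⟨θh, hθh, hθhe⟩ := exists_inv_iso F hφh hr
  refine ⟨θh, hθh, fun y => ?_⟩
  obtain ⟨x, hx⟩ := y.2
  obtain ⟨t'', ht''⟩ := hpre x
  have e1 : y = ⟨φ x, ⟨x, rfl⟩⟩ := Subtype.ext hx.symm
  have e2 : Subgroup.inclusion (le_sup_left : φ.range ≤ φ.range ⊔ T) y =
      ⟨φh (Subgroup.inclusion le_sup_left x * Subgroup.inclusion le_sup_right t''),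
        hr.le ⟨_, rfl⟩⟩ := by
    apply Subtype.ext
    show (y : Ω) = φh (Subgroup.inclusion le_sup_left x * Subgroup.inclusion le_sup_right t'')
    exact hx.symm.trans ht''.symm
  rw [e2, hθhe, e1, hθ]
  show (x : Ω)⁻¹ * ((x : Ω) * (t'' : Ω)) ∈ T
  rw [inv_mul_cancel_left]
  exact t''.2

/-- the maps of `F` which extend modulo `T` whenever their source has index at most `k` -/
def modSysK [Finite S] (F : FusionSystem S) {T : Subgroup Ω} (hT : F.StronglyClosed T) (k : ℕ) :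
    FusionSystem S where
  Hom P := {φ | φ ∈ F.Hom P ∧ (Nat.card S - Nat.card P ≤ k → ExtMod F T P φ)}
  le_of_mem h := F.le_of_mem h.1
  injective_of_mem h := F.injective_of_mem h.1
  conj_mem hP hg := ⟨F.conj_mem hP hg, fun _ => extMod_conj F hT hP hg⟩
  comp_mem := by
    intro P Q φ ψ hφ hψ h
    refine ⟨F.comp_mem hφ.1 hψ.1 h, fun hk => ?_⟩
    have hQS : Q ≤ S := (F.le_of_mem hψ.1).1
    have hfinQ : Finite Q := finite_of_le hQS
    have hinj : Function.Injective (φ.codRestrict Q h) := by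
      intro a b hab
      apply F.injective_of_mem hφ.1
      exact congrArg Subtype.val hab
    have hle : Nat.card P ≤ Nat.card Q := Nat.card_le_card_of_injective _ hinj
    exact extMod_comp F hT h (hφ.2 hk) (hψ.2 (by omega)) (fun x => rfl)
  inv_mem := by
    intro P φ hφ
    obtain ⟨θ, hθ, hθe⟩ := F.inv_mem hφ.1
    refine ⟨θ, ⟨hθ, fun hk => ?_⟩, hθe⟩
    have hcard : Nat.card P = Nat.card φ.range := card_eq_of_isConj F ⟨φ, hφ.1, rfl⟩
    exact extMod_inv F hT hφ.1 (hφ.2 (by omega)) hθe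

/-- automorphisms of `R` acting trivially modulo `T` -/
def trivModSub (R T : Subgroup Ω) : Subgroup (MulAut R) where
  carrier := {β | ∀ r : R, (r : Ω)⁻¹ * ((β r : R) : Ω) ∈ T}
  one_mem' := by
    intro r
    show (r : Ω)⁻¹ * (r : Ω) ∈ T
    rw [inv_mul_cancel]
    exact T.one_mem
  mul_mem' := by
    intro β γ hβ hγ r
    have e : (r : Ω)⁻¹ * ((β (γ r) : R) : Ω) =
        ((r : Ω)⁻¹ * ((γ r : R) : Ω)) * (((γ r : R) : Ω)⁻¹ * ((β (γ r) : R) : Ω)) := by group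
    show (r : Ω)⁻¹ * ((β (γ r) : R) : Ω) ∈ T
    rw [e]
    exact T.mul_mem (hγ r) (hβ (γ r))
  inv_mem' := by
    intro β hβ r
    have h1 := hβ (β⁻¹ r)
    rw [MulAut.apply_inv_self] at h1
    have e : (r : Ω)⁻¹ * ((β⁻¹ r : R) : Ω) = (((β⁻¹ r : R) : Ω)⁻¹ * (r : Ω))⁻¹ := by group
    show (r : Ω)⁻¹ * ((β⁻¹ r : R) : Ω) ∈ T
    rw [e]
    exact T.inv_mem h1

theorem trivModSub_normal (F : FusionSystem S) {T : Subgroup Ω} (hT : F.StronglyClosed T) {R : Subgroup Ω}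
    (hRS : R ≤ S) : ((trivModSub R T).subgroupOf (F.autGroup R)).Normal := by
  constructor
  intro β hβ γ
  rw [Subgroup.mem_subgroupOf] at hβ ⊢
  intro r
  have hγF := (mem_autGroup_iff F hRS).1 γ.2
  have h1 := hβ ((γ : MulAut R)⁻¹ r)
  have h2 : (R.subtype.comp (γ : MulAut R).toMonoidHom)
      (((γ : MulAut R)⁻¹ r)⁻¹ * (β : MulAut R) ((γ : MulAut R)⁻¹ r)) ∈ T :=
    stronglyClosed_hom_mem F hT hγF _ h1
  have h3 : (γ : MulAut R) (((γ : MulAut R)⁻¹ r)⁻¹ * (β : MulAut R) ((γ : MulAut R)⁻¹ r)) =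
      r⁻¹ * (γ : MulAut R) ((β : MulAut R) ((γ : MulAut R)⁻¹ r)) := by
    rw [map_mul, map_inv, MulAut.apply_inv_self]
  have h4 : (R.subtype.comp (γ : MulAut R).toMonoidHom)
      (((γ : MulAut R)⁻¹ r)⁻¹ * (β : MulAut R) ((γ : MulAut R)⁻¹ r)) =
      (r : Ω)⁻¹ * (((γ : MulAut R) ((β : MulAut R) ((γ : MulAut R)⁻¹ r)) : R) : Ω) := by
    show (((γ : MulAut R) (((γ : MulAut R)⁻¹ r)⁻¹ * (β : MulAut R) ((γ : MulAut R)⁻¹ r)) : R) : Ω) = _
    rw [h3]
    rfl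
  rw [h4] at h2
  exact h2

end Cfsg.Agent.Lib.Helper29
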