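import Cfsg.Agent.Lib.Helper29.StronglyClosedExt

set_option autoImplicit false
open Cfsg
open scoped Pointwise

namespace Cfsg.Agent.Lib.Helper29

variable {Ω : Type*} [Group Ω] {S : Subgroup Ω}

theorem mem_normalizer_of_conj_le' {P : Subgroup Ω} [Finite P] {n : Ω}
    (h : ∀ y ∈ P, n * y * n⁻¹ ∈ P) : n ∈ Subgroup.normalizer (P : Set Ω) := by
  have hfin : Finite ↥(P : Set Ω) := ‹Finite P›
  apply Subgroup.mem_normalizer_fintype
  intro x hx
  exact h x hx

/-- if `T ≰ R` then `N_T(R) ≰ R` -/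
theorem exists_normalizerIn_not_mem [Finite S] {p : ℕ} [Fact p.Prime] (hS : IsPGroup p S)
    {T R : Subgroup Ω} (hTS : T ≤ S) (hTn : ∀ g ∈ S, ∀ x ∈ T, g * x * g⁻¹ ∈ T) (hRS : R ≤ S)
    (hTR : ¬ T ≤ R) : ∃ t ∈ FusionSystem.normalizerIn T R, t ∉ R := by
  have hRTS : R ⊔ T ≤ S := sup_le hRS hTS
  have hfin : Finite ↥(R ⊔ T) := finite_of_le hRTS
  have hp : IsPGroup p ↥(R ⊔ T) := hS.to_le hRTS
  have hne : R ≠ R ⊔ T := by
    intro h
    apply hTR
    rw [h]
    exact le_sup_right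
  have h1 := normalizerIn_ne_self hp (le_sup_left : R ≤ R ⊔ T) hne
  have h2 : ∃ s ∈ FusionSystem.normalizerIn (R ⊔ T) R, s ∉ R := by
    by_contra hcon
    push_neg at hcon
    exact h1 (le_antisymm hcon (le_normalizerIn le_sup_left))
  obtain ⟨s, hs, hsR⟩ := h2
  have hRN : R ≤ Subgroup.normalizer (T : Set Ω) := by
    intro r hr
    have hfinT : Finite T := finite_of_le hTS
    apply mem_normalizer_of_conj_le'
    intro y hy
    exact hTn r (hRS hr) y hy
  have hs1 : s ∈ ((R ⊔ T : Subgroup Ω) : Set Ω) := hs.1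
  rw [Subgroup.coe_mul_of_left_le_normalizer_right R T hRN] at hs1
  obtain ⟨r, hr, t, ht, rfl⟩ := Set.mem_mul.1 hs1
  refine ⟨t, ⟨ht, ?_⟩, fun htR => hsR (R.mul_mem hr htR)⟩
  have hrN : r ∈ Subgroup.normalizer (R : Set Ω) := Subgroup.le_normalizer hr
  have h3 := Subgroup.mul_mem _ (Subgroup.inv_mem _ hrN) hs.2
  rwa [inv_mul_cancel_left] at h3

/-- core step: automorphisms of a fully automized receptive `R` extend modulo `T`, given that all maps
from larger subgroups do -/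
theorem extMod_aut [Finite S] (p : ℕ) [Fact p.Prime] (hS : IsPGroup p S) (F : FusionSystem S)
    {T : Subgroup Ω} (hT : F.StronglyClosed T) {R : Subgroup Ω} (hfa : F.IsFullyAutomized p R)
    (hrec : F.IsReceptive R)
    (IH : ∀ P' : Subgroup Ω, P' ≤ S → Nat.card R < Nat.card P' → ∀ φ ∈ F.Hom P', ExtMod F T P' φ)
    {α : MulAut R} (hα : α ∈ F.autGroup R) : ExtMod F T R (R.subtype.comp α.toMonoidHom) := by
  have hRS := hfa.1
  have hαF := (mem_autGroup_iff F hRS).1 hα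
  by_cases hTR : T ≤ R
  · have hle : R ⊔ T ≤ R := sup_le le_rfl hTR
    refine ⟨(R.subtype.comp α.toMonoidHom).comp (Subgroup.inclusion hle), restrict_mem F hle hαF,
      fun x => ?_⟩
    have e : (Subgroup.inclusion hle (Subgroup.inclusion le_sup_left x)) = x := Subtype.ext rfl
    show ((α x : R) : Ω)⁻¹ *
      ((α (Subgroup.inclusion hle (Subgroup.inclusion le_sup_left x)) : R) : Ω) ∈ T
    rw [e, inv_mul_cancel]
    exact T.one_mem
  have hfinR : Finite R := finite_of_le hRS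
  obtain ⟨Sy, hSy⟩ := hfa.2
  have hKn := trivModSub_normal F hT hRS
  obtain ⟨κ, hκ, ν, hαeq, hν⟩ :=
    exists_mul_normalizer_of_normal Sy ((trivModSub R T).subgroupOf (F.autGroup R)) ⟨α, hα⟩
  have hκE : ExtMod F T R (R.subtype.comp (κ : MulAut R).toMonoidHom) := by
    refine ⟨(R ⊔ T).subtype, subtype_mem F (sup_le hRS hT.1), fun x => ?_⟩
    have h1 := (Subgroup.mem_subgroupOf.1 hκ) x
    have e : (((κ : MulAut R) x : R) : Ω)⁻¹ * (x : Ω) =
        ((x : Ω)⁻¹ * (((κ : MulAut R) x : R) : Ω))⁻¹ := by group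
    show (((κ : MulAut R) x : R) : Ω)⁻¹ * (x : Ω) ∈ T
    rw [e]
    exact T.inv_mem h1
  have hνE : ExtMod F T R (R.subtype.comp (ν : MulAut R).toMonoidHom) := by
    have hν₀ : R.subtype.comp (ν : MulAut R).toMonoidHom ∈ F.Hom R := (mem_autGroup_iff F hRS).1 ν.2
    obtain ⟨Ψ, hΨ, hΨe⟩ := hrec.2 R _ hν₀ (range_subtype_comp_aut _)
    have hNT : FusionSystem.normalizerIn T R ≤
        FusionSystem.extender S R (R.subtype.comp (ν : MulAut R).toMonoidHom) := by
      intro t ht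
      have htT : t ∈ T := ht.1
      have htN : t ∈ Subgroup.normalizer (R : Set Ω) := ht.2
      have htS : t ∈ S := hT.1 htT
      apply Subgroup.subset_closure
      refine ⟨htS, htN, ?_⟩
      have hτS : R.normalizerMonoidHom ⟨t, htN⟩ ∈ autInducedBy S R := by
        rw [autInducedBy_eq_map]
        exact ⟨⟨t, htN⟩, htS, rfl⟩
      have hτA : R.normalizerMonoidHom ⟨t, htN⟩ ∈ F.autGroup R := autInducedBy_le_autGroup F hRS hτS
      have hτK : R.normalizerMonoidHom ⟨t, htN⟩ ∈ trivModSub R T := by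
        intro r
        show (r : Ω)⁻¹ * (t * r * t⁻¹) ∈ T
        have e : (r : Ω)⁻¹ * (t * r * t⁻¹) = ((r : Ω)⁻¹ * t * ((r : Ω)⁻¹)⁻¹) * t⁻¹ := by group
        rw [e]
        exact T.mul_mem (stronglyClosed_conj_mem F hT (S.inv_mem (hRS r.2)) htT) (T.inv_mem htT)
      have hmem : (⟨R.normalizerMonoidHom ⟨t, htN⟩, hτA⟩ : F.autGroup R) ∈
          (Sy : Subgroup ↥(F.autGroup R)) ⊓ (trivModSub R T).subgroupOf (F.autGroup R) := by
        refine ⟨?_, Subgroup.mem_subgroupOf.2 hτK⟩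
        show _ ∈ (Sy : Subgroup ↥(F.autGroup R))
        rw [hSy]
        exact Subgroup.mem_subgroupOf.2 hτS
      have h1 : ν * ⟨R.normalizerMonoidHom ⟨t, htN⟩, hτA⟩ * ν⁻¹ ∈ (Sy : Subgroup ↥(F.autGroup R)) :=
        (hν _ hmem).1
      rw [hSy, Subgroup.mem_subgroupOf, autInducedBy_eq_map] at h1
      obtain ⟨n, hnS, hn⟩ := h1
      refine ⟨n, hnS, fun x hx => ?_⟩
      have h2 : (n : Ω) * (((ν : MulAut R) x : R) : Ω) * (n : Ω)⁻¹ =
          ((((ν * ⟨R.normalizerMonoidHom ⟨t, htN⟩, hτA⟩ * ν⁻¹ : F.autGroup R) : MulAut R)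
            ((ν : MulAut R) x) : R) : Ω) :=
        congrArg (fun a : MulAut R => ((a ((ν : MulAut R) x) : R) : Ω)) hn
      have h3 : ((ν * ⟨R.normalizerMonoidHom ⟨t, htN⟩, hτA⟩ * ν⁻¹ : F.autGroup R) : MulAut R)
          ((ν : MulAut R) x) = (ν : MulAut R) (⟨t * x * t⁻¹, hx⟩ : R) := by
        show (ν : MulAut R) (R.normalizerMonoidHom ⟨t, htN⟩ ((ν : MulAut R)⁻¹ ((ν : MulAut R) x))) = _
        rw [MulAut.inv_apply_self]
        rfl
      rw [h3] at h2
      exact h2.symm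
    obtain ⟨t₀, ht₀N, ht₀R⟩ := exists_normalizerIn_not_mem hS hT.1
      (fun g hg x hx => stronglyClosed_conj_mem F hT hg hx) hRS hTR
    have hRR₁ : R ≤ R ⊔ FusionSystem.normalizerIn T R := le_sup_left
    have hR₁E : R ⊔ FusionSystem.normalizerIn T R ≤
        FusionSystem.extender S R (R.subtype.comp (ν : MulAut R).toMonoidHom) :=
      sup_le (le_extender F hν₀) hNT
    have hR₁S : R ⊔ FusionSystem.normalizerIn T R ≤ S := hR₁E.trans (extender_le _ _)
    have hfinR₁ : Finite ↥(R ⊔ FusionSystem.normalizerIn T R) := finite_of_le hR₁S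
    have hlt : Nat.card R < Nat.card ↥(R ⊔ FusionSystem.normalizerIn T R) := by
      apply lt_of_le_of_ne (Subgroup.card_le_of_le hRR₁)
      intro hcard
      have heq := Subgroup.eq_of_le_of_card_ge hRR₁ hcard.ge
      apply ht₀R
      rw [heq]
      exact Subgroup.mem_sup_right ht₀N
    obtain ⟨ν₁h, hν₁h, hmod₁⟩ := IH _ hR₁S hlt _ (restrict_mem F hR₁E hΨ)
    have hle : R ⊔ T ≤ (R ⊔ FusionSystem.normalizerIn T R) ⊔ T := sup_le_sup_right hRR₁ T
    refine ⟨ν₁h.comp (Subgroup.inclusion hle), restrict_mem F hle hν₁h, fun x => ?_⟩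
    have h1 := hmod₁ (Subgroup.inclusion hRR₁ x)
    have h2 : (Ψ.comp (Subgroup.inclusion hR₁E)) (Subgroup.inclusion hRR₁ x) =
        (R.subtype.comp (ν : MulAut R).toMonoidHom) x := hΨe x.1 x.2 _
    rw [h2] at h1
    exact h1
  have hαval : ∀ x : R, (α x : R) = (κ : MulAut R) ((ν : MulAut R) x) := by
    intro x
    have h1 : α = (κ : MulAut R) * (ν : MulAut R) := congrArg Subtype.val hαeq
    rw [h1]
    rfl
  exact extMod_comp F hT (fun x => ((ν : MulAut R) x).2) hνE hκE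
    (fun x => congrArg Subtype.val (hαval x))

end Cfsg.Agent.Lib.Helper29
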