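import Cfsg.Agent.Lib.Helper29.StronglyClosedExt2
import Cfsg.Agent.Lib.Helper29.FusionHyp

set_option autoImplicit false
open Cfsg

namespace Cfsg.Agent.Lib.Helper29

variable {Ω : Type*} [Group Ω] {S : Subgroup Ω}

theorem extMod_of_stronglyClosed_aux [Finite S] (p : ℕ) [Fact p.Prime] (hS : IsPGroup p S)
    (F : FusionSystem S) (hF : F.IsSaturated p) {T : Subgroup Ω} (hT : F.StronglyClosed T) :
    ∀ k : ℕ, ∀ P : Subgroup Ω, P ≤ S → Nat.card S - Nat.card P = k → ∀ φ ∈ F.Hom P,
      ExtMod F T P φ := by
  have hsat := (Cfsg.Agent.S5077.result p hS F).1 hF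
  intro k
  induction k using Nat.strong_induction_on with
  | _ k ih =>
    intro P hPS hk φ hφ
    have hle : F ≤ modSysK F hT k := by
      apply alperin p hS F hF
      intro R hR
      unfold FusionSystem.autGroup
      apply Subgroup.closure_mono
      intro α hα
      have hα' : R.subtype.comp α.toMonoidHom ∈ F.Hom R := hα
      refine ⟨hα', fun hk' => ?_⟩
      have hRS := (F.le_of_mem hα').1
      rcases lt_or_eq_of_le hk' with hlt | heq
      · exact ih _ hlt R hRS rfl _ hα'
      · have hfn : F.IsFullyNormalized R := by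
          rcases hR with rfl | hess
          · exact fullyNormalized_top F
          · exact hess.2.1
        obtain ⟨hfc, hfa⟩ := hsat.1 R hfn
        have hrec := hsat.2 R hfc
        have IH : ∀ P' : Subgroup Ω, P' ≤ S → Nat.card R < Nat.card P' → ∀ φ ∈ F.Hom P',
            ExtMod F T P' φ := by
          intro P' hP'S hlt φ' hφ'
          have h1 : Nat.card P' ≤ Nat.card S := Subgroup.card_le_of_le hP'S
          exact ih (Nat.card S - Nat.card P') (by omega) P' hP'S rfl φ' hφ'
        exact extMod_aut p hS F hT hfa hrec IH (Subgroup.subset_closure hα)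
    exact (hle P hφ).2 (by omega)

/-- Every map of a saturated fusion system agrees, modulo a strongly closed subgroup `T`, with a map
defined on `P ⊔ T`. -/
theorem extMod_of_stronglyClosed [Finite S] (p : ℕ) [Fact p.Prime] (hS : IsPGroup p S)
    (F : FusionSystem S) (hF : F.IsSaturated p) {T : Subgroup Ω} (hT : F.StronglyClosed T)
    {P : Subgroup Ω} {φ : P →* Ω} (hφ : φ ∈ F.Hom P) : ExtMod F T P φ :=
  extMod_of_stronglyClosed_aux p hS F hF hT _ P (F.le_of_mem hφ).1 rfl φ hφ

end Cfsg.Agent.Lib.Helper29
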