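import Cfsg.Agent.Lib.Helper29.FusionEssential
import Cfsg.Agent.Lib.Helper29.FusionSubgroupSys
import Cfsg.Agent.Lib.Helper29.FusionInner

/-!
`Γ_{P,1}(X)` contains every element conjugating a nontrivial subgroup of the Sylow subgroup `P` into `P`.
-/
set_option autoImplicit false

namespace Cfsg.Agent.Lib.Helper29
open Cfsg

variable {X : Type*} [Group X]

theorem normalizer_le_kGeneratedCore [Finite X] {p : ℕ} [Fact p.Prime] (P : Sylow p X) {B : Subgroup X}
    (hBP : B ≤ (P : Subgroup X)) (hB : B ≠ ⊥) :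
    Subgroup.normalizer (B : Set X) ≤ kGeneratedCore p 1 (P : Subgroup X) := by
  unfold kGeneratedCore
  exact le_iSup (fun Q : {Q : Subgroup X // Q ≤ (P : Subgroup X) ∧ ¬ PRankLE p (1 - 1) Q} =>
    Subgroup.normalizer ((Q : Subgroup X) : Set X))
    ⟨B, hBP, by simpa using not_pRankLE_zero (P.isPGroup'.to_le hBP) hB⟩

theorem mem_kGeneratedCore_of_cj_le [Finite X] {p : ℕ} [Fact p.Prime] (P : Sylow p X) :
    ∀ (n : ℕ) (x : X) (B : Subgroup X), B ≤ (P : Subgroup X) → B ≠ ⊥ → cj x B ≤ (P : Subgroup X) →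
      Nat.card (P : Subgroup X) - Nat.card B = n → x ∈ kGeneratedCore p 1 (P : Subgroup X) := by
  intro n
  induction n using Nat.strong_induction_on with
  | _ n ih =>
  intro x B hBP hB hxB hn
  have hPne : (P : Subgroup X) ≠ ⊥ := fun h => hB (eq_bot_iff.2 (h ▸ hBP))
  have hPΓ : (P : Subgroup X) ≤ kGeneratedCore p 1 (P : Subgroup X) :=
    Subgroup.le_normalizer.trans (normalizer_le_kGeneratedCore P le_rfl hPne)
  by_cases hBeq : B = (P : Subgroup X)
  · subst hBeq
    have heq : cj x (P : Subgroup X) = (P : Subgroup X) :=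
      Subgroup.eq_of_le_of_card_ge hxB (card_cj x _).ge
    apply normalizer_le_kGeneratedCore P le_rfl hPne
    rw [Subgroup.mem_normalizer_iff]
    intro h
    constructor
    · intro hh
      rw [← heq]
      exact conj_mem_cj hh
    · intro hh
      rw [← heq, mem_cj] at hh
      have e : x⁻¹ * (x * h * x⁻¹) * x = h := by group
      rwa [e] at hh
  · have hxBne : cj x B ≠ ⊥ := by
      intro h
      apply hB
      rw [eq_bot_iff]
      intro y hy
      have : x * y * x⁻¹ ∈ cj x B := conj_mem_cj hy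
      rw [h, Subgroup.mem_bot] at this
      rw [Subgroup.mem_bot]
      have e : y = x⁻¹ * (x * y * x⁻¹) * x := by group
      rw [e, this]
      group
    have hCne : FusionSystem.normalizerIn (P : Subgroup X) B ≠ B :=
      normalizerIn_ne_self P.isPGroup' hBP hBeq
    have hBC : B ≤ FusionSystem.normalizerIn (P : Subgroup X) B := le_normalizerIn hBP
    have hCP : FusionSystem.normalizerIn (P : Subgroup X) B ≤ (P : Subgroup X) := inf_le_left
    have hCN : FusionSystem.normalizerIn (P : Subgroup X) B ≤ Subgroup.normalizer (B : Set X) := inf_le_right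
    have hxC : cj x (FusionSystem.normalizerIn (P : Subgroup X) B) ≤ kGeneratedCore p 1 (P : Subgroup X) := by
      refine (cj_mono hCN).trans ?_
      rw [cj_normalizer]
      exact normalizer_le_kGeneratedCore P hxB hxBne
    have hSyl : IsSylowSub p (P : Subgroup X) (kGeneratedCore p 1 (P : Subgroup X)) :=
      IsSylowSub.of_le hPΓ le_top (isSylowSub_top P)
    obtain ⟨m, hm, hmC⟩ := exists_cj_le_of_isSylowSub hSyl hxC
      (isPGroup_cj (P.isPGroup'.to_le hCP))
    rw [cj_cj] at hmC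
    have hCne' : FusionSystem.normalizerIn (P : Subgroup X) B ≠ ⊥ := fun h => hB (eq_bot_iff.2 (h ▸ hBC))
    have hlt : Nat.card B < Nat.card (FusionSystem.normalizerIn (P : Subgroup X) B) := by
      rcases (Subgroup.card_le_of_le hBC).lt_or_eq with h | h
      · exact h
      · exact absurd (Subgroup.eq_of_le_of_card_ge hBC h.ge).symm hCne
    have hle : Nat.card (FusionSystem.normalizerIn (P : Subgroup X) B) ≤ Nat.card (P : Subgroup X) :=
      Subgroup.card_le_of_le hCP
    have hmx := ih (Nat.card (P : Subgroup X) - Nat.card (FusionSystem.normalizerIn (P : Subgroup X) B))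
      (by omega) (m * x) _ hCP hCne' hmC rfl
    have e : x = m⁻¹ * (m * x) := by group
    rw [e]
    exact Subgroup.mul_mem _ (inv_mem hm) hmx

/-- elements conjugating a nontrivial element of `P` into `P` lie in `Γ_{P,1}` -/
theorem mem_kGeneratedCore_of_conj [Finite X] {p : ℕ} [Fact p.Prime] (P : Sylow p X) {x b : X}
    (hb : b ∈ (P : Subgroup X)) (hb1 : b ≠ 1) (hxb : x * b * x⁻¹ ∈ (P : Subgroup X)) :
    x ∈ kGeneratedCore p 1 (P : Subgroup X) := by
  refine mem_kGeneratedCore_of_cj_le P _ x (Subgroup.zpowers b) ?_ ?_ ?_ rfl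
  · rw [Subgroup.zpowers_le]
    exact hb
  · intro h
    apply hb1
    have := Subgroup.mem_zpowers b
    rwa [h, Subgroup.mem_bot] at this
  · rintro _ ⟨y, hy, rfl⟩
    obtain ⟨i, rfl⟩ := hy
    show x * b ^ i * x⁻¹ ∈ (P : Subgroup X)
    have e : x * b ^ i * x⁻¹ = (x * b * x⁻¹) ^ i := by
      rw [← MulAut.conj_apply, map_zpow, MulAut.conj_apply]
    rw [e]
    exact Subgroup.zpow_mem _ hxb i

end Cfsg.Agent.Lib.Helper29

namespace Cfsg.Agent.Lib.Helper29
open Cfsg

variable {X : Type*} [Group X]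

/-- from a strongly `p`-embedded subgroup: a proper subgroup controlling fusion of nontrivial elements in any
given Sylow `p`-subgroup -/
theorem exists_control_of_stronglyPEmbedded [Finite X] {p : ℕ} [Fact p.Prime] {Y : Subgroup X}
    (h : IsStronglyPEmbedded p Y) (P₀ : Sylow p X) :
    ∃ H : Subgroup X, H ≠ ⊤ ∧
      ∀ x b : X, b ∈ (P₀ : Subgroup X) → b ≠ 1 → x * b * x⁻¹ ∈ (P₀ : Subgroup X) → x ∈ H := by
  obtain ⟨_, hY, P, hP⟩ := h
  obtain ⟨g, hg⟩ := exists_cj_le_sylow P P₀.isPGroup'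
  refine ⟨cj g⁻¹ Y, ?_, ?_⟩
  · intro htop
    apply hY
    rw [eq_top_iff]
    intro y _
    have h1 : g⁻¹ * y * g ∈ cj g⁻¹ Y := by rw [htop]; exact Subgroup.mem_top _
    rw [mem_cj] at h1
    have e : g⁻¹⁻¹ * (g⁻¹ * y * g) * g⁻¹ = y := by group
    rwa [e] at h1
  · intro x b hb hb1 hxb
    rw [mem_cj]
    apply hP
    have hb' : g * b * g⁻¹ ∈ (P : Subgroup X) := hg (conj_mem_cj hb)
    have hb1' : g * b * g⁻¹ ≠ 1 := by
      intro h1
      apply hb1
      have e : b = g⁻¹ * (g * b * g⁻¹) * g := by group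
      rw [e, h1]
      group
    have hxb' : (g⁻¹⁻¹ * x * g⁻¹) * (g * b * g⁻¹) * (g⁻¹⁻¹ * x * g⁻¹)⁻¹ ∈ (P : Subgroup X) := by
      have e : (g⁻¹⁻¹ * x * g⁻¹) * (g * b * g⁻¹) * (g⁻¹⁻¹ * x * g⁻¹)⁻¹ = g * (x * b * x⁻¹) * g⁻¹ := by group
      rw [e]
      exact hg (conj_mem_cj hxb)
    exact mem_kGeneratedCore_of_conj P hb' hb1' hxb'

end Cfsg.Agent.Lib.Helper29
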