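import Cfsg.Agent.Lib.Helper29.SubnormalConstrained
import Cfsg.Agent.Lib.Helper29.FusionSubgroupSys

/-!
Constrainedness passes from `F_S(G)` to `F_{S ∩ H}(H)` for subnormal `H`; transport to the ambient group `H`.
-/
set_option autoImplicit false

namespace Cfsg.Agent.Lib.Helper29
open Cfsg

variable {G : Type*} [Group G]

/-- one step down a subnormal chain, inside the ambient group -/
theorem subgroupSys_constrained_step [Finite G] {p : ℕ} [Fact p.Prime] (S : Sylow p G)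
    {H K : Subgroup G} (hHK : H ≤ K) (hN : (H.subgroupOf K).Normal)
    (hK : IsSylowSub p ((S : Subgroup G) ⊓ K) K)
    (hc : (fusionSystemOfSubgroup K ((S : Subgroup G) ⊓ K) inf_le_right).IsConstrained p) :
    IsSylowSub p ((S : Subgroup G) ⊓ H) H ∧
      (fusionSystemOfSubgroup H ((S : Subgroup G) ⊓ H) inf_le_right).IsConstrained p := by
  have hnorm : K ≤ Subgroup.normalizer (H : Set G) :=
    (Subgroup.normal_subgroupOf_iff_le_normalizer hHK).1 hN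
  have hSyl : IsSylowSub p ((S : Subgroup G) ⊓ H) H := by
    have h1 := Cfsg.Agent.S5122.inf_sylow_of_normal p (inf_le_right : (S : Subgroup G) ⊓ K ≤ K) hHK hnorm hK
    have e : (S : Subgroup G) ⊓ K ⊓ H = (S : Subgroup G) ⊓ H := by
      rw [inf_assoc, inf_eq_right.2 hHK]
    rwa [e] at h1
  refine ⟨hSyl, ?_⟩
  have hSK : ((S : Subgroup G) ⊓ K) ≤ S := inf_le_left
  have hp : IsPGroup p ((S : Subgroup G) ⊓ K : Subgroup G) := S.isPGroup'.to_le hSK
  apply constrained_of_subsystem p hp _ hc _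
    (fusionSystemOfSubgroup_saturated p H _ inf_le_right hSyl)
  · rintro P φ ⟨hP, hφ, g, hg, hgφ⟩
    exact ⟨hP.trans (inf_le_inf_left _ hHK), fun x => inf_le_inf_left _ hHK (hφ x), g, hHK hg, hgφ⟩
  · refine ⟨inf_le_inf_left _ hHK, ?_⟩
    rintro R hR φ ⟨_, hφ, g, hg, hgφ⟩ x
    refine Subgroup.mem_inf.2 ⟨(hφ x).1, ?_⟩
    rw [hgφ]
    exact (Subgroup.mem_normalizer_iff.1 (hnorm hg) _).1 (hR x.2).2

/-- `F_{S ∩ H}(H)` (inside `G`) is constrained when `F_S(G)` is and `H` is subnormal -/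
theorem subgroupSys_constrained_of_subnormal [Finite G] {p : ℕ} [Fact p.Prime] (S : Sylow p G)
    (hF : (groupFusionSystem (S : Subgroup G)).IsConstrained p) {H : Subgroup G} (hH : H.IsSubnormal) :
    IsSylowSub p ((S : Subgroup G) ⊓ H) H ∧
      (fusionSystemOfSubgroup H ((S : Subgroup G) ⊓ H) inf_le_right).IsConstrained p := by
  induction hH with
  | top =>
    have hSyl : IsSylowSub p ((S : Subgroup G) ⊓ ⊤) ⊤ := isSylowSub_inf_normal S ⊤
    refine ⟨hSyl, ?_⟩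
    exact constrained_of_subsystem p S.isPGroup' _ hF _
      (fusionSystemOfSubgroup_saturated p ⊤ _ inf_le_right hSyl)
      (subgroupSys_isSubsystemOf _ ⊤) (stronglyClosed_inf_normal _ ⊤)
  | step H K hHK hK hN ih =>
    exact subgroupSys_constrained_step S hHK hN ih.1 ih.2

end Cfsg.Agent.Lib.Helper29

namespace Cfsg.Agent.Lib.Helper29
open Cfsg

variable {G : Type*} [Group G]

theorem map_subtype_sup_subgroupOf {H : Subgroup G} (P' : Subgroup H) {Q : Subgroup G} (hQH : Q ≤ H) :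
    (P' ⊔ Q.subgroupOf H).map H.subtype = P'.map H.subtype ⊔ Q := by
  rw [Subgroup.map_sup, Subgroup.map_subgroupOf_eq_of_le hQH]

/-- transport of normal subgroups of `F_{S ∩ H}(H)` to the ambient group `H` -/
theorem isNormal_subgroupOf_of_subgroupSys (S H : Subgroup G) {Q : Subgroup G}
    (hQ : (fusionSystemOfSubgroup H (S ⊓ H) inf_le_right).IsNormal Q) :
    (groupFusionSystem (S.subgroupOf H)).IsNormal (Q.subgroupOf H) := by
  have hQS : Q ≤ S := hQ.1.trans inf_le_left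
  have hQH : Q ≤ H := hQ.1.trans inf_le_right
  refine ⟨fun x hx => hQS hx, ?_⟩
  rintro P' φ' ⟨hP', hφ', h, hh⟩
  have hPle : P'.map H.subtype ≤ S ⊓ H := by
    rintro _ ⟨x, hx, rfl⟩
    exact ⟨hP' hx, x.2⟩
  have hφ : conjHom (P'.map H.subtype) (h : G) ∈
      (fusionSystemOfSubgroup H (S ⊓ H) inf_le_right).Hom (P'.map H.subtype) := by
    refine ⟨hPle, ?_, h, h.2, fun x => rfl⟩
    rintro ⟨_, x, hx, rfl⟩
    show (h : G) * (x : G) * (h : G)⁻¹ ∈ S ⊓ H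
    have h1 := hφ' ⟨x, hx⟩
    rw [hh] at h1
    exact ⟨h1, (h * x * h⁻¹).2⟩
  obtain ⟨ψ, ⟨hψle, hψS, k, hk, hkψ⟩, hψP, hψQ⟩ := hQ.2 _ _ hφ
  have hmap : ∀ y : H, y ∈ P' ⊔ Q.subgroupOf H → (y : G) ∈ P'.map H.subtype ⊔ Q := by
    intro y hy
    rw [← map_subtype_sup_subgroupOf P' hQH]
    exact ⟨y, hy, rfl⟩
  refine ⟨conjHom (P' ⊔ Q.subgroupOf H) ⟨k, hk⟩, ⟨?_, ?_, ⟨k, hk⟩, fun y => rfl⟩, ?_, ?_⟩
  · exact sup_le hP' (fun x hx => hQS hx)
  · intro y
    have h1 := hψS ⟨(y : H), hmap y y.2⟩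
    rw [hkψ] at h1
    exact h1.1
  · intro x
    apply Subtype.ext
    have h1 := hψP ⟨(x : H), ⟨x, x.2, rfl⟩⟩
    rw [hkψ] at h1
    rw [hh]
    exact h1
  · ext z
    constructor
    · rintro ⟨y, hy, rfl⟩
      have hyQ : ((y : H) : G) ∈ Q := hy
      have h1 : ψ ⟨((y : H) : G), hmap y y.2⟩ ∈ (Q.subgroupOf (P'.map H.subtype ⊔ Q)).map ψ :=
        ⟨_, hyQ, rfl⟩
      rw [hψQ, hkψ] at h1
      exact h1
    · intro hz
      have hz' : (z : G) ∈ Q := hz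
      obtain ⟨q, hq, hqz⟩ := hψQ.ge hz'
      have hqQ : (q : G) ∈ Q := hq
      rw [hkψ] at hqz
      have hqm : (⟨(q : G), hQH hqQ⟩ : H) ∈ P' ⊔ Q.subgroupOf H :=
        (le_sup_right : Q.subgroupOf H ≤ P' ⊔ Q.subgroupOf H) hqQ
      refine ⟨⟨⟨(q : G), hQH hqQ⟩, hqm⟩, hqQ, ?_⟩
      apply Subtype.ext
      exact hqz

/-- transport of centric subgroups of `F_{S ∩ H}(H)` to the ambient group `H` -/
theorem isCentric_subgroupOf_of_subgroupSys (S H : Subgroup G) {Q : Subgroup G}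
    (hQ : (fusionSystemOfSubgroup H (S ⊓ H) inf_le_right).IsCentric Q) :
    (groupFusionSystem (S.subgroupOf H)).IsCentric (Q.subgroupOf H) := by
  have hQS : Q ≤ S := hQ.1.trans inf_le_left
  have hQH : Q ≤ H := hQ.1.trans inf_le_right
  refine ⟨fun x hx => hQS hx, ?_⟩
  rintro R' ⟨φ', ⟨_, hφ', h, hh⟩, rfl⟩
  have hφ : conjHom Q (h : G) ∈ (fusionSystemOfSubgroup H (S ⊓ H) inf_le_right).Hom Q := by
    refine ⟨hQ.1, ?_, h, h.2, fun x => rfl⟩
    intro x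
    show (h : G) * (x : G) * (h : G)⁻¹ ∈ S ⊓ H
    have hx' : (⟨(x : G), hQH x.2⟩ : H) ∈ Q.subgroupOf H := x.2
    have h1 := hφ' ⟨_, hx'⟩
    rw [hh] at h1
    exact ⟨h1, (h * ⟨(x : G), hQH x.2⟩ * h⁻¹).2⟩
  have hcen := hQ.2 _ ⟨_, hφ, rfl⟩
  intro c hc
  have hcS : (c : G) ∈ S := hc.1
  have hcC : c ∈ Subgroup.centralizer ((φ'.range : Subgroup H) : Set H) := hc.2
  have h1 : (c : G) ∈ FusionSystem.centralizerIn (S ⊓ H) (conjHom Q (h : G)).range := by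
    refine Subgroup.mem_inf.2 ⟨⟨hcS, c.2⟩, ?_⟩
    rw [Subgroup.mem_centralizer_iff]
    rintro _ ⟨x, rfl⟩
    have hx' : (⟨(x : G), hQH x.2⟩ : H) ∈ Q.subgroupOf H := x.2
    have h2 := Subgroup.mem_centralizer_iff.1 hcC _ ⟨⟨_, hx'⟩, rfl⟩
    rw [hh] at h2
    exact congrArg Subtype.val h2
  obtain ⟨x, hx⟩ := hcen h1
  have hx' : (⟨(x : G), hQH x.2⟩ : H) ∈ Q.subgroupOf H := x.2
  refine ⟨⟨_, hx'⟩, ?_⟩
  rw [hh]
  apply Subtype.ext
  exact hx

end Cfsg.Agent.Lib.Helper29
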