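import Cfsg.Agent.Lib.Helper29.FactorSystemExists
import Cfsg.Agent.Lib.Helper29.InducedAut
import Cfsg.Agent.Lib.Helper29.KNormExt

set_option autoImplicit false
open Cfsg

namespace Cfsg.Agent.Lib.Helper29

variable {Ω : Type*} [Group Ω] {S : Subgroup Ω} {Ω' : Type*} [Group Ω'] {S' : Subgroup Ω'}

/-- kernel of `α`, as a subgroup of the ambient group -/
def kerSub (α : S →* Ω') : Subgroup Ω := α.ker.map S.subtype

theorem mem_kerSub_iff (α : S →* Ω') (s : S) : α s = 1 ↔ (s : Ω) ∈ kerSub α := by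
  constructor
  · intro h
    exact ⟨s, h, rfl⟩
  · rintro ⟨t, ht, hts⟩
    have : t = s := Subtype.ext hts
    rw [← this]
    exact ht

theorem kerSub_le (α : S →* Ω') : kerSub α ≤ S := by
  rintro _ ⟨t, _, rfl⟩
  exact t.2

theorem kerSub_stronglyClosed {F : FusionSystem S} {F' : FusionSystem S'} {α : S →* Ω'}
    (hα : F.IsMorphism F' α) : F.StronglyClosed (kerSub α) := by
  refine ⟨kerSub_le α, fun R hR φ hφ x => ?_⟩
  obtain ⟨φ', _, hP, hφS, hP', hind⟩ := hα.2 R φ hφ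
  have h1 : α ⟨x, hP x.2⟩ = 1 := (mem_kerSub_iff α _).2 (hR x.2)
  have h2 : (⟨α ⟨x, hP x.2⟩, hP' x⟩ : FusionSystem.imageAlong α R) = 1 := Subtype.ext h1
  have h3 := hind x
  rw [h2, map_one] at h3
  exact (mem_kerSub_iff α ⟨φ x, hφS x⟩).1 h3.symm

/-- the restriction of `α` to `Q`, onto its image -/
def projAlong (α : S →* Ω') {Q : Subgroup Ω} (hQS : Q ≤ S) : Q →* FusionSystem.imageAlong α Q :=
  (α.comp (Subgroup.inclusion hQS)).codRestrict _
    (fun x => mem_imageAlong.2 ⟨⟨x, hQS x.2⟩, x.2, rfl⟩)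

theorem projAlong_surjective (α : S →* Ω') {Q : Subgroup Ω} (hQS : Q ≤ S) :
    Function.Surjective (projAlong α hQS) := by
  intro y
  obtain ⟨x, hx, hxe⟩ := mem_imageAlong.1 y.2
  exact ⟨⟨x, hx⟩, Subtype.ext hxe⟩

theorem projAlong_eq_one_iff (α : S →* Ω') {Q : Subgroup Ω} (hQS : Q ≤ S) (x : Q) :
    projAlong α hQS x = 1 ↔ (x : Ω) ∈ kerSub α := by
  rw [← mem_kerSub_iff α ⟨x, hQS x.2⟩]
  constructor
  · intro h
    exact congrArg Subtype.val h
  · intro h
    exact Subtype.ext h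

theorem preimageAlong_imageAlong_of_le (α : S →* Ω') {Q : Subgroup Ω} (hQS : Q ≤ S)
    (hKQ : kerSub α ≤ Q) : FusionSystem.preimageAlong α (FusionSystem.imageAlong α Q) = Q := by
  rw [preimageAlong_imageAlong (kerSub_le α) (mem_kerSub_iff α) hQS]
  exact sup_eq_left.2 hKQ

theorem imageAlong_preimageAlong (α : S →* Ω') {P' : Subgroup Ω'} (hP' : P' ≤ α.range) :
    FusionSystem.imageAlong α (FusionSystem.preimageAlong α P') = P' := by
  apply le_antisymm
  · intro y hy
    obtain ⟨x, hx, rfl⟩ := mem_imageAlong.1 hy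
    exact (mem_preimageAlong.1 hx).2
  · intro y hy
    obtain ⟨s, rfl⟩ := hP' hy
    exact mem_imageAlong.2 ⟨s, mem_preimageAlong.2 ⟨s.2, hy⟩, rfl⟩

theorem kerSub_le_preimageAlong (α : S →* Ω') (P' : Subgroup Ω') :
    kerSub α ≤ FusionSystem.preimageAlong α P' := by
  intro x hx
  have hxS := kerSub_le α hx
  refine mem_preimageAlong.2 ⟨hxS, ?_⟩
  rw [(mem_kerSub_iff α ⟨x, hxS⟩).2 hx]
  exact P'.one_mem

/-- a map of `F` whose source contains the strongly closed `K` has `K` in its image -/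
theorem stronglyClosed_le_range [Finite S] (F : FusionSystem S) {K : Subgroup Ω}
    (hK : F.StronglyClosed K) {P : Subgroup Ω} (hKP : K ≤ P) {φ : P →* Ω} (hφ : φ ∈ F.Hom P) :
    K ≤ φ.range := by
  have hfinK : Finite K := finite_of_le hK.1
  let f : K → K := fun t' => ⟨φ ⟨t', hKP t'.2⟩, stronglyClosed_hom_mem F hK hφ _ t'.2⟩
  have hfinj : Function.Injective f := by
    intro a b hab
    have h1 : φ ⟨a, hKP a.2⟩ = φ ⟨b, hKP b.2⟩ := congrArg Subtype.val hab
    have h2 := F.injective_of_mem hφ h1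
    exact Subtype.ext (congrArg (fun z : P => (z : Ω)) h2)
  have hfsurj := Finite.injective_iff_surjective.1 hfinj
  intro t ht
  obtain ⟨t', ht'⟩ := hfsurj ⟨t, ht⟩
  exact ⟨⟨t', hKP t'.2⟩, congrArg Subtype.val ht'⟩

section image

variable [Finite S] {F : FusionSystem S} {F' : FusionSystem S'} {α : S →* Ω'}

theorem autGroup_le_kerStab (hα : F.IsMorphism F' α) {Q : Subgroup Ω} (hQS : Q ≤ S) :
    F.autGroup Q ≤ kerStab (projAlong α hQS) := by
  intro β hβ x
  rw [projAlong_eq_one_iff, projAlong_eq_one_iff]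
  have hK := kerSub_stronglyClosed hα
  constructor
  · intro hx
    exact stronglyClosed_hom_mem F hK ((mem_autGroup_iff F hQS).1 hβ) x hx
  · intro hx
    have h1 := stronglyClosed_hom_mem F hK
      ((mem_autGroup_iff F hQS).1 ((F.autGroup Q).inv_mem hβ)) (β x) hx
    have e : ((β⁻¹ (β x) : Q) : Ω) = x := by rw [MulAut.inv_apply_self]
    rw [← e]
    exact h1

/-- the homomorphism `Aut_F(Q) → Aut(α(Q))` -/
noncomputable def autImageHom (hα : F.IsMorphism F' α) {Q : Subgroup Ω} (hQS : Q ≤ S) :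
    ↥(F.autGroup Q) →* MulAut ↥(FusionSystem.imageAlong α Q) :=
  (indHom (projAlong_surjective α hQS)).comp (Subgroup.inclusion (autGroup_le_kerStab hα hQS))

theorem autImageHom_apply (hα : F.IsMorphism F' α) {Q : Subgroup Ω} (hQS : Q ≤ S)
    (β : F.autGroup Q) (x : Q) :
    ((autImageHom hα hQS β (projAlong α hQS x) : FusionSystem.imageAlong α Q) : Ω') =
      α ⟨((β : MulAut Q) x : Q), hQS ((β : MulAut Q) x).2⟩ := by
  have h := indHom_apply (projAlong_surjective α hQS)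
    (Subgroup.inclusion (autGroup_le_kerStab hα hQS) β) x
  exact congrArg Subtype.val h

theorem imageAlong_le (hα : F.IsMorphism F' α) (Q : Subgroup Ω) :
    FusionSystem.imageAlong α Q ≤ S' := by
  intro y hy
  obtain ⟨x, _, rfl⟩ := mem_imageAlong.1 hy
  exact hα.1 x

/-- `Aut_{F'}(α(Q))` is the image of `Aut_F(Q)` when `Q` contains the kernel -/
theorem autGroup_image_eq_range (hα : F.IsSurjectiveMorphism F' α) {Q : Subgroup Ω} (hQS : Q ≤ S)
    (hKQ : kerSub α ≤ Q) :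
    F'.autGroup (FusionSystem.imageAlong α Q) = (autImageHom hα.1 hQS).range := by
  have hQ'S' := imageAlong_le hα.1 Q
  have hfinQ : Finite Q := finite_of_le hQS
  have heq := preimageAlong_imageAlong_of_le α hQS hKQ
  ext β'
  rw [mem_autGroup_iff F' hQ'S']
  constructor
  · intro h
    obtain ⟨φ, hφ, hP, hφS, hP', hind⟩ := hα.2.2 _ hQ'S' _ h
    have hφ₁ : φ.comp (Subgroup.inclusion heq.ge) ∈ F.Hom Q := hom_cast_mem F heq.symm hφ
    have hval : ∀ x : Q, (φ.comp (Subgroup.inclusion heq.ge)) x ∈ Q := by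
      intro x
      apply heq.le
      refine mem_preimageAlong.2 ⟨hφS _, ?_⟩
      have h1 := hind (Subgroup.inclusion heq.ge x)
      have h2 : α ⟨φ (Subgroup.inclusion heq.ge x), hφS _⟩ ∈ FusionSystem.imageAlong α Q := by
        rw [← h1]
        exact (β' _).2
      exact h2
    obtain ⟨β, hβ, hβe⟩ := exists_aut_of_hom F hφ₁ hval
    refine ⟨⟨β, hβ⟩, ?_⟩
    ext y
    obtain ⟨x, rfl⟩ := projAlong_surjective α hQS y
    rw [autImageHom_apply]
    have h1 := hind (Subgroup.inclusion heq.ge x)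
    have h2 : ((β' (projAlong α hQS x) : FusionSystem.imageAlong α Q) : Ω') =
        α ⟨φ (Subgroup.inclusion heq.ge x), hφS _⟩ := h1
    rw [h2]
    congr 1
    exact Subtype.ext (hβe x)
  · rintro ⟨β, rfl⟩
    have hβF := (mem_autGroup_iff F hQS).1 β.2
    obtain ⟨φ', hφ', hP, hφS, hP', hind⟩ := hα.1.2 Q _ hβF
    have : φ' = (FusionSystem.imageAlong α Q).subtype.comp (autImageHom hα.1 hQS β).toMonoidHom := by
      ext y
      obtain ⟨x, rfl⟩ := projAlong_surjective α hQS y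
      have h1 := hind x
      show φ' (projAlong α hQS x) = ((autImageHom hα.1 hQS β (projAlong α hQS x) : _) : Ω')
      rw [autImageHom_apply]
      exact h1
    rw [← this]
    exact hφ'

/-- `Aut_{S'}(α(Q))` is the image of `Aut_S(Q)` when `Q` contains the kernel -/
theorem autInducedBy_image_eq_map (hα : F.IsSurjectiveMorphism F' α) {Q : Subgroup Ω} (hQS : Q ≤ S)
    (hKQ : kerSub α ≤ Q) :
    autInducedBy S' (FusionSystem.imageAlong α Q) =
      ((autInducedBy S Q).subgroupOf (F.autGroup Q)).map (autImageHom hα.1 hQS) := by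
  have hfinQ : Finite Q := finite_of_le hQS
  have heq := preimageAlong_imageAlong_of_le α hQS hKQ
  apply le_antisymm
  · unfold autInducedBy
    rw [Subgroup.closure_le]
    rintro β' ⟨g', hg', hβ'⟩
    have hg'r : g' ∈ α.range := hα.2.1.ge hg'
    obtain ⟨s, rfl⟩ := hg'r
    have hsN : (s : Ω) ∈ Subgroup.normalizer (Q : Set Ω) := by
      apply mem_normalizer_of_conj_le'
      intro x hx
      apply heq.le
      have hxS : (s : Ω) * x * (s : Ω)⁻¹ ∈ S := S.mul_mem (S.mul_mem s.2 (hQS hx)) (S.inv_mem s.2)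
      refine mem_preimageAlong.2 ⟨hxS, ?_⟩
      have h1 : α ⟨(s : Ω) * x * (s : Ω)⁻¹, hxS⟩ = α s * α ⟨x, hQS hx⟩ * (α s)⁻¹ := by
        rw [← map_inv, ← map_mul, ← map_mul]
        rfl
      rw [h1]
      have h2 := hβ' (projAlong α hQS ⟨x, hx⟩)
      have h3 : α s * α ⟨x, hQS hx⟩ * (α s)⁻¹ =
          ((β' (projAlong α hQS ⟨x, hx⟩) : FusionSystem.imageAlong α Q) : Ω') := h2.symm
      rw [h3]
      exact (β' _).2
    have hcS : Q.normalizerMonoidHom ⟨s, hsN⟩ ∈ autInducedBy S Q := by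
      rw [autInducedBy_eq_map]
      exact ⟨⟨s, hsN⟩, s.2, rfl⟩
    have hcF : Q.normalizerMonoidHom ⟨s, hsN⟩ ∈ F.autGroup Q := autInducedBy_le_autGroup F hQS hcS
    refine ⟨⟨_, hcF⟩, Subgroup.mem_subgroupOf.2 hcS, ?_⟩
    ext y
    obtain ⟨x, rfl⟩ := projAlong_surjective α hQS y
    rw [autImageHom_apply, hβ']
    show α ⟨(s : Ω) * x * (s : Ω)⁻¹, _⟩ = α s * α ⟨x, hQS x.2⟩ * (α s)⁻¹
    rw [← map_inv, ← map_mul, ← map_mul]
    rfl
  · rintro _ ⟨β, hβ, rfl⟩
    have hβS : (β : MulAut Q) ∈ autInducedBy S Q := Subgroup.mem_subgroupOf.1 hβ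
    rw [autInducedBy_eq_map] at hβS
    obtain ⟨n, hnS, hnβ⟩ := hβS
    apply Subgroup.subset_closure
    refine ⟨α ⟨n, hnS⟩, hα.1.1 _, fun y => ?_⟩
    obtain ⟨x, rfl⟩ := projAlong_surjective α hQS y
    rw [autImageHom_apply]
    have h1 : ((β : MulAut Q) x : Q) = Q.normalizerMonoidHom n x := by rw [hnβ]
    have h2 : (⟨(((β : MulAut Q) x : Q) : Ω), hQS ((β : MulAut Q) x).2⟩ : S) =
        ⟨n, hnS⟩ * ⟨x, hQS x.2⟩ * ⟨n, hnS⟩⁻¹ := by
      apply Subtype.ext
      rw [h1]
      rfl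
    rw [h2, map_mul, map_mul, map_inv]
    rfl

/-- the image of a fully automized subgroup containing the kernel is fully automized -/
theorem fullyAutomized_image {p : ℕ} [Fact p.Prime] (hα : F.IsSurjectiveMorphism F' α)
    {Q : Subgroup Ω} (hKQ : kerSub α ≤ Q) (hfa : F.IsFullyAutomized p Q) :
    F'.IsFullyAutomized p (FusionSystem.imageAlong α Q) := by
  have hQS := hfa.1
  have hfinQ : Finite Q := finite_of_le hQS
  refine ⟨imageAlong_le hα.1 Q, ?_⟩
  obtain ⟨Sy, hSy⟩ := hfa.2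
  have key : ∀ A B : Subgroup (MulAut ↥(FusionSystem.imageAlong α Q)),
      A = (autImageHom hα.1 hQS).range →
      B = ((autInducedBy S Q).subgroupOf (F.autGroup Q)).map (autImageHom hα.1 hQS) →
      ∃ R : Sylow p ↥A, (R : Subgroup ↥A) = B.subgroupOf A := by
    rintro _ _ rfl rfl
    rw [← hSy]
    exact exists_sylow_range (autImageHom hα.1 hQS) Sy
  exact key _ _ (autGroup_image_eq_range hα hQS hKQ) (autInducedBy_image_eq_map hα hQS hKQ)

end image

end Cfsg.Agent.Lib.Helper29
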