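import Mathlib

/-!
Group-theoretic part of Tate's theorem: a normal subgroup `T` of a `p`-group all of whose invariant
characters extend (up to a power prime to `p`) and with `T ≤ Φ(G) U` satisfies `T ≤ U`.
-/
set_option autoImplicit false

namespace Cfsg.Agent.Lib.Helper29

open scoped commutatorElement

section Nilp
variable {G : Type*} [Group G]

theorem commutator_sup_le (U L : Subgroup G) [U.Normal] : ⁅U ⊔ L, (⊤ : Subgroup G)⁆ ≤ U ⊔ ⁅L, (⊤ : Subgroup G)⁆ := by
  rw [Subgroup.commutator_le]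
  intro a ha g _
  have ha' : a ∈ ((U ⊔ L : Subgroup G) : Set G) := ha
  rw [Subgroup.normal_mul] at ha'
  obtain ⟨u, hu, l, hl, rfl⟩ := ha'
  have e : ⁅u * l, g⁆ = u * ⁅l, g⁆ * (g * u⁻¹ * g⁻¹) := by
    rw [commutatorElement_def, commutatorElement_def]
    group
  rw [e]
  have h1 : u ∈ U ⊔ ⁅L, (⊤ : Subgroup G)⁆ := (le_sup_left : U ≤ _) hu
  have h2 : ⁅l, g⁆ ∈ U ⊔ ⁅L, (⊤ : Subgroup G)⁆ :=
    (le_sup_right : ⁅L, (⊤ : Subgroup G)⁆ ≤ _) (Subgroup.commutator_mem_commutator hl (Subgroup.mem_top g))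
  have h3 : g * u⁻¹ * g⁻¹ ∈ U ⊔ ⁅L, (⊤ : Subgroup G)⁆ :=
    (le_sup_left : U ≤ _) (‹U.Normal›.conj_mem _ (U.inv_mem hu) g)
  exact Subgroup.mul_mem _ (Subgroup.mul_mem _ h1 h2) h3

/-- in a nilpotent group, `T ≤ U [T, G]` with `U` normal forces `T ≤ U` -/
theorem le_of_le_sup_commutator [Group.IsNilpotent G] (T U : Subgroup G) [U.Normal]
    (h : T ≤ U ⊔ ⁅T, (⊤ : Subgroup G)⁆) : T ≤ U := by
  obtain ⟨n, hn⟩ := Subgroup.nilpotent_iff_lowerCentralSeries.1 (inferInstance : Group.IsNilpotent G)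
  have key : ∀ k, T ≤ U ⊔ Subgroup.lowerCentralSeries (⊤ : Subgroup G) k := by
    intro k
    induction k with
    | zero =>
      rw [Subgroup.lowerCentralSeries_zero]
      exact le_trans le_top le_sup_right
    | succ k ih =>
      rw [Subgroup.lowerCentralSeries_succ]
      refine h.trans (sup_le le_sup_left ?_)
      refine (Subgroup.commutator_mono ih le_rfl).trans ?_
      exact commutator_sup_le U _
  have := key n
  rwa [hn, sup_bot_eq] at this

end Nilp

section PowInj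
variable {Z : Type*} [CommGroup Z]

theorem eq_one_of_zpow_eq_one {p : ℕ} [Fact p.Prime] (hZ : IsPGroup p Z) {n : ℤ} (hn : ¬ (p : ℤ) ∣ n)
    {x : Z} (h : x ^ n = 1) : x = 1 := by
  obtain ⟨k, hk⟩ := hZ x
  have hd1 : orderOf x ∣ p ^ k := orderOf_dvd_of_pow_eq_one hk
  have hd2 : (orderOf x : ℤ) ∣ n := orderOf_dvd_iff_zpow_eq_one.2 h
  obtain ⟨j, _, hj⟩ := (Nat.dvd_prime_pow (Fact.out : p.Prime)).1 hd1
  have hj0 : j = 0 := by
    by_contra hne
    apply hn
    refine dvd_trans ?_ hd2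
    rw [hj]
    push_cast
    exact dvd_pow_self _ hne
  rw [hj0, pow_zero, orderOf_eq_one_iff] at hj
  exact hj

theorem zpow_surjective_of_isPGroup [Finite Z] {p : ℕ} [Fact p.Prime] (hZ : IsPGroup p Z) {n : ℤ}
    (hn : ¬ (p : ℤ) ∣ n) : Function.Surjective (fun x : Z => x ^ n) := by
  apply Finite.surjective_of_injective
  intro x y hxy
  have h1 : (x * y⁻¹) ^ n = 1 := by
    rw [mul_zpow, inv_zpow]
    show x ^ n * (y ^ n)⁻¹ = 1
    have : x ^ n = y ^ n := hxy
    rw [this, mul_inv_cancel]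
  have h2 := eq_one_of_zpow_eq_one hZ hn h1
  exact mul_inv_eq_one.1 h2

end PowInj

section Main
universe u
variable {G : Type u} [Group G] [Finite G]

/-- **Group-theoretic core of Tate's theorem.** -/
theorem le_of_extension_property (p : ℕ) [Fact p.Prime] (hG : IsPGroup p G) (T U : Subgroup G)
    [T.Normal] [U.Normal] (hUT : U ≤ T) (hTU : T ≤ frattini G ⊔ U)
    (hext : ∀ (Z : Type u) [CommGroup Z] (μ : G → Z), (∀ x ∈ T, ∀ y ∈ T, μ (x * y) = μ x * μ y) →
      (∀ a z, μ (a⁻¹ * z * a) = μ z) →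
      ∃ (v : G →* Z) (n : ℤ), ¬ (p : ℤ) ∣ n ∧ ∀ t ∈ T, v t = μ t ^ n) : T ≤ U := by
  classical
  haveI : Group.IsNilpotent G := hG.isNilpotent
  apply le_of_le_sup_commutator T U
  set N : Subgroup G := U ⊔ ⁅T, (⊤ : Subgroup G)⁆ with hN
  have hcomT : ⁅T, (⊤ : Subgroup G)⁆ ≤ T := Subgroup.commutator_le_left T ⊤
  have hNT : N ≤ T := sup_le hUT hcomT
  haveI hNn : N.Normal := by rw [hN]; infer_instance
  haveI : (N.subgroupOf T).Normal := inferInstance
  -- the abelian quotient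
  have hcomm : ∀ a b : T ⧸ N.subgroupOf T, a * b = b * a := by
    intro a b
    induction a using QuotientGroup.induction_on with
    | H a =>
      induction b using QuotientGroup.induction_on with
      | H b =>
        rw [← QuotientGroup.mk_mul, ← QuotientGroup.mk_mul, QuotientGroup.eq, Subgroup.mem_subgroupOf]
        apply (le_sup_right : ⁅T, (⊤ : Subgroup G)⁆ ≤ N)
        have h1 : ⁅(b : G)⁻¹, (a : G)⁻¹⁆ ∈ ⁅T, (⊤ : Subgroup G)⁆ :=
          Subgroup.commutator_mem_commutator (T.inv_mem b.2) (Subgroup.mem_top _)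
        have e : (((a * b)⁻¹ * (b * a) : T) : G) = ⁅(b : G)⁻¹, (a : G)⁻¹⁆ := by
          rw [commutatorElement_def]
          push_cast
          group
        rw [e]
        exact h1
  letI : CommGroup (T ⧸ N.subgroupOf T) :=
    { (inferInstance : Group (T ⧸ N.subgroupOf T)) with mul_comm := hcomm }
  set μ : G → T ⧸ N.subgroupOf T := fun x => if h : x ∈ T then ((⟨x, h⟩ : T) : T ⧸ N.subgroupOf T) else 1
    with hμ
  have hμT : ∀ (x : G) (h : x ∈ T), μ x = ((⟨x, h⟩ : T) : T ⧸ N.subgroupOf T) := by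
    intro x h
    rw [hμ]
    simp only
    rw [dif_pos h]
  have hμ1 : ∀ x ∈ T, ∀ y ∈ T, μ (x * y) = μ x * μ y := by
    intro x hx y hy
    rw [hμT x hx, hμT y hy, hμT (x * y) (T.mul_mem hx hy)]
    rfl
  have hμ2 : ∀ a z, μ (a⁻¹ * z * a) = μ z := by
    intro a z
    by_cases hz : z ∈ T
    · have hz' : a⁻¹ * z * a ∈ T := by
        have := ‹T.Normal›.conj_mem z hz a⁻¹
        rwa [inv_inv] at this
      rw [hμT z hz, hμT _ hz', QuotientGroup.eq, Subgroup.mem_subgroupOf]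
      apply (le_sup_right : ⁅T, (⊤ : Subgroup G)⁆ ≤ N)
      have h1 : ⁅z⁻¹, a⁻¹⁆⁻¹ ∈ ⁅T, (⊤ : Subgroup G)⁆ :=
        Subgroup.inv_mem _ (Subgroup.commutator_mem_commutator (T.inv_mem hz) (Subgroup.mem_top _))
      have e : (((⟨a⁻¹ * z * a, hz'⟩ : T)⁻¹ * (⟨z, hz⟩ : T) : T) : G) = ⁅z⁻¹, a⁻¹⁆⁻¹ := by
        rw [commutatorElement_def]
        push_cast
        group
      rw [e]
      exact h1
    · have hz' : a⁻¹ * z * a ∉ T := by
        intro h
        apply hz
        have := ‹T.Normal›.conj_mem _ h a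
        have e : a * (a⁻¹ * z * a) * a⁻¹ = z := by group
        rwa [e] at this
      rw [hμ]
      simp only
      rw [dif_neg hz, dif_neg hz']
  obtain ⟨v, n, hn, hv⟩ := hext (T ⧸ N.subgroupOf T) μ hμ1 hμ2
  have hZ : IsPGroup p (T ⧸ N.subgroupOf T) := (hG.to_subgroup T).to_quotient _
  haveI : Finite (T ⧸ N.subgroupOf T) := inferInstance
  -- every element of the quotient is a value of `v` on `T`
  have hsurjT : ∀ z : T ⧸ N.subgroupOf T, ∃ t ∈ T, v t = z := by
    intro z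
    obtain ⟨w, hw⟩ := zpow_surjective_of_isPGroup hZ hn z
    induction w using QuotientGroup.induction_on with
    | H t =>
      refine ⟨t, t.2, ?_⟩
      rw [hv t t.2, hμT t t.2]
      exact hw
  have hsurj : Function.Surjective v := fun z => by
    obtain ⟨t, _, ht⟩ := hsurjT z
    exact ⟨t, ht⟩
  have hfr := frattini_le_comap_frattini_of_surjective hsurj
  have htop : frattini (T ⧸ N.subgroupOf T) = ⊤ := by
    rw [eq_top_iff]
    intro z _
    obtain ⟨t, ht, rfl⟩ := hsurjT z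
    have ht' : t ∈ ((frattini G ⊔ U : Subgroup G) : Set G) := hTU ht
    rw [Subgroup.normal_mul] at ht'
    obtain ⟨f, hf, u, hu, rfl⟩ := ht'
    have hvu : v u = 1 := by
      rw [hv u (hUT hu), hμT u (hUT hu)]
      have : ((⟨u, hUT hu⟩ : T) : T ⧸ N.subgroupOf T) = 1 := by
        rw [QuotientGroup.eq_one_iff, Subgroup.mem_subgroupOf]
        exact (le_sup_left : U ≤ N) hu
      rw [this, one_zpow]
    rw [map_mul, hvu, mul_one]
    exact hfr hf
  have hbot : (⊥ : Subgroup (T ⧸ N.subgroupOf T)) = ⊤ := by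
    apply frattini_nongenerating
    rw [bot_sup_eq, htop]
  intro t ht
  have h1 : ((⟨t, ht⟩ : T) : T ⧸ N.subgroupOf T) ∈ (⊥ : Subgroup (T ⧸ N.subgroupOf T)) := by
    rw [hbot]
    exact Subgroup.mem_top _
  rw [Subgroup.mem_bot, QuotientGroup.eq_one_iff, Subgroup.mem_subgroupOf] at h1
  exact h1

end Main

end Cfsg.Agent.Lib.Helper29
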