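import Cfsg.Agent.Lib.Helper29.BisetTate
import Cfsg.Agent.Lib.Helper29.TateGroup

/-!
Tate's theorem for saturated fusion systems: the hyperfocal subgroup is contained in any
`S`-invariant subgroup `U` of it with `hyp(F) ≤ Φ(S) U`.
-/
set_option autoImplicit false
open Cfsg

namespace Cfsg.Agent.Lib.Helper29

universe u
variable {Ω : Type u} [Group Ω] {S : Subgroup Ω}

theorem subgroupOf_map_subtype_self (K : Subgroup S) : (K.map S.subtype).subgroupOf S = K := by
  ext x
  rw [Subgroup.mem_subgroupOf]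
  constructor
  · rintro ⟨y, hy, hyx⟩
    have : y = x := Subtype.ext hyx
    rwa [← this]
  · intro hx
    exact ⟨x, hx, rfl⟩

theorem hyperfocal_le_of_frattini [Finite S] (p : ℕ) [Fact p.Prime] (hS : IsPGroup p S)
    (F : FusionSystem S) (hF : F.IsSaturated p) (U : Subgroup Ω) (hUT : U ≤ F.hyperfocalSubgroup p)
    (hUn : ∀ s ∈ S, ∀ u ∈ U, s * u * s⁻¹ ∈ U)
    (h : F.hyperfocalSubgroup p ≤ (frattini S).map S.subtype ⊔ U) : F.hyperfocalSubgroup p ≤ U := by
  have hTS : F.hyperfocalSubgroup p ≤ S := hyperfocal_le F p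
  have hUS : U ≤ S := hUT.trans hTS
  haveI hTn : ((F.hyperfocalSubgroup p).subgroupOf S).Normal := by
    constructor
    intro t ht a
    rw [Subgroup.mem_subgroupOf] at ht ⊢
    exact conj_mem_hyperfocal F p a.2 _ ht
  haveI hUn' : (U.subgroupOf S).Normal := by
    constructor
    intro t ht a
    rw [Subgroup.mem_subgroupOf] at ht ⊢
    exact hUn a a.2 _ ht
  have hUT' : U.subgroupOf S ≤ (F.hyperfocalSubgroup p).subgroupOf S := by
    intro x hx
    rw [Subgroup.mem_subgroupOf] at hx ⊢
    exact hUT hx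
  have hTU' : (F.hyperfocalSubgroup p).subgroupOf S ≤ frattini S ⊔ U.subgroupOf S := by
    have hΦS : (frattini S).map S.subtype ≤ S := by
      rintro _ ⟨y, _, rfl⟩
      exact y.2
    have e := Subgroup.subgroupOf_sup hΦS hUS
    rw [subgroupOf_map_subtype_self] at e
    rw [← e]
    intro x hx
    rw [Subgroup.mem_subgroupOf] at hx ⊢
    exact h hx
  have key := le_of_extension_property p hS ((F.hyperfocalSubgroup p).subgroupOf S) (U.subgroupOf S)
    hUT' hTU' (fun Z _ μ hμ1 hμ2 => tate_core p hS F hF μ hμ1 hμ2)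
  intro t ht
  have : (⟨t, hTS ht⟩ : S) ∈ (F.hyperfocalSubgroup p).subgroupOf S := ht
  exact key this

end Cfsg.Agent.Lib.Helper29
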