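import Mathlib

/-!
The transfer computed from an arbitrary section of the quotient map, and the transitivity of the
transfer.
-/
set_option autoImplicit false

namespace Cfsg.Agent.Lib.Helper29

open Subgroup Subgroup.leftTransversals MulAction

section TransferSection
variable {G : Type*} [Group G] {H : Subgroup G} {A : Type*} [CommGroup A]

theorem section_conj_mem (f : G ⧸ H → G) (hf : ∀ q, (f q : G ⧸ H) = q) (g : G) (q : G ⧸ H) :
    (f q)⁻¹ * g * f (g⁻¹ • q) ∈ H := by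
  rw [mul_assoc, ← QuotientGroup.eq, ← smul_eq_mul g, ← MulAction.Quotient.smul_mk, hf, hf, smul_inv_smul]

/-- the transfer, computed from an arbitrary section of the quotient map -/
theorem transfer_eq_prod_section [H.FiniteIndex] (ϕ : H →* A) (κ : G → A) (hκ : ∀ h : H, ϕ h = κ h)
    (f : G ⧸ H → G) (hf : ∀ q, (f q : G ⧸ H) = q) (g : G) :
    MonoidHom.transfer ϕ g = ∏ᶠ q : G ⧸ H, κ ((f q)⁻¹ * g * f (g⁻¹ • q)) := by
  classical
  letI := H.fintypeQuotientOfFiniteIndex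
  rw [MonoidHom.transfer_def ϕ ⟨Set.range f, isComplement_range_left hf⟩ g, finprod_eq_prod_of_fintype]
  unfold Subgroup.leftTransversals.diff
  apply Finset.prod_congr rfl
  intro q _
  rw [hκ]
  congr 1
  show ((IsComplement.leftQuotientEquiv (isComplement_range_left hf) q : G))⁻¹ *
      ((g • (⟨Set.range f, isComplement_range_left hf⟩ : H.LeftTransversal)).2.leftQuotientEquiv q : G) = _
  rw [smul_apply_eq_smul_apply_inv_smul, IsComplement.leftQuotientEquiv_apply hf]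
  show (f q)⁻¹ * (g • (IsComplement.leftQuotientEquiv (isComplement_range_left hf) (g⁻¹ • q) : G)) = _
  rw [IsComplement.leftQuotientEquiv_apply hf, smul_eq_mul, mul_assoc]

end TransferSection

section TransferTrans
variable {G : Type*} [Group G] {A : Type*} [CommGroup A]

theorem quotientEquivProd_symm_mk {K H : Subgroup G} (hKH : K ≤ H) (f₁ : G ⧸ H → G)
    (hf₁ : Function.RightInverse f₁ QuotientGroup.mk) (c : G ⧸ H) (b : H) :
    (Subgroup.quotientEquivProdOfLE' hKH f₁ hf₁).symm (c, (b : H ⧸ K.subgroupOf H)) =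
      ((f₁ c * (b : G) : G) : G ⧸ K) := by
  rw [Subgroup.quotientEquivProdOfLE'_symm_apply]
  rfl

/-- **Transitivity of the transfer.** -/
theorem transfer_trans [Finite G] {K H : Subgroup G} (hKH : K ≤ H) (ϕ : K →* A)
    (ϕ' : K.subgroupOf H →* A) (hϕ : ∀ k : K.subgroupOf H, ϕ' k = ϕ ⟨((k : H) : G), k.2⟩) (g : G) :
    MonoidHom.transfer ϕ g = MonoidHom.transfer (MonoidHom.transfer ϕ') g := by
  classical
  letI : Fintype (G ⧸ H) := Fintype.ofFinite _
  letI : Fintype (G ⧸ K) := Fintype.ofFinite _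
  letI : Fintype (H ⧸ K.subgroupOf H) := Fintype.ofFinite _
  set κ : G → A := fun x => if h : x ∈ K then ϕ ⟨x, h⟩ else 1 with hκdef
  have hκ : ∀ k : K, ϕ k = κ k := by
    intro k
    rw [hκdef]
    simp only
    rw [dif_pos k.2]
  set f₁ : G ⧸ H → G := Quotient.out with hf₁def
  have hf₁ : ∀ c, (f₁ c : G ⧸ H) = c := fun c => QuotientGroup.out_eq' c
  set f₂ : H ⧸ K.subgroupOf H → H := Quotient.out with hf₂def
  have hf₂ : ∀ c, (f₂ c : H ⧸ K.subgroupOf H) = c := fun c => QuotientGroup.out_eq' c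
  set μ : H →* A := MonoidHom.transfer ϕ' with hμdef
  set μ' : G → A := fun x => if h : x ∈ H then μ ⟨x, h⟩ else 1 with hμ'def
  have hμ' : ∀ h : H, μ h = μ' h := by
    intro h
    rw [hμ'def]
    simp only
    rw [dif_pos h.2]
  have hκ' : ∀ k : K.subgroupOf H, ϕ' k = (fun h : H => κ (h : G)) k := by
    intro k
    rw [hϕ, hκ]
  set e := Subgroup.quotientEquivProdOfLE' hKH f₁ hf₁ with hedef
  set F : G ⧸ K → G := fun q => f₁ (e q).1 * (f₂ (e q).2 : G) with hFdef
  have hsymm : ∀ (c : G ⧸ H) (q' : H ⧸ K.subgroupOf H),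
      e.symm (c, q') = ((f₁ c * (f₂ q' : G) : G) : G ⧸ K) := by
    intro c q'
    conv_lhs => rw [← hf₂ q']
    exact quotientEquivProd_symm_mk hKH f₁ hf₁ c (f₂ q')
  have hF : ∀ q, (F q : G ⧸ K) = q := by
    intro q
    rw [hFdef]
    simp only
    rw [← hsymm, Prod.mk.eta, Equiv.symm_apply_apply]
  rw [transfer_eq_prod_section ϕ κ hκ F hF g, transfer_eq_prod_section μ μ' hμ' f₁ hf₁ g,
    finprod_eq_prod_of_fintype, finprod_eq_prod_of_fintype, ← e.symm.prod_comp, Fintype.prod_prod_type]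
  apply Finset.prod_congr rfl
  intro c _
  have hc := section_conj_mem f₁ hf₁ g c
  rw [← hμ' ⟨_, hc⟩, hμdef, transfer_eq_prod_section ϕ' (fun h : H => κ (h : G)) hκ' f₂ hf₂,
    finprod_eq_prod_of_fintype]
  apply Finset.prod_congr rfl
  intro q' _
  set hcc : H := ⟨(f₁ c)⁻¹ * g * f₁ (g⁻¹ • c), hc⟩ with hccdef
  have hz := section_conj_mem f₂ hf₂ hcc q'
  have h2 : g⁻¹ • e.symm (c, q') = e.symm (g⁻¹ • c, hcc⁻¹ • q') := by
    rw [hsymm, hsymm, MulAction.Quotient.smul_mk, QuotientGroup.eq]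
    have hz' : (((f₂ q')⁻¹ * hcc * f₂ (hcc⁻¹ • q') : H) : G) ∈ K := hz
    have e1 : (g⁻¹ • (f₁ c * (f₂ q' : G)))⁻¹ * (f₁ (g⁻¹ • c) * (f₂ (hcc⁻¹ • q') : G)) =
        (((f₂ q')⁻¹ * hcc * f₂ (hcc⁻¹ • q') : H) : G) := by
      rw [hccdef]
      simp only [smul_eq_mul, Subgroup.coe_mul, Subgroup.coe_inv]
      group
    rw [e1]
    exact hz'
  show κ ((F (e.symm (c, q')))⁻¹ * g * F (g⁻¹ • e.symm (c, q'))) = κ (((f₂ q')⁻¹ * hcc * f₂ (hcc⁻¹ • q') : H) : G)
  congr 1
  rw [h2, hFdef]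
  simp only [Equiv.apply_symm_apply]
  rw [hccdef]
  simp only [Subgroup.coe_mul, Subgroup.coe_inv]
  group

end TransferTrans

end Cfsg.Agent.Lib.Helper29
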