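import Cfsg.Agent.Lib.Helper29.AlperinFiltered
import Cfsg.Agent.Lib.Helper29.FusionNormal
import Cfsg.Agent.Lib.Helper29.SecondCenter
import Cfsg.Agent.Lib.Helper29.GTCentric

/-!
Control of weak closure of elements: subgroups whose automizer moves a given subgroup of `Z(S)`.
-/
set_option autoImplicit false
universe u

namespace Cfsg.Agent.Lib.Helper29

open Cfsg

variable {Ω : Type u} [Group Ω] {S : Subgroup Ω}

/-- some automorphism of `R` in the system moves an element of `Z ≤ R` -/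
def BadZ (F : FusionSystem S) (Z R : Subgroup Ω) : Prop :=
  R ≤ S ∧ Z ≤ R ∧ ∃ β ∈ F.autGroup R, ∃ x : R, (x : Ω) ∈ Z ∧ β x ≠ x

/-- an automorphism of `U` stabilising `W'` and moving `Z ≤ W'` gives a bad automorphism of `W'` -/
theorem badZ_of_stab [Finite S] (F : FusionSystem S) {Z U W' : Subgroup Ω} (hUS : U ≤ S)
    (hW'U : W' ≤ U) (hZW' : Z ≤ W') {β : MulAut U} (hβ : β ∈ F.autGroup U)
    (hβs : β ∈ stabSub U W') {x : U} (hxZ : (x : Ω) ∈ Z) (hx : β x ≠ x) : BadZ F Z W' := by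
  refine ⟨hW'U.trans hUS, hZW', resAut hW'U ⟨β, hβs⟩, resAut_mem_autGroup_gt F hW'U hUS ⟨β, hβs⟩ hβ,
    ⟨x, hZW' hxZ⟩, hxZ, ?_⟩
  intro h
  apply hx
  apply Subtype.ext
  have h1 := congrArg Subtype.val h
  rw [resAut_apply_coe] at h1
  exact h1

/-- maps of the centraliser-type subsystem fix `Z` -/
theorem relSys_cent_fix (F : FusionSystem S) {Z : Subgroup Ω} (hZS : Z ≤ S)
    (hZc : ∀ g ∈ S, ∀ x ∈ Z, g * x * g⁻¹ = x) {A : Subgroup Ω} {φ : A →* Ω}
    (hφ : φ ∈ (relSys F hZS (centData hZc)).Hom A) (x : A) (hx : (x : Ω) ∈ Z) : φ x = x := by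
  obtain ⟨_, ψ, _, hψP, hψK⟩ := hφ
  have hψK' : ψ.comp (Subgroup.inclusion (le_sup_right : Z ≤ A ⊔ Z)) = Z.subtype := hψK
  have h1 := hψP x
  have h2 := congrArg (fun f => f ⟨(x : Ω), hx⟩) hψK'
  have e : Subgroup.inclusion (le_sup_left : A ≤ A ⊔ Z) x =
      Subgroup.inclusion (le_sup_right : Z ≤ A ⊔ Z) ⟨x, hx⟩ := Subtype.ext rfl
  rw [← h1, e]
  exact h2

theorem autGroup_le_relSys_cent [Finite S] (F : FusionSystem S) {Z : Subgroup Ω} (hZS : Z ≤ S)
    (hZc : ∀ g ∈ S, ∀ x ∈ Z, g * x * g⁻¹ = x) {P : Subgroup Ω} (hPS : P ≤ S) (hZP : Z ≤ P)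
    (hfix : ∀ α ∈ F.autGroup P, ∀ x : P, (x : Ω) ∈ Z → α x = x) :
    F.autGroup P ≤ (relSys F hZS (centData hZc)).autGroup P := by
  intro α hα
  have hfix := hfix α hα
  rw [mem_autGroup_iff _ hPS]
  rw [mem_autGroup_iff F hPS] at hα
  have hsup : P ⊔ Z ≤ P := sup_le le_rfl hZP
  refine ⟨hα, (P.subtype.comp α.toMonoidHom).comp (Subgroup.inclusion hsup),
    restrict_mem F hsup hα, fun x => rfl, ?_⟩
  show _ = Z.subtype
  ext x
  have := hfix ⟨x, hZP x.2⟩ x.2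
  exact congrArg Subtype.val this

/-- `Z` lies in every subgroup that contains its centraliser -/
theorem le_of_centric (F : FusionSystem S) {Z P : Subgroup Ω} (hZS : Z ≤ S)
    (hZc : ∀ g ∈ S, ∀ x ∈ Z, g * x * g⁻¹ = x) (hPS : P ≤ S)
    (hP : FusionSystem.centralizerIn S P ≤ P) : Z ≤ P := by
  intro z hz
  apply hP
  refine ⟨hZS hz, ?_⟩
  show z ∈ Subgroup.centralizer (P : Set Ω)
  rw [Subgroup.mem_centralizer_iff]
  intro y hy
  have := hZc y (hPS hy) z hz
  calc y * z = (y * z * y⁻¹) * y := by group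
    _ = z * y := by rw [this]

/-- transport of a bad subgroup along a map fixing `Z` -/
theorem badZ_transport (F : FusionSystem S) {Z R R' : Subgroup Ω} {θ : R →* Ω} (hθ : θ ∈ F.Hom R)
    (hr : θ.range = R') (hfix : ∀ x : R, (x : Ω) ∈ Z → θ x = x) (h : BadZ F Z R) : BadZ F Z R' := by
  obtain ⟨hRS, hZR, β, hβ, x, hxZ, hx⟩ := h
  have hR'S : R' ≤ S := hr ▸ range_le_of_hom_mem F hθ
  refine ⟨hR'S, ?_, MulAut.congr (isoOfHom F hθ hr) β, congr_mem_autGroup F hθ hr hβ,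
    isoOfHom F hθ hr x, ?_, ?_⟩
  · intro z hz
    rw [← hr]
    exact ⟨⟨z, hZR hz⟩, hfix ⟨z, hZR hz⟩ hz⟩
  · rw [isoOfHom_coe, hfix x hxZ]
    exact hxZ
  · intro h1
    apply hx
    have h2 : (MulAut.congr (isoOfHom F hθ hr) β) (isoOfHom F hθ hr x) =
        isoOfHom F hθ hr (β x) := by
      show isoOfHom F hθ hr (β ((isoOfHom F hθ hr).symm (isoOfHom F hθ hr x))) = _
      rw [MulEquiv.symm_apply_apply]
    rw [h2] at h1
    exact (isoOfHom F hθ hr).injective h1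

/-- automorphisms of a receptive `R` extend to `R C_S(R)` -/
theorem exists_aut_sup_centralizer [Finite S] (F : FusionSystem S) {R : Subgroup Ω}
    (hrec : F.IsReceptive R) {α : MulAut R} (hα : α ∈ F.autGroup R) :
    ∃ α₂ ∈ F.autGroup (R ⊔ FusionSystem.centralizerIn S R), ∀ x : R,
      ((α₂ (Subgroup.inclusion le_sup_left x) : ↥(R ⊔ FusionSystem.centralizerIn S R)) : Ω) =
        (α x : R) := by
  have hRS : R ≤ S := hrec.1
  have hR₂S : R ⊔ FusionSystem.centralizerIn S R ≤ S := sup_le hRS inf_le_left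
  haveI : Finite (R ⊔ FusionSystem.centralizerIn S R : Subgroup Ω) := finite_of_le hR₂S
  have hφ := (mem_autGroup_iff F hRS).1 hα
  obtain ⟨φ, hφe⟩ : ∃ φ : R →* Ω, φ = R.subtype.comp α.toMonoidHom := ⟨_, rfl⟩
  rw [← hφe] at hφ
  have hφv : ∀ x : R, φ x = (α x : R) := fun x => by rw [hφe]; rfl
  have hr : φ.range = R := hφe ▸ range_subtype_comp_aut α
  obtain ⟨ψ, hψ, hext⟩ := hrec.2 R φ hφ hr
  have hQext : R ≤ FusionSystem.extender S R φ := le_extender F hφ
  have hCext : FusionSystem.centralizerIn S R ≤ FusionSystem.extender S R φ :=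
    centralizerIn_le_extender R φ
  have hle : R ⊔ FusionSystem.centralizerIn S R ≤ FusionSystem.extender S R φ := sup_le hQext hCext
  have hψ₂ := restrict_mem F hle hψ
  have hval : ∀ z : ↥(R ⊔ FusionSystem.centralizerIn S R),
      (ψ.comp (Subgroup.inclusion hle)) z ∈ R ⊔ FusionSystem.centralizerIn S R := by
    apply sup_hom_mem
    · intro x
      apply Subgroup.mem_sup_left
      have h1 : (ψ.comp (Subgroup.inclusion hle)) (Subgroup.inclusion le_sup_left x) =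
          ψ ⟨x, hQext x.2⟩ := rfl
      rw [h1, hext x x.2 (hQext x.2), hφv]
      exact (α x).2
    · intro c
      apply Subgroup.mem_sup_right
      exact ext_centralizer F hφ hr hψ hext c c.2
  obtain ⟨α₂, hα₂, hα₂e⟩ := exists_aut_of_hom F hψ₂ hval
  refine ⟨α₂, hα₂, fun x => ?_⟩
  rw [hα₂e]
  have h1 : (ψ.comp (Subgroup.inclusion hle)) (Subgroup.inclusion le_sup_left x) =
      ψ ⟨x, hQext x.2⟩ := rfl
  rw [h1, hext x x.2 (hQext x.2), hφv]

theorem badZ_sup_centralizer [Finite S] (F : FusionSystem S) {Z R : Subgroup Ω}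
    (hrec : F.IsReceptive R) (h : BadZ F Z R) :
    BadZ F Z (R ⊔ FusionSystem.centralizerIn S R) := by
  obtain ⟨hRS, hZR, β, hβ, x, hxZ, hx⟩ := h
  obtain ⟨β₂, hβ₂, hβ₂e⟩ := exists_aut_sup_centralizer F hrec hβ
  refine ⟨sup_le hRS inf_le_left, hZR.trans le_sup_left, β₂, hβ₂,
    Subgroup.inclusion le_sup_left x, hxZ, ?_⟩
  intro h1
  apply hx
  apply Subtype.ext
  rw [← hβ₂e, h1]
  rfl

end Cfsg.Agent.Lib.Helper29
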