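import Cfsg.Agent.Lib.Helper29.WCBasic

/-!
Control of weak closure of elements: characteristic functors on `p`-groups, read inside an ambient
group.
-/
set_option autoImplicit false
universe u

namespace Cfsg.Agent.Lib.Helper29

open Cfsg

variable {Ω : Type u} [Group Ω]

/-- the value of the functor at `T`, as a subgroup of the ambient group -/
def WS (W : ∀ (Q : Type u) [Group Q], Subgroup Q) (T : Subgroup Ω) : Subgroup Ω :=
  (W ↥T).map T.subtype

variable (W : ∀ (Q : Type u) [Group Q], Subgroup Q)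

theorem WS_le (T : Subgroup Ω) : WS W T ≤ T := Subgroup.map_subtype_le _

theorem mem_WS {T : Subgroup Ω} (x : T) : (x : Ω) ∈ WS W T ↔ x ∈ W ↥T := by
  unfold WS
  exact Subgroup.mem_map_iff_mem T.subtype_injective

theorem WS_congr {T S : Subgroup Ω} (h : T = S) : WS W T = WS W S := by
  subst h
  rfl

section

variable {p : ℕ}
  (hW2 : ∀ (Q R : Type u) [Group Q] [Group R] [Finite Q], IsPGroup p Q → ∀ φ : Q ≃* R,
    (W Q).map φ.toMonoidHom = W R)

include hW2

theorem WS_aut_stab {T : Subgroup Ω} [Finite T] (hT : IsPGroup p T) (β : MulAut T) :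
    β ∈ stabSub T (WS W T) := by
  rw [mem_stabSub]
  intro x
  rw [mem_WS, mem_WS]
  have h := hW2 T T hT β
  constructor
  · intro hx
    rw [← h]
    exact ⟨x, hx, rfl⟩
  · intro hx
    rw [← h] at hx
    obtain ⟨y, hy, hyx⟩ := hx
    have : y = x := β.injective hyx
    rw [← this]
    exact hy

theorem WS_normalizer {T : Subgroup Ω} [Finite T] (hT : IsPGroup p T) :
    Subgroup.normalizer (T : Set Ω) ≤ Subgroup.normalizer (WS W T : Set Ω) := by
  intro g hg
  have key : ∀ g' ∈ Subgroup.normalizer (T : Set Ω), ∀ x ∈ WS W T, g' * x * g'⁻¹ ∈ WS W T := by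
    intro g' hg' x hx
    have hxT : x ∈ T := WS_le W T hx
    have h1 := (mem_stabSub.mp (WS_aut_stab W hW2 hT (T.normalizerMonoidHom ⟨g', hg'⟩)) ⟨x, hxT⟩).1 hx
    exact h1
  rw [Subgroup.mem_normalizer_iff]
  intro x
  constructor
  · exact key g hg x
  · intro hx
    have h1 := key g⁻¹ (Subgroup.inv_mem _ hg) _ hx
    have e : g⁻¹ * (g * x * g⁻¹) * g⁻¹⁻¹ = x := by group
    rwa [e] at h1

theorem WS_map_range {T : Subgroup Ω} [Finite T] (hT : IsPGroup p T) {L : Type u} [Group L]
    {ι : T →* L} (hinj : Function.Injective ι) (P : Subgroup L) (hP : P = ι.range) :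
    WS W P = (W ↥T).map ι := by
  subst hP
  unfold WS
  have h := hW2 T ι.range hT (MonoidHom.ofInjective hinj)
  rw [← h, Subgroup.map_map]
  rfl

end

theorem le_WS_of_central {p : ℕ}
    (hWZ : ∀ (Q : Type u) [Group Q] [Finite Q], IsPGroup p Q → Subgroup.center Q ≤ W Q)
    {T : Subgroup Ω} [Finite T] (hT : IsPGroup p T) {Z : Subgroup Ω} (hZT : Z ≤ T)
    (hZc : ∀ g ∈ T, ∀ x ∈ Z, g * x * g⁻¹ = x) : Z ≤ WS W T := by
  intro z hz
  have h1 : (⟨z, hZT hz⟩ : T) ∈ Subgroup.center T := by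
    rw [Subgroup.mem_center_iff]
    intro g
    apply Subtype.ext
    have := hZc g g.2 z hz
    show (g : Ω) * z = z * g
    calc (g : Ω) * z = ((g : Ω) * z * (g : Ω)⁻¹) * g := by group
      _ = z * g := by rw [this]
  exact (mem_WS W ⟨z, hZT hz⟩).2 (hWZ T hT h1)

end Cfsg.Agent.Lib.Helper29
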