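import Cfsg.Agent.Lib.Helper29.WCModel

/-!
Control of weak closure of elements: the maximal bad subgroup.
-/
set_option autoImplicit false
universe u

namespace Cfsg.Agent.Lib.Helper29

open Cfsg

variable {Ω : Type u} [Group Ω] {S : Subgroup Ω}

theorem normalizerIn_le_normalizerIn_sup_centralizer (R : Subgroup Ω) :
    FusionSystem.normalizerIn S R ≤
      FusionSystem.normalizerIn S (R ⊔ FusionSystem.centralizerIn S R) := by
  have key : ∀ g ∈ FusionSystem.normalizerIn S R, ∀ x ∈ R ⊔ FusionSystem.centralizerIn S R,
      g * x * g⁻¹ ∈ R ⊔ FusionSystem.centralizerIn S R := by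
    intro g hg
    have hgN : g ∈ Subgroup.normalizer (R : Set Ω) := hg.2
    have hcm : R ⊔ FusionSystem.centralizerIn S R ≤
        (R ⊔ FusionSystem.centralizerIn S R).comap (MulAut.conj g).toMonoidHom := by
      refine sup_le ?_ ?_
      · intro x hx
        rw [Subgroup.mem_comap]
        apply Subgroup.mem_sup_left
        exact (Subgroup.mem_normalizer_iff.mp hgN x).1 hx
      · intro c hc
        rw [Subgroup.mem_comap]
        apply Subgroup.mem_sup_right
        refine ⟨S.mul_mem (S.mul_mem hg.1 hc.1) (S.inv_mem hg.1), ?_⟩
        show g * c * g⁻¹ ∈ Subgroup.centralizer (R : Set Ω)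
        have hc2 : c ∈ Subgroup.centralizer (R : Set Ω) := hc.2
        rw [Subgroup.mem_centralizer_iff] at hc2 ⊢
        intro y hy
        have hy' : g⁻¹ * y * g ∈ R := by
          have := (Subgroup.mem_normalizer_iff.mp (Subgroup.inv_mem _ hgN) y).1 hy
          rwa [inv_inv] at this
        have h2 := hc2 _ hy'
        calc y * (g * c * g⁻¹) = g * ((g⁻¹ * y * g) * c) * g⁻¹ := by group
          _ = g * (c * (g⁻¹ * y * g)) * g⁻¹ := by rw [h2]
          _ = g * c * g⁻¹ * y := by group
    intro x hx
    exact hcm hx
  intro g hg
  refine ⟨hg.1, ?_⟩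
  show g ∈ Subgroup.normalizer ((R ⊔ FusionSystem.centralizerIn S R : Subgroup Ω) : Set Ω)
  rw [Subgroup.mem_normalizer_iff]
  intro x
  constructor
  · exact key g hg x
  · intro hx
    have h1 := key g⁻¹ (Subgroup.inv_mem _ hg) _ hx
    have e : g⁻¹ * (g * x * g⁻¹) * g⁻¹⁻¹ = x := by group
    rwa [e] at h1

theorem wc_main [Finite S] {p : ℕ} [Fact p.Prime] (hS : IsPGroup p S) (F : FusionSystem S)
    (hF : F.IsSaturated p) (W : ∀ (Q : Type u) [Group Q], Subgroup Q)
    (hW2 : ∀ (Q R : Type u) [Group Q] [Group R] [Finite Q], IsPGroup p Q → ∀ φ : Q ≃* R,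
      (W Q).map φ.toMonoidHom = W R)
    (hWZ : ∀ (Q : Type u) [Group Q] [Finite Q], IsPGroup p Q → Subgroup.center Q ≤ W Q)
    (hC : ∀ (G : Type u) [Group G] [Finite G] (P : Sylow p G),
      Cfsg.pCore p G ⊓ Subgroup.center G = Cfsg.pCore p G ⊓
        (Subgroup.center ↥(Subgroup.normalizer ((WS W (P : Subgroup G) : Subgroup G) : Set G))).map
          (Subgroup.normalizer ((WS W (P : Subgroup G) : Subgroup G) : Set G)).subtype)
    {Z : Subgroup Ω} (hZS : Z ≤ S) (hZc : ∀ g ∈ S, ∀ x ∈ Z, g * x * g⁻¹ = x)
    (hbad : ∃ R, BadZ F Z R) : BadZ F Z (WS W S) := by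
  classical
  by_cases hSbad : BadZ F Z S
  · obtain ⟨_, _, β, hβ, x, hxZ, hx⟩ := hSbad
    exact badZ_of_stab F le_rfl (WS_le W S) (le_WS_of_central W hWZ hS hZS hZc) hβ
      (WS_aut_stab W hW2 hS β) hxZ hx
  obtain ⟨n, hn⟩ : ∃ n, n = Nat.card S := ⟨_, rfl⟩
  have hcardle : ∀ A : Subgroup Ω, A ≤ S → Nat.card A ≤ n := fun A hA => hn ▸ Subgroup.card_le_of_le hA
  have hNle : ∀ A : Subgroup Ω, Nat.card (FusionSystem.normalizerIn S A) ≤ n := fun A =>
    hcardle _ inf_le_left
  have key : ∀ k, ∀ R : Subgroup Ω, BadZ F Z R →
      (n + 1) * (n + 1) - (Nat.card (FusionSystem.normalizerIn S R) * (n + 1) + Nat.card R) = k →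
      BadZ F Z (WS W S) := by
    intro k
    induction k using Nat.strong_induction_on with
    | _ k ih =>
      intro R hR hk
      have hRS : R ≤ S := hR.1
      by_cases hex : ∃ A : Subgroup Ω, BadZ F Z A ∧
          Nat.card (FusionSystem.normalizerIn S R) * (n + 1) + Nat.card R <
            Nat.card (FusionSystem.normalizerIn S A) * (n + 1) + Nat.card A
      · obtain ⟨A, hA, hlt⟩ := hex
        have h1 := hcardle A hA.1
        have h2 := hNle A
        have h3 : Nat.card (FusionSystem.normalizerIn S A) * (n + 1) + Nat.card A <
            (n + 1) * (n + 1) := by nlinarith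
        exact ih _ (by omega) A hA rfl
      · push_neg at hex
        obtain ⟨M, hM⟩ : ∃ M, M = Nat.card (FusionSystem.normalizerIn S R) := ⟨_, rfl⟩
        rw [← hM] at hex
        haveI : Finite (FusionSystem.normalizerIn S R) := finite_normalizerIn (S := S) R
        have hMpos : 0 < M := hM ▸ Nat.card_pos
        -- maps on subgroups of order at least `M` fix `Z`
        have hE : ∀ P : Subgroup Ω, M - 1 < Nat.card P → (P = S ∨ F.IsEssential p P) →
            F.autGroup P ≤ (relSys F hZS (centData hZc)).autGroup P := by
          intro P hMP hP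
          have hPS : P ≤ S := by
            rcases hP with rfl | hP
            · exact le_rfl
            · exact hP.1.1
          have hZP : Z ≤ P := by
            rcases hP with rfl | hP
            · exact hZS
            · exact le_of_centric F hZS hZc hPS (hP.1.2 P (isConj_refl F hPS))
          apply autGroup_le_relSys_cent F hZS hZc hPS hZP
          intro α hα y hy
          by_contra hne
          have hPbad : BadZ F Z P := ⟨hPS, hZP, α, hα, y, hy, hne⟩
          by_cases hPeq : P = S
          · exact hSbad (hPeq ▸ hPbad)
          · have h1 := hex P hPbad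
            haveI : Finite (FusionSystem.normalizerIn S P) := finite_normalizerIn (S := S) P
            have hlt : Nat.card P < Nat.card (FusionSystem.normalizerIn S P) := by
              have hle : P ≤ FusionSystem.normalizerIn S P := le_normalizerIn hPS
              rcases (Subgroup.card_le_of_le hle).lt_or_eq with h | h
              · exact h
              · exfalso
                exact normalizerIn_ne_self hS hPS hPeq (Subgroup.eq_of_le_of_card_ge hle h.ge).symm
            have h2 := hcardle R hRS
            have h3 : (M + 1) * (n + 1) ≤ Nat.card (FusionSystem.normalizerIn S P) * (n + 1) :=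
              Nat.mul_le_mul_right _ (by omega)
            nlinarith
        have hfilt : ∀ A : Subgroup Ω, A ≤ S → M ≤ Nat.card A →
            F.Hom A ⊆ (relSys F hZS (centData hZc)).Hom A := by
          intro A hA hMA
          exact alperin_aux_filtered p hS F hF _ (M - 1) hE _ A hA (by omega) rfl
        -- pass to a fully normalized conjugate
        obtain ⟨R', hconj, hfn'⟩ := exists_fullyNormalized_conj F hRS
        have hsat := (Cfsg.Agent.S5077.result p hS F).1 hF
        obtain ⟨hfc, hfa⟩ := hsat.1 R' hfn'
        have hrec := hsat.2 R' hfc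
        obtain ⟨α, hα, hαN, hαW, hαmap⟩ := exists_hom_normalizer p hS F R' R hfa hrec hconj
        have hαrel := hfilt _ inf_le_left hM.le hα
        have hRN : R ≤ FusionSystem.normalizerIn S R := le_normalizerIn hRS
        obtain ⟨θ, hθe⟩ : ∃ θ : R →* Ω, θ = α.comp (Subgroup.inclusion hRN) := ⟨_, rfl⟩
        have hθ : θ ∈ F.Hom R := hθe ▸ restrict_mem F hRN hα
        have hθv : ∀ y : R, θ y = α ⟨y, hRN y.2⟩ := fun y => by rw [hθe]; rfl
        have hr : θ.range = R' := by
          rw [← hαmap]
          ext y
          constructor
          · rintro ⟨x, rfl⟩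
            rw [hθv]
            exact ⟨⟨x, hRN x.2⟩, x.2, rfl⟩
          · rintro ⟨x, hx, rfl⟩
            exact ⟨⟨x, hx⟩, hθv _⟩
        have hθfix : ∀ y : R, (y : Ω) ∈ Z → θ y = y := by
          intro y hy
          rw [hθv]
          exact relSys_cent_fix F hZS hZc hαrel ⟨y, hRN y.2⟩ hy
        have hR'bad : BadZ F Z R' := badZ_transport F hθ hr hθfix hR
        have hR'S : R' ≤ S := hR'bad.1
        have hcardR' : Nat.card R = Nat.card R' := card_eq_of_isConj F hconj
        have hNR' : M ≤ Nat.card (FusionSystem.normalizerIn S R') :=
          hM ▸ hfn'.2 R (isConj_symm F hconj)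
        have hmax' : ∀ A : Subgroup Ω, BadZ F Z A →
            Nat.card (FusionSystem.normalizerIn S A) * (n + 1) + Nat.card A ≤
              Nat.card (FusionSystem.normalizerIn S R') * (n + 1) + Nat.card R' := by
          intro A hA
          have h1 := hex A hA
          have h2 : M * (n + 1) ≤ Nat.card (FusionSystem.normalizerIn S R') * (n + 1) :=
            Nat.mul_le_mul_right _ hNR'
          omega
        haveI : Finite R' := finite_of_le hR'S
        -- centric
        have hcen : FusionSystem.centralizerIn S R' ≤ R' := by
          by_contra hnot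
          have hR₂bad := badZ_sup_centralizer F hrec hR'bad
          have h1 := hmax' _ hR₂bad
          have hR₂S : R' ⊔ FusionSystem.centralizerIn S R' ≤ S := hR₂bad.1
          haveI : Finite (R' ⊔ FusionSystem.centralizerIn S R' : Subgroup Ω) := finite_of_le hR₂S
          haveI : Finite (FusionSystem.normalizerIn S (R' ⊔ FusionSystem.centralizerIn S R')) :=
            finite_normalizerIn (S := S) _
          have h2 : Nat.card (FusionSystem.normalizerIn S R') ≤
              Nat.card (FusionSystem.normalizerIn S (R' ⊔ FusionSystem.centralizerIn S R')) :=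
            Subgroup.card_le_of_le (normalizerIn_le_normalizerIn_sup_centralizer R')
          have h3 : Nat.card R' < Nat.card (R' ⊔ FusionSystem.centralizerIn S R' : Subgroup Ω) := by
            have hle : R' ≤ R' ⊔ FusionSystem.centralizerIn S R' := le_sup_left
            rcases (Subgroup.card_le_of_le hle).lt_or_eq with h | h
            · exact h
            · exfalso
              apply hnot
              have := Subgroup.eq_of_le_of_card_ge hle h.ge
              exact (le_sup_right.trans this.ge)
          have h4 := Nat.mul_le_mul_right (n + 1) h2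
          omega
        -- the model step
        have hWbad := badZ_model_step hS F hF W hW2 hWZ hC hZS hZc hfn' hcen hR'bad
        by_cases hT : FusionSystem.normalizerIn S R' = S
        · rw [WS_congr W hT] at hWbad
          exact hWbad
        · exfalso
          have h1 := hmax' _ hWbad
          have hTS : FusionSystem.normalizerIn S R' ≤ S := inf_le_left
          haveI : Finite (FusionSystem.normalizerIn S R') := finite_normalizerIn (S := S) R'
          have hTp : IsPGroup p (FusionSystem.normalizerIn S R') := hS.to_le hTS
          haveI : Finite (FusionSystem.normalizerIn S (FusionSystem.normalizerIn S R')) :=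
            finite_normalizerIn (S := S) _
          haveI : Finite (FusionSystem.normalizerIn S (WS W (FusionSystem.normalizerIn S R'))) :=
            finite_normalizerIn (S := S) _
          have h2 : Nat.card (FusionSystem.normalizerIn S R') <
              Nat.card (FusionSystem.normalizerIn S (FusionSystem.normalizerIn S R')) := by
            have hle : FusionSystem.normalizerIn S R' ≤
                FusionSystem.normalizerIn S (FusionSystem.normalizerIn S R') := le_normalizerIn hTS
            rcases (Subgroup.card_le_of_le hle).lt_or_eq with h | h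
            · exact h
            · exfalso
              exact normalizerIn_ne_self hS hTS hT (Subgroup.eq_of_le_of_card_ge hle h.ge).symm
          have h3 : Nat.card (FusionSystem.normalizerIn S (FusionSystem.normalizerIn S R')) ≤
              Nat.card (FusionSystem.normalizerIn S (WS W (FusionSystem.normalizerIn S R'))) := by
            apply Subgroup.card_le_of_le
            intro g hg
            exact ⟨hg.1, WS_normalizer W hW2 hTp hg.2⟩
          have h4 := hcardle R' hR'S
          have h5 : (Nat.card (FusionSystem.normalizerIn S R') + 1) * (n + 1) ≤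
              Nat.card (FusionSystem.normalizerIn S (WS W (FusionSystem.normalizerIn S R'))) * (n + 1) :=
            Nat.mul_le_mul_right _ (by omega)
          nlinarith
  obtain ⟨R, hR⟩ := hbad
  exact key _ R hR rfl

end Cfsg.Agent.Lib.Helper29
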