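import Cfsg.Agent.Lib.Helper29.WCFunctor
import Cfsg.Agent.Lib.Helper29.GTGroup
import Cfsg.Agent.Lib.Helper16.PCore

/-!
Control of weak closure of elements: the step through a model of the normalizer of a centric subgroup.
-/
set_option autoImplicit false
universe u

namespace Cfsg.Agent.Lib.Helper29

open Cfsg

variable {Ω : Type u} [Group Ω] {S : Subgroup Ω}

theorem badZ_model_step [Finite S] {p : ℕ} [Fact p.Prime] (hS : IsPGroup p S) (F : FusionSystem S)
    (hF : F.IsSaturated p) (W : ∀ (Q : Type u) [Group Q], Subgroup Q)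
    (hW2 : ∀ (Q R : Type u) [Group Q] [Group R] [Finite Q], IsPGroup p Q → ∀ φ : Q ≃* R,
      (W Q).map φ.toMonoidHom = W R)
    (hWZ : ∀ (Q : Type u) [Group Q] [Finite Q], IsPGroup p Q → Subgroup.center Q ≤ W Q)
    (hC : ∀ (G : Type u) [Group G] [Finite G] (P : Sylow p G),
      Cfsg.pCore p G ⊓ Subgroup.center G = Cfsg.pCore p G ⊓
        (Subgroup.center ↥(Subgroup.normalizer ((WS W (P : Subgroup G) : Subgroup G) : Set G))).map
          (Subgroup.normalizer ((WS W (P : Subgroup G) : Subgroup G) : Set G)).subtype)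
    {Z R : Subgroup Ω} (hZS : Z ≤ S) (hZc : ∀ g ∈ S, ∀ x ∈ Z, g * x * g⁻¹ = x)
    (hRfn : F.IsFullyNormalized R) (hcen : FusionSystem.centralizerIn S R ≤ R)
    (h : BadZ F Z R) : BadZ F Z (WS W (FusionSystem.normalizerIn S R)) := by
  classical
  obtain ⟨hRS, hZR, β, hβ, x, hxZ, hx⟩ := h
  obtain ⟨E, hE⟩ := Cfsg.Agent.S5096.result F R hRS
  have hEsat := Cfsg.Agent.S5098.result p hS F hF R hRfn E hE
  have hRn : E.IsNormal R := normalizerSystem_isNormal hE hRS
  have hRsc := stronglyClosed_of_isNormal E hRn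
  have hRT : R ≤ FusionSystem.normalizerIn S R := le_normalizerIn hRS
  have hTS : FusionSystem.normalizerIn S R ≤ S := inf_le_left
  haveI hfinT : Finite (FusionSystem.normalizerIn S R) := finite_normalizerIn (S := S) R
  have hTp : IsPGroup p (FusionSystem.normalizerIn S R) := hS.to_le hTS
  have hRc : E.IsCentric R := by
    refine ⟨hRT, fun Q' hconj => ?_⟩
    obtain ⟨φ, hφ, hr⟩ := hconj
    have h1 := (weaklyClosed_of_stronglyClosed E hRsc).2 φ hφ
    rw [← hr, h1]
    intro c hc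
    exact hcen ⟨hTS hc.1, hc.2⟩
  obtain ⟨L, hL, ι, hmodel⟩ := exists_model_of_constrained p hTp E ⟨hEsat, R, hRn, hRc⟩
  obtain ⟨hfin, hreal, ⟨P, hP⟩, hcL⟩ := hmodel
  have hβE : β ∈ E.autGroup R :=
    autStab_le_normalizerSystem hE le_rfl hRT (autGroup_le_autStab_self F R hβ)
  obtain ⟨g, hg⟩ := (hreal.2 R hRT _ (fun y => hRT (β y).2)).1 ((mem_autGroup_iff E hRT).1 hβE)
  have hg' : ∀ y : R, ι ⟨(β y : R), hRT (β y).2⟩ = g * ι ⟨y, hRT y.2⟩ * g⁻¹ := hg
  by_contra hnb
  obtain ⟨WT, hWTe⟩ : ∃ WT, WT = WS W (FusionSystem.normalizerIn S R) := ⟨_, rfl⟩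
  rw [← hWTe] at hnb
  have hWTT : WT ≤ FusionSystem.normalizerIn S R := hWTe ▸ WS_le W _
  haveI : Finite WT := finite_of_le (hWTT.trans hTS)
  have hZT : Z ≤ FusionSystem.normalizerIn S R := hZR.trans hRT
  have hZWT : Z ≤ WT := by
    rw [hWTe]
    exact le_WS_of_central W hWZ hTp hZT (fun g hg => hZc g (hTS hg))
  have hWL : WS W (P : Subgroup L) = (W ↥(FusionSystem.normalizerIn S R)).map ι :=
    WS_map_range W hW2 hTp hreal.1 _ hP
  have hWTmem : ∀ y : FusionSystem.normalizerIn S R, (y : Ω) ∈ WT ↔ ι y ∈ WS W (P : Subgroup L) := by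
    intro y
    rw [hWTe, mem_WS, hWL]
    constructor
    · intro hy
      exact ⟨y, hy, rfl⟩
    · rintro ⟨y', hy', hyy⟩
      rw [← hreal.1 hyy]
      exact hy'
  have hWLP : WS W (P : Subgroup L) ≤ ι.range := hP ▸ WS_le W _
  -- elements of `Z` are centralised by the normaliser of `W(P)`
  have key : ∀ z (hz : z ∈ Z), ∀ h ∈ Subgroup.normalizer ((WS W (P : Subgroup L) : Subgroup L) : Set L),
      h * ι ⟨z, hZT hz⟩ * h⁻¹ = ι ⟨z, hZT hz⟩ := by
    intro z hz h hh
    have hcj : ∀ y : WT, h * ι ⟨y, hWTT y.2⟩ * h⁻¹ ∈ WS W (P : Subgroup L) :=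
      fun y => (Subgroup.mem_normalizer_iff.mp hh _).1 ((hWTmem ⟨y, hWTT y.2⟩).1 y.2)
    obtain ⟨φ, hφ, hφS, hφe⟩ := realized_hom hreal hWTT h (fun y => hWLP (hcj y))
    have hval : ∀ y : WT, φ y ∈ WT := by
      intro y
      have := (hWTmem ⟨φ y, hφS y⟩).2 (by rw [hφe]; exact hcj y)
      exact this
    obtain ⟨γ, hγ, hγe⟩ := exists_aut_of_hom E hφ hval
    have hγF : γ ∈ F.autGroup WT := autGroup_mono_gt E F WT (normalizerSystem_hom_subset hE WT) hγ
    have hfixz : γ ⟨z, hZWT hz⟩ = ⟨z, hZWT hz⟩ := by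
      by_contra hne
      exact hnb ⟨hWTT.trans hTS, hZWT, γ, hγF, ⟨z, hZWT hz⟩, hz, hne⟩
    have h1 := hφe ⟨z, hZWT hz⟩
    rw [← h1]
    congr 1
    apply Subtype.ext
    show φ ⟨z, hZWT hz⟩ = z
    rw [← hγe, hfixz]
  have hPN : (P : Subgroup L) ≤ Subgroup.normalizer ((WS W (P : Subgroup L) : Subgroup L) : Set L) := by
    haveI : Finite (P : Subgroup L) := inferInstance
    exact Subgroup.le_normalizer.trans (WS_normalizer W hW2 P.2)
  apply hx
  apply Subtype.ext
  have hzc : ι ⟨x, hRT x.2⟩ ∈ Subgroup.center L := by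
    have h1 : ι ⟨x, hRT x.2⟩ ∈ Cfsg.pCore p L ⊓ Subgroup.center L := by
      rw [hC L P]
      refine ⟨?_, ?_⟩
      · apply hcL
        rw [Subgroup.mem_centralizer_iff]
        intro w hw
        have hwP : w ∈ (P : Subgroup L) := Cfsg.Agent.Lib.Helper16.pCore_le_sylow P hw
        rw [hP] at hwP
        obtain ⟨t, rfl⟩ := hwP
        rw [← map_mul, ← map_mul]
        congr 1
        apply Subtype.ext
        have := hZc t (hTS t.2) x hxZ
        show (t : Ω) * x = x * t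
        calc (t : Ω) * x = ((t : Ω) * x * (t : Ω)⁻¹) * t := by group
          _ = x * t := by rw [this]
      · have hxN : ι ⟨x, hRT x.2⟩ ∈
            Subgroup.normalizer ((WS W (P : Subgroup L) : Subgroup L) : Set L) := by
          apply hPN
          rw [hP]
          exact ⟨_, rfl⟩
        refine ⟨⟨_, hxN⟩, ?_, rfl⟩
        show (⟨_, hxN⟩ : ↥(Subgroup.normalizer ((WS W (P : Subgroup L) : Subgroup L) : Set L))) ∈
          Subgroup.center _
        rw [Subgroup.mem_center_iff]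
        intro n
        apply Subtype.ext
        rw [Subgroup.coe_mul, Subgroup.coe_mul]
        have := key x hxZ n n.2
        show (n : L) * ι ⟨x, hRT x.2⟩ = ι ⟨x, hRT x.2⟩ * n
        calc (n : L) * ι ⟨x, hRT x.2⟩ = ((n : L) * ι ⟨x, hRT x.2⟩ * (n : L)⁻¹) * n := by group
          _ = ι ⟨x, hRT x.2⟩ * n := by rw [this]
    exact h1.2
  have h2 := hg' x
  have h3 : g * ι ⟨x, hRT x.2⟩ * g⁻¹ = ι ⟨x, hRT x.2⟩ := by
    rw [Subgroup.mem_center_iff] at hzc
    rw [hzc g]
    group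
  rw [h3] at h2
  exact congrArg (fun t : FusionSystem.normalizerIn S R => (t : Ω)) (hreal.1 h2)

end Cfsg.Agent.Lib.Helper29
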