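import Mathlib
import Cfsg.Agent.Lib.Helper29.TransferSection

/-!
A `p`-group with a subgroup `M` of index `p` and a homomorphism `μ : M → C_p` whose transfer is
nontrivial on `M` has the wreath product `C_p ≀ C_p` as a quotient.
-/
set_option autoImplicit false

namespace Cfsg.Agent.Lib.Helper29

section Poly
variable (p : ℕ) [Fact p.Prime] {V : Type*} [AddCommGroup V] [Module (ZMod p) V]

theorem sub_one_pow_char_end (T : Module.End (ZMod p) V) : (T - 1) ^ p = T ^ p - 1 := by
  have h1 : ((Polynomial.X : Polynomial (ZMod p)) - 1) ^ p = Polynomial.X ^ p - 1 := by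
    rw [sub_pow_char, one_pow]
  have := congrArg (Polynomial.aeval T) h1
  simpa using this

theorem sub_one_pow_pred_end (T : Module.End (ZMod p) V) :
    (T - 1) ^ (p - 1) = ∑ i ∈ Finset.range p, T ^ i := by
  have hp : p - 1 + 1 = p := Nat.sub_add_cancel (Fact.out : p.Prime).one_le
  have h1 : ((Polynomial.X : Polynomial (ZMod p)) - 1) ^ p = Polynomial.X ^ p - 1 := by
    rw [sub_pow_char, one_pow]
  have h2 : ((Polynomial.X : Polynomial (ZMod p)) - 1) ^ (p - 1) =
      ∑ i ∈ Finset.range p, (Polynomial.X : Polynomial (ZMod p)) ^ i := by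
    have hne : (Polynomial.X : Polynomial (ZMod p)) - 1 ≠ 0 := by
      have := Polynomial.X_sub_C_ne_zero (1 : ZMod p)
      simpa using this
    apply mul_right_cancel₀ hne
    rw [← pow_succ, hp, h1, geom_sum_mul]
  have := congrArg (Polynomial.aeval T) h2
  simpa using this

end Poly

section Shift
variable (p : ℕ)

/-- the shift operator on sequences -/
def shiftEnd : Module.End (ZMod p) (ℕ → ZMod p) := LinearMap.funLeft (ZMod p) (ZMod p) (· + 1)

theorem shiftEnd_apply (b : ℕ → ZMod p) (i : ℕ) : shiftEnd p b i = b (i + 1) := rfl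

theorem shiftEnd_pow_apply (k : ℕ) (b : ℕ → ZMod p) (i : ℕ) : ((shiftEnd p) ^ k) b i = b (i + k) := by
  induction k generalizing b with
  | zero => simp
  | succ k ih =>
    rw [pow_succ, Module.End.mul_apply, ih, shiftEnd_apply, add_assoc]

end Shift

theorem card_mul_le_of_lt {p : ℕ} [Fact p.Prime] {G : Type*} [Group G] [Finite G] (hG : IsPGroup p G)
    {H K : Subgroup G} (hlt : H < K) : p * Nat.card H ≤ Nat.card K := by
  obtain ⟨a, ha⟩ := (hG.to_subgroup H).exists_card_eq
  obtain ⟨b, hb⟩ := (hG.to_subgroup K).exists_card_eq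
  have hdvd : Nat.card H ∣ Nat.card K := Subgroup.card_dvd_of_le hlt.le
  rw [ha, hb] at hdvd ⊢
  have hab : a ≤ b := (Nat.pow_dvd_pow_iff_le_right (Fact.out : p.Prime).one_lt).1 hdvd
  have hne : a ≠ b := by
    rintro rfl
    apply hlt.ne
    apply Subgroup.eq_of_le_of_card_ge hlt.le
    rw [ha, hb]
  have : a + 1 ≤ b := by omega
  calc p * p ^ a = p ^ (a + 1) := by rw [pow_succ, mul_comm]
    _ ≤ p ^ b := Nat.pow_le_pow_right (Fact.out : p.Prime).pos this

section Wreath
variable {p : ℕ} [Fact p.Prime] {G : Type*} [Group G] (M : Subgroup G) [M.Normal] (s : G)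
  (μ : M →* Multiplicative (ZMod p))

/-- conjugation by `s⁻¹` on `M` -/
def sgAut : MulAut M := MulAut.conjNormal s⁻¹

theorem sgAut_pow_coe (k : ℕ) (y : M) : ((((sgAut M s) ^ k) y : M) : G) = (s ^ k)⁻¹ * y * s ^ k := by
  unfold sgAut
  rw [← map_pow, MulAut.conjNormal_apply, inv_pow, inv_inv]

/-- the vector of the values of `μ` on the conjugates -/
def thetaVec (y : M) : ℕ → ZMod p := fun k => (μ (((sgAut M s) ^ k) y)).toAdd

theorem thetaVec_apply (y : M) (k : ℕ) : thetaVec M s μ y k = (μ (((sgAut M s) ^ k) y)).toAdd := rfl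

theorem thetaVec_mul (y z : M) : thetaVec M s μ (y * z) = thetaVec M s μ y + thetaVec M s μ z := by
  funext k
  rw [Pi.add_apply, thetaVec_apply, thetaVec_apply, thetaVec_apply, map_mul, map_mul, toAdd_mul]

theorem thetaVec_one : thetaVec M s μ 1 = 0 := by
  funext k
  rw [thetaVec_apply, map_one, map_one]
  rfl

theorem thetaVec_inv (y : M) : thetaVec M s μ y⁻¹ = - thetaVec M s μ y := by
  have h := thetaVec_mul M s μ y y⁻¹
  rw [mul_inv_cancel, thetaVec_one] at h
  exact (neg_eq_of_add_eq_zero_right h.symm).symm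

theorem thetaVec_sg (y : M) : thetaVec M s μ (sgAut M s y) = shiftEnd p (thetaVec M s μ y) := by
  funext k
  rw [shiftEnd_apply, thetaVec_apply, thetaVec_apply, pow_succ]
  rfl

theorem thetaVec_per (hs : s ^ p ∈ M) (y : M) (k : ℕ) :
    thetaVec M s μ y (k + p) = thetaVec M s μ y k := by
  rw [thetaVec_apply, thetaVec_apply, add_comm, pow_add, MulAut.mul_apply]
  have e : ((sgAut M s) ^ p) (((sgAut M s) ^ k) y) =
      (⟨s ^ p, hs⟩ : M)⁻¹ * (((sgAut M s) ^ k) y) * ⟨s ^ p, hs⟩ := by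
    apply Subtype.ext
    rw [sgAut_pow_coe]
    rfl
  have e2 : μ (((sgAut M s) ^ p) (((sgAut M s) ^ k) y)) = μ (((sgAut M s) ^ k) y) := by
    rw [e, map_mul, map_mul, map_inv, mul_comm (μ ⟨s ^ p, hs⟩)⁻¹, mul_assoc, inv_mul_cancel, mul_one]
  rw [e2]

theorem shift_pow_thetaVec (hs : s ^ p ∈ M) (y : M) :
    ((shiftEnd p) ^ p) (thetaVec M s μ y) = thetaVec M s μ y := by
  funext i
  rw [shiftEnd_pow_apply, thetaVec_per M s μ hs]

/-- the commutator map `y ↦ s⁻¹ y s y⁻¹` -/
def cOp (y : M) : M := sgAut M s y * y⁻¹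

theorem thetaVec_cOp (y : M) :
    thetaVec M s μ (cOp M s y) = (shiftEnd p - 1) (thetaVec M s μ y) := by
  unfold cOp
  rw [thetaVec_mul, thetaVec_inv, thetaVec_sg, LinearMap.sub_apply, Module.End.one_apply, sub_eq_add_neg]

theorem thetaVec_cOp_iterate (j k : ℕ) (y : M) :
    ((shiftEnd p - 1) ^ j) (thetaVec M s μ ((cOp M s)^[k] y)) =
      ((shiftEnd p - 1) ^ (j + k)) (thetaVec M s μ y) := by
  induction k generalizing y with
  | zero => rfl
  | succ k ih =>
    rw [Function.iterate_succ_apply, ih, thetaVec_cOp, ← Module.End.mul_apply, ← pow_succ, add_assoc]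

/-- the kernel chain -/
def Lsub (j : ℕ) : Subgroup M where
  carrier := {y | ((shiftEnd p - 1) ^ j) (thetaVec M s μ y) = 0}
  one_mem' := by
    show ((shiftEnd p - 1) ^ j) (thetaVec M s μ 1) = 0
    rw [thetaVec_one, map_zero]
  mul_mem' := by
    intro a b ha hb
    show ((shiftEnd p - 1) ^ j) (thetaVec M s μ (a * b)) = 0
    rw [thetaVec_mul, map_add, ha, hb, add_zero]
  inv_mem' := by
    intro a ha
    show ((shiftEnd p - 1) ^ j) (thetaVec M s μ a⁻¹) = 0
    rw [thetaVec_inv, map_neg, ha, neg_zero]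

theorem mem_Lsub (j : ℕ) (y : M) : y ∈ Lsub M s μ j ↔ ((shiftEnd p - 1) ^ j) (thetaVec M s μ y) = 0 :=
  Iff.rfl

theorem Lsub_le_succ (j : ℕ) : Lsub M s μ j ≤ Lsub M s μ (j + 1) := by
  intro y hy
  rw [mem_Lsub] at hy ⊢
  rw [pow_succ', Module.End.mul_apply, hy, map_zero]

theorem Lsub_top (hs : s ^ p ∈ M) : Lsub M s μ p = ⊤ := by
  rw [eq_top_iff]
  intro y _
  rw [mem_Lsub, sub_one_pow_char_end, LinearMap.sub_apply, shift_pow_thetaVec M s μ hs,
    Module.End.one_apply, sub_self]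

theorem Lsub_lt_succ (hs : s ^ p ∈ M) (w : M)
    (hw : ((shiftEnd p - 1) ^ (p - 1)) (thetaVec M s μ w) ≠ 0) (j : ℕ) (hj : j < p) :
    Lsub M s μ j < Lsub M s μ (j + 1) := by
  refine lt_of_le_of_ne (Lsub_le_succ M s μ j) ?_
  intro heq
  have h1 : (cOp M s)^[p - 1 - j] w ∈ Lsub M s μ (j + 1) := by
    rw [mem_Lsub, thetaVec_cOp_iterate]
    have e : j + 1 + (p - 1 - j) = p := by omega
    rw [e]
    have := (Lsub_top M s μ hs).symm ▸ (Subgroup.mem_top w)
    exact (mem_Lsub M s μ p w).1 this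
  rw [← heq, mem_Lsub, thetaVec_cOp_iterate] at h1
  have e : j + (p - 1 - j) = p - 1 := by omega
  rw [e] at h1
  exact hw h1

theorem card_Lsub_le [Finite G] (hG : IsPGroup p G) (hs : s ^ p ∈ M) (w : M)
    (hw : ((shiftEnd p - 1) ^ (p - 1)) (thetaVec M s μ w) ≠ 0) (j : ℕ) (hj : j ≤ p) :
    p ^ j * Nat.card (Lsub M s μ 0) ≤ Nat.card (Lsub M s μ j) := by
  induction j with
  | zero => simp
  | succ j ih =>
    have h1 := ih (by omega)
    have h2 := card_mul_le_of_lt (hG.to_subgroup M) (Lsub_lt_succ M s μ hs w hw j (by omega))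
    calc p ^ (j + 1) * Nat.card (Lsub M s μ 0) = p * (p ^ j * Nat.card (Lsub M s μ 0)) := by ring
      _ ≤ p * Nat.card (Lsub M s μ j) := Nat.mul_le_mul_left _ h1
      _ ≤ _ := h2

end Wreath

section WreathTransfer
variable {p : ℕ} [Fact p.Prime] {G : Type*} [Group G] [Finite G] (M : Subgroup G) [M.Normal] (s : G)
  (μ : M →* Multiplicative (ZMod p))

theorem orderOf_mk_eq (hM : M.index = p) (hs : s ∉ M) : orderOf (s : G ⧸ M) = p := by
  apply orderOf_eq_prime
  · have h1 : Nat.card (G ⧸ M) = p := by rw [← Subgroup.index_eq_card, hM]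
    rw [← h1]
    exact pow_card_eq_one'
  · intro h
    exact hs ((QuotientGroup.eq_one_iff s).1 h)

theorem image_pow_eq_univ [Fintype (G ⧸ M)] [DecidableEq (G ⧸ M)] (hM : M.index = p) (hs : s ∉ M) :
    (Finset.range p).image (fun i : ℕ => ((s ^ i : G) : G ⧸ M)) = Finset.univ := by
  classical
  apply Finset.eq_univ_of_card
  rw [Finset.card_image_of_injOn, Finset.card_range, ← Nat.card_eq_fintype_card, ← Subgroup.index_eq_card, hM]
  intro i hi j hj hij
  have hi' : i ∈ Set.Iio (orderOf (s : G ⧸ M)) := by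
    rw [orderOf_mk_eq M s hM hs]
    simpa using hi
  have hj' : j ∈ Set.Iio (orderOf (s : G ⧸ M)) := by
    rw [orderOf_mk_eq M s hM hs]
    simpa using hj
  exact pow_injOn_Iio_orderOf hi' hj' hij

/-- the transfer to a normal subgroup of index `p`, on an element of the subgroup -/
theorem transfer_normal_eq (hM : M.index = p) (hs : s ∉ M) (w : M) :
    MonoidHom.transfer μ (w : G) = ∏ i ∈ Finset.range p, μ (((sgAut M s) ^ i) w) := by
  classical
  letI : Fintype (G ⧸ M) := Fintype.ofFinite _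
  set μ' : G → Multiplicative (ZMod p) := fun x => if h : x ∈ M then μ ⟨x, h⟩ else 1 with hμ'def
  have hμ' : ∀ h : M, μ h = μ' h := by
    intro h
    rw [hμ'def]
    simp only
    rw [dif_pos h.2]
  have hf : ∀ c : G ⧸ M, ((Quotient.out c : G) : G ⧸ M) = c := fun c => QuotientGroup.out_eq' c
  rw [transfer_eq_prod_section μ μ' hμ' Quotient.out hf, finprod_eq_prod_of_fintype,
    ← image_pow_eq_univ M s hM hs, Finset.prod_image]
  · apply Finset.prod_congr rfl
    intro i _
    have hfix : (w : G)⁻¹ • ((s ^ i : G) : G ⧸ M) = ((s ^ i : G) : G ⧸ M) := by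
      rw [MulAction.Quotient.smul_mk, QuotientGroup.eq, smul_eq_mul]
      have : ((w : G)⁻¹ * s ^ i)⁻¹ * s ^ i = (s ^ i)⁻¹ * (w : G) * (s ^ i)⁻¹⁻¹ := by group
      rw [this]
      exact (inferInstance : M.Normal).conj_mem _ w.2 _
    rw [hfix]
    obtain ⟨m, hm⟩ := QuotientGroup.mk_out_eq_mul M (s ^ i)
    have hm' : (Quotient.out ((s ^ i : G) : G ⧸ M) : G) = s ^ i * m := hm
    rw [hm']
    have e : (s ^ i * (m : G))⁻¹ * (w : G) * (s ^ i * m) = ((m⁻¹ * ((sgAut M s) ^ i) w * m : M) : G) := by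
      rw [Subgroup.coe_mul, Subgroup.coe_mul, sgAut_pow_coe, Subgroup.coe_inv]
      group
    rw [e, ← hμ', map_mul, map_mul, map_inv, mul_comm (μ m)⁻¹, mul_assoc, inv_mul_cancel, mul_one]
  · intro i hi j hj hij
    have hi' : i ∈ Set.Iio (orderOf (s : G ⧸ M)) := by
      rw [orderOf_mk_eq M s hM hs]
      simpa using hi
    have hj' : j ∈ Set.Iio (orderOf (s : G ⧸ M)) := by
      rw [orderOf_mk_eq M s hM hs]
      simpa using hj
    exact pow_injOn_Iio_orderOf hi' hj' hij

theorem transfer_normal_toAdd (hM : M.index = p) (hs : s ∉ M) (w : M) :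
    (MonoidHom.transfer μ (w : G)).toAdd = ((shiftEnd p - 1) ^ (p - 1)) (thetaVec M s μ w) 0 := by
  rw [transfer_normal_eq M s μ hM hs w, sub_one_pow_pred_end, LinearMap.sum_apply, Finset.sum_apply,
    toAdd_prod]
  apply Finset.sum_congr rfl
  intro i _
  rw [shiftEnd_pow_apply, zero_add]
  rfl

end WreathTransfer

theorem card_sylow_perm_sq (p : ℕ) [Fact p.Prime] (W : Sylow p (Equiv.Perm (Fin (p ^ 2)))) :
    Nat.card W = p ^ (p + 1) := by
  have hp := (Fact.out : p.Prime)
  rw [Sylow.card_eq_multiplicity, Nat.card_perm, Nat.card_fin, Nat.factorization_def _ hp]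
  congr 1
  have hlog : Nat.log p (p ^ 2) < 3 := by
    rw [Nat.log_pow hp.one_lt]
    norm_num
  rw [padicValNat_factorial hlog]
  have hI : Finset.Ico 1 3 = {1, 2} := by decide
  rw [hI, Finset.sum_insert (by decide), Finset.sum_singleton, pow_one, Nat.div_self (pow_pos hp.pos 2),
    pow_two, Nat.mul_div_cancel _ hp.pos]

section WreathMain
variable {p : ℕ} [Fact p.Prime] {G : Type*} [Group G] [Finite G]

/-- **The wreath quotient lemma.** -/
theorem wreath_quotient (hG : IsPGroup p G) (M : Subgroup G) (hM : M.index = p)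
    (μ : M →* Multiplicative (ZMod p)) (w : M) (hw : MonoidHom.transfer μ (w : G) ≠ 1) :
    ∃ (W : Sylow p (Equiv.Perm (Fin (p ^ 2)))) (f : G →* W), Function.Surjective f := by
  classical
  have hp := (Fact.out : p.Prime)
  -- `M` is normal
  haveI hMn : M.Normal := by
    apply Subgroup.normal_of_index_eq_minFac_card
    obtain ⟨n, hn⟩ := hG.exists_card_eq
    have hn0 : n ≠ 0 := by
      rintro rfl
      have h1 : M.index ∣ Nat.card G := Subgroup.index_dvd_card M
      rw [hn, hM, pow_zero, Nat.dvd_one] at h1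
      exact hp.one_lt.ne' h1
    rw [hM, hn, hp.pow_minFac hn0]
  -- an element outside `M`
  have hMtop : M ≠ ⊤ := by
    intro h
    rw [h, Subgroup.index_top] at hM
    exact hp.one_lt.ne hM
  obtain ⟨s, hs⟩ : ∃ s : G, s ∉ M := by
    by_contra hcon
    push_neg at hcon
    exact hMtop (eq_top_iff.2 fun x _ => hcon x)
  have hsp : s ^ p ∈ M := by
    rw [← hM]
    exact Subgroup.pow_index_mem M s
  have hw' : ((shiftEnd p - 1) ^ (p - 1)) (thetaVec M s μ w) ≠ 0 := by
    intro h0
    apply hw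
    have := transfer_normal_toAdd M s μ hM hs w
    rw [h0] at this
    exact this
  have hcard := card_Lsub_le M s μ hG hsp w hw' p le_rfl
  rw [Lsub_top M s μ hsp, Subgroup.card_top] at hcard
  -- the kernel of `μ`
  have hμne : μ.range ≠ ⊥ := by
    intro h
    apply hw
    have hall : ∀ y, μ y = 1 := by
      intro y
      have : μ y ∈ μ.range := ⟨y, rfl⟩
      rw [h, Subgroup.mem_bot] at this
      exact this
    rw [transfer_normal_eq M s μ hM hs w]
    apply Finset.prod_eq_one
    intro i _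
    exact hall _
  have hcardA : Nat.card (Multiplicative (ZMod p)) = p := by
    rw [Nat.card_eq_fintype_card, Fintype.card_multiplicative, ZMod.card]
  haveI : Fact (Nat.card (Multiplicative (ZMod p))).Prime := ⟨by rw [hcardA]; exact hp⟩
  have hμtop : μ.range = ⊤ := (Subgroup.eq_bot_or_eq_top_of_prime_card μ.range).resolve_left hμne
  have hkidx : μ.ker.index = p := by
    rw [Subgroup.index_ker, hμtop, Subgroup.card_top, hcardA]
  obtain ⟨Kt, hKt⟩ : ∃ Kt : Subgroup G, Kt = μ.ker.map M.subtype := ⟨_, rfl⟩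
  have hKtidx : Nat.card (G ⧸ Kt) = p ^ 2 := by
    rw [← Subgroup.index_eq_card, hKt, Subgroup.index_map_subtype, hkidx, hM, pow_two]
  set e : (G ⧸ Kt) ≃ Fin (p ^ 2) := Finite.equivFinOfCardEq hKtidx with hedef
  set ρ : G →* Equiv.Perm (Fin (p ^ 2)) :=
    (e.permCongrHom.toMonoidHom).comp (MulAction.toPermHom G (G ⧸ Kt)) with hρdef
  -- the kernel of `ρ`
  have hker : ρ.ker ≤ (Lsub M s μ 0).map M.subtype := by
    intro g hg
    have hg1 : MulAction.toPermHom G (G ⧸ Kt) g = 1 := by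
      have : e.permCongrHom (MulAction.toPermHom G (G ⧸ Kt) g) = 1 := hg
      exact (MulEquiv.map_eq_one_iff _).1 this
    have hfix : ∀ a : G, a⁻¹ * g * a ∈ Kt := by
      intro a
      have h1 : g • ((a : G) : G ⧸ Kt) = ((a : G) : G ⧸ Kt) := by
        have := congrArg (fun π : Equiv.Perm (G ⧸ Kt) => π ((a : G) : G ⧸ Kt)) hg1
        exact this
      rw [MulAction.Quotient.smul_mk, QuotientGroup.eq, smul_eq_mul] at h1
      have h2 := Kt.inv_mem h1
      have e1 : ((g * a)⁻¹ * a)⁻¹ = a⁻¹ * g * a := by group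
      rwa [e1] at h2
    have hgM : g ∈ M := by
      have h1 := hfix 1
      rw [inv_one, one_mul, mul_one, hKt] at h1
      obtain ⟨y, _, hy⟩ := h1
      rw [← hy]
      exact y.2
    refine ⟨⟨g, hgM⟩, ?_, rfl⟩
    rw [SetLike.mem_coe, mem_Lsub, pow_zero, Module.End.one_apply]
    funext k
    have h1 := hfix (s ^ k)
    rw [hKt] at h1
    obtain ⟨y, hy, hyg⟩ := h1
    have h2 : ((sgAut M s) ^ k) ⟨g, hgM⟩ = y := by
      apply Subtype.ext
      rw [sgAut_pow_coe]
      exact hyg.symm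
    rw [thetaVec_apply, h2]
    have : μ y = 1 := hy
    rw [this]
    rfl
  -- the order of the image
  have hidx : p ^ (p + 1) ≤ Nat.card ρ.range := by
    rw [← Subgroup.index_ker]
    have h1 : Nat.card ρ.ker ≤ Nat.card (Lsub M s μ 0) := by
      have := Subgroup.card_le_of_le hker
      rwa [Subgroup.card_map_of_injective M.subtype_injective] at this
    have h2 : Nat.card ρ.ker * ρ.ker.index = Nat.card G := Subgroup.card_mul_index _
    have h3 : Nat.card M * M.index = Nat.card G := Subgroup.card_mul_index _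
    rw [hM] at h3
    have hpos : 0 < Nat.card ρ.ker := Nat.card_pos
    have h4 : p ^ (p + 1) * Nat.card ρ.ker ≤ ρ.ker.index * Nat.card ρ.ker := by
      calc p ^ (p + 1) * Nat.card ρ.ker ≤ p ^ (p + 1) * Nat.card (Lsub M s μ 0) :=
            Nat.mul_le_mul_left _ h1
        _ = (p ^ p * Nat.card (Lsub M s μ 0)) * p := by ring
        _ ≤ Nat.card M * p := Nat.mul_le_mul_right _ hcard
        _ = ρ.ker.index * Nat.card ρ.ker := by rw [h3, ← h2, mul_comm]
    exact Nat.le_of_mul_le_mul_right h4 hpos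
  -- the Sylow subgroup
  have hpg : IsPGroup p ρ.range := IsPGroup.of_surjective hG ρ.rangeRestrict ρ.rangeRestrict_surjective
  obtain ⟨W, hW⟩ := hpg.exists_le_sylow
  have hWeq : ρ.range = W := by
    apply Subgroup.eq_of_le_of_card_ge hW
    rw [card_sylow_perm_sq]
    exact hidx
  refine ⟨W, ρ.codRestrict W (fun g => hW ⟨g, rfl⟩), ?_⟩
  rintro ⟨x, hx⟩
  have hx' : x ∈ ρ.range := by
    rw [hWeq]
    exact hx
  obtain ⟨g, rfl⟩ := hx'
  exact ⟨g, rfl⟩

end WreathMain

end Cfsg.Agent.Lib.Helper29
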