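import Cfsg.Agent.Lib.Helper29.YoshidaMain

/-!
Yoshida's theorem for weakly closed subgroups: control of transfer by the normalizer of a weakly
closed subgroup `W`, unless some iterated commutator `[x, z; p-1]` with `z ∈ W` is nontrivial modulo
the Frattini subgroup of a maximal subgroup of `W`.
-/
set_option autoImplicit false
open Cfsg

namespace Cfsg.Agent.Lib.Helper29

section Aux
variable {p : ℕ} [Fact p.Prime] {Γ : Type*} [Group Γ]

theorem smul_eq_iff_conj_mem (H : Subgroup Γ) (u : Γ) (x : Γ ⧸ H) :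
    u • x = x ↔ x.out⁻¹ * u * x.out ∈ H := by
  conv_lhs => rw [← QuotientGroup.out_eq' x]
  rw [MulAction.Quotient.smul_mk, QuotientGroup.eq, smul_eq_mul]
  constructor
  · intro h
    have := H.inv_mem h
    have e : (((u * x.out)⁻¹ * x.out)⁻¹ : Γ) = x.out⁻¹ * u * x.out := by group
    rwa [e] at this
  · intro h
    have := H.inv_mem h
    have e : ((x.out⁻¹ * u * x.out)⁻¹ : Γ) = (u * x.out)⁻¹ * x.out := by group
    rwa [e] at this

theorem orderOf_conj_pow (a k : Γ) (r : ℕ) : orderOf (a⁻¹ * k ^ r * a) = orderOf (k ^ r) := by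
  have := orderOf_injective (MulAut.conj a⁻¹).toMonoidHom (MulAut.conj a⁻¹).injective (k ^ r)
  rw [← this]
  congr 1
  show a⁻¹ * k ^ r * a = a⁻¹ * k ^ r * a⁻¹⁻¹
  rw [inv_inv]

/-- all factors of the transfer are trivial under the minimality hypothesis -/
theorem transfer_eq_one_aux [Finite Γ] (hΓ : IsPGroup p Γ) (P₀ : Subgroup Γ)
    (κ₀ : P₀ →* Multiplicative (ZMod p)) (ε₀ : Γ →* Multiplicative (ZMod p)) (n : ℕ)
    (IH₀ : ∀ y : P₀, orderOf y < n → κ₀ y = ε₀ y) (k : Γ)
    (hk : (orderOf k < n ∧ ε₀ k = 1) ∨ (orderOf k = n ∧ ∀ c : Γ, c⁻¹ * k * c ∉ P₀)) :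
    MonoidHom.transfer κ₀ k = 1 := by
  classical
  have hp := (Fact.out : p.Prime)
  letI : Fintype (Quotient (MulAction.orbitRel (Subgroup.zpowers k) (Γ ⧸ P₀))) := Fintype.ofFinite _
  rw [MonoidHom.transfer_eq_prod_quotient_orbitRel_zpowers_quot]
  apply Finset.prod_eq_one
  intro q _
  obtain ⟨x, hx⟩ : ∃ x : Γ ⧸ P₀, x = q.out := ⟨_, rfl⟩
  obtain ⟨a, ha⟩ : ∃ a : Γ, a = x.out := ⟨_, rfl⟩
  obtain ⟨r, hr⟩ : ∃ r : ℕ, r = Function.minimalPeriod (k • ·) x := ⟨_, rfl⟩
  have hmem : a⁻¹ * k ^ r * a ∈ P₀ := by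
    rw [ha, hr]
    exact QuotientGroup.out_conj_pow_minimalPeriod_mem P₀ k x
  have hgoal : κ₀ ⟨a⁻¹ * k ^ r * a, hmem⟩ = 1 := by
    have hrdvd : r ∣ orderOf k := by
      rw [hr, ← MulAction.pow_smul_eq_iff_minimalPeriod_dvd, pow_orderOf_eq_one, one_smul]
    have hval : ε₀ (a⁻¹ * k ^ r * a) = ε₀ k ^ r := by
      rw [TwData.hom_class', map_pow]
    rcases hk with ⟨hlt, hε1⟩ | ⟨heq, hnf⟩
    · have hord : orderOf (⟨a⁻¹ * k ^ r * a, hmem⟩ : P₀) < n := by
        rw [← Subgroup.orderOf_coe]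
        show orderOf (a⁻¹ * k ^ r * a) < n
        rw [orderOf_conj_pow]
        exact lt_of_le_of_lt (Nat.le_of_dvd (orderOf_pos k) (orderOf_pow_dvd r)) hlt
      rw [IH₀ _ hord]
      show ε₀ (a⁻¹ * k ^ r * a) = 1
      rw [hval, hε1, one_pow]
    · have hr1 : r ≠ 1 := by
        intro h
        have h3 : k • x = x := by
          have := (MulAction.pow_smul_eq_iff_minimalPeriod_dvd (a := k) (b := x) (n := 1)).2
            (by rw [← hr, h])
          rwa [pow_one] at this
        have h4 := (smul_eq_iff_conj_mem P₀ k x).1 h3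
        exact hnf x.out h4
      obtain ⟨e, he⟩ := hΓ k
      obtain ⟨j, _, hj⟩ := (Nat.dvd_prime_pow hp).1 (orderOf_dvd_of_pow_eq_one he)
      have hpr : p ∣ r := by
        obtain ⟨i, _, hi⟩ := (Nat.dvd_prime_pow hp).1 (hj ▸ hrdvd)
        have hi0 : i ≠ 0 := by
          rintro rfl
          exact hr1 (by rw [hi, pow_zero])
        rw [hi]
        exact dvd_pow_self p hi0
      have hr0 : r ≠ 0 := by
        rintro rfl
        have := orderOf_pos k
        rw [Nat.zero_dvd] at hrdvd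
        omega
      have hord : orderOf (⟨a⁻¹ * k ^ r * a, hmem⟩ : P₀) < n := by
        rw [← Subgroup.orderOf_coe]
        show orderOf (a⁻¹ * k ^ r * a) < n
        rw [orderOf_conj_pow, orderOf_pow, Nat.gcd_eq_right hrdvd, ← heq]
        exact Nat.div_lt_self (orderOf_pos k) (by omega)
      rw [IH₀ _ hord]
      show ε₀ (a⁻¹ * k ^ r * a) = 1
      rw [hval]
      exact zmod_pow_eq_one_of_dvd _ hpr
  have e : (⟨q.out.out⁻¹ * k ^ Function.minimalPeriod (k • ·) q.out * q.out.out,
      QuotientGroup.out_conj_pow_minimalPeriod_mem P₀ k q.out⟩ : P₀) = ⟨a⁻¹ * k ^ r * a, hmem⟩ := by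
    apply Subtype.ext
    show q.out.out⁻¹ * k ^ Function.minimalPeriod (k • ·) q.out * q.out.out = a⁻¹ * k ^ r * a
    rw [ha, hr, hx]
  rw [e]
  exact hgoal

end Aux

section Chain
variable {p : ℕ} [Fact p.Prime] {Γ : Type*} [Group Γ]

theorem normal_of_index_prime [Finite Γ] (hΓ : IsPGroup p Γ) (M : Subgroup Γ) (hM : M.index = p) :
    M.Normal :=
  Cfsg.Agent.Lib.Helper2.normal_of_isCoatom_of_isPGroup hΓ
    (Cfsg.Agent.Lib.Helper2.isCoatom_of_index_eq_prime (Fact.out : p.Prime) hM)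

/-- the transfer through a chain `P ≤ M ≤ K ≤ Γ` with `|K : M| = p`, under the minimality hypothesis -/
theorem transfer_eq_one_of_chain [Finite Γ] (hΓ : IsPGroup p Γ)
    (P K : Subgroup Γ) (hPK : P ≤ K) (M : Subgroup K) (hM : M.index = p) (hPM : P.subgroupOf K ≤ M)
    (κ : P →* Multiplicative (ZMod p)) (ε : Γ →* Multiplicative (ZMod p)) (n : ℕ)
    (IH : ∀ y : P, orderOf y < n → κ y = ε y)
    (κ' : P.subgroupOf K →* Multiplicative (ZMod p))
    (hκ' : ∀ k : P.subgroupOf K, κ' k = κ ⟨((k : K) : Γ), k.2⟩)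
    (κ'' : (P.subgroupOf K).subgroupOf M →* Multiplicative (ZMod p))
    (hκ'' : ∀ k : (P.subgroupOf K).subgroupOf M, κ'' k = κ' ⟨((k : M) : K), k.2⟩)
    (hν : ∀ y : M, MonoidHom.transfer (MonoidHom.transfer κ'') (y : K) = 1)
    (w : Γ) (hw : orderOf w = n) : MonoidHom.transfer κ w = 1 := by
  classical
  have hp := (Fact.out : p.Prime)
  letI : Fintype (Quotient (MulAction.orbitRel (Subgroup.zpowers w) (Γ ⧸ K))) := Fintype.ofFinite _
  haveI hMn : M.Normal := normal_of_index_prime (hΓ.to_subgroup K) M hM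
  rw [transfer_trans hPK κ κ' hκ' w, MonoidHom.transfer_eq_prod_quotient_orbitRel_zpowers_quot]
  apply Finset.prod_eq_one
  intro q _
  obtain ⟨x, hx⟩ : ∃ x : Γ ⧸ K, x = q.out := ⟨_, rfl⟩
  obtain ⟨a, ha⟩ : ∃ a : Γ, a = x.out := ⟨_, rfl⟩
  obtain ⟨r, hr⟩ : ∃ r : ℕ, r = Function.minimalPeriod (w • ·) x := ⟨_, rfl⟩
  have hmem : a⁻¹ * w ^ r * a ∈ K := by
    rw [ha, hr]
    exact QuotientGroup.out_conj_pow_minimalPeriod_mem K w x
  have IH' : ∀ y : P.subgroupOf K, orderOf y < n → κ' y = (ε.comp K.subtype) y := by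
    intro y hy
    rw [hκ']
    apply IH
    rw [← Subgroup.orderOf_coe]
    show orderOf ((y : K) : Γ) < n
    rw [Subgroup.orderOf_coe, Subgroup.orderOf_coe]
    exact hy
  have hgoal : MonoidHom.transfer κ' (⟨a⁻¹ * w ^ r * a, hmem⟩ : K) = 1 := by
    have hrdvd : r ∣ orderOf w := by
      rw [hr, ← MulAction.pow_smul_eq_iff_minimalPeriod_dvd, pow_orderOf_eq_one, one_smul]
    have hordk : orderOf (⟨a⁻¹ * w ^ r * a, hmem⟩ : K) = orderOf (w ^ r) := by
      rw [← Subgroup.orderOf_coe]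
      exact orderOf_conj_pow a w r
    by_cases hr1 : r = 1
    · by_cases hkM : (⟨a⁻¹ * w ^ r * a, hmem⟩ : K) ∈ M
      · rw [transfer_trans hPM κ' κ'' hκ'' _]
        exact hν ⟨_, hkM⟩
      · apply transfer_eq_one_aux (hΓ.to_subgroup K) (P.subgroupOf K) κ' (ε.comp K.subtype) n IH'
        right
        refine ⟨?_, ?_⟩
        · rw [hordk, hr1, pow_one, hw]
        · intro c hc
          apply hkM
          have h1 := hMn.conj_mem _ (hPM hc) c
          have e : c * (c⁻¹ * (⟨a⁻¹ * w ^ r * a, hmem⟩ : K) * c) * c⁻¹ = ⟨a⁻¹ * w ^ r * a, hmem⟩ := by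
            group
          rwa [e] at h1
    · apply transfer_eq_one_aux (hΓ.to_subgroup K) (P.subgroupOf K) κ' (ε.comp K.subtype) n IH'
      left
      obtain ⟨e, he⟩ := hΓ w
      obtain ⟨j, _, hj⟩ := (Nat.dvd_prime_pow hp).1 (orderOf_dvd_of_pow_eq_one he)
      have hpr : p ∣ r := by
        obtain ⟨i, _, hi⟩ := (Nat.dvd_prime_pow hp).1 (hj ▸ hrdvd)
        have hi0 : i ≠ 0 := by
          rintro rfl
          exact hr1 (by rw [hi, pow_zero])
        rw [hi]
        exact dvd_pow_self p hi0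
      have hr0 : r ≠ 0 := by
        rintro rfl
        have := orderOf_pos w
        rw [Nat.zero_dvd] at hrdvd
        omega
      refine ⟨?_, ?_⟩
      · rw [hordk, orderOf_pow, Nat.gcd_eq_right hrdvd, ← hw]
        exact Nat.div_lt_self (orderOf_pos w) (by omega)
      · show ε (a⁻¹ * w ^ r * a) = 1
        rw [TwData.hom_class', map_pow]
        exact zmod_pow_eq_one_of_dvd _ hpr
  have e : (⟨q.out.out⁻¹ * w ^ Function.minimalPeriod (w • ·) q.out * q.out.out,
      QuotientGroup.out_conj_pow_minimalPeriod_mem K w q.out⟩ : K) = ⟨a⁻¹ * w ^ r * a, hmem⟩ := by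
    apply Subtype.ext
    show q.out.out⁻¹ * w ^ Function.minimalPeriod (w • ·) q.out * q.out.out = a⁻¹ * w ^ r * a
    rw [ha, hr, hx]
  rw [e]
  exact hgoal

end Chain

section Sing
variable {p : ℕ} [Fact p.Prime] {G : Type*} [Group G] (M : Subgroup G) [M.Normal] (s : G)
  (μ : M →* Multiplicative (ZMod p))

/-- the commutator map `y ↦ y⁻¹ s⁻¹ y s` on `M` -/
def cOp' (y : M) : M := y⁻¹ * sgAut M s y

theorem thetaVec_cOp' (y : M) :
    thetaVec M s μ (cOp' M s y) = (shiftEnd p - 1) (thetaVec M s μ y) := by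
  unfold cOp'
  rw [thetaVec_mul, thetaVec_inv, thetaVec_sg, LinearMap.sub_apply, Module.End.one_apply, neg_add_eq_sub]

theorem thetaVec_cOp'_iterate (k : ℕ) (y : M) :
    thetaVec M s μ ((cOp' M s)^[k] y) = ((shiftEnd p - 1) ^ k) (thetaVec M s μ y) := by
  induction k generalizing y with
  | zero => rfl
  | succ k ih =>
    rw [Function.iterate_succ_apply, ih, thetaVec_cOp', ← Module.End.mul_apply, ← pow_succ]

theorem cOp'_coe (y : M) : ((cOp' M s y : M) : G) = (y : G)⁻¹ * s⁻¹ * y * s := by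
  unfold cOp' sgAut
  rw [Subgroup.coe_mul, Subgroup.coe_inv, MulAut.conjNormal_apply, inv_inv]
  group

theorem cOp'_iterate_coe (k : ℕ) (y : M) :
    (((cOp' M s)^[k] y : M) : G) = (fun g : G => g⁻¹ * s⁻¹ * g * s)^[k] (y : G) := by
  induction k generalizing y with
  | zero => rfl
  | succ k ih =>
    rw [Function.iterate_succ_apply, Function.iterate_succ_apply, ih, cOp'_coe]

theorem sing_of_transfer_ne_one [Finite G] (hM : M.index = p) (hs : s ∉ M) (y : M)
    (h : MonoidHom.transfer μ (y : G) ≠ 1) : μ ((cOp' M s)^[p - 1] y) ≠ 1 := by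
  intro h1
  apply h
  have h2 := transfer_normal_toAdd M s μ hM hs y
  rw [← thetaVec_cOp'_iterate, thetaVec_apply, pow_zero, MulAut.one_apply, h1] at h2
  exact h2

end Sing

/-- no singularity for `W` in `Γ`: the transfer from `K ⊇ W` to a subgroup `M` of index `p` not
containing `W` is trivial on `M`, for every homomorphism `M → C_p` -/
def NoSing (p : ℕ) (Γ : Type*) [Group Γ] [Finite Γ] (W : Subgroup Γ) : Prop :=
  ∀ (K : Subgroup Γ) (M : Subgroup K) (μ : M →* Multiplicative (ZMod p)) (y : M),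
    W ≤ K → M.index = p → ¬ W.subgroupOf K ≤ M → MonoidHom.transfer μ (y : K) = 1

theorem transfer_restrict {Γ : Type*} [Group Γ] [Finite Γ] {A : Type*} [CommGroup A] (H : Subgroup Γ)
    (ε : Γ →* A) (g : Γ) : MonoidHom.transfer (ε.comp H.subtype) g = ε g ^ H.index := by
  classical
  letI : Fintype (Quotient (MulAction.orbitRel (Subgroup.zpowers g) (Γ ⧸ H))) := Fintype.ofFinite _
  rw [MonoidHom.transfer_eq_prod_quotient_orbitRel_zpowers_quot, Subgroup.index_eq_sum_minimalPeriod H g,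
    ← Finset.prod_pow_eq_pow_sum]
  apply Finset.prod_congr rfl
  intro q _
  show ε (q.out.out⁻¹ * g ^ Function.minimalPeriod (g • ·) q.out * q.out.out) = _
  rw [TwData.hom_class', map_pow]

section WeakClosed
variable {p : ℕ} [Fact p.Prime] {Ω : Type*} [Group Ω] {S : Subgroup Ω}

/-- the transfer term of a twisted diagonal whose source does not contain `W` -/
theorem trOrb_lower_closed [Finite S] (hS : IsPGroup p S) (F : FusionSystem S) (W : Subgroup Ω)
    (hWS : W ≤ S) (hns : NoSing p S (W.subgroupOf S))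
    {P₀ : Subgroup Ω} {φ : P₀ →* Ω} (hφ : φ ∈ F.Hom P₀) (hW : ¬ W ≤ P₀)
    (ε : S →* Multiplicative (ZMod p)) (w : S)
    (IH : ∀ y y' : S, orderOf y < orderOf w → F.IsConjElt (y : Ω) (y' : Ω) → ε y = ε y') :
    (twData F hφ).trOrb w ε = 1 := by
  have hp := (Fact.out : p.Prime)
  have hWP : ¬ W.subgroupOf S ≤ (twData F hφ).P := by
    intro hle
    apply hW
    intro v hv
    have : (⟨v, hWS hv⟩ : S) ∈ (twData F hφ).P := hle hv
    exact this
  obtain ⟨K, hK⟩ : ∃ K : Subgroup S, K = (twData F hφ).P ⊔ W.subgroupOf S := ⟨_, rfl⟩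
  have hPK : (twData F hφ).P ≤ K := hK ▸ le_sup_left
  have hWK : W.subgroupOf S ≤ K := hK ▸ le_sup_right
  have hP'top : (twData F hφ).P.subgroupOf K ≠ ⊤ := by
    intro h
    rw [Subgroup.subgroupOf_eq_top] at h
    exact hWP (le_trans hWK h)
  obtain ⟨M, hPM, hMidx, hMn⟩ := exists_index_prime_ge (hS.to_subgroup K) _ hP'top
  have hWM : ¬ (W.subgroupOf S).subgroupOf K ≤ M := by
    intro hle
    have hKM : K ≤ M.map K.subtype := by
      refine le_trans (le_of_eq hK) (sup_le ?_ ?_)
      · intro x hx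
        exact ⟨⟨x, hPK hx⟩, hPM hx, rfl⟩
      · intro x hx
        exact ⟨⟨x, hWK hx⟩, hle hx, rfl⟩
    have hMtop : M = ⊤ := by
      rw [eq_top_iff]
      intro k _
      obtain ⟨k', hk', hkk⟩ := hKM k.2
      have : k' = k := Subtype.ext hkk
      rw [← this]
      exact hk'
    rw [hMtop, Subgroup.index_top] at hMidx
    exact hp.one_lt.ne hMidx
  obtain ⟨κ, hκ⟩ : ∃ κ : (twData F hφ).P →* Multiplicative (ZMod p), κ = ε.comp (twData F hφ).hom :=
    ⟨_, rfl⟩
  have h1 : MonoidHom.transfer κ w = (twData F hφ).trOrb w ε := by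
    rw [hκ]
    exact (twData F hφ).transfer_eq_trOrb (ε.comp (twData F hφ).hom) ε (fun y => rfl) w
  rw [← h1]
  have IH' : ∀ y : (twData F hφ).P, orderOf y < orderOf w → κ y = ε y := by
    intro y hy
    rw [hκ]
    show ε ((twData F hφ).f y) = ε y
    have hy' : ((y : S) : Ω) ∈ P₀ := y.2
    have hc : F.IsConjElt ((y : S) : Ω) (((twData F hφ).f y : S) : Ω) := by
      rw [twData_f_of_mem F hφ hy']
      exact isConjElt_of_mem F hφ ⟨_, hy'⟩
    have hord : orderOf (y : S) < orderOf w := by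
      rw [Subgroup.orderOf_coe]
      exact hy
    exact (IH _ _ hord hc).symm
  exact transfer_eq_one_of_chain hS (twData F hφ).P K hPK M hMidx hPM κ ε (orderOf w) IH'
    (κ.comp (Subgroup.subgroupOfEquivOfLe hPK).toMonoidHom) (fun k => rfl)
    ((κ.comp (Subgroup.subgroupOfEquivOfLe hPK).toMonoidHom).comp
      (Subgroup.subgroupOfEquivOfLe hPM).toMonoidHom) (fun k => rfl)
    (fun y => hns K M _ y hWK hMidx hWM) w rfl

/-- **Yoshida's theorem for weakly closed subgroups, weak form.** -/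
theorem weak_stable_closed [Finite S] (hS : IsPGroup p S) (F : FusionSystem S)
    (hF : F.IsSaturated p) (W : Subgroup Ω) (hWS : W ≤ S) (hns : NoSing p S (W.subgroupOf S))
    (ε : S →* Multiplicative (ZMod p))
    (hε : ∀ (P₀ : Subgroup Ω) (φ : P₀ →* Ω) (hφ : φ ∈ F.Hom P₀), W ≤ P₀ → ∀ x : P₀,
      ε ⟨φ x, (F.le_of_mem hφ).2 x⟩ = ε ⟨x, (F.le_of_mem hφ).1 x.2⟩) :
    ∀ u v : S, F.IsConjElt (u : Ω) (v : Ω) → ε u = ε v := by
  classical
  letI : Fintype (Subgroup (S × S)) := Fintype.ofFinite _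
  obtain ⟨m, h1, h2, h3⟩ := exists_stable_biset' p hS F hF
  suffices H : ∀ n : ℕ, ∀ u v : S, orderOf u = n → F.IsConjElt (u : Ω) (v : Ω) → ε u = ε v from
    fun u v hc => H _ u v rfl hc
  intro n
  induction n using Nat.strong_induction_on with
  | _ n ih =>
    intro u v hu hc
    have key : ∀ w : S, orderOf w = n → btrHom F m ε w = ε w ^ bisetDeg m := by
      intro w hw
      have IH : ∀ y y' : S, orderOf y < orderOf w → F.IsConjElt (y : Ω) (y' : Ω) → ε y = ε y' :=
        fun y y' hlt hcc => ih (orderOf y) (hw ▸ hlt) y y' rfl hcc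
      rw [btrHom_apply]
      unfold Trχ bisetDeg
      rw [finprod_eq_prod_of_fintype, finsum_eq_sum_of_fintype, ← prod_zpow_eq_zpow_sum]
      apply Finset.prod_congr rfl
      intro H _
      by_cases hm : m H = 0
      · rw [hm, zpow_zero, zero_mul, zpow_zero]
      · have hgood := h1 H hm
        obtain ⟨P₀, φ, hφ, hH, hD⟩ := dataOf_spec F hgood
        have hidx : idxS H = (((dataOf F H).P.index : ℕ) : ℤ) := by
          unfold idxS
          rw [dataOf_P F hgood]
        rw [hidx, hD]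
        by_cases hW : W ≤ P₀
        · have hhom : ε.comp (twData F hφ).hom = ε.comp (twData F hφ).P.subtype := by
            ext y
            show ε ((twData F hφ).f y) = ε (y : S)
            have hy' : ((y : S) : Ω) ∈ P₀ := y.2
            have e : (twData F hφ).f y = ⟨φ ⟨_, hy'⟩, (F.le_of_mem hφ).2 _⟩ :=
              Subtype.ext (twData_f_of_mem F hφ hy')
            rw [e]
            exact hε P₀ φ hφ hW ⟨_, hy'⟩
          rw [← (twData F hφ).transfer_eq_trOrb (ε.comp (twData F hφ).hom) ε (fun y => rfl) w, hhom,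
            transfer_restrict, ← zpow_natCast, ← zpow_mul, mul_comm]
        · rw [trOrb_lower_closed hS F W hWS hns hφ hW ε w IH, one_zpow]
          have htop : (twData F hφ).P ≠ ⊤ := by
            intro h
            apply hW
            intro v hv
            have : (⟨v, hWS hv⟩ : S) ∈ (twData F hφ).P := by
              rw [h]
              exact Subgroup.mem_top _
            exact this
          obtain ⟨k, hk⟩ := hS.index (twData F hφ).P
          have hk0 : k ≠ 0 := by
            rintro rfl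
            rw [pow_zero, Subgroup.index_eq_one] at hk
            exact htop hk
          rw [zpow_mul, zpow_natCast, hk]
          exact (zmod_pow_eq_one_of_dvd _ (dvd_pow_self p hk0)).symm
    have hv : orderOf v = n := (orderOf_eq_of_isConjElt' F hc).trans hu
    have e3 := btrHom_eq_of_isConjElt F m h1 h2 ε hc
    rw [key u hu, key v hv] at e3
    have e4 : (ε u / ε v) ^ bisetDeg m = 1 := by
      rw [div_zpow, e3, div_self']
    exact div_eq_one.1 (eq_one_of_zpow_eq_one isPGroup_zmod h3 e4)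

end WeakClosed

section GroupFacts
variable {p : ℕ} [Fact p.Prime] {N : Type*} [Group N]

theorem commutator_le_sup_of_sup_eq_top (T L : Subgroup N) [T.Normal] (h : T ⊔ L = ⊤) :
    commutator N ≤ T ⊔ ⁅L, L⁆ := by
  have hT : T.map (QuotientGroup.mk' T) = ⊥ :=
    (Subgroup.map_eq_bot_iff T).2 (le_of_eq (QuotientGroup.ker_mk' T).symm)
  have h1 : (⊤ : Subgroup N).map (QuotientGroup.mk' T) = L.map (QuotientGroup.mk' T) := by
    rw [← h, Subgroup.map_sup, hT, bot_sup_eq]
  have h2 : (commutator N).map (QuotientGroup.mk' T) = (⁅L, L⁆).map (QuotientGroup.mk' T) := by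
    rw [commutator_def, Subgroup.map_commutator, h1, ← Subgroup.map_commutator]
  calc commutator N ≤ ((commutator N).map (QuotientGroup.mk' T)).comap (QuotientGroup.mk' T) :=
        Subgroup.le_comap_map _ _
    _ = ((⁅L, L⁆).map (QuotientGroup.mk' T)).comap (QuotientGroup.mk' T) := by rw [h2]
    _ = ⁅L, L⁆ ⊔ (QuotientGroup.mk' T).ker := Subgroup.comap_map_eq _ _
    _ = T ⊔ ⁅L, L⁆ := by rw [QuotientGroup.ker_mk', sup_comm]

theorem coprime_orderOf_abelianization (t : N) (ht : t ∈ pResidual p N) :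
    Nat.Coprime (orderOf (Abelianization.of t)) p := by
  unfold pResidual at ht
  induction ht using Subgroup.closure_induction with
  | mem g hg =>
    exact Nat.Coprime.coprime_dvd_left (orderOf_map_dvd Abelianization.of g) hg
  | one =>
    rw [map_one, orderOf_one]
    exact Nat.coprime_one_left p
  | mul a b _ _ ha hb =>
    rw [map_mul]
    have h1 := (Commute.all (Abelianization.of a) (Abelianization.of b)).orderOf_mul_dvd_lcm
    have h2 : Nat.Coprime (Nat.lcm (orderOf (Abelianization.of a)) (orderOf (Abelianization.of b))) p :=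
      Nat.Coprime.coprime_dvd_left (Nat.lcm_dvd_mul _ _) (Nat.Coprime.mul_left ha hb)
    exact Nat.Coprime.coprime_dvd_left h1 h2
  | inv a _ ha =>
    rw [map_inv, orderOf_inv]
    exact ha

theorem mem_commutator_of_pResidual_of_pow (t : N) (ht : t ∈ pResidual p N) (k : ℕ)
    (hk : t ^ (p ^ k) = 1) : t ∈ commutator N := by
  have hp := (Fact.out : p.Prime)
  rw [← Abelianization.ker_of, MonoidHom.mem_ker]
  have h1 := coprime_orderOf_abelianization t ht
  have h2 : orderOf (Abelianization.of t) ∣ p ^ k := by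
    apply orderOf_dvd_of_pow_eq_one
    rw [← map_pow, hk, map_one]
  have h3 : orderOf (Abelianization.of t) = 1 :=
    Nat.Coprime.eq_one_of_dvd (Nat.Coprime.pow_right k h1) h2
  exact orderOf_eq_one_iff.1 h3

end GroupFacts

section IterCoe
variable {G : Type*} [Group G]

theorem comm_iterate_coe (H : Subgroup G) (z y : H) (k : ℕ) :
    (((fun g : H => g⁻¹ * z⁻¹ * g * z)^[k] y : H) : G) =
      (fun g : G => g⁻¹ * (z : G)⁻¹ * g * (z : G))^[k] (y : G) := by
  induction k generalizing y with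
  | zero => rfl
  | succ k ih =>
    rw [Function.iterate_succ_apply, Function.iterate_succ_apply, ih]
    rfl

end IterCoe

end Cfsg.Agent.Lib.Helper29
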