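import Cfsg.Agent.Lib.Helper29.YoshidaClosed
import Cfsg.Agent.S5076
import Cfsg.Agent.S5093
import Cfsg.Agent.S0080

/-!
Yoshida's theorem for weakly closed subgroups of a Sylow subgroup of a finite group.
-/
set_option autoImplicit false
open Cfsg
open scoped commutatorElement

namespace Cfsg.Agent.Lib.Helper29

section GroupVersion
variable {G : Type*} [Group G] [Finite G] {p : ℕ} [Fact p.Prime]

/-- the easy half of the focal subgroup theorem, in terms of the fusion system -/
theorem inf_commutator_le_focal (S : Sylow p G) :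
    (S : Subgroup G) ⊓ commutator G ≤ (groupFusionSystem (S : Subgroup G)).focalSubgroup := by
  have hp := (Fact.out : p.Prime)
  have hSp : IsPGroup p (S : Subgroup G) := S.2
  have hcop : Nat.Coprime (S : Subgroup G).index
      (⁅(S : Subgroup G), (S : Subgroup G)⁆.relIndex (S : Subgroup G)) := by
    have h1 : ⁅(S : Subgroup G), (S : Subgroup G)⁆.relIndex (S : Subgroup G) ∣ Nat.card (S : Subgroup G) :=
      Subgroup.relIndex_dvd_card _ _
    obtain ⟨n, hn⟩ := hSp.exists_card_eq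
    rw [hn] at h1
    obtain ⟨k, _, hk⟩ := (Nat.dvd_prime_pow hp).1 h1
    rw [hk]
    apply Nat.Coprime.pow_right
    exact ((Nat.Prime.coprime_iff_not_dvd hp).2 S.not_dvd_index).symm
  have hfoc := (Cfsg.Agent.S0080.result (S : Subgroup G) hcop).1
  rw [inf_comm, ← hfoc]
  unfold Subgroup.focalSubgroup FusionSystem.focalSubgroup
  rw [Subgroup.closure_le]
  rintro g ⟨hg, x, hx, u, rfl⟩
  apply Subgroup.subset_closure
  have hconj : u * x⁻¹ * u⁻¹ ∈ (S : Subgroup G) := by
    have := (S : Subgroup G).mul_mem ((S : Subgroup G).inv_mem hx) hg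
    have e : x⁻¹ * ⁅x, u⁆ = u * x⁻¹ * u⁻¹ := by
      rw [commutatorElement_def]
      group
    rwa [e] at this
  have hle : Subgroup.zpowers x⁻¹ ≤ (S : Subgroup G) := by
    rw [Subgroup.zpowers_le]
    exact (S : Subgroup G).inv_mem hx
  refine ⟨Subgroup.zpowers x⁻¹, Cfsg.conjHom _ u, ⟨x⁻¹, Subgroup.mem_zpowers _⟩, ⟨hle, ?_, u, fun y => rfl⟩, ?_⟩
  · rintro ⟨y, hy⟩
    obtain ⟨k, rfl⟩ := Subgroup.mem_zpowers_iff.1 hy
    show u * (x⁻¹) ^ k * u⁻¹ ∈ (S : Subgroup G)
    have e : u * (x⁻¹) ^ k * u⁻¹ = (u * x⁻¹ * u⁻¹) ^ k := by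
      rw [← MulAut.conj_apply, map_zpow, MulAut.conj_apply]
    rw [e]
    exact (S : Subgroup G).zpow_mem hconj k
  · show ⁅x, u⁆ = (x⁻¹)⁻¹ * (u * x⁻¹ * u⁻¹)
    rw [commutatorElement_def]
    group

theorem commutator_le_self' (H : Subgroup G) : ⁅H, H⁆ ≤ H :=
  Subgroup.commutator_le.2 (fun a ha b hb =>
    H.mul_mem (H.mul_mem (H.mul_mem ha hb) (H.inv_mem ha)) (H.inv_mem hb))

/-- **Yoshida's theorem for a weakly closed subgroup**, in terms of the singularity predicate. -/
theorem yoshida_closed_group (S : Sylow p G) (W : Subgroup G)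
    (hW : Cfsg.IsWeaklyClosed W (S : Subgroup G))
    (hns : NoSing p (S : Subgroup G) (W.subgroupOf (S : Subgroup G))) :
    (S : Subgroup G) ⊓ commutator G ≤ (S : Subgroup G) ⊓
      ⁅Subgroup.normalizer (W : Set G), Subgroup.normalizer (W : Set G)⁆ := by
  have hp := (Fact.out : p.Prime)
  have hSp : IsPGroup p (S : Subgroup G) := S.2
  have hWS : W ≤ (S : Subgroup G) := hW.1
  have hWn : ∀ s ∈ (S : Subgroup G), ∀ v ∈ W, s * v * s⁻¹ ∈ W := by
    intro s hs v hv
    have hmap : W.map (MulAut.conj s).toMonoidHom ≤ (S : Subgroup G) := by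
      rintro _ ⟨v', hv', rfl⟩
      exact (S : Subgroup G).mul_mem ((S : Subgroup G).mul_mem hs (hWS hv')) ((S : Subgroup G).inv_mem hs)
    have h1 := hW.2 s hmap
    rw [← h1]
    exact ⟨v, hv, rfl⟩
  have hSN : (S : Subgroup G) ≤ Subgroup.normalizer (W : Set G) := by
    intro s hs
    rw [Subgroup.mem_normalizer_iff]
    intro v
    constructor
    · exact hWn s hs v
    · intro h
      have := hWn s⁻¹ ((S : Subgroup G).inv_mem hs) _ h
      have e : s⁻¹ * (s * v * s⁻¹) * s⁻¹⁻¹ = v := by group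
      rwa [e] at this
  obtain ⟨N, hN⟩ : ∃ N : Subgroup G, N = Subgroup.normalizer (W : Set G) := ⟨_, rfl⟩
  rw [← hN] at hSN ⊢
  have hF := Cfsg.Agent.S5076.result p S
  have hhyp := Cfsg.Agent.S5093.result p S
  have hfoc := focal_eq_hyperfocal_sup p hSp (groupFusionSystem (S : Subgroup G)) hF
  haveI hTn : (pResidual p N).Normal := pResidual_normal' p
  obtain ⟨U, hU⟩ : ∃ U : Subgroup G, U = (S : Subgroup G) ⊓ (pResidual p N).map N.subtype := ⟨_, rfl⟩
  have hUS : U ≤ (S : Subgroup G) := hU ▸ inf_le_left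
  have hU1 : U ≤ (groupFusionSystem (S : Subgroup G)).hyperfocalSubgroup p := by
    rw [hhyp, hU]
    apply inf_le_inf_left
    rintro _ ⟨t, ht, rfl⟩
    exact pResidual_map_of_injective p N.subtype N.subtype_injective ht
  have hU2 : ∀ s ∈ (S : Subgroup G), ∀ u ∈ U, s * u * s⁻¹ ∈ U := by
    intro s hs u hu
    rw [hU] at hu ⊢
    obtain ⟨huS, t, ht, rfl⟩ := hu
    refine ⟨(S : Subgroup G).mul_mem ((S : Subgroup G).mul_mem hs huS) ((S : Subgroup G).inv_mem hs), ?_⟩
    exact ⟨⟨s, hSN hs⟩ * t * ⟨s, hSN hs⟩⁻¹, hTn.conj_mem t ht _, rfl⟩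
  -- (F3)
  have hF3 : (S : Subgroup G) ⊓ ⁅N, N⁆ ≤ U ⊔ ⁅(S : Subgroup G), (S : Subgroup G)⁆ := by
    have hsup : pResidual p N ⊔ (S : Subgroup G).subgroupOf N = ⊤ := pResidual_sup_sylow p (S.subtype hSN)
    have hcomm := commutator_le_sup_of_sup_eq_top (pResidual p N) ((S : Subgroup G).subgroupOf N) hsup
    rintro v ⟨hvS, hvN⟩
    rw [SetLike.mem_coe, ← Subgroup.map_subtype_commutator] at hvN
    obtain ⟨n, hn, rfl⟩ := hvN
    have h1 := hcomm hn
    rw [← SetLike.mem_coe, Subgroup.normal_mul] at h1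
    obtain ⟨t, ht, c, hc, rfl⟩ := h1
    have hcS : ((c : N) : G) ∈ ⁅(S : Subgroup G), (S : Subgroup G)⁆ := by
      have h2 : ((c : N) : G) ∈ (⁅(S : Subgroup G).subgroupOf N, (S : Subgroup G).subgroupOf N⁆).map N.subtype :=
        ⟨c, hc, rfl⟩
      rwa [Subgroup.map_commutator, Subgroup.map_subgroupOf_eq_of_le hSN] at h2
    have htS : ((t : N) : G) ∈ (S : Subgroup G) := by
      have h3 : ((t * c : N) : G) * ((c : N) : G)⁻¹ ∈ (S : Subgroup G) :=
        (S : Subgroup G).mul_mem hvS ((S : Subgroup G).inv_mem (commutator_le_self' _ hcS))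
      have e : ((t * c : N) : G) * ((c : N) : G)⁻¹ = (t : G) := by
        rw [Subgroup.coe_mul, mul_inv_cancel_right]
      rwa [e] at h3
    show ((t * c : N) : G) ∈ _
    rw [Subgroup.coe_mul]
    apply Subgroup.mul_mem_sup
    · rw [hU]
      exact ⟨htS, t, ht, rfl⟩
    · exact hcS
  -- (F4)
  have hF4 : U ≤ ⁅N, N⁆ := by
    rw [hU]
    rintro u ⟨huS, t, ht, rfl⟩
    obtain ⟨k, hk⟩ := hSp ⟨_, huS⟩
    have hk' : t ^ (p ^ k) = 1 := by
      apply Subtype.ext
      have := congrArg Subtype.val hk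
      exact this
    have h1 := mem_commutator_of_pResidual_of_pow t ht k hk'
    rw [← Subgroup.map_subtype_commutator]
    exact ⟨t, h1, rfl⟩
  -- the main inequality, by duality and the weak form
  have hmain : (groupFusionSystem (S : Subgroup G)).hyperfocalSubgroup p ≤
      (frattini (S : Subgroup G)).map (S : Subgroup G).subtype ⊔ U := by
    intro x hx
    by_contra hxn
    have hxS : x ∈ (S : Subgroup G) := hyperfocal_le _ p hx
    haveI hUn : (U.subgroupOf (S : Subgroup G)).Normal := by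
      constructor
      intro n hn g
      rw [Subgroup.mem_subgroupOf] at hn ⊢
      exact hU2 g g.2 _ hn
    obtain ⟨R₀, hR₀⟩ : ∃ R₀ : Subgroup (S : Subgroup G),
        R₀ = frattini (S : Subgroup G) ⊔ U.subgroupOf (S : Subgroup G) := ⟨_, rfl⟩
    haveI hRn : R₀.Normal := by
      rw [hR₀]
      infer_instance
    have hmapR : R₀.map (S : Subgroup G).subtype =
        (frattini (S : Subgroup G)).map (S : Subgroup G).subtype ⊔ U := by
      rw [hR₀, Subgroup.map_sup, Subgroup.map_subgroupOf_eq_of_le hUS]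
    have hxR : (⟨x, hxS⟩ : (S : Subgroup G)) ∉ R₀ := by
      intro h
      apply hxn
      rw [← hmapR]
      exact ⟨_, h, rfl⟩
    obtain ⟨ε, hεR, hεx⟩ := exists_hom_of_not_mem hSp R₀ (hR₀ ▸ le_sup_left) hxR
    have hcomS : ⁅(S : Subgroup G), (S : Subgroup G)⁆ ≤
        (frattini (S : Subgroup G)).map (S : Subgroup G).subtype := by
      rw [← Subgroup.map_subtype_commutator]
      exact Subgroup.map_mono (Cfsg.Agent.Lib.Helper2.commutator_le_frattini_of_isPGroup hSp)
    have hεV : ∀ v (hv : v ∈ (S : Subgroup G)), v ∈ ⁅N, N⁆ → ε ⟨v, hv⟩ = 1 := by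
      intro v hv hvN
      have h1 : v ∈ R₀.map (S : Subgroup G).subtype := by
        rw [hmapR]
        have h2 := hF3 ⟨hv, hvN⟩
        exact (sup_le le_sup_right (le_trans hcomS le_sup_left)) h2
      obtain ⟨r, hr, hrv⟩ := h1
      have : r = ⟨v, hv⟩ := Subtype.ext hrv
      rw [← this]
      exact hεR r hr
    have hε : ∀ (P₀ : Subgroup G) (φ : P₀ →* G) (hφ : φ ∈ (groupFusionSystem (S : Subgroup G)).Hom P₀),
        W ≤ P₀ → ∀ y : P₀, ε ⟨φ y, ((groupFusionSystem (S : Subgroup G)).le_of_mem hφ).2 y⟩ =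
          ε ⟨y, ((groupFusionSystem (S : Subgroup G)).le_of_mem hφ).1 y.2⟩ := by
      intro P₀ φ hφ hWP y
      obtain ⟨hP₀S, hφS, g, hg⟩ := hφ
      have hgN : g ∈ N := by
        rw [hN]
        have hmap : W.map (MulAut.conj g).toMonoidHom ≤ (S : Subgroup G) := by
          rintro _ ⟨v, hv, rfl⟩
          have := hφS ⟨v, hWP hv⟩
          rw [hg] at this
          exact this
        have h1 := hW.2 g hmap
        rw [Subgroup.mem_normalizer_iff]
        intro v
        constructor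
        · intro hv
          rw [← h1]
          exact ⟨v, hv, rfl⟩
        · intro hv
          rw [← h1] at hv
          obtain ⟨v', hv', hvv⟩ := hv
          have e : g * v' * g⁻¹ = g * v * g⁻¹ := hvv
          have : v' = v := mul_left_cancel (mul_right_cancel e)
          rw [← this]
          exact hv'
      have hyS : (y : G) ∈ (S : Subgroup G) := hP₀S y.2
      have h2 : (y : G)⁻¹ * φ y ∈ ⁅N, N⁆ := by
        have e : (y : G)⁻¹ * φ y = ⁅(y : G)⁻¹, g⁆ := by
          rw [hg, commutatorElement_def]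
          group
        rw [e]
        exact Subgroup.commutator_mem_commutator (hSN ((S : Subgroup G).inv_mem hyS)) hgN
      have h3 := hεV _ ((S : Subgroup G).mul_mem ((S : Subgroup G).inv_mem hyS) (hφS y)) h2
      have e : (⟨(y : G)⁻¹ * φ y, (S : Subgroup G).mul_mem ((S : Subgroup G).inv_mem hyS) (hφS y)⟩ :
          (S : Subgroup G)) = (⟨y, hyS⟩ : (S : Subgroup G))⁻¹ * ⟨φ y, hφS y⟩ := rfl
      rw [e, map_mul, map_inv, inv_mul_eq_one] at h3
      exact h3.symm
    have hst := weak_stable_closed hSp (groupFusionSystem (S : Subgroup G)) hF W hWS hns ε hε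
    have hxf : x ∈ (groupFusionSystem (S : Subgroup G)).focalSubgroup := by
      rw [hfoc]
      exact (le_sup_left : (groupFusionSystem (S : Subgroup G)).hyperfocalSubgroup p ≤ _) hx
    obtain ⟨y, hy, hyx⟩ := focal_le_ker_of_stable _ ε hst hxf
    have e : y = ⟨x, hxS⟩ := Subtype.ext hyx
    rw [e] at hy
    exact hεx hy
  have hT := hyperfocal_le_of_frattini p hSp (groupFusionSystem (S : Subgroup G)) hF U hU1 hU2 hmain
  refine le_trans (inf_commutator_le_focal S) ?_
  rw [hfoc]
  apply le_inf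
  · exact sup_le (le_trans hT hUS) (commutator_le_self' _)
  · exact sup_le (le_trans hT hF4) (Subgroup.commutator_mono hSN hSN)

end GroupVersion

end Cfsg.Agent.Lib.Helper29
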