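import Cfsg.Agent.Lib.Helper29.BisetThompson
import Cfsg.Agent.Lib.Helper29.WreathQuotient
import Cfsg.Agent.Lib.Helper29.TateMain
import Cfsg.Agent.Lib.Helper2.PGroupFrattini

/-!
Yoshida's theorem for saturated fusion systems: the weak form (homomorphisms to `C_p` invariant
under `Aut_F(S)` are stable under the system, unless `S` has a wreath quotient).
-/
set_option autoImplicit false
open Cfsg

namespace Cfsg.Agent.Lib.Helper29

section GroupLemmas
variable {p : ℕ} [Fact p.Prime] {G : Type*} [Group G]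

theorem exists_index_prime_ge [Finite G] (hG : IsPGroup p G) (P : Subgroup G) (hP : P ≠ ⊤) :
    ∃ M : Subgroup G, P ≤ M ∧ M.index = p ∧ M.Normal := by
  obtain ⟨M, hM, hPM⟩ := (eq_top_or_exists_le_coatom P).resolve_left hP
  exact ⟨M, hPM, Cfsg.Agent.Lib.Helper2.index_of_isCoatom_of_isPGroup hG hM,
    Cfsg.Agent.Lib.Helper2.normal_of_isCoatom_of_isPGroup hG hM⟩

theorem zmod_pow_eq_one (a : Multiplicative (ZMod p)) : a ^ p = 1 := by
  have h : Nat.card (Multiplicative (ZMod p)) = p := by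
    rw [Nat.card_eq_fintype_card, Fintype.card_multiplicative, ZMod.card]
  have := pow_card_eq_one' (G := Multiplicative (ZMod p)) (x := a)
  rwa [h] at this

theorem zmod_pow_eq_one_of_dvd (a : Multiplicative (ZMod p)) {r : ℕ} (hr : p ∣ r) : a ^ r = 1 := by
  obtain ⟨k, rfl⟩ := hr
  rw [pow_mul, zmod_pow_eq_one, one_pow]

theorem isPGroup_zmod : IsPGroup p (Multiplicative (ZMod p)) := by
  intro a
  exact ⟨1, by rw [pow_one]; exact zmod_pow_eq_one a⟩

theorem exists_hom_of_not_mem [Finite G] (hG : IsPGroup p G) (R : Subgroup G) [R.Normal]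
    (hR : frattini G ≤ R) {x : G} (hx : x ∉ R) :
    ∃ ε : G →* Multiplicative (ZMod p), (∀ r ∈ R, ε r = 1) ∧ ε x ≠ 1 := by
  have hcomm : commutator G ≤ R :=
    le_trans (Cfsg.Agent.Lib.Helper2.commutator_le_frattini_of_isPGroup hG) hR
  have hc : IsMulCommutative (G ⧸ R) :=
    Subgroup.Normal.quotient_commutative_iff_commutator_le.mpr hcomm
  let _ : CommGroup (G ⧸ R) :=
    { (inferInstance : Group (G ⧸ R)) with mul_comm := fun a b => hc.is_comm.comm a b }
  have hV : ∀ v : G ⧸ R, v ^ p = 1 := by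
    intro v
    induction v using QuotientGroup.induction_on with | _ y => ?_
    rw [← QuotientGroup.mk_pow, QuotientGroup.eq_one_iff]
    exact hR (Cfsg.Agent.Lib.Helper2.pow_mem_frattini_of_isPGroup hG y)
  have hx' : (x : G ⧸ R) ≠ 1 := by
    rwa [ne_eq, QuotientGroup.eq_one_iff]
  obtain ⟨ψ', hψ'⟩ := Cfsg.Agent.Lib.Helper2.exists_hom_ne_one_of_elementary hV hx'
  refine ⟨ψ'.comp (QuotientGroup.mk' R), ?_, hψ'⟩
  intro r hr
  show ψ' ((r : G) : G ⧸ R) = 1
  rw [(QuotientGroup.eq_one_iff r).2 hr, map_one]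

end GroupLemmas

/-- `G` has no quotient isomorphic to the wreath product `C_p ≀ C_p` -/
def NoWreath (p : ℕ) (G : Type*) [Group G] : Prop :=
  ¬ ∃ (W : Sylow p (Equiv.Perm (Fin (p ^ 2)))) (f : G →* W), Function.Surjective f

section Lower
variable {p : ℕ} [Fact p.Prime] {Ω : Type*} [Group Ω] {S : Subgroup Ω}

theorem orderOf_eq_of_isConjElt (F : FusionSystem S) {x y : Ω} (h : F.IsConjElt x y) :
    orderOf y = orderOf x := by
  obtain ⟨φ, hφ, hxy⟩ := h
  rw [← hxy, orderOf_injective φ (F.injective_of_mem hφ), ← Subgroup.orderOf_coe]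

theorem orderOf_eq_of_isConjElt' (F : FusionSystem S) {x y : S} (h : F.IsConjElt (x : Ω) (y : Ω)) :
    orderOf y = orderOf x := by
  rw [← Subgroup.orderOf_coe, ← Subgroup.orderOf_coe]
  exact orderOf_eq_of_isConjElt F h

/-- the transfer term of a proper twisted diagonal is trivial -/
theorem trOrb_lower [Finite S] (hS : IsPGroup p S) (hnw : NoWreath p S) (F : FusionSystem S)
    {P₀ : Subgroup Ω} {φ : P₀ →* Ω} (hφ : φ ∈ F.Hom P₀) (hlt : (twData F hφ).P ≠ ⊤)
    (ε : S →* Multiplicative (ZMod p)) (w : S)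
    (IH : ∀ y y' : S, orderOf y < orderOf w → F.IsConjElt (y : Ω) (y' : Ω) → ε y = ε y') :
    (twData F hφ).trOrb w ε = 1 := by
  have hp := (Fact.out : p.Prime)
  obtain ⟨M, hPM, hMidx, hMn⟩ := exists_index_prime_ge hS _ hlt
  by_cases hwM : w ∈ M
  · by_contra hne
    apply hnw
    have h1 : MonoidHom.transfer (ε.comp (twData F hφ).hom) w = (twData F hφ).trOrb w ε :=
      (twData F hφ).transfer_eq_trOrb (ε.comp (twData F hφ).hom) ε (fun y => rfl) w
    set ϕ' : (twData F hφ).P.subgroupOf M →* Multiplicative (ZMod p) :=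
      (ε.comp (twData F hφ).hom).comp (Subgroup.subgroupOfEquivOfLe hPM).toMonoidHom with hϕ'def
    have hϕ' : ∀ k : (twData F hφ).P.subgroupOf M,
        ϕ' k = (ε.comp (twData F hφ).hom) ⟨((k : M) : S), k.2⟩ := fun k => rfl
    have h2 := transfer_trans hPM (ε.comp (twData F hφ).hom) ϕ' hϕ' w
    refine wreath_quotient hS M hMidx (MonoidHom.transfer ϕ') ⟨w, hwM⟩ ?_
    show MonoidHom.transfer (MonoidHom.transfer ϕ') w ≠ 1
    rw [← h2, h1]
    exact hne
  · unfold TwData.trOrb
    apply finprod_eq_one_of_forall_eq_one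
    intro q
    obtain ⟨x, hx⟩ : ∃ x : S ⧸ (twData F hφ).P, x = q.out := ⟨_, rfl⟩
    obtain ⟨a, ha⟩ : ∃ a : S, a = x.out := ⟨_, rfl⟩
    obtain ⟨r, hr⟩ : ∃ r : ℕ, r = Function.minimalPeriod (w • ·) x := ⟨_, rfl⟩
    rw [← hx, ← hr, ← ha]
    have hy : a⁻¹ * w ^ r * a ∈ (twData F hφ).P := by
      rw [ha]
      exact ((twData F hφ).smul_eq_iff _ x).1 (((twData F hφ).pow_smul_eq_iff w r x).2 (hr ▸ dvd_rfl))
    have hr1 : r ≠ 1 := by
      intro h
      have h3 : w • x = x := by
        have := ((twData F hφ).pow_smul_eq_iff w 1 x).2 (by rw [← hr, h])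
        rwa [pow_one] at this
      have h4 := hPM (((twData F hφ).smul_eq_iff w x).1 h3)
      rw [← ha] at h4
      apply hwM
      have h5 := hMn.conj_mem _ h4 a
      have e : a * (a⁻¹ * w * a) * a⁻¹ = w := by group
      rwa [e] at h5
    have hrdvd : r ∣ orderOf w := by
      rw [hr]
      exact ((twData F hφ).pow_smul_eq_iff w (orderOf w) x).1 (by rw [pow_orderOf_eq_one, one_smul])
    obtain ⟨k, hk⟩ := hS w
    obtain ⟨j, _, hj⟩ := (Nat.dvd_prime_pow hp).1 (orderOf_dvd_of_pow_eq_one hk)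
    have hpr : p ∣ r := by
      obtain ⟨i, _, hi⟩ := (Nat.dvd_prime_pow hp).1 (hj ▸ hrdvd)
      have hi0 : i ≠ 0 := by
        rintro rfl
        exact hr1 (by rw [hi, pow_zero])
      rw [hi]
      exact dvd_pow_self p hi0
    have hr0 : r ≠ 0 := by
      rintro rfl
      have := orderOf_pos w
      rw [Nat.zero_dvd] at hrdvd
      omega
    have hord : orderOf (a⁻¹ * w ^ r * a) < orderOf w := by
      have e1 : orderOf (a⁻¹ * w ^ r * a) = orderOf (w ^ r) := by
        have := orderOf_injective (MulAut.conj a⁻¹).toMonoidHom (MulAut.conj a⁻¹).injective (w ^ r)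
        rw [← this]
        congr 1
        show a⁻¹ * w ^ r * a = a⁻¹ * w ^ r * a⁻¹⁻¹
        rw [inv_inv]
      rw [e1, orderOf_pow, Nat.gcd_eq_right hrdvd]
      exact Nat.div_lt_self (orderOf_pos w) (by omega)
    have hy' : ((a⁻¹ * w ^ r * a : S) : Ω) ∈ P₀ := hy
    have hc : F.IsConjElt ((a⁻¹ * w ^ r * a : S) : Ω) (((twData F hφ).f (a⁻¹ * w ^ r * a) : S) : Ω) := by
      rw [twData_f_of_mem F hφ hy']
      exact isConjElt_of_mem F hφ ⟨_, hy'⟩
    rw [← IH _ _ hord hc, hom_class, map_pow]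
    exact zmod_pow_eq_one_of_dvd _ hpr

end Lower

section Weak
variable {p : ℕ} [Fact p.Prime] {Ω : Type*} [Group Ω] {S : Subgroup Ω}

theorem trOrb_top [Finite S] (F : FusionSystem S) {P₀ : Subgroup Ω} {φ : P₀ →* Ω} (hφ : φ ∈ F.Hom P₀)
    (hP : P₀ = S) (ε : S →* Multiplicative (ZMod p))
    (hε : ∀ (ψ : S →* Ω) (hψ : ψ ∈ F.Hom S) (x : S), ε ⟨ψ x, (F.le_of_mem hψ).2 x⟩ = ε x) (w : S) :
    (twData F hφ).trOrb w ε = ε w := by
  subst hP
  have htop : (twData F hφ).P = ⊤ := by
    rw [eq_top_iff]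
    intro y _
    exact y.2
  have hss : Subsingleton (P₀ ⧸ (twData F hφ).P) := by
    rw [htop]
    exact QuotientGroup.subsingleton_quotient_top
  rw [← (twData F hφ).transfer_eq_trOrb (ε.comp (twData F hφ).hom) ε (fun y => rfl) w,
    transfer_eq_prod_section (ε.comp (twData F hφ).hom) (fun y => ε ((twData F hφ).f y)) (fun h => rfl)
      (fun _ => 1) (fun q => Subsingleton.elim _ _) w,
    finprod_eq_single _ (((1 : P₀) : P₀ ⧸ (twData F hφ).P)) (fun x hx => absurd (Subsingleton.elim _ _) hx)]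
  rw [inv_one, one_mul, mul_one]
  have e : (twData F hφ).f w = ⟨φ w, (F.le_of_mem hφ).2 w⟩ := Subtype.ext (twData_f_of_mem F hφ w.2)
  rw [e]
  exact hε φ hφ w

/-- **Yoshida's theorem, weak form.** -/
theorem weak_stable [Finite S] (hS : IsPGroup p S) (hnw : NoWreath p S) (F : FusionSystem S)
    (hF : F.IsSaturated p) (ε : S →* Multiplicative (ZMod p))
    (hε : ∀ (ψ : S →* Ω) (hψ : ψ ∈ F.Hom S) (x : S), ε ⟨ψ x, (F.le_of_mem hψ).2 x⟩ = ε x) :
    ∀ u v : S, F.IsConjElt (u : Ω) (v : Ω) → ε u = ε v := by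
  classical
  letI : Fintype (Subgroup (S × S)) := Fintype.ofFinite _
  obtain ⟨m, h1, h2, h3⟩ := exists_stable_biset' p hS F hF
  suffices H : ∀ n : ℕ, ∀ u v : S, orderOf u = n → F.IsConjElt (u : Ω) (v : Ω) → ε u = ε v from
    fun u v hc => H _ u v rfl hc
  intro n
  induction n using Nat.strong_induction_on with
  | _ n ih =>
    intro u v hu hc
    have key : ∀ w : S, orderOf w = n → btrHom F m ε w = ε w ^ bisetDeg m := by
      intro w hw
      have IH : ∀ y y' : S, orderOf y < orderOf w → F.IsConjElt (y : Ω) (y' : Ω) → ε y = ε y' :=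
        fun y y' hlt hcc => ih (orderOf y) (hw ▸ hlt) y y' rfl hcc
      rw [btrHom_apply]
      unfold Trχ bisetDeg
      rw [finprod_eq_prod_of_fintype, finsum_eq_sum_of_fintype, ← prod_zpow_eq_zpow_sum]
      apply Finset.prod_congr rfl
      intro H _
      by_cases hm : m H = 0
      · rw [hm, zpow_zero, zero_mul, zpow_zero]
      · have hgood := h1 H hm
        obtain ⟨P₀, φ, hφ, hH, hD⟩ := dataOf_spec F hgood
        have hidx : idxS H = (((dataOf F H).P.index : ℕ) : ℤ) := by
          unfold idxS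
          rw [dataOf_P F hgood]
        rw [hidx, hD]
        by_cases htop : (twData F hφ).P = ⊤
        · have hP : P₀ = S := by
            apply le_antisymm (F.le_of_mem hφ).1
            intro y hy
            have : (⟨y, hy⟩ : S) ∈ (twData F hφ).P := by
              rw [htop]
              exact Subgroup.mem_top _
            exact this
          rw [trOrb_top F hφ hP ε hε w, htop, Subgroup.index_top, Nat.cast_one, mul_one]
        · rw [trOrb_lower hS hnw F hφ htop ε w IH, one_zpow]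
          obtain ⟨k, hk⟩ := hS.index (twData F hφ).P
          have hk0 : k ≠ 0 := by
            rintro rfl
            rw [pow_zero, Subgroup.index_eq_one] at hk
            exact htop hk
          rw [zpow_mul, zpow_natCast, hk]
          exact (zmod_pow_eq_one_of_dvd _ (dvd_pow_self p hk0)).symm
    have hv : orderOf v = n := (orderOf_eq_of_isConjElt' F hc).trans hu
    have e3 := btrHom_eq_of_isConjElt F m h1 h2 ε hc
    rw [key u hu, key v hv] at e3
    have e4 : (ε u / ε v) ^ bisetDeg m = 1 := by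
      rw [div_zpow, e3, div_self']
    exact div_eq_one.1 (eq_one_of_zpow_eq_one isPGroup_zmod h3 e4)

end Weak

end Cfsg.Agent.Lib.Helper29
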